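import Mathlib
import Cfsg.Prelude.Def_KGroupFacts

/-!
Basic lemmas on central extensions and perfect groups, used for the Schur multiplier statements.
-/

set_option autoImplicit false
set_option linter.style.haveILetI false
set_option linter.unusedSectionVars false

open scoped commutatorElement

namespace Cfsg.Agent.Lib.Helper12.Schur

universe u v w

section Basic
variable {G : Type*} [Group G]

theorem comm_mul_central_left {a b z : G} (hz : z ∈ Subgroup.center G) : ⁅a * z, b⁆ = ⁅a, b⁆ := by
  have hzb : z * b = b * z := (Subgroup.mem_center_iff.mp hz b).symm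
  rw [commutatorElement_def, commutatorElement_def, mul_inv_rev]
  calc a * z * b * (z⁻¹ * a⁻¹) * b⁻¹ = a * (z * b) * z⁻¹ * a⁻¹ * b⁻¹ := by group
    _ = a * (b * z) * z⁻¹ * a⁻¹ * b⁻¹ := by rw [hzb]
    _ = a * b * a⁻¹ * b⁻¹ := by group

theorem comm_mul_central_right {a b w : G} (hw : w ∈ Subgroup.center G) : ⁅a, b * w⁆ = ⁅a, b⁆ := by
  have hwa : w * a⁻¹ = a⁻¹ * w := (Subgroup.mem_center_iff.mp hw a⁻¹).symm
  rw [commutatorElement_def, commutatorElement_def, mul_inv_rev]
  calc a * (b * w) * a⁻¹ * (w⁻¹ * b⁻¹) = a * b * (w * a⁻¹) * w⁻¹ * b⁻¹ := by group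
    _ = a * b * (a⁻¹ * w) * w⁻¹ * b⁻¹ := by rw [hwa]
    _ = a * b * a⁻¹ * b⁻¹ := by group

/-- central factors drop out of commutators -/
theorem comm_mul_central {a b z w : G} (hz : z ∈ Subgroup.center G) (hw : w ∈ Subgroup.center G) :
    ⁅a * z, b * w⁆ = ⁅a, b⁆ := by
  rw [comm_mul_central_left hz, comm_mul_central_right hw]

/-- if `a ≡ a'` and `b ≡ b'` modulo the centre then `⁅a, b⁆ = ⁅a', b'⁆`. -/
theorem comm_eq_of_central {a b a' b' : G} (ha : a'⁻¹ * a ∈ Subgroup.center G)
    (hb : b'⁻¹ * b ∈ Subgroup.center G) : ⁅a, b⁆ = ⁅a', b'⁆ := by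
  have : ⁅a, b⁆ = ⁅a' * (a'⁻¹ * a), b' * (b'⁻¹ * b)⁆ := by
    rw [mul_inv_cancel_left, mul_inv_cancel_left]
  rw [this, comm_mul_central ha hb]

/-- In a perfect group, a subgroup containing all commutators is everything. -/
theorem mem_of_forall_comm_mem (hG : commutator G = ⊤) (S : Subgroup G)
    (h : ∀ a b : G, ⁅a, b⁆ ∈ S) (g : G) : g ∈ S := by
  have hle : commutator G ≤ S := by
    rw [commutator_eq_closure, Subgroup.closure_le]
    rintro _ ⟨a, b, rfl⟩
    exact h a b
  exact hle (hG ▸ Subgroup.mem_top g)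

/-- Two homomorphisms from a perfect group that agree modulo the centre are equal. -/
theorem hom_eq_of_perfect {H : Type*} [Group H] (hG : commutator G = ⊤) (f g : G →* H)
    (h : ∀ x, (g x)⁻¹ * f x ∈ Subgroup.center H) : f = g := by
  ext x
  have hx := mem_of_forall_comm_mem hG (f.eqLocus g) (fun a b => ?_) x
  · exact hx
  · change f ⁅a, b⁆ = g ⁅a, b⁆
    rw [map_commutatorElement, map_commutatorElement]
    exact comm_eq_of_central (h a) (h b)

theorem map_commutator_of_surj {Γ : Type*} [Group Γ] (θ : Γ →* G) (hθ : Function.Surjective θ) :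
    (commutator Γ).map θ = commutator G := by
  rw [commutator_def, commutator_def, Subgroup.map_commutator, Subgroup.map_top_of_surjective θ hθ]

/-- A group mapping onto a perfect group with kernel in the commutator subgroup is perfect. -/
theorem commutator_eq_top_of_surj {Γ : Type*} [Group Γ] (θ : Γ →* G) (hθ : Function.Surjective θ)
    (hk : θ.ker ≤ commutator Γ) (hG : commutator G = ⊤) : commutator Γ = ⊤ := by
  rw [eq_top_iff]
  intro x _
  have hx : θ x ∈ Subgroup.map θ (commutator Γ) := by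
    rw [map_commutator_of_surj θ hθ, hG]; trivial
  obtain ⟨y, hy, hyx⟩ := hx
  have h1 : y⁻¹ * x ∈ θ.ker := by
    rw [MonoidHom.mem_ker, map_mul, map_inv, hyx, inv_mul_cancel]
  have h2 : x = y * (y⁻¹ * x) := by group
  rw [h2]; exact mul_mem hy (hk h1)

/-- The kernel of a composite of central extensions of a perfect group is central. -/
theorem ker_comp_le_center {Θ Q : Type*} [Group Θ] [Group Q] (θ : Θ →* G) (π : G →* Q)
    (hΘ : commutator Θ = ⊤) (hθ : θ.ker ≤ Subgroup.center Θ) (hπ : π.ker ≤ Subgroup.center G) :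
    (π.comp θ).ker ≤ Subgroup.center Θ := by
  intro k hk
  have hθk : θ k ∈ Subgroup.center G := hπ (by simpa [MonoidHom.mem_ker] using hk)
  have hz : ∀ a : Θ, a⁻¹ * (k * a * k⁻¹) ∈ Subgroup.center Θ := by
    intro a
    apply hθ
    rw [MonoidHom.mem_ker]
    simp only [map_mul, map_inv]
    have hc : θ k * θ a = θ a * θ k := (Subgroup.mem_center_iff.mp hθk (θ a)).symm
    rw [hc]; group
  rw [Subgroup.mem_center_iff]
  intro y
  have hy := mem_of_forall_comm_mem hΘ (Subgroup.centralizer {k}) (fun a b => ?_) y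
  · rw [Subgroup.mem_centralizer_iff] at hy
    exact (hy k rfl).symm
  · rw [Subgroup.mem_centralizer_iff]
    intro h hh
    rw [Set.mem_singleton_iff] at hh
    rw [hh]
    have e : k * ⁅a, b⁆ * k⁻¹ = ⁅a * (a⁻¹ * (k * a * k⁻¹)), b * (b⁻¹ * (k * b * k⁻¹))⁆ := by
      simp only [commutatorElement_def]; group
    rw [comm_mul_central (hz a) (hz b)] at e
    calc k * ⁅a, b⁆ = k * ⁅a, b⁆ * k⁻¹ * k := by group
      _ = ⁅a, b⁆ * k := by rw [e]

/-- A central extension of a finite group has finitely many commutators. -/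
theorem finite_commutatorSet_of_central {Γ : Type*} [Group Γ] [Finite G] (ψ : Γ →* G)
    (hψ : Function.Surjective ψ) (hk : ψ.ker ≤ Subgroup.center Γ) : Finite (commutatorSet Γ) := by
  classical
  have hs : ∀ g, ψ (Function.surjInv hψ g) = g := Function.surjInv_eq hψ
  have key : ∀ a b : Γ, ⁅a, b⁆ = ⁅Function.surjInv hψ (ψ a), Function.surjInv hψ (ψ b)⁆ := by
    intro a b
    have hz : ∀ x : Γ, (Function.surjInv hψ (ψ x))⁻¹ * x ∈ Subgroup.center Γ := fun x =>
      hk (by rw [MonoidHom.mem_ker, map_mul, map_inv, hs, inv_mul_cancel])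
    exact comm_eq_of_central (hz a) (hz b)
  have hsub : commutatorSet Γ ⊆
      Set.range (fun p : G × G => ⁅Function.surjInv hψ p.1, Function.surjInv hψ p.2⁆) := by
    rintro _ ⟨a, b, rfl⟩
    exact ⟨(ψ a, ψ b), (key a b).symm⟩
  exact Set.finite_coe_iff.mpr ((Set.finite_range _).subset hsub)

/-- Schur: the commutator subgroup of a central extension of a finite group is finite. -/
theorem finite_commutator_of_central {Γ : Type*} [Group Γ] [Finite G] (ψ : Γ →* G)
    (hψ : Function.Surjective ψ) (hk : ψ.ker ≤ Subgroup.center Γ) : Finite (commutator Γ) := by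
  haveI := finite_commutatorSet_of_central ψ hψ hk
  infer_instance

/-- The commutator subgroup of a central extension of a perfect group is perfect. -/
theorem commutator_perfect_of_central {Γ : Type*} [Group Γ] (ψ : Γ →* G)
    (hψ : Function.Surjective ψ) (hk : ψ.ker ≤ Subgroup.center Γ) (hG : commutator G = ⊤) :
    commutator (commutator Γ) = ⊤ := by
  have hmap : (commutator Γ).map ψ = ⊤ := by rw [map_commutator_of_surj ψ hψ, hG]
  have hex : ∀ a : Γ, ∃ d ∈ commutator Γ, (d⁻¹ * a) ∈ Subgroup.center Γ := by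
    intro a
    have ha : ψ a ∈ (commutator Γ).map ψ := by rw [hmap]; trivial
    obtain ⟨d, hd, hda⟩ := ha
    exact ⟨d, hd, hk (by rw [MonoidHom.mem_ker, map_mul, map_inv, hda, inv_mul_cancel])⟩
  have hle : commutator Γ ≤ ⁅commutator Γ, commutator Γ⁆ := by
    conv_lhs => rw [commutator_eq_closure]
    rw [Subgroup.closure_le]
    rintro _ ⟨a, b, rfl⟩
    obtain ⟨d₁, hd₁, hz₁⟩ := hex a
    obtain ⟨d₂, hd₂, hz₂⟩ := hex b
    rw [SetLike.mem_coe, comm_eq_of_central hz₁ hz₂]
    exact Subgroup.commutator_mem_commutator hd₁ hd₂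
  rw [eq_top_iff]
  intro x _
  have hx : (x : Γ) ∈ (commutator (commutator Γ)).map (commutator Γ).subtype := by
    rw [Subgroup.map_subtype_commutator]; exact hle x.2
  obtain ⟨y, hy, hyx⟩ := hx
  have hyx' : y = x := Subtype.ext hyx
  exact hyx' ▸ hy

/-- The commutator subgroup of a central extension `ψ : Γ → G` of a perfect group, mapped to `G`,
is a stem extension. -/
theorem isStemExtension_commutator {Γ : Type*} [Group Γ] (ψ : Γ →* G)
    (hψ : Function.Surjective ψ) (hk : ψ.ker ≤ Subgroup.center Γ) (hG : commutator G = ⊤) :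
    Cfsg.IsStemExtension (ψ.comp (commutator Γ).subtype) := by
  refine ⟨?_, ?_, ?_⟩
  · intro g
    have hg : g ∈ (commutator Γ).map ψ := by rw [map_commutator_of_surj ψ hψ, hG]; trivial
    obtain ⟨d, hd, hdg⟩ := hg
    exact ⟨⟨d, hd⟩, hdg⟩
  · intro d hd
    rw [Subgroup.mem_center_iff]
    intro e
    have hd' : (d : Γ) ∈ Subgroup.center Γ := hk hd
    apply Subtype.ext
    exact Subgroup.mem_center_iff.mp hd' e
  · intro d _
    rw [commutator_perfect_of_central ψ hψ hk hG]; trivial

end Basic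

/-- Every central extension of a finite perfect group with trivial Schur multiplier splits. -/
theorem exists_section_of_trivial_multiplier {G : Type u} [Group G] [Finite G]
    (hG : commutator G = ⊤) (hM : Cfsg.HasCyclicSchurMultiplier G 1)
    {Γ : Type u} [Group Γ] (ψ : Γ →* G) (hψ : Function.Surjective ψ)
    (hk : ψ.ker ≤ Subgroup.center Γ) : ∃ s : G →* Γ, ψ.comp s = MonoidHom.id G := by
  haveI : Finite (commutator Γ) := finite_commutator_of_central ψ hψ hk
  have hθ := isStemExtension_commutator ψ hψ hk hG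
  obtain ⟨f, hf⟩ := hM.2 (commutator Γ) (ψ.comp (commutator Γ).subtype) hθ
  have hU : Unique (Multiplicative (ZMod 1)) := by
    unfold Multiplicative; infer_instance
  have hθinj : Function.Injective (ψ.comp (commutator Γ).subtype) := by
    rw [injective_iff_map_eq_one]
    intro d hd
    obtain ⟨m, hm⟩ := hf ⟨d, hd⟩
    have hm1 : m = 1 := Subsingleton.elim _ _
    rw [hm1, map_one] at hm
    exact (congrArg Subtype.val hm).symm
  refine ⟨(commutator Γ).subtype.comp
    (MulEquiv.ofBijective (ψ.comp (commutator Γ).subtype) ⟨hθinj, hθ.1⟩).symm.toMonoidHom, ?_⟩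
  ext g
  obtain ⟨d, rfl⟩ := (MulEquiv.ofBijective (ψ.comp (commutator Γ).subtype) ⟨hθinj, hθ.1⟩).surjective g
  simp only [MonoidHom.comp_apply, MulEquiv.coe_toMonoidHom, MulEquiv.symm_apply_apply,
    MonoidHom.id_apply]
  rfl

end Cfsg.Agent.Lib.Helper12.Schur
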