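import Mathlib
import Cfsg.Prelude.Def_KGroupFacts
import Cfsg.Agent.Lib.Helper12.SchurBasic

/-!
Schur covers via free presentations: for a surjection `π : FreeGroup X →* Q` with kernel `R`,
the group `E = F / [F, R]` is a central extension of `Q` through which every central extension
factors; `T = ker ∩ E'` is the Schur multiplier, and complements `S` of `T` in the kernel give
Schur covers `E / S`.
-/

set_option autoImplicit false
set_option linter.style.haveILetI false
set_option linter.unusedSectionVars false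

open scoped commutatorElement

namespace Cfsg.Agent.Lib.Helper12.Schur

universe u v w

/-- Abstract splitting: an additive map from a commutative group to a finite free `ℤ`-module has a
"complement of its kernel". -/
theorem exists_split {B : Type*} [Group B] (hB : ∀ a b : B, a * b = b * a) {M : Type*}
    [AddCommGroup M] [Module.Free ℤ M] [Module.Finite ℤ M] (f : B → M)
    (hf : ∀ a b, f (a * b) = f a + f b) :
    ∃ S : Subgroup B, (∀ b ∈ S, f b = 0 → b = 1) ∧ ∀ b : B, ∃ s ∈ S, f (s⁻¹ * b) = 0 := by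
  classical
  letI cg : CommGroup B := { ‹Group B› with mul_comm := hB }
  let fa : Additive B →+ M :=
    AddMonoidHom.mk' (fun x => f (Additive.toMul x)) (fun a b => hf _ _)
  have hfa : ∀ b : B, fa (Additive.ofMul b) = f b := fun b => rfl
  let fl : Additive B →ₗ[ℤ] M := fa.toIntLinearMap
  have hfl : ∀ x, fl x = fa x := fun x => rfl
  obtain ⟨n, ⟨bN⟩⟩ :=
    Submodule.nonempty_basis_of_pid (Module.Free.chooseBasis ℤ M) (LinearMap.range fl)
  haveI : Module.Free ℤ (LinearMap.range fl) := Module.Free.of_basis bN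
  obtain ⟨h, hh⟩ := Module.projective_lifting_property fl.rangeRestrict LinearMap.id
    fl.surjective_rangeRestrict
  have hh' : ∀ n : LinearMap.range fl, fa (h n) = n.1 := by
    intro n
    have h1 := LinearMap.congr_fun hh n
    exact congrArg Subtype.val h1
  refine ⟨{ carrier := {b | ∃ n : LinearMap.range fl, Additive.toMul (h n) = b}
            mul_mem' := ?_
            one_mem' := ?_
            inv_mem' := ?_ }, ?_, ?_⟩
  · rintro _ _ ⟨n, rfl⟩ ⟨m, rfl⟩
    exact ⟨n + m, by rw [map_add]; rfl⟩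
  · exact ⟨0, by rw [map_zero]; rfl⟩
  · rintro _ ⟨n, rfl⟩
    exact ⟨-n, by rw [map_neg]; rfl⟩
  · rintro _ ⟨n, rfl⟩ hb
    have h1 : fa (h n) = 0 := hb
    rw [hh'] at h1
    have h2 : n = 0 := Subtype.ext h1
    rw [h2, map_zero]; rfl
  · intro b
    refine ⟨Additive.toMul (h (fl.rangeRestrict (Additive.ofMul b))), ⟨_, rfl⟩, ?_⟩
    have h1 : f ((Additive.toMul (h (fl.rangeRestrict (Additive.ofMul b))))⁻¹ * b) =
        fa (-(h (fl.rangeRestrict (Additive.ofMul b))) + Additive.ofMul b) := rfl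
    rw [h1, map_add, map_neg, hh']
    change -(fa (Additive.ofMul b)) + fa (Additive.ofMul b) = 0
    exact neg_add_cancel _

theorem normal_of_le_center {G : Type*} [Group G] (S : Subgroup G) (h : S ≤ Subgroup.center G) :
    S.Normal :=
  ⟨fun n hn g => by
    have h1 := Subgroup.mem_center_iff.mp (h hn) g
    rw [h1, mul_inv_cancel_right]; exact hn⟩

theorem finite_of_ker_finite {Γ Q : Type*} [Group Γ] [Group Q] [Finite Q] (σ : Γ →* Q)
    [Finite σ.ker] : Finite Γ := by
  haveI : Finite (Γ ⧸ σ.ker) :=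
    Finite.of_equiv _ (QuotientGroup.quotientKerEquivRange σ).symm.toEquiv
  exact Finite.of_equiv _ (Subgroup.groupEquivQuotientProdSubgroup (s := σ.ker)).symm

/-- Two Schur multipliers of the same group are isomorphic. -/
theorem mulEquiv_of_hasSchurMultiplier {Q : Type u} [Group Q] {A : Type v} {B : Type w}
    [CommGroup A] [CommGroup B] (hA : Cfsg.HasSchurMultiplier Q A)
    (hB : Cfsg.HasSchurMultiplier Q B) : Nonempty (A ≃* B) := by
  obtain ⟨⟨Γ₁, hg₁, hf₁, σ₁, hσ₁, ⟨e₁⟩⟩, hA2⟩ := hA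
  obtain ⟨⟨Γ₂, hg₂, hf₂, σ₂, hσ₂, ⟨e₂⟩⟩, hB2⟩ := hB
  haveI : Finite A := Finite.of_equiv _ e₁.toEquiv
  haveI : Finite B := Finite.of_equiv _ e₂.toEquiv
  obtain ⟨p, hp⟩ := hA2 Γ₂ σ₂ hσ₂
  obtain ⟨r, hr⟩ := hB2 Γ₁ σ₁ hσ₁
  have hfs : Function.Surjective (e₂.toMonoidHom.comp p) := e₂.surjective.comp hp
  have hgs : Function.Surjective (e₁.toMonoidHom.comp r) := e₁.surjective.comp hr
  have hle : Nat.card A ≤ Nat.card B := Nat.card_le_card_of_surjective _ hgs
  exact ⟨MulEquiv.ofBijective (e₂.toMonoidHom.comp p) (hfs.bijective_of_nat_card_le hle)⟩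

section Cover

variable {X : Type w} {Q : Type u} [Group Q] (π : FreeGroup X →* Q)

/-- `[F, R]` for `R = ker π`. -/
def relC : Subgroup (FreeGroup X) := ⁅(⊤ : Subgroup (FreeGroup X)), π.ker⁆

instance relC_normal : (relC π).Normal := by unfold relC; infer_instance

theorem relC_le_ker : relC π ≤ π.ker := Subgroup.commutator_le_right ⊤ π.ker

/-- `E = F / [F, R]` -/
abbrev CovE : Type w := FreeGroup X ⧸ relC π

/-- the induced central extension `E → Q` -/
def covρ : CovE π →* Q := QuotientGroup.lift (relC π) π (relC_le_ker π)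

theorem covρ_mk (x : FreeGroup X) : covρ π (QuotientGroup.mk x) = π x := rfl

theorem covρ_surjective (hπ : Function.Surjective π) : Function.Surjective (covρ π) := by
  intro q
  obtain ⟨x, rfl⟩ := hπ q
  exact ⟨QuotientGroup.mk x, rfl⟩

theorem covρ_ker_le_center : (covρ π).ker ≤ Subgroup.center (CovE π) := by
  intro e he
  obtain ⟨r, rfl⟩ := QuotientGroup.mk_surjective e
  have hr : r ∈ π.ker := he
  rw [Subgroup.mem_center_iff]
  intro g
  obtain ⟨w, rfl⟩ := QuotientGroup.mk_surjective g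
  have h1 : ⁅w, r⁆ ∈ relC π := Subgroup.commutator_mem_commutator (Subgroup.mem_top w) hr
  have h2 : ((⁅w, r⁆ : FreeGroup X) : CovE π) = 1 := (QuotientGroup.eq_one_iff _).mpr h1
  rw [commutatorElement_def] at h2
  have h3 : (w : CovE π) * r * (w : CovE π)⁻¹ * (r : CovE π)⁻¹ = 1 := by simpa using h2
  calc (w : CovE π) * r = ((w : CovE π) * r * (w : CovE π)⁻¹ * (r : CovE π)⁻¹) * r * w := by group
    _ = r * w := by rw [h3, one_mul]

/-- Every central extension of `Q` receives a map from `E`. -/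
theorem exists_lift {Δ : Type v} [Group Δ] (τ : Δ →* Q) (hτ : Function.Surjective τ)
    (hc : τ.ker ≤ Subgroup.center Δ) : ∃ φ : CovE π →* Δ, τ.comp φ = covρ π := by
  classical
  have hs : ∀ x, τ (Function.surjInv hτ (π (FreeGroup.of x))) = π (FreeGroup.of x) :=
    fun x => Function.surjInv_eq hτ _
  have h1 : τ.comp (FreeGroup.lift fun x => Function.surjInv hτ (π (FreeGroup.of x))) = π := by
    ext x
    simp only [MonoidHom.comp_apply, FreeGroup.lift_apply_of]
    exact hs x
  have h2 : relC π ≤ (FreeGroup.lift fun x => Function.surjInv hτ (π (FreeGroup.of x))).ker := by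
    unfold relC
    rw [Subgroup.commutator_le]
    intro w _ r hr
    rw [MonoidHom.mem_ker, map_commutatorElement]
    have hr' : FreeGroup.lift (fun x => Function.surjInv hτ (π (FreeGroup.of x))) r ∈
        Subgroup.center Δ := by
      apply hc
      rw [MonoidHom.mem_ker]
      have h3 := DFunLike.congr_fun h1 r
      rw [MonoidHom.comp_apply] at h3
      rw [h3]; exact hr
    rw [commutatorElement_eq_one_iff_mul_comm]
    exact (Subgroup.mem_center_iff.mp hr' _)
  refine ⟨QuotientGroup.lift (relC π) _ h2, ?_⟩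
  apply MonoidHom.ext
  intro e
  obtain ⟨w, rfl⟩ := QuotientGroup.mk_surjective e
  exact DFunLike.congr_fun h1 w

theorem lift_surjective {Δ : Type v} [Group Δ] (hπ : Function.Surjective π) (τ : Δ →* Q)
    (hτ : Cfsg.IsStemExtension τ) (φ : CovE π →* Δ) (hφ : τ.comp φ = covρ π) :
    Function.Surjective φ := by
  obtain ⟨hτs, hτc, hτd⟩ := hτ
  have hφ' : ∀ e, τ (φ e) = covρ π e := fun e => DFunLike.congr_fun hφ e
  have hex : ∀ δ : Δ, ∃ e : CovE π, (φ e)⁻¹ * δ ∈ τ.ker := by
    intro δ
    obtain ⟨e, he⟩ := covρ_surjective π hπ (τ δ)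
    exact ⟨e, by rw [MonoidHom.mem_ker, map_mul, map_inv, hφ', he, inv_mul_cancel]⟩
  have hcomm : commutator Δ ≤ φ.range := by
    rw [commutator_eq_closure, Subgroup.closure_le]
    rintro _ ⟨a, b, rfl⟩
    obtain ⟨e₁, h₁⟩ := hex a
    obtain ⟨e₂, h₂⟩ := hex b
    rw [SetLike.mem_coe, comm_eq_of_central (hτc h₁) (hτc h₂), ← map_commutatorElement]
    exact ⟨_, rfl⟩
  intro δ
  obtain ⟨e, he⟩ := hex δ
  have h1 : (φ e)⁻¹ * δ ∈ φ.range := hcomm (hτd he)
  have h2 : δ = φ e * ((φ e)⁻¹ * δ) := by group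
  have h3 : δ ∈ φ.range := by rw [h2]; exact mul_mem ⟨e, rfl⟩ h1
  exact MonoidHom.mem_range.mp h3

/-- the Schur multiplier inside `E` -/
def covT : Subgroup (CovE π) := (covρ π).ker ⊓ commutator (CovE π)

theorem mem_covT {e : CovE π} : e ∈ covT π ↔ covρ π e = 1 ∧ e ∈ commutator (CovE π) := by
  unfold covT
  rw [Subgroup.mem_inf, MonoidHom.mem_ker]

instance covT_commGroup : CommGroup (covT π) :=
  { (inferInstance : Group (covT π)) with
    mul_comm := fun a b => Subtype.ext
      (Subgroup.mem_center_iff.mp (covρ_ker_le_center π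
        (MonoidHom.mem_ker.mpr ((mem_covT π).mp b.2).1)) a.1) }

theorem exists_mem_covT_of_mem_ker {Δ : Type v} [Group Δ] (hπ : Function.Surjective π)
    (τ : Δ →* Q) (hτ : Cfsg.IsStemExtension τ) (φ : CovE π →* Δ) (hφ : τ.comp φ = covρ π)
    (k : Δ) (hk : k ∈ τ.ker) : ∃ t ∈ covT π, φ t = k := by
  have hs := lift_surjective π hπ τ hτ φ hφ
  have hk' : k ∈ (commutator (CovE π)).map φ := by
    rw [map_commutator_of_surj φ hs]; exact hτ.2.2 hk
  obtain ⟨e, he, rfl⟩ := hk'
  refine ⟨e, (mem_covT π).mpr ⟨?_, he⟩, rfl⟩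
  rw [← DFunLike.congr_fun hφ e]
  exact hk

theorem finite_commutator_covE [Finite Q] (hπ : Function.Surjective π) :
    Finite (commutator (CovE π)) :=
  finite_commutator_of_central (covρ π) (covρ_surjective π hπ) (covρ_ker_le_center π)

theorem finite_covT [Finite Q] (hπ : Function.Surjective π) : Finite (covT π) := by
  haveI := finite_commutator_covE π hπ
  exact Finite.of_injective
    (Subgroup.inclusion (inf_le_right : covT π ≤ commutator (CovE π)))
    (Subgroup.inclusion_injective _)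

/-- the map `E → F / F'` -/
def abE : CovE π →* Abelianization (FreeGroup X) :=
  QuotientGroup.lift (relC π) Abelianization.of (by
    intro x hx
    rw [Abelianization.ker_of, commutator_def]
    exact Subgroup.commutator_mono le_rfl le_top hx)

theorem ker_abE : (abE π).ker = commutator (CovE π) := by
  apply le_antisymm
  · intro e he
    obtain ⟨w, rfl⟩ := QuotientGroup.mk_surjective e
    have hw : w ∈ (Abelianization.of : FreeGroup X →* _).ker := he
    rw [Abelianization.ker_of] at hw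
    rw [← map_commutator_of_surj (QuotientGroup.mk' (relC π)) (QuotientGroup.mk'_surjective _)]
    exact ⟨w, hw, rfl⟩
  · exact Abelianization.commutator_subset_ker _

theorem free_abF : Module.Free ℤ (Additive (Abelianization (FreeGroup X))) :=
  (Module.Free.of_equiv ((FreeAbelianGroup.equivFinsupp X).symm.toIntLinearEquiv) :
    Module.Free ℤ (FreeAbelianGroup X))

theorem finite_abF [Finite X] : Module.Finite ℤ (Additive (Abelianization (FreeGroup X))) :=
  (Module.Finite.equiv ((FreeAbelianGroup.equivFinsupp X).symm.toIntLinearEquiv) :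
    Module.Finite ℤ (FreeAbelianGroup X))

/-- Complements: inside any subgroup `A₀` of the kernel there is a subgroup `S` meeting `E'`
trivially with `A₀ ≤ S · E'`. -/
theorem exists_complement [Finite X] (A₀ : Subgroup (CovE π)) (hA₀ : A₀ ≤ (covρ π).ker) :
    ∃ S : Subgroup (CovE π), S ≤ A₀ ∧ S ⊓ commutator (CovE π) = ⊥ ∧
      ∀ a ∈ A₀, ∃ s ∈ S, s⁻¹ * a ∈ commutator (CovE π) := by
  haveI : Module.Free ℤ (Additive (Abelianization (FreeGroup X))) := free_abF
  haveI : Module.Finite ℤ (Additive (Abelianization (FreeGroup X))) := finite_abF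
  have hB : ∀ a b : A₀, a * b = b * a := by
    intro a b
    apply Subtype.ext
    have h1 := covρ_ker_le_center π (hA₀ b.2)
    exact Subgroup.mem_center_iff.mp h1 a.1
  obtain ⟨SB, h1, h2⟩ := exists_split hB (M := Additive (Abelianization (FreeGroup X)))
    (fun a : A₀ => Additive.ofMul (abE π a.1))
    (fun a b => by rw [Subgroup.coe_mul, map_mul, ofMul_mul])
  refine ⟨SB.map A₀.subtype, Subgroup.map_subtype_le SB, ?_, ?_⟩
  · rw [eq_bot_iff]
    intro x hx
    obtain ⟨hx1, hx2⟩ := Subgroup.mem_inf.mp hx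
    obtain ⟨y, hy, rfl⟩ := Subgroup.mem_map.mp hx1
    have hx' : abE π (y : CovE π) = 1 := by
      rw [← MonoidHom.mem_ker, ker_abE]; exact hx2
    have h3 := h1 y hy (by
      change Additive.ofMul (abE π y.1) = 0
      rw [hx']; rfl)
    rw [h3]
    simp
  · intro a ha
    obtain ⟨s, hs, hsa⟩ := h2 ⟨a, ha⟩
    refine ⟨s.1, ⟨s, hs, rfl⟩, ?_⟩
    rw [← ker_abE, MonoidHom.mem_ker]
    exact ofMul_eq_zero.mp hsa

/-- The quotient of `E` by a complement `S` of `T` in the kernel is a Schur cover. -/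
theorem exists_cover [Finite Q] (hπ : Function.Surjective π) (S : Subgroup (CovE π))
    (hSA : S ≤ (covρ π).ker) (hST : S ⊓ commutator (CovE π) = ⊥)
    (hsup : ∀ a ∈ (covρ π).ker, ∃ s ∈ S, s⁻¹ * a ∈ commutator (CovE π)) :
    ∃ (Γ : Type w) (_ : Group Γ) (_ : Finite Γ) (σ : Γ →* Q) (q : CovE π →* Γ),
      Function.Surjective q ∧ q.ker = S ∧ σ.comp q = covρ π ∧ Cfsg.IsStemExtension σ ∧
      Nonempty (σ.ker ≃* covT π) := by
  haveI hSn : S.Normal := normal_of_le_center S (hSA.trans (covρ_ker_le_center π))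
  have hq : Function.Surjective (QuotientGroup.mk' S) := QuotientGroup.mk'_surjective S
  have hσq : ∀ e : CovE π,
      QuotientGroup.lift S (covρ π) hSA (QuotientGroup.mk' S e) = covρ π e := fun e => rfl
  have hmemker : ∀ t : covT π,
      ((QuotientGroup.mk' S).comp (covT π).subtype) t ∈
        (QuotientGroup.lift S (covρ π) hSA).ker := by
    intro t
    rw [MonoidHom.mem_ker, MonoidHom.comp_apply, hσq]
    exact ((mem_covT π).mp t.2).1
  have hginj : Function.Injective
      (((QuotientGroup.mk' S).comp (covT π).subtype).codRestrict _ hmemker) := by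
    rw [injective_iff_map_eq_one]
    intro t ht
    have h1 : QuotientGroup.mk' S (t : CovE π) = 1 := congrArg Subtype.val ht
    have h2 : (t : CovE π) ∈ S := by rw [← QuotientGroup.ker_mk' S]; exact h1
    have h3 : (t : CovE π) ∈ S ⊓ commutator (CovE π) :=
      Subgroup.mem_inf.mpr ⟨h2, ((mem_covT π).mp t.2).2⟩
    rw [hST, Subgroup.mem_bot] at h3
    exact Subtype.ext h3
  have haux : ∀ y ∈ (QuotientGroup.lift S (covρ π) hSA).ker,
      ∃ t ∈ covT π, QuotientGroup.mk' S t = y := by
    intro y hy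
    obtain ⟨a, rfl⟩ := hq y
    rw [MonoidHom.mem_ker, hσq] at hy
    obtain ⟨s, hs, hsa⟩ := hsup a hy
    have hs1 : covρ π s = 1 := MonoidHom.mem_ker.mp (hSA hs)
    refine ⟨s⁻¹ * a, (mem_covT π).mpr ⟨?_, hsa⟩, ?_⟩
    · rw [map_mul, map_inv, hy, hs1, inv_one, one_mul]
    · rw [map_mul, map_inv]
      have h1 : QuotientGroup.mk' S s = 1 := by
        rw [← MonoidHom.mem_ker, QuotientGroup.ker_mk']; exact hs
      rw [h1, inv_one, one_mul]
  have hgsurj : Function.Surjective
      (((QuotientGroup.mk' S).comp (covT π).subtype).codRestrict _ hmemker) := by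
    intro y
    obtain ⟨t, ht, hty⟩ := haux y.1 y.2
    exact ⟨⟨t, ht⟩, Subtype.ext hty⟩
  haveI hfinT : Finite (covT π) := finite_covT π hπ
  haveI hfinK : Finite (QuotientGroup.lift S (covρ π) hSA).ker :=
    Finite.of_surjective _ hgsurj
  have hσs : Function.Surjective (QuotientGroup.lift S (covρ π) hSA) := by
    intro x
    obtain ⟨e, he⟩ := covρ_surjective π hπ x
    exact ⟨QuotientGroup.mk' S e, he⟩
  have hfinΓ : Finite (CovE π ⧸ S) := finite_of_ker_finite (QuotientGroup.lift S (covρ π) hSA)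
  refine ⟨CovE π ⧸ S, inferInstance, hfinΓ, QuotientGroup.lift S (covρ π) hSA,
    QuotientGroup.mk' S, hq, QuotientGroup.ker_mk' S, MonoidHom.ext fun e => rfl,
    ⟨hσs, ?_, ?_⟩, ⟨(MulEquiv.ofBijective _ ⟨hginj, hgsurj⟩).symm⟩⟩
  · intro y hy
    obtain ⟨t, ht, rfl⟩ := haux y hy
    rw [Subgroup.mem_center_iff]
    intro z
    obtain ⟨e, rfl⟩ := hq z
    have hc := covρ_ker_le_center π (MonoidHom.mem_ker.mpr ((mem_covT π).mp ht).1)
    rw [← map_mul, ← map_mul, Subgroup.mem_center_iff.mp hc e]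
  · intro y hy
    obtain ⟨t, ht, rfl⟩ := haux y hy
    rw [← map_commutator_of_surj (QuotientGroup.mk' S) hq]
    exact ⟨t, ((mem_covT π).mp ht).2, rfl⟩

/-- Every finite (indeed any) stem extension's kernel is an image of `T`. -/
theorem exists_surjection_covT {Δ : Type v} [Group Δ] (hπ : Function.Surjective π) (τ : Δ →* Q)
    (hτ : Cfsg.IsStemExtension τ) : ∃ p : covT π →* τ.ker, Function.Surjective p := by
  obtain ⟨φ, hφ⟩ := exists_lift π τ hτ.1 hτ.2.1
  have hmem : ∀ t : covT π, (φ.comp (covT π).subtype) t ∈ τ.ker := by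
    intro t
    rw [MonoidHom.mem_ker, MonoidHom.comp_apply]
    have h1 := DFunLike.congr_fun hφ (t : CovE π)
    rw [MonoidHom.comp_apply] at h1
    rw [Subgroup.coe_subtype, h1]
    exact ((mem_covT π).mp t.2).1
  refine ⟨(φ.comp (covT π).subtype).codRestrict _ hmem, ?_⟩
  intro k
  obtain ⟨t, ht, htk⟩ := exists_mem_covT_of_mem_ker π hπ τ hτ φ hφ k.1 k.2
  exact ⟨⟨t, ht⟩, Subtype.ext htk⟩

end Cover

/-- `T` is the Schur multiplier. -/
theorem hasSchurMultiplier_covT {X : Type u} {Q : Type u} [Group Q] [Finite Q] [Finite X]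
    (π : FreeGroup X →* Q) (hπ : Function.Surjective π) :
    Cfsg.HasSchurMultiplier Q (covT π) := by
  constructor
  · obtain ⟨S, hS1, hS2, hS3⟩ := exists_complement π (covρ π).ker le_rfl
    obtain ⟨Γ, hΓg, hΓf, σ, q, -, -, -, hσ, ⟨e⟩⟩ := exists_cover π hπ S hS1 hS2 hS3
    exact ⟨Γ, hΓg, hΓf, σ, hσ, ⟨e⟩⟩
  · intro Γ _ _ σ hσ
    exact exists_surjection_covT π hπ σ hσ

/-- With trivial Schur multiplier, every finite stem extension is injective. -/
theorem ker_eq_bot_of_trivial_multiplier {G : Type u} [Group G]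
    (hM : Cfsg.HasCyclicSchurMultiplier G 1) {Γ : Type u} [Group Γ] [Finite Γ] (σ : Γ →* G)
    (hσ : Cfsg.IsStemExtension σ) : σ.ker = ⊥ := by
  obtain ⟨f, hf⟩ := hM.2 Γ σ hσ
  have hU : Unique (Multiplicative (ZMod 1)) := by
    unfold Multiplicative; infer_instance
  rw [eq_bot_iff]
  intro d hd
  obtain ⟨m, hm⟩ := hf ⟨d, hd⟩
  have hm1 : m = 1 := Subsingleton.elim _ _
  rw [hm1, map_one] at hm
  rw [Subgroup.mem_bot]
  exact (congrArg Subtype.val hm).symm

end Cfsg.Agent.Lib.Helper12.Schur
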