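import Mathlib
import Cfsg.Prelude.Def_KGroupFacts
import Cfsg.Agent.Lib.Helper12.SchurCover

/-!
More on Schur multipliers: the image of the multiplier in a central extension, a transfer lemma,
duality for finite abelian groups, and a "bilinear commutator" lemma.
-/

set_option autoImplicit false
set_option linter.style.haveILetI false
set_option linter.unusedSectionVars false

open scoped commutatorElement

namespace Cfsg.Agent.Lib.Helper12.Schur

universe u v w

theorem comm_mem_commutator {G : Type*} [Group G] (a b : G) : ⁅a, b⁆ ∈ commutator G := by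
  rw [commutator_def]
  exact Subgroup.commutator_mem_commutator (Subgroup.mem_top a) (Subgroup.mem_top b)

theorem map_commutator_le {G H : Type*} [Group G] [Group H] (φ : G →* H) :
    (commutator G).map φ ≤ commutator H := by
  rw [commutator_def, commutator_def, Subgroup.map_commutator]
  exact Subgroup.commutator_mono le_top le_top

theorem lift_id_surjective (Q : Type u) [Group Q] :
    Function.Surjective (FreeGroup.lift (id : Q → Q)) :=
  fun q => ⟨FreeGroup.of q, by rw [FreeGroup.lift_apply_of]; rfl⟩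

/-- In any central extension `ψ : Δ → Q` of a finite group with Schur multiplier `A`, the subgroup
`ker ψ ∩ Δ'` is a homomorphic image of `A`. -/
theorem exists_hom_range_eq {Q : Type u} [Group Q] [Finite Q] {A : Type v} [CommGroup A]
    (hA : Cfsg.HasSchurMultiplier Q A) {Δ : Type w} [Group Δ] (ψ : Δ →* Q)
    (hψ : Function.Surjective ψ) (hc : ψ.ker ≤ Subgroup.center Δ) :
    ∃ f : A →* Δ, f.range = ψ.ker ⊓ commutator Δ := by
  obtain ⟨π, hπdef⟩ : ∃ π : FreeGroup Q →* Q, π = FreeGroup.lift id := ⟨_, rfl⟩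
  have hπ : Function.Surjective π := by rw [hπdef]; exact lift_id_surjective Q
  obtain ⟨e⟩ := mulEquiv_of_hasSchurMultiplier hA (hasSchurMultiplier_covT π hπ)
  obtain ⟨φ, hφ⟩ := exists_lift π ψ hψ hc
  have hφ' : ∀ x, ψ (φ x) = covρ π x := fun x => DFunLike.congr_fun hφ x
  have hex : ∀ δ : Δ, ∃ x : CovE π, (φ x)⁻¹ * δ ∈ ψ.ker := by
    intro δ
    obtain ⟨x, hx⟩ := covρ_surjective π hπ (ψ δ)
    exact ⟨x, by rw [MonoidHom.mem_ker, map_mul, map_inv, hφ', hx, inv_mul_cancel]⟩
  have hcomm : commutator Δ ≤ (commutator (CovE π)).map φ := by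
    rw [commutator_eq_closure, Subgroup.closure_le]
    rintro _ ⟨a, b, rfl⟩
    obtain ⟨e₁, h₁⟩ := hex a
    obtain ⟨e₂, h₂⟩ := hex b
    rw [SetLike.mem_coe, comm_eq_of_central (hc h₁) (hc h₂), ← map_commutatorElement]
    exact ⟨_, comm_mem_commutator e₁ e₂, rfl⟩
  refine ⟨(φ.comp (covT π).subtype).comp e.toMonoidHom, ?_⟩
  apply le_antisymm
  · rintro _ ⟨a, rfl⟩
    obtain ⟨h1, h2⟩ := (mem_covT π).mp (e a).2
    refine Subgroup.mem_inf.mpr ⟨?_, ?_⟩
    · rw [MonoidHom.mem_ker]
      change ψ (φ ((e a : covT π) : CovE π)) = 1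
      rw [hφ']; exact h1
    · change φ ((e a : covT π) : CovE π) ∈ commutator Δ
      exact map_commutator_le φ ⟨_, h2, rfl⟩
  · intro x hx
    obtain ⟨hx1, hx2⟩ := Subgroup.mem_inf.mp hx
    obtain ⟨y, hy, rfl⟩ := hcomm hx2
    have hyT : y ∈ covT π := (mem_covT π).mpr ⟨by rw [← hφ']; exact hx1, hy⟩
    refine ⟨e.symm ⟨y, hyT⟩, ?_⟩
    change φ ((e (e.symm ⟨y, hyT⟩) : covT π) : CovE π) = φ y
    rw [MulEquiv.apply_symm_apply]

/-- Transfer: a central element of `Γ'` raised to the index of `H` lies in `H'`. -/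
theorem pow_index_mem_commutator {Γ : Type*} [Group Γ] (H : Subgroup Γ) [H.FiniteIndex] {z : Γ}
    (hz : z ∈ Subgroup.center Γ) (hz' : z ∈ commutator Γ) :
    ∃ h : z ^ H.index ∈ H, (⟨z ^ H.index, h⟩ : H) ∈ commutator H := by
  have key : ∀ (k : ℕ) (g₀ : Γ), g₀⁻¹ * z ^ k * g₀ ∈ H → g₀⁻¹ * z ^ k * g₀ = z ^ k := by
    intro k g₀ _
    have hzk : z ^ k ∈ Subgroup.center Γ := pow_mem hz k
    have h1 := Subgroup.mem_center_iff.mp hzk g₀
    rw [mul_assoc, ← h1, inv_mul_cancel_left]
  have h1 := MonoidHom.transfer_eq_pow (Abelianization.of : H →* Abelianization H) z key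
  have h2 : MonoidHom.transfer (Abelianization.of : H →* Abelianization H) z = 1 :=
    Abelianization.commutator_subset_ker
      (MonoidHom.transfer (Abelianization.of : H →* Abelianization H)) hz'
  rw [h2] at h1
  refine ⟨MonoidHom.transfer_eq_pow_aux z key, ?_⟩
  rw [← Abelianization.ker_of H, MonoidHom.mem_ker]
  exact h1.symm

theorem pow_index_mem_commutator' {Γ : Type*} [Group Γ] (H : Subgroup Γ) [H.FiniteIndex] {z : Γ}
    (hz : z ∈ Subgroup.center Γ) (hz' : z ∈ commutator Γ) (m : ℕ) (hm : H.index = m) :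
    ∃ h : z ^ m ∈ H, (⟨z ^ m, h⟩ : H) ∈ commutator H := by
  subst hm
  exact pow_index_mem_commutator H hz hz'

/-- A quotient of a finite abelian group embeds in it. -/
theorem exists_injective_of_surjective {B I : Type*} [CommGroup B] [Finite B] [CommGroup I]
    (f : B →* I) (hf : Function.Surjective f) : ∃ j : I →* B, Function.Injective j := by
  haveI : Finite I := Finite.of_surjective f hf
  haveI : NeZero ((Monoid.exponent B : ℕ) : ℂ) :=
    ⟨Nat.cast_ne_zero.mpr Monoid.exponent_ne_zero_of_finite⟩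
  haveI : NeZero ((Monoid.exponent I : ℕ) : ℂ) :=
    ⟨Nat.cast_ne_zero.mpr Monoid.exponent_ne_zero_of_finite⟩
  obtain ⟨eB⟩ := CommGroup.monoidHom_mulEquiv_of_hasEnoughRootsOfUnity B ℂ
  obtain ⟨eI⟩ := CommGroup.monoidHom_mulEquiv_of_hasEnoughRootsOfUnity I ℂ
  let fstar : (I →* ℂˣ) →* (B →* ℂˣ) :=
    { toFun := fun χ => χ.comp f
      map_one' := rfl
      map_mul' := fun a b => MonoidHom.ext fun x => rfl }
  have hfstar : Function.Injective fstar := by
    intro χ χ' h
    exact (MonoidHom.cancel_right hf).mp h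
  exact ⟨eB.toMonoidHom.comp (fstar.comp eI.symm.toMonoidHom),
    eB.injective.comp (hfstar.comp eI.symm.injective)⟩

/-- The image of a finite abelian group under a homomorphism embeds back into it. -/
theorem exists_injective_of_range {B : Type*} [CommGroup B] [Finite B] {Γ : Type*} [Group Γ]
    (f : B →* Γ) : ∃ j : f.range →* B, Function.Injective j := by
  obtain ⟨j₀, hj₀⟩ := exists_injective_of_surjective (QuotientGroup.mk' f.ker)
    (QuotientGroup.mk'_surjective _)
  exact ⟨j₀.comp (QuotientGroup.quotientKerEquivRange f).symm.toMonoidHom,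
    hj₀.comp (MulEquiv.injective _)⟩

open scoped IsMulCommutative in
/-- If `D ≤ Δ` is a central extension of `Q` via `ψ` and `⁅x, y⁆` is central for all `x ∈ D`, then
`⁅x, y⁆ ^ |Q^{ab}| = 1`. -/
theorem comm_pow_card_abelianization {Δ : Type*} [Group Δ] {Q : Type*} [Group Q] [Finite Q]
    (D : Subgroup Δ) (ψ : D →* Q) (hψs : Function.Surjective ψ)
    (hψc : ∀ x : D, x ∈ ψ.ker → (x : Δ) ∈ Subgroup.center Δ) (y : Δ)
    (hy : ∀ x ∈ D, ⁅x, y⁆ ∈ Subgroup.center Δ) (x : Δ) (hx : x ∈ D) :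
    ⁅x, y⁆ ^ Nat.card (Abelianization Q) = 1 := by
  let c : D →* Subgroup.center Δ :=
    { toFun := fun a => ⟨⁅(a : Δ), y⁆, hy a a.2⟩
      map_one' := Subtype.ext (commutatorElement_one_left y)
      map_mul' := fun a b => by
        apply Subtype.ext
        change ⁅((a * b : D) : Δ), y⁆ = ⁅(a : Δ), y⁆ * ⁅(b : Δ), y⁆
        rw [Subgroup.coe_mul, commutatorElement_mul_left_eq_conj_mul]
        have h1 := Subgroup.mem_center_iff.mp (hy b b.2) (a : Δ)
        have h2 := Subgroup.mem_center_iff.mp (hy b b.2) ⁅(a : Δ), y⁆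
        rw [h1, mul_inv_cancel_right, h2] }
  have hc : ∀ a : D, ((c a : Subgroup.center Δ) : Δ) = ⁅(a : Δ), y⁆ := fun a => rfl
  -- x ^ n = d * k
  have h1 : (Abelianization.of (ψ ⟨x, hx⟩)) ^ Nat.card (Abelianization Q) = 1 := pow_card_eq_one'
  rw [← map_pow, ← map_pow, ← MonoidHom.mem_ker, Abelianization.ker_of,
    ← map_commutator_of_surj ψ hψs] at h1
  obtain ⟨d, hd, hdx⟩ := h1
  have hk : d⁻¹ * (⟨x, hx⟩ : D) ^ Nat.card (Abelianization Q) ∈ ψ.ker := by
    rw [MonoidHom.mem_ker, map_mul, map_inv, hdx, inv_mul_cancel]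
  have hcd : c d = 1 := Abelianization.commutator_subset_ker c hd
  have hck : c (d⁻¹ * (⟨x, hx⟩ : D) ^ Nat.card (Abelianization Q)) = 1 := by
    apply Subtype.ext
    rw [hc]
    change ⁅_, y⁆ = 1
    rw [commutatorElement_eq_one_iff_mul_comm]
    exact (Subgroup.mem_center_iff.mp (hψc _ hk) y).symm
  have h2 : c ((⟨x, hx⟩ : D) ^ Nat.card (Abelianization Q)) = 1 := by
    have h3 : (⟨x, hx⟩ : D) ^ Nat.card (Abelianization Q) =
        d * (d⁻¹ * (⟨x, hx⟩ : D) ^ Nat.card (Abelianization Q)) := by group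
    rw [h3, map_mul, hcd, hck, one_mul]
  rw [map_pow] at h2
  have h4 := congrArg (fun z : Subgroup.center Δ => (z : Δ)) h2
  simpa [hc] using h4

end Cfsg.Agent.Lib.Helper12.Schur
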