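import Mathlib
import Cfsg.Agent.Lib.Helper1.Coprime
import Cfsg.Agent.Lib.Helper1.CoprimeSylow
import Cfsg.Agent.Lib.Helper10.Basic
import Cfsg.Prelude.Def_Transfer

/-!
# Coprime generation

For a finite group `G`, an abelian subgroup `A` of exponent `p` and a `p'`-subgroup `K`
normalized by `A`:

* `genC A K = ⨆ a ∈ A#, K ⊓ C(a)`;
* `qgroup_le_genC`, `le_genC_of_noncyclic`, `le_genC_of_card`, `le_genC_of_isElementaryAbelian`:
  `K ≤ genC A K` when `A` is noncyclic;
* `IsCohyper E D` (`D ≤ E` and `E = D ⟨e⟩`), `card_le_of_isCohyper`,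
  `le_iSup_inf_centralizer_cohyper`, `le_iSup_cohyper_of_isElementaryAbelian`:
  `X ≤ ⨆ D cohyper in E, X ⊓ C(D)`;
* tools: `quotAct Q M : N(Q) ⊓ N(M) →* End (Q/M)`, the norm argument
  `pow_eq_one_of_fixedPointFree`, `mem_of_conj_coset_fixed`.
-/

set_option autoImplicit false

namespace Cfsg.Agent.Lib.Helper12

open Subgroup
open scoped Pointwise commutatorElement

universe u
variable {G : Type u} [Group G]

section QuotAct

variable (Q M : Subgroup G)

/-- conjugation by an element of `N(Q)` as an endomorphism of `Q`. -/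
def conjEnd (n : G) (hn : n ∈ normalizer (Q : Set G)) : ↥Q →* ↥Q where
  toFun q := ⟨n * q * n⁻¹, (mem_normalizer_iff.mp hn q).mp q.2⟩
  map_one' := by ext; simp
  map_mul' := by intro a b; ext; simp

theorem coe_conjEnd (n : G) (hn : n ∈ normalizer (Q : Set G)) (q : ↥Q) :
    ((conjEnd Q n hn q : ↥Q) : G) = n * q * n⁻¹ := rfl

theorem conjEnd_comap_le (n : G) (hnQ : n ∈ normalizer (Q : Set G))
    (hnM : n ∈ normalizer (M : Set G)) :
    M.subgroupOf Q ≤ (M.subgroupOf Q).comap (conjEnd Q n hnQ) := by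
  intro q hq
  rw [mem_comap, mem_subgroupOf, coe_conjEnd]
  rw [mem_subgroupOf] at hq
  exact (mem_normalizer_iff.mp hnM q).mp hq

variable [hn : (M.subgroupOf Q).Normal]

/-- conjugation by `n ∈ N(Q) ⊓ N(M)` on `Q/M`. -/
noncomputable def quotEnd (n : ↥(normalizer (Q : Set G) ⊓ normalizer (M : Set G))) :
    Monoid.End (↥Q ⧸ M.subgroupOf Q) :=
  (QuotientGroup.map _ _ (conjEnd Q n.1 (mem_inf.mp n.2).1)
    (conjEnd_comap_le Q M n.1 (mem_inf.mp n.2).1 (mem_inf.mp n.2).2) :
      (↥Q ⧸ M.subgroupOf Q) →* (↥Q ⧸ M.subgroupOf Q))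

theorem quotEnd_mk (n : ↥(normalizer (Q : Set G) ⊓ normalizer (M : Set G))) (q : ↥Q) :
    quotEnd Q M n (QuotientGroup.mk q) =
      QuotientGroup.mk (conjEnd Q n.1 (mem_inf.mp n.2).1 q) := by
  rfl

/-- conjugation action of `N(Q) ⊓ N(M)` on `Q/M`. -/
noncomputable def quotAct : ↥(normalizer (Q : Set G) ⊓ normalizer (M : Set G)) →*
    Monoid.End (↥Q ⧸ M.subgroupOf Q) where
  toFun n := quotEnd Q M n
  map_one' := by
    refine Monoid.End.ext _ fun v => ?_
    induction v using QuotientGroup.induction_on with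
    | H q =>
      rw [quotEnd_mk]
      show _ = (QuotientGroup.mk q : ↥Q ⧸ M.subgroupOf Q)
      congr 1
      ext
      simp [conjEnd]
  map_mul' := by
    intro a b
    refine Monoid.End.ext _ fun v => ?_
    induction v using QuotientGroup.induction_on with
    | H q =>
      rw [Monoid.End.coe_mul, Function.comp_apply]
      rw [quotEnd_mk, quotEnd_mk, quotEnd_mk]
      congr 1
      ext
      simp [conjEnd, mul_assoc]

theorem quotAct_mk (n : ↥(normalizer (Q : Set G) ⊓ normalizer (M : Set G))) (q : ↥Q) :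
    quotAct Q M n (QuotientGroup.mk q) =
      QuotientGroup.mk (conjEnd Q n.1 (mem_inf.mp n.2).1 q) := by
  rfl

end QuotAct

section NormLemma

variable {V : Type*} [CommGroup V] {p : ℕ} [hp : Fact p.Prime]

theorem norm_fixed (ρ : Monoid.End V) (hρ : ρ ^ p = 1) (v : V) :
    ρ (∏ k : ZMod p, (ρ ^ k.val) v) = ∏ k : ZMod p, (ρ ^ k.val) v := by
  rw [map_prod]
  rw [← Equiv.prod_comp (Equiv.addRight (1 : ZMod p)) (fun k => (ρ ^ k.val) v)]
  apply Finset.prod_congr rfl
  intro k _
  have h1 : ρ ^ ((k + 1).val) = ρ ^ (k.val + 1) := by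
    rw [ZMod.val_add, ZMod.val_one, ← pow_eq_pow_mod _ hρ]
  simp only [Equiv.coe_addRight]
  rw [h1, pow_succ', Monoid.End.coe_mul, Function.comp_apply]

theorem norm_eq_one (ρ : Monoid.End V) (hρ : ρ ^ p = 1) (hfix : ∀ v, ρ v = v → v = 1) (v : V) :
    ∏ k : ZMod p, (ρ ^ k.val) v = 1 :=
  hfix _ (norm_fixed ρ hρ v)

/-- The norm argument: if `σ, τ` are commuting endomorphisms of exponent `p` of the commutative
group `V` and each of `τ`, `σ τ^j` has no nontrivial fixed point, then `V` has exponent `p`. -/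
theorem pow_eq_one_of_fixedPointFree (σ τ : Monoid.End V) (hc : Commute σ τ) (hσ : σ ^ p = 1)
    (hτ : τ ^ p = 1) (hfτ : ∀ v, τ v = v → v = 1)
    (hfσ : ∀ j : ℕ, ∀ v, (σ * τ ^ j) v = v → v = 1) (v : V) : v ^ p = 1 := by
  have h1 : ∀ i : ZMod p, ∏ j : ZMod p, (σ ^ i.val * τ ^ j.val) v = 1 := by
    intro i
    have : ∏ j : ZMod p, (σ ^ i.val * τ ^ j.val) v = (σ ^ i.val) (∏ j : ZMod p, (τ ^ j.val) v) := by
      rw [map_prod]
      rfl
    rw [this, norm_eq_one τ hτ hfτ v, map_one]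
  have h2 : ∀ j : ZMod p, ∏ i : ZMod p, (σ ^ i.val * τ ^ (i * j).val) v = 1 := by
    intro j
    have hρ : (σ * τ ^ j.val) ^ p = 1 := by
      rw [(hc.pow_right _).mul_pow, hσ, ← pow_mul, mul_comm, pow_mul, hτ, one_pow, one_mul]
    rw [← norm_eq_one (σ * τ ^ j.val) hρ (hfσ j.val) v]
    apply Finset.prod_congr rfl
    intro i _
    congr 1
    rw [(hc.pow_right _).mul_pow, ← pow_mul, ZMod.val_mul, ← pow_eq_pow_mod _ hτ, mul_comm j.val]
  have h3 : ∏ j : ZMod p, ∏ i : ZMod p, (σ ^ i.val * τ ^ (i * j).val) v = 1 := by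
    rw [Finset.prod_congr rfl (fun j _ => h2 j)]
    simp
  rw [Finset.prod_comm] at h3
  have h4 : ∀ i : ZMod p, i ≠ 0 → ∏ j : ZMod p, (σ ^ i.val * τ ^ (i * j).val) v = 1 := by
    intro i hi
    rw [← h1 i]
    exact Equiv.prod_comp (Equiv.mulLeft₀ i hi) (fun j => (σ ^ i.val * τ ^ j.val) v)
  rw [Fintype.prod_eq_single (0 : ZMod p) (fun i hi => h4 i hi)] at h3
  simpa [ZMod.val_zero] using h3

end NormLemma

section FixedCoset

variable [Finite G]

theorem coprimeAct_zpowers {Q : Subgroup G} {c : G} (hcQ : c ∈ normalizer (Q : Set G))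
    (hcop : (orderOf c).Coprime (Nat.card Q)) : Helper1.CoprimeAct (zpowers c) Q where
  norm := (zpowers_le).mpr hcQ
  cop := by rw [Nat.card_zpowers]; exact hcop
  solv := Or.inl inferInstance

/-- If `c` acts coprimely on `Q`, `M ≤ Q` is `c`-invariant and contains `C_Q(c)`, then every
`c`-invariant coset `zM` is trivial. -/
theorem mem_of_conj_coset_fixed {Q M : Subgroup G} {c : G} (hMQ : M ≤ Q)
    (hcQ : c ∈ normalizer (Q : Set G)) (hcM : c ∈ normalizer (M : Set G))
    (hcop : (orderOf c).Coprime (Nat.card Q)) (hCM : Q ⊓ centralizer {c} ≤ M) {z : G}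
    (hz : z ∈ Q) (hfix : z⁻¹ * (c * z * c⁻¹) ∈ M) : z ∈ M := by
  have hpow : ∀ k : ℕ, z⁻¹ * (c ^ k * z * (c ^ k)⁻¹) ∈ M := by
    intro k
    induction k with
    | zero => simp
    | succ k ih =>
      have h1 : z⁻¹ * (c ^ (k + 1) * z * (c ^ (k + 1))⁻¹) =
          (z⁻¹ * (c * z * c⁻¹)) * (c * (z⁻¹ * (c ^ k * z * (c ^ k)⁻¹)) * c⁻¹) := by
        rw [pow_succ']; group
      rw [h1]
      exact mul_mem hfix ((mem_normalizer_iff.mp hcM _).mp ih)
  have hall : ∀ a ∈ zpowers c, z⁻¹ * (a * z * a⁻¹) ∈ M := by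
    intro a ha
    rw [← mem_powers_iff_mem_zpowers, Submonoid.mem_powers_iff] at ha
    obtain ⟨k, rfl⟩ := ha
    exact hpow k
  obtain ⟨u, hu, hzu⟩ := (coprimeAct_zpowers hcQ hcop).exists_mul_mem_centralizer hMQ
    ((zpowers_le).mpr hcM) z hz hall
  have h2 : z * u ∈ M := by
    apply hCM
    refine mem_inf.mpr ⟨(mem_inf.mp hzu).1, ?_⟩
    exact centralizer_le (by simp) (mem_inf.mp hzu).2
  have h3 : z = (z * u) * u⁻¹ := by group
  rw [h3]
  exact mul_mem h2 (inv_mem hu)

end FixedCoset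

section GenC

/-- `⟨C_K(a) : a ∈ A, a ≠ 1⟩`. -/
def genC (A K : Subgroup G) : Subgroup G :=
  ⨆ a : {a : G // a ∈ A ∧ a ≠ 1}, K ⊓ centralizer {a.1}

theorem genC_mono (A : Subgroup G) {K L : Subgroup G} (h : K ≤ L) : genC A K ≤ genC A L :=
  iSup_mono fun _ => inf_le_inf_right _ h

theorem genC_le (A K : Subgroup G) : genC A K ≤ K :=
  iSup_le fun _ => inf_le_left

theorem inf_centralizer_le_genC {A K : Subgroup G} {a : G} (ha : a ∈ A) (ha1 : a ≠ 1) :
    K ⊓ centralizer {a} ≤ genC A K :=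
  le_iSup (fun a : {a : G // a ∈ A ∧ a ≠ 1} => K ⊓ centralizer {a.1}) ⟨a, ha, ha1⟩

theorem mem_normalizer_centralizer_singleton {g c : G} (h : g * c = c * g) :
    g ∈ normalizer ((centralizer {c} : Subgroup G) : Set G) := by
  have hg : Commute g c := h
  rw [mem_normalizer_iff]
  intro x
  rw [mem_centralizer_singleton_iff, mem_centralizer_singleton_iff]
  constructor
  · intro hx
    have hx' : Commute x c := hx
    exact (hg.mul_left hx').mul_left hg.inv_left
  · intro hx
    have hx' : Commute (g * x * g⁻¹) c := hx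
    have h2 : Commute (g⁻¹ * (g * x * g⁻¹) * g) c := (hg.inv_left.mul_left hx').mul_left hg
    have h3 : g⁻¹ * (g * x * g⁻¹) * g = x := by group
    rw [h3] at h2
    exact h2

end GenC

section QGroup

variable [Finite G]

theorem pow_eq_one_of_fixedPointFree' {V : Type*} [Group V] (hV : ∀ v w : V, v * w = w * v)
    {p : ℕ} [hp : Fact p.Prime]
    (σ τ : Monoid.End V) (hc : Commute σ τ) (hσ : σ ^ p = 1)
    (hτ : τ ^ p = 1) (hfτ : ∀ v, τ v = v → v = 1)
    (hfσ : ∀ j : ℕ, ∀ v, (σ * τ ^ j) v = v → v = 1) (v : V) : v ^ p = 1 := by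
  let _ : CommGroup V := { ‹Group V› with mul_comm := hV }
  exact pow_eq_one_of_fixedPointFree σ τ hc hσ hτ hfτ hfσ v

omit [Finite G] in
theorem commutator_self_le_normalizer' {A Q : Subgroup G} (h : A ≤ normalizer (Q : Set G)) :
    A ≤ normalizer ((⁅Q, Q⁆ : Subgroup G) : Set G) := by
  intro g hg
  have h1 := mem_normalizer_iff_map_conj_eq.mp (h hg)
  rw [mem_normalizer_iff_map_conj_eq, map_commutator, h1]

omit [Finite G] in
theorem commutator_self_lt {Q : Subgroup G} (hs : Group.IsSolvable ↥Q) (hQ : Q ≠ ⊥) :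
    ⁅Q, Q⁆ < Q := by
  rw [← Subgroup.nontrivial_iff_ne_bot] at hQ
  have h1 := Group.IsSolvable.commutator_lt_top_of_nontrivial ↥Q
  have h2 : (commutator ↥Q).map Q.subtype < (⊤ : Subgroup ↥Q).map Q.subtype :=
    Subgroup.map_subtype_lt_map_subtype.mpr h1
  rw [Subgroup.map_subtype_commutator, ← MonoidHom.range_eq_map, Q.range_subtype] at h2
  exact h2

/-- Key step of coprime generation: a nontrivial `q`-group `Q` acted on by a noncyclic abelian
group `A` of exponent `p ≠ q` has an `A`-invariant proper subgroup `M ⊇ [Q,Q]` and some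
`c ∈ A#` with `Q = C_Q(c) M`. -/
theorem exists_invariant_sup_centralizer {p q : ℕ} [hp : Fact p.Prime] [hq : Fact q.Prime]
    (hpq : p ≠ q)
    {A : Subgroup G} (hcomm : ∀ x ∈ A, ∀ y ∈ A, x * y = y * x) (hexp : ∀ x ∈ A, x ^ p = 1)
    {a b : G} (ha : a ∈ A) (hb : b ∈ A) (hab : a ∉ zpowers b) (hb1 : b ≠ 1)
    {Q : Subgroup G} (hQ : IsPGroup q Q) (hAQ : A ≤ normalizer (Q : Set G)) (hbot : Q ≠ ⊥) :
    ∃ M : Subgroup G, ⁅Q, Q⁆ ≤ M ∧ M < Q ∧ A ≤ normalizer (M : Set G) ∧
      ∃ c ∈ A, c ≠ 1 ∧ (Q ⊓ centralizer {c}) ⊔ M = Q := by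
  have hsolv : Group.IsSolvable ↥Q := by
    have := hQ.isNilpotent
    infer_instance
  have hlt := commutator_self_lt hsolv hbot
  let P : Subgroup G → Prop := fun M => ⁅Q, Q⁆ ≤ M ∧ M < Q ∧ A ≤ normalizer (M : Set G)
  have hP0 : P ⁅Q, Q⁆ := ⟨le_rfl, hlt, commutator_self_le_normalizer' hAQ⟩
  obtain ⟨M, -, ⟨hQM, hMQ, hAM⟩, hmax⟩ := Finite.exists_le_maximal hP0
  by_cases hcase : ∃ c ∈ A, c ≠ 1 ∧ ¬ (Q ⊓ centralizer {c} ≤ M)
  · obtain ⟨c, hcA, hc1, hcM⟩ := hcase
    have hsup : (Q ⊓ centralizer {c}) ⊔ M = Q := by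
      by_contra hne
      have hlt' : (Q ⊓ centralizer {c}) ⊔ M < Q :=
        lt_of_le_of_ne (sup_le inf_le_left hMQ.le) hne
      have hP1 : P ((Q ⊓ centralizer {c}) ⊔ M) := by
        refine ⟨hQM.trans le_sup_right, hlt', ?_⟩
        intro g hg
        apply normalizer_inf_normalizer_le_normalizer_sup
        refine mem_inf.mpr ⟨?_, hAM hg⟩
        apply inf_normalizer_le_normalizer_inf
        exact mem_inf.mpr ⟨hAQ hg, mem_normalizer_centralizer_singleton (hcomm g hg c hcA)⟩
      exact hcM (le_sup_left.trans (hmax hP1 le_sup_right))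
    exact ⟨M, hQM, hMQ, hAM, c, hcA, hc1, hsup⟩
  · push Not at hcase
    exfalso
    have hMn : Q ≤ normalizer (M : Set G) := by
      apply Helper1.le_normalizer_of_forall_conj_mem
      intro x hx m hm
      have : x * m * x⁻¹ = ⁅x, m⁆ * m := by rw [commutatorElement_def]; group
      rw [this]
      exact mul_mem (hQM (commutator_mem_commutator hx (hMQ.le hm))) hm
    have hnorm : (M.subgroupOf Q).Normal :=
      (normal_subgroupOf_iff_le_normalizer hMQ.le).mpr hMn
    have hAN : A ≤ normalizer (Q : Set G) ⊓ normalizer (M : Set G) := le_inf hAQ hAM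
    have hVcomm : ∀ v w : ↥Q ⧸ M.subgroupOf Q, v * w = w * v := by
      intro v w
      induction v using QuotientGroup.induction_on with
      | H x =>
      induction w using QuotientGroup.induction_on with
      | H y =>
      rw [← QuotientGroup.mk_mul, ← QuotientGroup.mk_mul, QuotientGroup.eq, mem_subgroupOf]
      have : (((x * y)⁻¹ * (y * x) : ↥Q) : G) = ⁅(y : G)⁻¹, (x : G)⁻¹⁆ := by
        rw [commutatorElement_def]; push_cast; group
      rw [this]
      exact hQM (commutator_mem_commutator (inv_mem y.2) (inv_mem x.2))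
    obtain ⟨k, hk⟩ := IsPGroup.iff_card.mp hQ
    have hcop : p.Coprime (Nat.card Q) := by
      rw [hk]
      exact Nat.Coprime.pow_right _ ((Nat.coprime_primes hp.out hq.out).mpr hpq)
    -- fixed-point-freeness
    have hfree : ∀ c : ↥(normalizer (Q : Set G) ⊓ normalizer (M : Set G)), (c : G) ∈ A →
        (c : G) ≠ 1 → ∀ v, quotAct Q M c v = v → v = 1 := by
      intro c hcA hc1 v hv
      induction v using QuotientGroup.induction_on with
      | H z =>
      rw [quotAct_mk, QuotientGroup.eq, mem_subgroupOf] at hv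
      rw [QuotientGroup.eq_one_iff, mem_subgroupOf]
      have hcopc : (orderOf (c : G)).Coprime (Nat.card Q) :=
        Nat.Coprime.coprime_dvd_left (orderOf_dvd_of_pow_eq_one (hexp c hcA)) hcop
      apply mem_of_conj_coset_fixed hMQ.le (hAQ hcA) (hAM hcA) hcopc (hcase c hcA hc1) z.2
      have h1 : (z : G)⁻¹ * ((c : G) * z * (c : G)⁻¹) =
          ((((conjEnd Q c (mem_inf.mp c.2).1) z)⁻¹ * z : ↥Q) : G)⁻¹ := by
        push_cast
        rw [coe_conjEnd]
        group
      rw [h1]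
      exact inv_mem hv
    have hVp : ∀ v : ↥Q ⧸ M.subgroupOf Q, v ^ p = 1 := by
      intro v
      have hcab : Commute (⟨a, hAN ha⟩ : ↥(normalizer (Q : Set G) ⊓ normalizer (M : Set G)))
          ⟨b, hAN hb⟩ := by
        apply Subtype.ext
        exact hcomm a ha b hb
      apply pow_eq_one_of_fixedPointFree' hVcomm (quotAct Q M ⟨a, hAN ha⟩)
        (quotAct Q M ⟨b, hAN hb⟩) (hcab.map _)
      · rw [← map_pow]
        have : (⟨a, hAN ha⟩ : ↥(normalizer (Q : Set G) ⊓ normalizer (M : Set G))) ^ p = 1 :=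
          Subtype.ext (by push_cast; exact hexp a ha)
        rw [this, map_one]
      · rw [← map_pow]
        have : (⟨b, hAN hb⟩ : ↥(normalizer (Q : Set G) ⊓ normalizer (M : Set G))) ^ p = 1 :=
          Subtype.ext (by push_cast; exact hexp b hb)
        rw [this, map_one]
      · exact hfree ⟨b, hAN hb⟩ hb hb1
      · intro j
        rw [← map_pow, ← map_mul]
        apply hfree
        · push_cast
          exact mul_mem ha (pow_mem hb j)
        · push_cast
          intro h1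
          apply hab
          have : a = (b ^ j)⁻¹ := eq_inv_of_mul_eq_one_left h1
          rw [this]
          exact inv_mem (pow_mem (mem_zpowers b) j)
    have hQM' : Q ≤ M := by
      intro x hx
      have h1 := hVp (QuotientGroup.mk ⟨x, hx⟩)
      rw [← QuotientGroup.mk_pow, QuotientGroup.eq_one_iff, mem_subgroupOf] at h1
      have h2 : (p).Coprime (orderOf x) := by
        have : orderOf x ∣ Nat.card Q := by
          have := orderOf_dvd_natCard (⟨x, hx⟩ : ↥Q)
          rwa [Subgroup.orderOf_mk] at this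
        exact Nat.Coprime.coprime_dvd_right this hcop
      obtain ⟨m, hm⟩ := exists_pow_eq_self_of_coprime h2
      rw [← hm]
      exact pow_mem (by simpa using h1) m
    exact absurd hQM' (not_le_of_gt hMQ)


/-- Coprime generation for `q`-groups: a noncyclic elementary abelian `p`-group `A` acting on a
`q`-group `Q` (`q ≠ p`) satisfies `Q = ⟨C_Q(a) : a ∈ A#⟩`. -/
theorem qgroup_le_genC {p q : ℕ} [hp : Fact p.Prime] [hq : Fact q.Prime] (hpq : p ≠ q)
    {A : Subgroup G} (hcomm : ∀ x ∈ A, ∀ y ∈ A, x * y = y * x) (hexp : ∀ x ∈ A, x ^ p = 1)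
    {a b : G} (ha : a ∈ A) (hb : b ∈ A) (hab : a ∉ zpowers b) (hb1 : b ≠ 1) :
    ∀ (n : ℕ) (Q : Subgroup G), Nat.card Q = n → IsPGroup q Q → A ≤ normalizer (Q : Set G) →
      Q ≤ genC A Q := by
  intro n
  induction n using Nat.strong_induction_on with
  | _ n ih =>
  intro Q hn hQ hAQ
  by_cases hbot : Q = ⊥
  · rw [hbot]; exact bot_le
  obtain ⟨M, -, hMQ, hAM, c, hcA, hc1, hsup⟩ :=
    exists_invariant_sup_centralizer hpq hcomm hexp ha hb hab hb1 hQ hAQ hbot
  have hM' : M ≤ genC A M :=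
    ih (Nat.card M) (by rw [← hn]; exact Helper1.card_lt_of_lt hMQ) M rfl (hQ.to_le hMQ.le) hAM
  calc Q = (Q ⊓ centralizer {c}) ⊔ M := hsup.symm
    _ ≤ genC A Q := sup_le (inf_centralizer_le_genC hcA hc1) (hM'.trans (genC_mono A hMQ.le))

end QGroup

section General

variable [Finite G]

omit [Finite G] in
theorem isPGroup_of_exponent {p : ℕ} {A : Subgroup G} (hexp : ∀ x ∈ A, x ^ p = 1) :
    IsPGroup p A := by
  intro x
  refine ⟨1, ?_⟩
  rw [pow_one]
  exact Subtype.ext (by push_cast; exact hexp x x.2)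

/-- An elementary abelian `p`-group acting on a `p'`-group acts coprimely. -/
theorem coprimeAct_of_exponent {p : ℕ} [hp : Fact p.Prime] {A K : Subgroup G}
    (hcomm : ∀ x ∈ A, ∀ y ∈ A, x * y = y * x) (hexp : ∀ x ∈ A, x ^ p = 1)
    (hAK : A ≤ normalizer (K : Set G)) (hpK : ¬ p ∣ Nat.card K) : Helper1.CoprimeAct A K where
  norm := hAK
  cop := by
    obtain ⟨k, hk⟩ := IsPGroup.iff_card.mp (isPGroup_of_exponent hexp)
    rw [hk]
    exact Nat.Coprime.pow_left _ ((Nat.Prime.coprime_iff_not_dvd hp.out).mpr hpK)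
  solv := Or.inl (Group.isSolvable_of_comm (fun x y => Subtype.ext (hcomm x x.2 y y.2)))

/-- **Coprime generation**: a noncyclic elementary abelian `p`-group `A` normalizing a
`p'`-group `K` satisfies `K = ⟨C_K(a) : a ∈ A#⟩`. Noncyclicity is expressed by `a, b ∈ A`,
`b ≠ 1`, `a ∉ ⟨b⟩`. -/
theorem le_genC_of_noncyclic {p : ℕ} [hp : Fact p.Prime] {A K : Subgroup G}
    (hcomm : ∀ x ∈ A, ∀ y ∈ A, x * y = y * x) (hexp : ∀ x ∈ A, x ^ p = 1)
    (hAK : A ≤ normalizer (K : Set G)) (hpK : ¬ p ∣ Nat.card K)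
    {a b : G} (ha : a ∈ A) (hb : b ∈ A) (hab : a ∉ zpowers b) (hb1 : b ≠ 1) :
    K ≤ genC A K := by
  suffices hcard : Nat.card K ∣ Nat.card (genC A K) by
    have : genC A K = K :=
      Subgroup.eq_of_le_of_card_ge (genC_le A K) (Nat.le_of_dvd Nat.card_pos hcard)
    exact this.ge
  rw [← Nat.factorization_prime_le_iff_dvd Nat.card_pos.ne' Nat.card_pos.ne']
  intro q hq
  have : Fact q.Prime := ⟨hq⟩
  rw [← hq.pow_dvd_iff_le_factorization Nat.card_pos.ne']
  by_cases hqK : q ∣ Nat.card K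
  · have hpq : p ≠ q := by
      rintro rfl
      exact hpK hqK
    obtain ⟨P, hP⟩ := (coprimeAct_of_exponent hcomm hexp hAK hpK).exists_invariant_sylow q
    have hQp : IsPGroup q ((P : Subgroup K).map K.subtype) := P.2.map _
    have hQcard : Nat.card ((P : Subgroup K).map K.subtype) = q ^ (Nat.card K).factorization q := by
      rw [← P.card_eq_multiplicity]
      exact Nat.card_congr
        ((P : Subgroup K).equivMapOfInjective _ K.subtype_injective).symm.toEquiv
    rw [← hQcard]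
    apply Subgroup.card_dvd_of_le
    exact (qgroup_le_genC hpq hcomm hexp ha hb hab hb1 _ _ rfl hQp hP).trans
      (genC_mono A (Subgroup.map_subtype_le _))
  · rw [Nat.factorization_eq_zero_of_not_dvd hqK, pow_zero]
    exact one_dvd _

end General

section Hyperplane

variable [Finite G]

/-- The family of "hyperplanes or everything" of `E`: subgroups `D ≤ E` with `E = D ⟨e⟩`. -/
def IsCohyper (E D : Subgroup G) : Prop := D ≤ E ∧ ∃ e ∈ E, D ⊔ zpowers e = E

theorem card_le_of_isCohyper {p : ℕ} {E D : Subgroup G}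
    (hcomm : ∀ x ∈ E, ∀ y ∈ E, x * y = y * x) (hexp : ∀ x ∈ E, x ^ p = 1) (hp : 0 < p)
    (h : IsCohyper E D) : Nat.card E ≤ p * Nat.card D := by
  obtain ⟨hDE, e, he, hsup⟩ := h
  have hc : ∀ a ∈ D, ∀ b ∈ zpowers e, a * b = b * a := fun a ha b hb =>
    hcomm a (hDE ha) b ((zpowers_le.mpr he) hb)
  have h1 : Nat.card ↥(D ⊔ zpowers e) ≤ Nat.card (↥D × ↥(zpowers e)) := by
    rw [← Helper10.prodHom_range D (zpowers e) hc]
    exact Nat.card_le_card_of_surjective _ (MonoidHom.rangeRestrict_surjective _)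
  rw [hsup, Nat.card_prod, Nat.card_zpowers] at h1
  have h2 : orderOf e ≤ p := Nat.le_of_dvd hp (orderOf_dvd_of_pow_eq_one (hexp e he))
  calc Nat.card E ≤ Nat.card D * orderOf e := h1
    _ ≤ Nat.card D * p := Nat.mul_le_mul_left _ h2
    _ = p * Nat.card D := mul_comm _ _

/-- **Hyperplane generation**: an elementary abelian `p`-group `E` normalizing a `p'`-group `X`
satisfies `X = ⟨C_X(D) : D ≤ E of index at most p⟩`. -/
theorem le_iSup_inf_centralizer_cohyper {p : ℕ} [hp : Fact p.Prime] {E : Subgroup G}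
    (hcomm : ∀ x ∈ E, ∀ y ∈ E, x * y = y * x) (hexp : ∀ x ∈ E, x ^ p = 1) :
    ∀ (n : ℕ) (X : Subgroup G), Nat.card X = n → E ≤ normalizer (X : Set G) →
      ¬ p ∣ Nat.card X →
      X ≤ ⨆ D : {D : Subgroup G // IsCohyper E D}, X ⊓ centralizer (D.1 : Set G) := by
  intro n
  induction n using Nat.strong_induction_on with
  | _ n ih =>
  intro X hn hEX hpX
  set C : Subgroup G := E ⊓ centralizer (X : Set G) with hC
  by_cases hcase : ∃ e ∈ E, C ⊔ zpowers e = E
  · have hCD : IsCohyper E C := ⟨inf_le_left, hcase⟩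
    have h1 : X ≤ X ⊓ centralizer (C : Set G) := by
      refine le_inf le_rfl ?_
      rw [le_centralizer_iff]
      exact inf_le_right
    exact h1.trans (le_iSup (fun D : {D : Subgroup G // IsCohyper E D} =>
      X ⊓ centralizer (D.1 : Set G)) ⟨C, hCD⟩)
  · push Not at hcase
    have hCE : C ≤ E := inf_le_left
    -- b ∈ E \ C
    have hCne : C ≠ E := by
      have := hcase 1 (one_mem E)
      rwa [zpowers_one_eq_bot, sup_bot_eq] at this
    obtain ⟨b, hbE, hbC⟩ : ∃ b ∈ E, b ∉ C := by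
      by_contra hcon
      push Not at hcon
      exact hCne (le_antisymm hCE hcon)
    have hCb : C ⊔ zpowers b ≤ E := sup_le hCE (zpowers_le.mpr hbE)
    obtain ⟨a, haE, haC⟩ : ∃ a ∈ E, a ∉ C ⊔ zpowers b := by
      by_contra hcon
      push Not at hcon
      exact hcase b hbE (le_antisymm hCb hcon)
    have hb1 : b ≠ 1 := by
      rintro rfl
      exact hbC (one_mem C)
    have hab : a ∉ zpowers b := fun h => haC (mem_sup_right h)
    set A₀ : Subgroup G := zpowers a ⊔ zpowers b with hA₀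
    have hA₀E : A₀ ≤ E := sup_le (zpowers_le.mpr haE) (zpowers_le.mpr hbE)
    have hgen := le_genC_of_noncyclic (A := A₀) (K := X)
      (fun x hx y hy => hcomm x (hA₀E hx) y (hA₀E hy)) (fun x hx => hexp x (hA₀E hx))
      (hA₀E.trans hEX) hpX (mem_sup_left (mem_zpowers a)) (mem_sup_right (mem_zpowers b)) hab hb1
    refine hgen.trans (iSup_le ?_)
    rintro ⟨c, hcA₀, hc1⟩
    -- c ∉ C
    have hcE : c ∈ E := hA₀E hcA₀
    have hcC : c ∉ C := by
      intro hcC
      obtain ⟨x, hx, y, hy, hxy⟩ := (Helper10.mem_sup_of_commute (zpowers a) (zpowers b)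
        (fun x hx y hy => hcomm x ((zpowers_le.mpr haE) hx) y ((zpowers_le.mpr hbE) hy))).mp hcA₀
      rw [← mem_powers_iff_mem_zpowers, Submonoid.mem_powers_iff] at hx hy
      obtain ⟨i, rfl⟩ := hx
      obtain ⟨j, rfl⟩ := hy
      by_cases hi : p ∣ i
      · have hai : a ^ i = 1 := by
          obtain ⟨m, rfl⟩ := hi
          rw [pow_mul, hexp a haE, one_pow]
        rw [hai, one_mul] at hxy
        have hj : ¬ p ∣ j := by
          rintro ⟨m, rfl⟩
          apply hc1
          rw [hxy, pow_mul, hexp b hbE, one_pow]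
        have hcop : j.Coprime (orderOf b) :=
          Nat.Coprime.coprime_dvd_right (orderOf_dvd_of_pow_eq_one (hexp b hbE))
            ((Nat.Prime.coprime_iff_not_dvd hp.out).mpr hj).symm
        obtain ⟨m, hm⟩ := exists_pow_eq_self_of_coprime hcop
        apply hbC
        rw [← hm, ← hxy]
        exact pow_mem hcC m
      · have hcop : i.Coprime (orderOf a) :=
          Nat.Coprime.coprime_dvd_right (orderOf_dvd_of_pow_eq_one (hexp a haE))
            ((Nat.Prime.coprime_iff_not_dvd hp.out).mpr hi).symm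
        obtain ⟨m, hm⟩ := exists_pow_eq_self_of_coprime hcop
        apply haC
        rw [← hm]
        apply pow_mem
        have : a ^ i = c * (b ^ j)⁻¹ := by rw [hxy]; group
        rw [this]
        exact mul_mem (mem_sup_left hcC) (mem_sup_right (inv_mem (pow_mem (mem_zpowers b) j)))
    -- X_c < X
    have hlt : X ⊓ centralizer {c} < X := by
      refine lt_of_le_of_ne inf_le_left ?_
      intro heq
      apply hcC
      refine mem_inf.mpr ⟨hcE, ?_⟩
      rw [mem_centralizer_iff]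
      intro x hx
      have hx' : x ∈ X ⊓ centralizer {c} := by rw [heq]; exact hx
      exact mem_centralizer_singleton_iff.mp (mem_inf.mp hx').2
    have hnormc : E ≤ normalizer ((X ⊓ centralizer {c} : Subgroup G) : Set G) := by
      intro g hg
      apply inf_normalizer_le_normalizer_inf
      exact mem_inf.mpr ⟨hEX hg, mem_normalizer_centralizer_singleton (hcomm g hg c hcE)⟩
    have hpc : ¬ p ∣ Nat.card ↥(X ⊓ centralizer {c}) := fun h =>
      hpX (h.trans (Subgroup.card_dvd_of_le inf_le_left))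
    have hIH := ih (Nat.card ↥(X ⊓ centralizer {c})) (by rw [← hn]; exact Helper1.card_lt_of_lt hlt)
      (X ⊓ centralizer {c}) rfl hnormc hpc
    refine hIH.trans (iSup_mono fun D => ?_)
    exact inf_le_inf_right _ inf_le_left

end Hyperplane

section Packaged

variable [Finite G]

omit [Finite G] in
theorem exists_noncyclic_pair {p : ℕ} {A : Subgroup G} (hexp : ∀ x ∈ A, x ^ p = 1) (hp : 0 < p)
    (hcard : p < Nat.card A) : ∃ a ∈ A, ∃ b ∈ A, a ∉ zpowers b ∧ b ≠ 1 := by
  have hne : A ≠ ⊥ := by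
    rintro rfl
    rw [Subgroup.card_bot] at hcard
    omega
  obtain ⟨b, hb1⟩ := (Subgroup.ne_bot_iff_exists_ne_one.mp hne)
  have hbA : (b : G) ∈ A := b.2
  have hle : zpowers (b : G) ≤ A := zpowers_le.mpr hbA
  have hcz : Nat.card (zpowers (b : G)) ≤ p := by
    rw [Nat.card_zpowers]
    exact Nat.le_of_dvd hp (orderOf_dvd_of_pow_eq_one (hexp b hbA))
  have hneq : zpowers (b : G) ≠ A := by
    intro h
    rw [h] at hcz
    omega
  obtain ⟨a, haA, ha⟩ : ∃ a ∈ A, a ∉ zpowers (b : G) := by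
    by_contra hcon
    push Not at hcon
    exact hneq (le_antisymm hle hcon)
  exact ⟨a, haA, b, hbA, ha, fun h => hb1 (Subtype.ext h)⟩

/-- **Coprime generation** (cardinality form): an abelian group `A` of exponent `p` and order
`> p` normalizing a `p'`-group `K` satisfies `K = ⟨C_K(a) : a ∈ A#⟩`. -/
theorem le_genC_of_card {p : ℕ} [hp : Fact p.Prime] {A K : Subgroup G}
    (hcomm : ∀ x ∈ A, ∀ y ∈ A, x * y = y * x) (hexp : ∀ x ∈ A, x ^ p = 1)
    (hAK : A ≤ normalizer (K : Set G)) (hpK : ¬ p ∣ Nat.card K) (hcard : p < Nat.card A) :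
    K ≤ genC A K := by
  obtain ⟨a, ha, b, hb, hab, hb1⟩ := exists_noncyclic_pair hexp hp.out.pos hcard
  exact le_genC_of_noncyclic hcomm hexp hAK hpK ha hb hab hb1

omit [Finite G] in
theorem isElementaryAbelian_comm {p : ℕ} {A : Subgroup G}
    (hA : Cfsg.IsElementaryAbelian p A) : ∀ x ∈ A, ∀ y ∈ A, x * y = y * x := by
  intro x hx y hy
  have := hA.1
  exact congrArg Subtype.val (_root_.mul_comm' (⟨x, hx⟩ : ↥A) ⟨y, hy⟩)

/-- Coprime generation for `Cfsg.IsElementaryAbelian`. -/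
theorem le_genC_of_isElementaryAbelian {p : ℕ} [hp : Fact p.Prime] {A K : Subgroup G}
    (hA : Cfsg.IsElementaryAbelian p A)
    (hAK : A ≤ normalizer (K : Set G)) (hpK : ¬ p ∣ Nat.card K) (hcard : p < Nat.card A) :
    K ≤ genC A K :=
  le_genC_of_card (isElementaryAbelian_comm hA) hA.2 hAK hpK hcard

/-- Hyperplane generation for `Cfsg.IsElementaryAbelian`. -/
theorem le_iSup_cohyper_of_isElementaryAbelian {p : ℕ} [hp : Fact p.Prime] {E X : Subgroup G}
    (hE : Cfsg.IsElementaryAbelian p E)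
    (hEX : E ≤ normalizer (X : Set G)) (hpX : ¬ p ∣ Nat.card X) :
    X ≤ ⨆ D : {D : Subgroup G // IsCohyper E D}, X ⊓ centralizer (D.1 : Set G) :=
  le_iSup_inf_centralizer_cohyper (isElementaryAbelian_comm hE) hE.2 _ X rfl hEX hpX

end Packaged


section RelIndexForm

variable [Finite G]

/-- A cohyper subgroup has relative index at most `p`. -/
theorem relIndex_le_of_isCohyper {p : ℕ} {E D : Subgroup G}
    (hcomm : ∀ x ∈ E, ∀ y ∈ E, x * y = y * x) (hexp : ∀ x ∈ E, x ^ p = 1) (hp : 0 < p)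
    (h : IsCohyper E D) : D.relIndex E ≤ p := by
  have h1 := card_le_of_isCohyper hcomm hexp hp h
  have h2 : Nat.card D * D.relIndex E = Nat.card E := Helper1.card_mul_relIndex_of_le h.1
  rw [← h2, mul_comm p] at h1
  exact Nat.le_of_mul_le_mul_left h1 Nat.card_pos

/-- Hyperplane generation, relative index form: an elementary abelian `p`-group `E` normalizing a
`p'`-group `X` satisfies `X = ⟨C_X(D) : D ≤ E, |E : D| ≤ p⟩`. -/
theorem le_iSup_relIndex_le_of_isElementaryAbelian {p : ℕ} [hp : Fact p.Prime] {E X : Subgroup G}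
    (hE : Cfsg.IsElementaryAbelian p E)
    (hEX : E ≤ normalizer (X : Set G)) (hpX : ¬ p ∣ Nat.card X) :
    X ≤ ⨆ D : {D : Subgroup G // D ≤ E ∧ D.relIndex E ≤ p}, X ⊓ centralizer (D.1 : Set G) := by
  refine (le_iSup_cohyper_of_isElementaryAbelian hE hEX hpX).trans (iSup_le ?_)
  rintro ⟨D, hD⟩
  exact le_iSup (fun D : {D : Subgroup G // D ≤ E ∧ D.relIndex E ≤ p} =>
    X ⊓ centralizer (D.1 : Set G))
    ⟨D, hD.1, relIndex_le_of_isCohyper (isElementaryAbelian_comm hE) hE.2 hp.out.pos hD⟩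

end RelIndexForm

end Cfsg.Agent.Lib.Helper12
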