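import Mathlib
import Cfsg.Agent.Lib.Helper1.Frattini
import Cfsg.Agent.Lib.Helper1.MaxClassTwo

/-!
# Automorphisms of `p`-groups of order prime to `p`

* `exists_prime_orderOf_mulAut`: if `Aut(P)` is not a `p`-group it has an element of prime order `q ≠ p`.
* `eq_one_of_forall_mem_frattini` (Burnside): an automorphism of prime order `q ≠ p` of a finite `p`-group
  acting trivially on `P / Φ(P)` is trivial.
* `not_mem_frattini_of_index_four`: if `|P : Φ(P)| = 4` (so `p = 2`), an automorphism of odd prime order
  fixes no nontrivial coset of `Φ(P)`.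
-/

set_option autoImplicit false

namespace Cfsg.Agent.Lib.Helper12

variable {P : Type*} [Group P] [Finite P]

/-- if `Aut(P)` is not a `p`-group, some automorphism has prime order `q ≠ p` -/
theorem exists_prime_orderOf_mulAut {p : ℕ} [hp : Fact p.Prime] (h : ¬ IsPGroup p (MulAut P)) :
    ∃ (q : ℕ) (α : MulAut P), q.Prime ∧ q ≠ p ∧ orderOf α = q := by
  by_contra hcon
  apply h
  have hcard : ∀ q : ℕ, q.Prime → q ∣ Nat.card (MulAut P) → q = p := by
    intro q hq hdvd
    by_contra hne
    haveI : Fact q.Prime := ⟨hq⟩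
    obtain ⟨α, hα⟩ := exists_prime_orderOf_dvd_card' q hdvd
    exact hcon ⟨q, α, hq, hne, hα⟩
  have hpos : Nat.card (MulAut P) ≠ 0 := Nat.card_pos.ne'
  have : Nat.card (MulAut P) = p ^ (Nat.card (MulAut P)).primeFactorsList.length := by
    apply Nat.eq_prime_pow_of_unique_prime_dvd hpos
    intro q hq hdvd
    exact hcard q hq hdvd
  exact IsPGroup.of_card this

section Burnside

variable {p q : ℕ} [hp : Fact p.Prime] [hq : Fact q.Prime]

omit [Finite P] hp hq in
/-- every power of `α` acts trivially modulo the characteristic subgroup `Φ(P)` if `α` does -/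
theorem inv_mul_apply_mem_of_mem_zpowers {N : Subgroup P} [hN : N.Characteristic] {α : MulAut P}
    (hα : ∀ x : P, x⁻¹ * α x ∈ N) {β : MulAut P} (hβ : β ∈ Subgroup.zpowers α) :
    ∀ x : P, x⁻¹ * β x ∈ N := by
  have hinv : ∀ x : P, x⁻¹ * α⁻¹ x ∈ N := by
    intro x
    have h1 := hα (α⁻¹ x)
    have h2 : α (α⁻¹ x) = x := by simp
    rw [h2] at h1
    have h3 := N.inv_mem h1
    simpa using h3
  rw [Subgroup.zpowers_eq_closure] at hβ
  induction hβ using Subgroup.closure_induction with
  | mem γ hγ =>
    rw [Set.mem_singleton_iff] at hγ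
    subst hγ
    exact hα
  | one => intro x; simp
  | mul γ δ _ _ hγ hδ =>
    intro x
    have h1 := hδ x
    have h2 := hγ (δ x)
    have : x⁻¹ * (γ * δ) x = (x⁻¹ * δ x) * ((δ x)⁻¹ * γ (δ x)) := by
      rw [MulAut.mul_apply]; group
    rw [this]
    exact N.mul_mem h1 h2
  | inv γ _ hγ =>
    intro x
    have h1 := hγ (γ⁻¹ x)
    have h2 : γ (γ⁻¹ x) = x := by simp
    rw [h2] at h1
    have h3 := N.inv_mem h1
    simpa using h3

/-- **Burnside**: an automorphism of prime order `q ≠ p` of a finite `p`-group that is trivial on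
`P / Φ(P)` is trivial. -/
theorem not_forall_mem_frattini (hP : IsPGroup p P) (hpq : q ≠ p) {α : MulAut P}
    (hα : orderOf α = q) : ¬ ∀ x : P, x⁻¹ * α x ∈ frattini P := by
  intro hfix
  classical
  -- the cyclic group generated by `α` is a `q`-group acting on `P`
  set S := Subgroup.zpowers α with hS
  have hSq : IsPGroup q ↥S := by
    apply IsPGroup.of_card (n := 1)
    rw [pow_one, Nat.card_zpowers, hα]
  have hSfix : ∀ s : ↥S, ∀ x : P, x⁻¹ * (s : MulAut P) x ∈ frattini P :=
    fun s => inv_mul_apply_mem_of_mem_zpowers hfix s.2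
  -- every coset of `Φ(P)` contains a fixed point
  have hcoset : ∀ x : P, ∃ y : P, x⁻¹ * y ∈ frattini P ∧ α y = y := by
    intro x
    let A : SubMulAction ↥S P :=
      { carrier := {y | x⁻¹ * y ∈ frattini P}
        smul_mem' := by
          intro s y hy
          show x⁻¹ * (s : MulAut P) y ∈ frattini P
          have h1 := hSfix s y
          have : x⁻¹ * (s : MulAut P) y = (x⁻¹ * y) * (y⁻¹ * (s : MulAut P) y) := by group
          rw [this]
          exact (frattini P).mul_mem hy h1 }
    have hcardA : Nat.card ↥A = Nat.card ↥(frattini P) := by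
      apply Nat.card_congr
      refine ⟨fun y => ⟨x⁻¹ * (y : P), y.2⟩, fun f => ⟨x * (f : P), ?_⟩, ?_, ?_⟩
      · show x⁻¹ * (x * (f : P)) ∈ frattini P
        rw [inv_mul_cancel_left]; exact f.2
      · intro y; apply Subtype.ext; simp
      · intro f; apply Subtype.ext; simp
    have hmod := hSq.card_modEq_card_fixedPoints ↥A
    obtain ⟨k, hk⟩ := IsPGroup.iff_card.mp (hP.to_subgroup (frattini P))
    rw [hcardA, hk] at hmod
    have hne : Nat.card ↥(MulAction.fixedPoints ↥S ↥A) ≠ 0 := by
      intro h0
      rw [h0] at hmod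
      have hdvd : q ∣ p ^ k := (Nat.modEq_zero_iff_dvd).mp hmod
      have := (Nat.prime_dvd_prime_iff_eq hq.out hp.out).mp (hq.out.dvd_of_dvd_pow hdvd)
      exact hpq this
    have hnonempty : Nonempty ↥(MulAction.fixedPoints ↥S ↥A) := by
      by_contra hemp
      rw [not_nonempty_iff] at hemp
      exact hne Nat.card_of_isEmpty
    obtain ⟨⟨y, hy⟩⟩ := hnonempty
    refine ⟨(y : P), y.2, ?_⟩
    have := hy ⟨α, Subgroup.mem_zpowers α⟩
    exact congrArg Subtype.val this
  -- hence the fixed points and `Φ(P)` generate, so `α = 1`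
  have htop : (α.toMonoidHom).eqLocus (MonoidHom.id P) ⊔ frattini P = ⊤ := by
    rw [eq_top_iff]
    intro x _
    obtain ⟨y, hy, hαy⟩ := hcoset x
    have hx : x = y * (x⁻¹ * y)⁻¹ := by group
    rw [hx]
    exact Subgroup.mul_mem_sup (by exact hαy) ((frattini P).inv_mem hy)
  have h1 := frattini_nongenerating htop
  have hα1 : α = 1 := by
    ext x
    have : x ∈ (α.toMonoidHom).eqLocus (MonoidHom.id P) := by rw [h1]; trivial
    exact this
  rw [hα1, orderOf_one] at hα
  exact hq.out.one_lt.ne hα

end Burnside

section Klein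

/-- an injective endomorphism of a four-group fixing a non-identity element has square the identity -/
theorem klein_hom_sq {V : Type*} [Group V] (hcard : Nat.card V = 4) (hexp : ∀ v : V, v * v = 1)
    (f : V →* V) (hf : Function.Injective f) {u : V} (hu : u ≠ 1) (hfu : f u = u) :
    ∀ v, f (f v) = v := by
  haveI : Finite V := Nat.finite_of_card_ne_zero (by rw [hcard]; norm_num)
  have hord : orderOf u = 2 := orderOf_eq_prime (by rw [pow_two]; exact hexp u) hu
  have hK : Nat.card ↥(Subgroup.zpowers u) = 2 := by rw [Nat.card_zpowers, hord]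
  have hidx : (Subgroup.zpowers u).index = 2 := by
    have := Subgroup.card_mul_index (Subgroup.zpowers u)
    rw [hK, hcard] at this
    omega
  have hmem : ∀ v ∈ Subgroup.zpowers u, v = 1 ∨ v = u := fun v hv =>
    Cfsg.Agent.Lib.Helper1.MaxClassTwo.eq_one_or_eq_of_card_two hK hv (Subgroup.mem_zpowers u) hu
  intro v
  by_cases hv : v ∈ Subgroup.zpowers u
  · rcases hmem v hv with h | h
    · rw [h, map_one, map_one]
    · rw [h, hfu, hfu]
  · have hv' : f v ∉ Subgroup.zpowers u := by
      intro h
      rcases hmem _ h with h1 | h1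
      · apply hv
        have : v = 1 := hf (by rw [h1, map_one])
        rw [this]; exact Subgroup.one_mem _
      · apply hv
        have : v = u := hf (by rw [h1, hfu])
        rw [this]; exact Subgroup.mem_zpowers u
    have h2 : v⁻¹ * f v ∈ Subgroup.zpowers u := by
      rw [Subgroup.mul_mem_iff_of_index_two hidx, inv_mem_iff]
      exact ⟨fun h => absurd h hv, fun h => absurd h hv'⟩
    rcases hmem _ h2 with h3 | h3
    · have : f v = v := by
        have := congrArg (fun t => v * t) h3
        simpa using this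
      rw [this, this]
    · have h4 : f v = v * u := by
        have := congrArg (fun t => v * t) h3
        simpa using this
      rw [h4, map_mul, h4, hfu, mul_assoc, hexp u, mul_one]

variable {q : ℕ} [hq : Fact q.Prime]

/-- If `|P : Φ(P)| = 4`, an automorphism of odd prime order fixes no nontrivial coset of `Φ(P)`. -/
theorem inv_mul_apply_not_mem_frattini (hP : IsPGroup 2 P) (hq2 : q ≠ 2)
    (hidx : (frattini P).index = 4) {α : MulAut P} (hα : orderOf α = q) {x : P}
    (hx : x ∉ frattini P) : x⁻¹ * α x ∉ frattini P := by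
  haveI : Fact (2 : ℕ).Prime := ⟨Nat.prime_two⟩
  intro hfix
  have hchar : (frattini P).Characteristic := inferInstance
  have hcomap : ∀ β : MulAut P, (frattini P).comap β.toMonoidHom = frattini P :=
    fun β => Subgroup.characteristic_iff_comap_eq.mp hchar β
  -- the induced endomorphism of `P / Φ(P)`
  have hle : frattini P ≤ (frattini P).comap α.toMonoidHom := (hcomap α).ge
  set f := QuotientGroup.map (frattini P) (frattini P) α.toMonoidHom hle with hf
  have hfmk : ∀ y : P, f (QuotientGroup.mk y) = QuotientGroup.mk (α y) := fun y => rfl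
  have hfinj : Function.Injective f := by
    rw [injective_iff_map_eq_one]
    intro v hv
    obtain ⟨y, rfl⟩ := QuotientGroup.mk_surjective v
    rw [hfmk, QuotientGroup.eq_one_iff] at hv
    rw [QuotientGroup.eq_one_iff]
    have : y ∈ (frattini P).comap α.toMonoidHom := hv
    rwa [hcomap α] at this
  have hcard : Nat.card (P ⧸ frattini P) = 4 := by
    rw [← Subgroup.index_eq_card]; exact hidx
  have hexp : ∀ v : P ⧸ frattini P, v * v = 1 := by
    intro v
    obtain ⟨y, rfl⟩ := QuotientGroup.mk_surjective v
    rw [← QuotientGroup.mk_mul, QuotientGroup.eq_one_iff, ← pow_two]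
    exact Cfsg.Agent.Lib.Helper1.IsPGroup.pow_mem_frattini hP y
  have hu : (QuotientGroup.mk x : P ⧸ frattini P) ≠ 1 := by
    rw [Ne, QuotientGroup.eq_one_iff]; exact hx
  have hfu : f (QuotientGroup.mk x) = QuotientGroup.mk x := by
    rw [hfmk]
    symm
    rw [QuotientGroup.eq]
    exact hfix
  have hsq := klein_hom_sq hcard hexp f hfinj hu hfu
  -- `α ^ 2` is trivial on `P / Φ(P)`, against Burnside
  have hα2 : orderOf (α ^ 2) = q := by
    have hc : (orderOf α).Coprime 2 := by
      rw [hα]
      exact (Nat.coprime_primes hq.out Nat.prime_two).mpr hq2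
    rw [hc.orderOf_pow, hα]
  apply not_forall_mem_frattini hP hq2 hα2
  intro y
  have := hsq (QuotientGroup.mk y)
  rw [hfmk, hfmk, QuotientGroup.eq] at this
  have h2 : (α ^ 2) y = α (α y) := by rw [pow_two, MulAut.mul_apply]
  rw [h2]
  have h3 := (frattini P).inv_mem this
  simpa using h3

end Klein

end Cfsg.Agent.Lib.Helper12
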