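import Mathlib
import Cfsg.Agent.Lib.Helper12.OddAut
import Cfsg.Agent.Lib.Helper10.UniqueOrderP
import Cfsg.Agent.Lib.Helper16.UniqueOrderP

set_option autoImplicit false
set_option linter.unusedSectionVars false
set_option linter.style.haveILetI false
open Cfsg

namespace Cfsg.Agent.Lib.Helper12.QuatFpf

open Cfsg.Agent.Lib.Helper1 Cfsg.Agent.Lib.Helper12 Cfsg.Agent.Lib.Helper10

variable {P : Type*} [Group P] [Finite P]

/-- a finite group that is cyclic modulo a normal subgroup of its Frattini subgroup is commutative -/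
theorem isMulCommutative_of_isCyclic_quotient (N : Subgroup P) [N.Normal] (hN : N ≤ frattini P)
    (hc : IsCyclic (P ⧸ N)) : IsMulCommutative P := by
  obtain ⟨g, hg⟩ := hc
  obtain ⟨x, rfl⟩ := QuotientGroup.mk_surjective g
  have htop : Subgroup.zpowers x ⊔ frattini P = ⊤ := by
    rw [eq_top_iff]
    intro y _
    obtain ⟨k, hk⟩ := Subgroup.mem_zpowers_iff.mp (hg (QuotientGroup.mk y))
    rw [← QuotientGroup.mk_zpow, QuotientGroup.eq] at hk
    have hy : y = x ^ k * ((x ^ k)⁻¹ * y) := by group
    rw [hy]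
    exact Subgroup.mul_mem_sup (Subgroup.zpow_mem _ (Subgroup.mem_zpowers x) k) (hN hk)
  have h1 := frattini_nongenerating htop
  constructor
  constructor
  intro a b
  have ha : a ∈ Subgroup.zpowers x := by rw [h1]; trivial
  have hb : b ∈ Subgroup.zpowers x := by rw [h1]; trivial
  obtain ⟨i, rfl⟩ := Subgroup.mem_zpowers_iff.mp ha
  obtain ⟨j, rfl⟩ := Subgroup.mem_zpowers_iff.mp hb
  rw [← zpow_add, ← zpow_add, add_comm]

/-- for a non-commutative `2`-group with `|P : P'| = 4`, the Frattini subgroup is `P'` -/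
theorem frattini_eq_commutator (hP : IsPGroup 2 P) (hna : ¬ IsMulCommutative P)
    (h4 : (commutator P).index = 4) : frattini P = commutator P := by
  haveI : Fact (2 : ℕ).Prime := ⟨Nat.prime_two⟩
  have hle : commutator P ≤ frattini P := IsPGroup.commutator_le_frattini hP
  have hdvd : (frattini P).index ∣ 4 := h4 ▸ Subgroup.index_dvd_of_le hle
  have h22 : (4 : ℕ) = 2 ^ 2 := by norm_num
  rw [h22] at hdvd
  obtain ⟨k, hk, hidx⟩ := (Nat.dvd_prime_pow Nat.prime_two).mp hdvd
  have hk2 : k = 2 := by
    by_contra hne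
    apply hna
    apply isMulCommutative_of_isCyclic_quotient (frattini P) le_rfl
    have hk01 : k = 0 ∨ k = 1 := by omega
    rcases hk01 with h | h
    · rw [h, pow_zero, Subgroup.index_eq_one] at hidx
      haveI : Subsingleton (P ⧸ frattini P) := by
        rw [hidx]; exact QuotientGroup.subsingleton_quotient_top
      infer_instance
    · rw [h, pow_one, Subgroup.index_eq_card] at hidx
      exact isCyclic_of_prime_card hidx
  rw [hk2] at hidx
  apply le_antisymm _ hle
  rw [← Subgroup.relIndex_eq_one]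
  have h1 := Subgroup.relIndex_mul_index hle
  rw [hidx, h4] at h1
  have h2 : (commutator P).relIndex (frattini P) * 4 = 1 * 4 := by
    have : (2 : ℕ) ^ 2 = 4 := by norm_num
    rw [this] at h1
    rw [h1]
  exact Nat.eq_of_mul_eq_mul_right (by norm_num) h2

open MaxClassTwo in
/-- the order is `8` -/
theorem card_eq_eight (hP : IsPGroup 2 P) (hna : ¬ IsMulCommutative P)
    (h4 : (commutator P).index = 4) (α : MulAut P)
    (hfpf : ∀ x : P, x ∉ frattini P → x⁻¹ * α x ∉ frattini P) :
    Nat.card P = 8 ∧ ∃ C : Subgroup P, IsCyclic C ∧ C.index = 2 := by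
  haveI : Fact (2 : ℕ).Prime := ⟨Nat.prime_two⟩
  have hΦ : frattini P = commutator P := frattini_eq_commutator hP hna h4
  have hΦidx : (frattini P).index = 4 := by rw [hΦ]; exact h4
  obtain ⟨n, hn⟩ := IsPGroup.iff_card.mp hP
  have hDne : commutator P ≠ ⊥ := commutator_ne_bot_of_not_comm hna
  have hDcard : 1 < Nat.card (commutator P) := (commutator P).one_lt_card_iff_ne_bot.mpr hDne
  have hcardP : Nat.card P = Nat.card (commutator P) * 4 := by
    rw [← h4]; exact (Subgroup.card_mul_index _).symm
  have hn3 : 3 ≤ n := by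
    by_contra h
    have h2 : n ≤ 2 := by omega
    have : 2 ^ n ≤ 2 ^ 2 := Nat.pow_le_pow_right (by norm_num) h2
    omega
  have hab : Nat.card (P ⧸ commutator P) = 4 := by rw [← Subgroup.index_eq_card]; exact h4
  have hclass := maxClass_of_card_abelianization n hn3 P hn hab
  obtain ⟨C, hCcyc, hCidx⟩ := exists_cyclic_index_two n hn3 P hn hclass
  refine ⟨?_, C, hCcyc, hCidx⟩
  have hcomm : ∀ x ∈ C, ∀ y ∈ C, Commute x y := commute_of_isCyclic hCcyc
  have hCmax : IsCoatom C := isCoatom_of_index_prime (by rw [hCidx]; exact Nat.prime_two)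
  have hΦC : frattini P ≤ C := frattini_le_coatom hCmax
  have hΦltC : frattini P < C := by
    refine lt_of_le_of_ne hΦC ?_
    intro h
    rw [h, hCidx] at hΦidx
    norm_num at hΦidx
  obtain ⟨x, hxC, hxΦ⟩ := SetLike.exists_of_lt hΦltC
  have hαΦ : ∀ y : P, α y ∈ frattini P → y ∈ frattini P := by
    intro y hy
    have hchar : (frattini P).Characteristic := inferInstance
    have := Subgroup.characteristic_iff_comap_eq.mp hchar α
    rw [← this]
    exact hy
  set C' := C.map α.toMonoidHom with hC'
  have hC'ne : C' ≠ C := by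
    intro heq
    have hαxC : α x ∈ C := by rw [← heq]; exact Subgroup.mem_map_of_mem _ hxC
    have hrel : (frattini P).relIndex C = 2 := by
      have h1 := Subgroup.relIndex_mul_index hΦC
      rw [hCidx, hΦidx] at h1
      omega
    have h2 : (⟨x, hxC⟩ : ↥C)⁻¹ * ⟨α x, hαxC⟩ ∈ (frattini P).subgroupOf C := by
      rw [Subgroup.mul_mem_iff_of_index_two hrel, inv_mem_iff]
      constructor
      · intro h; exact absurd (Subgroup.mem_subgroupOf.mp h) hxΦ
      · intro h; exact absurd (hαΦ x (Subgroup.mem_subgroupOf.mp h)) hxΦ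
    exact hfpf x hxΦ (Subgroup.mem_subgroupOf.mp h2)
  have hC'card : Nat.card ↥C' = Nat.card ↥C :=
    Subgroup.card_map_of_injective α.injective
  have hsup : C ⊔ C' = ⊤ := by
    apply hCmax.2
    refine lt_of_le_of_ne le_sup_left ?_
    intro h
    have hle : C' ≤ C := by rw [h]; exact le_sup_right
    exact hC'ne (Subgroup.eq_of_le_of_card_ge hle hC'card.ge)
  have hcomm' : ∀ x ∈ C', ∀ y ∈ C', Commute x y := by
    rintro _ ⟨a, ha, rfl⟩ _ ⟨b, hb, rfl⟩
    exact (hcomm a ha b hb).map α.toMonoidHom
  have hZ : C ⊓ C' ≤ Subgroup.center P := by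
    intro z hz
    obtain ⟨hz1, hz2⟩ := Subgroup.mem_inf.mp hz
    have h1 : C ⊔ C' ≤ Subgroup.centralizer ({z} : Set P) := by
      apply sup_le
      · intro c hc
        rw [Subgroup.mem_centralizer_singleton_iff]
        exact (hcomm c hc z hz1).eq
      · intro c hc
        rw [Subgroup.mem_centralizer_singleton_iff]
        exact (hcomm' c hc z hz2).eq
    rw [hsup] at h1
    rw [Subgroup.mem_center_iff]
    intro g
    exact Subgroup.mem_centralizer_singleton_iff.mp (h1 (Subgroup.mem_top g))
  have hcc := card_eq_card_center_mul_card_commutator hCidx hcomm hna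
  have hPC : Nat.card P = Nat.card ↥C * 2 := by rw [← hCidx]; exact (Subgroup.card_mul_index _).symm
  have hC'idx : C'.index = 2 := by
    have := Subgroup.card_mul_index C'
    rw [hC'card, hPC] at this
    have hpos : 0 < Nat.card ↥C := Nat.card_pos
    exact Nat.eq_of_mul_eq_mul_left hpos this
  have hidxinf : (C ⊓ C').index ≤ 4 := by
    have := Subgroup.index_inf_le (H := C) (K := C')
    rw [hCidx, hC'idx] at this
    exact this
  have hinfcard := Subgroup.card_mul_index (C ⊓ C')
  have hle2 : Nat.card ↥(C ⊓ C') ≤ Nat.card ↥(Subgroup.center P) := Subgroup.card_le_of_le hZ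
  have hpos : 0 < Nat.card ↥(commutator P) := Nat.card_pos
  -- arithmetic
  have hcen : Nat.card ↥(Subgroup.center P) = 2 := by
    have h1 : Nat.card ↥C * 2 = Nat.card ↥(commutator P) * 4 := by rw [← hPC, hcardP]
    have h2 : Nat.card ↥(Subgroup.center P) * Nat.card ↥(commutator P) * 2 =
        Nat.card ↥(commutator P) * 4 := by rw [← hcc, h1]
    have h3 : Nat.card ↥(commutator P) * (Nat.card ↥(Subgroup.center P) * 2) =
        Nat.card ↥(commutator P) * 4 := by rw [← h2]; ring
    have := Nat.eq_of_mul_eq_mul_left hpos h3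
    omega
  have hle8 : Nat.card P ≤ 8 := by
    rw [← hinfcard]
    calc Nat.card ↥(C ⊓ C') * (C ⊓ C').index ≤ 2 * 4 :=
          Nat.mul_le_mul (hcen ▸ hle2) hidxinf
      _ = 8 := by norm_num
  omega

open MaxClassTwo in
/-- A non-commutative `2`-group with `|P : P'| = 4` having an automorphism that fixes no nontrivial
coset of `Φ(P)` is the quaternion group of order 8. -/
theorem quaternion_of_fpf (hP : IsPGroup 2 P) (hna : ¬ IsMulCommutative P)
    (h4 : (commutator P).index = 4) (α : MulAut P)
    (hfpf : ∀ x : P, x ∉ frattini P → x⁻¹ * α x ∉ frattini P) :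
    Nonempty (P ≃* QuaternionGroup 2) := by
  haveI : Fact (2 : ℕ).Prime := ⟨Nat.prime_two⟩
  obtain ⟨h8, C, hCcyc, hCidx⟩ := card_eq_eight hP hna h4 α hfpf
  have hΦ : frattini P = commutator P := frattini_eq_commutator hP hna h4
  have hΦidx : (frattini P).index = 4 := by rw [hΦ]; exact h4
  have hΦcard : Nat.card ↥(frattini P) = 2 := by
    have := Subgroup.card_mul_index (frattini P)
    rw [hΦidx, h8] at this
    omega
  have hΦn : (frattini P).Normal := inferInstance
  have hΦcen : ∀ f ∈ frattini P, ∀ g : P, g * f = f * g := by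
    intro f hf g
    by_cases hf1 : f = 1
    · rw [hf1, mul_one, one_mul]
    have h1 : g * f * g⁻¹ ∈ frattini P := hΦn.conj_mem f hf g
    rcases eq_one_or_eq_of_card_two hΦcard h1 hf hf1 with h | h
    · exfalso
      apply hf1
      have : f = g⁻¹ * (g * f * g⁻¹) * g := by group
      rw [this, h]; group
    · have : g * f = (g * f * g⁻¹) * g := by group
      rw [this, h]
  have hΦsq : ∀ f ∈ frattini P, f ^ 2 = 1 := by
    intro f hf
    have h1 := orderOf_dvd_natCard (⟨f, hf⟩ : ↥(frattini P))
    rw [hΦcard] at h1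
    have h2 := orderOf_dvd_iff_pow_eq_one.mp h1
    exact congrArg Subtype.val h2
  have hsqmul : ∀ t f : P, f ∈ frattini P → (t * f) ^ 2 = t ^ 2 := by
    intro t f hf
    have hc : Commute t f := hΦcen f hf t
    rw [hc.mul_pow, hΦsq f hf, mul_one]
  have hCmax : IsCoatom C := isCoatom_of_index_prime (by rw [hCidx]; exact Nat.prime_two)
  have hΦC : frattini P ≤ C := frattini_le_coatom hCmax
  have hΦltC : frattini P < C := by
    refine lt_of_le_of_ne hΦC ?_
    intro h
    rw [h, hCidx] at hΦidx
    norm_num at hΦidx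
  obtain ⟨x, hxC, hxΦ⟩ := SetLike.exists_of_lt hΦltC
  have hαΦ : ∀ y : P, α y ∈ frattini P → y ∈ frattini P := by
    intro y hy
    have hchar : (frattini P).Characteristic := inferInstance
    have := Subgroup.characteristic_iff_comap_eq.mp hchar α
    rw [← this]
    exact hy
  -- `x` has order 4
  have hx2 : x ^ 2 ≠ 1 := by
    intro h
    have hne : frattini P ≠ ⊥ := by
      rw [← (frattini P).one_lt_card_iff_ne_bot, hΦcard]; norm_num
    obtain ⟨⟨f, hfΦ⟩, hf1⟩ := (Subgroup.ne_bot_iff_exists_ne_one).mp hne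
    have hf1' : f ≠ 1 := fun h => hf1 (Subtype.ext h)
    haveI := hCcyc
    have h1 := Cfsg.Agent.Lib.Helper16.mem_zpowers_of_pow_eq_one_of_isCyclic (p := 2)
      (⟨f, hΦC hfΦ⟩ : ↥C) ⟨x, hxC⟩ (Subtype.ext (hΦsq f hfΦ))
      (fun h => hf1' (congrArg Subtype.val h)) (Subtype.ext h)
    obtain ⟨k, hk⟩ := Subgroup.mem_zpowers_iff.mp h1
    have hk' : f ^ k = x := by
      have := congrArg Subtype.val hk
      simpa using this
    apply hxΦ
    rw [← hk']
    exact Subgroup.zpow_mem _ hfΦ k
  have hαsq : ∀ t : P, t ^ 2 ≠ 1 → (α t) ^ 2 ≠ 1 := by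
    intro t ht h
    apply ht
    apply α.injective
    rw [map_pow, h, map_one]
  set y := α x with hy
  set w := α y with hw
  have hy2 : y ^ 2 ≠ 1 := hαsq x hx2
  have hw2 : w ^ 2 ≠ 1 := hαsq y hy2
  have hyΦ : y ∉ frattini P := fun h => hxΦ (hαΦ x h)
  have hwΦ : w ∉ frattini P := fun h => hyΦ (hαΦ y h)
  -- the quotient `V = P / Φ(P)`
  have hcardV : Nat.card (P ⧸ frattini P) = 4 := by rw [← Subgroup.index_eq_card]; exact hΦidx
  have hexp : ∀ v : P ⧸ frattini P, v * v = 1 := by
    intro v
    obtain ⟨t, rfl⟩ := QuotientGroup.mk_surjective v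
    rw [← QuotientGroup.mk_mul, QuotientGroup.eq_one_iff, ← pow_two]
    exact IsPGroup.pow_mem_frattini hP t
  have hinv : ∀ v : P ⧸ frattini P, v⁻¹ = v := fun v => inv_eq_of_mul_eq_one_left (hexp v)
  have hVcomm : ∀ a b : P ⧸ frattini P, a * b = b * a := by
    intro a b
    have h1 := hexp (a * b)
    have h2 : a * b = (a * b)⁻¹ := (hinv _).symm
    rw [h2, mul_inv_rev, hinv, hinv]
  set u : P ⧸ frattini P := QuotientGroup.mk x with hu
  have hu1 : u ≠ 1 := by rw [Ne, QuotientGroup.eq_one_iff]; exact hxΦ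
  have hordu : orderOf u = 2 := orderOf_eq_prime (by rw [pow_two]; exact hexp u) hu1
  have hK : Nat.card ↥(Subgroup.zpowers u) = 2 := by rw [Nat.card_zpowers, hordu]
  have hKidx : (Subgroup.zpowers u).index = 2 := by
    have := Subgroup.card_mul_index (Subgroup.zpowers u)
    rw [hK, hcardV] at this
    omega
  have hKmem : ∀ v ∈ Subgroup.zpowers u, v = 1 ∨ v = u := fun v hv =>
    eq_one_or_eq_of_card_two hK hv (Subgroup.mem_zpowers u) hu1
  have hmkne : ∀ a b : P, a⁻¹ * b ∉ frattini P →
      (QuotientGroup.mk a : P ⧸ frattini P) ≠ QuotientGroup.mk b := by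
    intro a b hab h
    exact hab (QuotientGroup.eq.mp h)
  have hmk1 : ∀ a : P, a ∉ frattini P → (QuotientGroup.mk a : P ⧸ frattini P) ≠ 1 := by
    intro a ha h
    exact ha ((QuotientGroup.eq_one_iff a).mp h)
  have hyK : (QuotientGroup.mk y : P ⧸ frattini P) ∉ Subgroup.zpowers u := by
    intro h
    rcases hKmem _ h with h1 | h1
    · exact hmk1 y hyΦ h1
    · exact hmkne x y (hfpf x hxΦ) h1.symm
  have hwx : (QuotientGroup.mk w : P ⧸ frattini P) ≠ u := by
    intro h
    -- then `α` fixes the coset of `x * y`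
    have ht : x * y ∉ frattini P := by
      intro h1
      have h2 : (QuotientGroup.mk (x * y) : P ⧸ frattini P) = 1 := (QuotientGroup.eq_one_iff _).mpr h1
      rw [QuotientGroup.mk_mul] at h2
      have h3 : (QuotientGroup.mk y : P ⧸ frattini P) = u := by
        have := eq_inv_of_mul_eq_one_right h2
        rw [this, hinv]
      exact hyK (h3 ▸ Subgroup.mem_zpowers u)
    apply hfpf (x * y) ht
    rw [← QuotientGroup.eq, map_mul, QuotientGroup.mk_mul, QuotientGroup.mk_mul]
    show u * QuotientGroup.mk y = QuotientGroup.mk y * QuotientGroup.mk w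
    rw [h, hVcomm]
  have hwK : (QuotientGroup.mk w : P ⧸ frattini P) ∉ Subgroup.zpowers u := by
    intro h
    rcases hKmem _ h with h1 | h1
    · exact hmk1 w hwΦ h1
    · exact hwx h1
  have hwy : (QuotientGroup.mk w : P ⧸ frattini P) = QuotientGroup.mk y * u := by
    have h2 : (QuotientGroup.mk y : P ⧸ frattini P)⁻¹ * QuotientGroup.mk w ∈ Subgroup.zpowers u := by
      rw [Subgroup.mul_mem_iff_of_index_two hKidx, inv_mem_iff]
      exact ⟨fun h => absurd h hyK, fun h => absurd h hwK⟩
    rcases hKmem _ h2 with h3 | h3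
    · exfalso
      have h4 : (QuotientGroup.mk y : P ⧸ frattini P) = QuotientGroup.mk w := by
        have := congrArg (fun t => (QuotientGroup.mk y : P ⧸ frattini P) * t) h3
        simpa using this.symm
      exact hmkne y w (hfpf y hyΦ) h4
    · have := congrArg (fun t => (QuotientGroup.mk y : P ⧸ frattini P) * t) h3
      simpa using this
  -- every element outside `Φ(P)` has order 4
  have hall : ∀ t : P, t ∉ frattini P → t ^ 2 ≠ 1 := by
    intro t ht
    have key : ∀ s : P, s ^ 2 ≠ 1 →
        (QuotientGroup.mk t : P ⧸ frattini P) = QuotientGroup.mk s → t ^ 2 ≠ 1 := by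
      intro s hs h
      have h1 : s⁻¹ * t ∈ frattini P := QuotientGroup.eq.mp h.symm
      have h2 : t = s * (s⁻¹ * t) := by group
      rw [h2, hsqmul s _ h1]
      exact hs
    by_cases htK : (QuotientGroup.mk t : P ⧸ frattini P) ∈ Subgroup.zpowers u
    · rcases hKmem _ htK with h1 | h1
      · exact absurd h1 (hmk1 t ht)
      · exact key x hx2 h1
    · have h2 : (QuotientGroup.mk y : P ⧸ frattini P)⁻¹ * QuotientGroup.mk t ∈ Subgroup.zpowers u := by
        rw [Subgroup.mul_mem_iff_of_index_two hKidx, inv_mem_iff]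
        exact ⟨fun h => absurd h hyK, fun h => absurd h htK⟩
      rcases hKmem _ h2 with h3 | h3
      · apply key y hy2
        have := congrArg (fun s => (QuotientGroup.mk y : P ⧸ frattini P) * s) h3
        simpa using this
      · apply key w hw2
        rw [hwy]
        have := congrArg (fun s => (QuotientGroup.mk y : P ⧸ frattini P) * s) h3
        simpa using this
  -- unique subgroup of order 2
  have huo : UniqueOrderP 2 P := by
    intro a b ha ha1 hb
    have haΦ : a ∈ frattini P := by
      by_contra h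
      exact hall a h ha
    have hbΦ : b ∈ frattini P := by
      by_contra h
      exact hall b h hb
    rcases eq_one_or_eq_of_card_two hΦcard hbΦ haΦ ha1 with h | h
    · rw [h]; exact Subgroup.one_mem _
    · rw [h]; exact Subgroup.mem_zpowers a
  rcases isCyclic_or_quaternion_of_uniqueOrderP hP huo with hc | ⟨-, m, ⟨e⟩⟩
  · exact absurd (IsCyclic.isMulCommutative) hna
  · have hcard : Nat.card P = 4 * 2 ^ m := by
      rw [Nat.card_congr e.toEquiv, Nat.card_eq_fintype_card, QuaternionGroup.card]
    rw [h8] at hcard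
    have hm : m = 1 := by
      have h2 : 2 ^ m = 2 ^ 1 := by omega
      exact Nat.pow_right_injective (le_refl 2) h2
    subst hm
    exact ⟨e⟩

end Cfsg.Agent.Lib.Helper12.QuatFpf
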