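import Mathlib

/-!
# Normal subgroups of linear groups transitive on the non-zero vectors

`H ≤ GL(V)`, `V` a finite vector space over `𝔽_p`, `H` transitive on `V ∖ {0}`.

* `irreducible_of_normal`: a non-abelian normal subgroup `N` of `H` is irreducible on `V`.
  (Let `R` be the subalgebra of `End V` generated by `N` and `M(x) = R x`.  Since `H` normalises
  `R` and is transitive, all `M(x)`, `x ≠ 0`, have the same size, hence are minimal.  If `N` is
  reducible one deduces that `r x = 0`, `x ≠ 0` forces `r = 0`, so `R` is a finite domain, which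
  is commutative by Wedderburn's little theorem.)
* `centralizer_comm`: the centraliser in `End V` of an irreducible group is commutative.
-/

set_option autoImplicit false

namespace Cfsg.Agent.Lib.Helper12.NearIrr

variable {p : ℕ} [Fact p.Prime] {V : Type*} [AddCommGroup V] [Module (ZMod p) V]

/-- an element of `H` as an endomorphism -/
def toE (H : Subgroup (V ≃ₗ[ZMod p] V)) (h : H) : Module.End (ZMod p) V :=
  ((h : V ≃ₗ[ZMod p] V) : V →ₗ[ZMod p] V)

theorem toE_apply (H : Subgroup (V ≃ₗ[ZMod p] V)) (h : H) (v : V) :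
    toE H h v = (h : V ≃ₗ[ZMod p] V) v := rfl

theorem toE_mul (H : Subgroup (V ≃ₗ[ZMod p] V)) (a b : H) : toE H (a * b) = toE H a * toE H b :=
  LinearMap.ext fun _ => rfl

theorem toE_one (H : Subgroup (V ≃ₗ[ZMod p] V)) : toE H 1 = 1 := LinearMap.ext fun _ => rfl

theorem toE_injective (H : Subgroup (V ≃ₗ[ZMod p] V)) : Function.Injective (toE H) := by
  intro a b hab
  apply Subtype.ext
  apply LinearEquiv.ext
  intro v
  have := congrArg (fun f : Module.End (ZMod p) V => f v) hab
  exact this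

theorem toE_inv_apply (H : Subgroup (V ≃ₗ[ZMod p] V)) (h : H) (v : V) :
    toE H h⁻¹ (toE H h v) = v := by
  have : toE H h⁻¹ * toE H h = 1 := by rw [← toE_mul, inv_mul_cancel, toE_one]
  have := congrArg (fun f : Module.End (ZMod p) V => f v) this
  exact this

theorem toE_apply_inv (H : Subgroup (V ≃ₗ[ZMod p] V)) (h : H) (v : V) :
    toE H h (toE H h⁻¹ v) = v := by
  have : toE H h * toE H h⁻¹ = 1 := by rw [← toE_mul, mul_inv_cancel, toE_one]
  have := congrArg (fun f : Module.End (ZMod p) V => f v) this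
  exact this

/-- the linear endomorphisms coming from a subgroup `N` of `H` -/
def gens (H : Subgroup (V ≃ₗ[ZMod p] V)) (N : Subgroup H) : Set (Module.End (ZMod p) V) :=
  {f | ∃ n : H, n ∈ N ∧ f = toE H n}

/-- the subalgebra generated by `N` -/
def adj (H : Subgroup (V ≃ₗ[ZMod p] V)) (N : Subgroup H) :
    Subalgebra (ZMod p) (Module.End (ZMod p) V) := Algebra.adjoin (ZMod p) (gens H N)

theorem toE_mem_adj (H : Subgroup (V ≃ₗ[ZMod p] V)) (N : Subgroup H) {n : H} (hn : n ∈ N) :
    toE H n ∈ adj H N := Algebra.subset_adjoin ⟨n, hn, rfl⟩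

/-- the cyclic submodule generated by `x` -/
def cyc (H : Subgroup (V ≃ₗ[ZMod p] V)) (N : Subgroup H) (x : V) : Submodule (ZMod p) V where
  carrier := {y | ∃ r ∈ adj H N, y = r x}
  add_mem' := by
    rintro _ _ ⟨r, hr, rfl⟩ ⟨s, hs, rfl⟩
    exact ⟨r + s, add_mem hr hs, rfl⟩
  zero_mem' := ⟨0, zero_mem _, rfl⟩
  smul_mem' := by
    rintro c _ ⟨r, hr, rfl⟩
    exact ⟨c • r, Subalgebra.smul_mem _ hr c, rfl⟩

variable (H : Subgroup (V ≃ₗ[ZMod p] V)) (N : Subgroup H)

theorem mem_cyc {x y : V} : y ∈ cyc H N x ↔ ∃ r ∈ adj H N, y = r x := Iff.rfl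

theorem self_mem_cyc (x : V) : x ∈ cyc H N x := ⟨1, one_mem _, rfl⟩

theorem apply_mem_cyc {r : Module.End (ZMod p) V} (hr : r ∈ adj H N) {x y : V}
    (hy : y ∈ cyc H N x) : r y ∈ cyc H N x := by
  obtain ⟨s, hs, rfl⟩ := hy
  exact ⟨r * s, mul_mem hr hs, rfl⟩

theorem cyc_le {x y : V} (hy : y ∈ cyc H N x) : cyc H N y ≤ cyc H N x := by
  rintro _ ⟨r, hr, rfl⟩
  exact apply_mem_cyc H N hr hy

theorem apply_mem_of_invariant {W : Submodule (ZMod p) V}
    (hW : ∀ n ∈ N, ∀ v ∈ W, ((n : H) : V ≃ₗ[ZMod p] V) v ∈ W)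
    {r : Module.End (ZMod p) V} (hr : r ∈ adj H N) : ∀ v ∈ W, r v ∈ W := by
  unfold adj at hr
  induction hr using Algebra.adjoin_induction with
  | mem x hx =>
    obtain ⟨n, hn, rfl⟩ := hx
    exact fun v hv => hW n hn v hv
  | algebraMap c =>
    intro v hv
    rw [Module.algebraMap_end_apply]
    exact W.smul_mem c hv
  | add x y _ _ hx hy =>
    intro v hv
    exact W.add_mem (hx v hv) (hy v hv)
  | mul x y _ _ hx hy =>
    intro v hv
    exact hx _ (hy v hv)

theorem cyc_le_of_invariant {W : Submodule (ZMod p) V}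
    (hW : ∀ n ∈ N, ∀ v ∈ W, ((n : H) : V ≃ₗ[ZMod p] V) v ∈ W) {x : V} (hx : x ∈ W) :
    cyc H N x ≤ W := by
  rintro _ ⟨r, hr, rfl⟩
  exact apply_mem_of_invariant H N hW hr x hx

/-- conjugation by `h ∈ H` preserves the subalgebra generated by a normal subgroup -/
theorem exists_conj [hN : N.Normal] (h : H) {r : Module.End (ZMod p) V} (hr : r ∈ adj H N) :
    ∃ r' ∈ adj H N, ∀ v : V, toE H h (r v) = r' (toE H h v) := by
  unfold adj at hr
  induction hr using Algebra.adjoin_induction with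
  | mem x hx =>
    obtain ⟨n, hn, rfl⟩ := hx
    refine ⟨toE H (h * n * h⁻¹), toE_mem_adj H N (hN.conj_mem n hn h), ?_⟩
    intro v
    rw [toE_mul, toE_mul, Module.End.mul_apply, Module.End.mul_apply, toE_inv_apply]
  | algebraMap c =>
    refine ⟨algebraMap _ _ c, Subalgebra.algebraMap_mem _ c, ?_⟩
    intro v
    rw [Module.algebraMap_end_apply, Module.algebraMap_end_apply, map_smul]
  | add x y _ _ hx hy =>
    obtain ⟨x', hx', hx2⟩ := hx
    obtain ⟨y', hy', hy2⟩ := hy
    refine ⟨x' + y', add_mem hx' hy', ?_⟩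
    intro v
    rw [LinearMap.add_apply, map_add, hx2, hy2, LinearMap.add_apply]
  | mul x y _ _ hx hy =>
    obtain ⟨x', hx', hx2⟩ := hx
    obtain ⟨y', hy', hy2⟩ := hy
    refine ⟨x' * y', mul_mem hx' hy', ?_⟩
    intro v
    rw [Module.End.mul_apply, hx2, hy2, Module.End.mul_apply]

theorem map_mem_cyc [N.Normal] (h : H) {x y : V} (hy : y ∈ cyc H N x) :
    toE H h y ∈ cyc H N (toE H h x) := by
  obtain ⟨r, hr, rfl⟩ := hy
  obtain ⟨r', hr', h2⟩ := exists_conj H N h hr
  exact ⟨r', hr', h2 x⟩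

theorem card_cyc_le [Finite V] [N.Normal] (h : H) (x : V) :
    Nat.card (cyc H N x) ≤ Nat.card (cyc H N (toE H h x)) := by
  apply Nat.card_le_card_of_injective
    (fun y : cyc H N x => (⟨toE H h y, map_mem_cyc H N h y.2⟩ : cyc H N (toE H h x)))
  intro a b hab
  have h1 : toE H h (a : V) = toE H h (b : V) := congrArg Subtype.val hab
  apply Subtype.ext
  have := congrArg (toE H h⁻¹) h1
  rwa [toE_inv_apply, toE_inv_apply] at this

theorem card_cyc_eq [Finite V] [N.Normal]
    (htrans : ∀ v w : V, v ≠ 0 → w ≠ 0 → ∃ h : H, (h : V ≃ₗ[ZMod p] V) v = w)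
    {x y : V} (hx : x ≠ 0) (hy : y ≠ 0) : Nat.card (cyc H N x) = Nat.card (cyc H N y) := by
  obtain ⟨h, hh⟩ := htrans x y hx hy
  have h1 := card_cyc_le H N h x
  have h2 := card_cyc_le H N h⁻¹ y
  have e1 : toE H h x = y := hh
  have e2 : toE H h⁻¹ y = x := by rw [← e1, toE_inv_apply]
  rw [e1] at h1
  rw [e2] at h2
  omega

theorem submodule_eq_of_le_of_card_le [Finite V] {W W' : Submodule (ZMod p) V} (h : W ≤ W')
    (hc : Nat.card W' ≤ Nat.card W) : W = W' := by
  apply SetLike.coe_injective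
  apply Set.eq_of_subset_of_ncard_le h _ (Set.toFinite _)
  exact hc

theorem cyc_eq_of_mem [Finite V] [N.Normal]
    (htrans : ∀ v w : V, v ≠ 0 → w ≠ 0 → ∃ h : H, (h : V ≃ₗ[ZMod p] V) v = w)
    {x y : V} (hx : x ≠ 0) (hy : y ≠ 0) (hyx : y ∈ cyc H N x) : cyc H N y = cyc H N x :=
  submodule_eq_of_le_of_card_le (cyc_le H N hyx) (card_cyc_eq H N htrans hx hy).le

theorem apply_eq_zero_of_disjoint [Finite V] [N.Normal]
    (htrans : ∀ v w : V, v ≠ 0 → w ≠ 0 → ∃ h : H, (h : V ≃ₗ[ZMod p] V) v = w)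
    {x y : V} (hx : x ≠ 0) (hy : y ≠ 0) (hd : cyc H N x ⊓ cyc H N y = ⊥)
    {r : Module.End (ZMod p) V} (hr : r ∈ adj H N) (hrx : r x = 0) : r y = 0 := by
  by_contra hry
  have hw : x + y ≠ 0 := by
    intro h
    have h1 : y = -x := by
      rw [eq_neg_iff_add_eq_zero, add_comm]; exact h
    have hy' : y ∈ cyc H N x := by
      rw [h1]; exact (cyc H N x).neg_mem (self_mem_cyc H N x)
    have : y ∈ cyc H N x ⊓ cyc H N y := ⟨hy', self_mem_cyc H N y⟩
    rw [hd] at this
    exact hy ((Submodule.mem_bot _).1 this)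
  have h1 : r (x + y) = r y := by rw [map_add, hrx, zero_add]
  have h2 : r y ∈ cyc H N y := apply_mem_cyc H N hr (self_mem_cyc H N y)
  have h3 : r y ∈ cyc H N (x + y) := by
    rw [← h1]; exact apply_mem_cyc H N hr (self_mem_cyc H N (x + y))
  have e1 : cyc H N (r y) = cyc H N y := cyc_eq_of_mem H N htrans hy hry h2
  have e2 : cyc H N (r y) = cyc H N (x + y) := cyc_eq_of_mem H N htrans hw hry h3
  have h4 : x + y ∈ cyc H N y := by
    rw [← e1, e2]; exact self_mem_cyc H N (x + y)
  have h5 : x ∈ cyc H N y := by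
    have := (cyc H N y).sub_mem h4 (self_mem_cyc H N y)
    simpa using this
  have : x ∈ cyc H N x ⊓ cyc H N y := ⟨self_mem_cyc H N x, h5⟩
  rw [hd] at this
  exact hx ((Submodule.mem_bot _).1 this)

/-- if `N` is reducible, the subalgebra generated by `N` acts "semiregularly" -/
theorem eq_zero_of_apply_eq_zero [Finite V] [N.Normal]
    (htrans : ∀ v w : V, v ≠ 0 → w ≠ 0 → ∃ h : H, (h : V ≃ₗ[ZMod p] V) v = w)
    {W : Submodule (ZMod p) V}
    (hW : ∀ n ∈ N, ∀ v ∈ W, ((n : H) : V ≃ₗ[ZMod p] V) v ∈ W) (hW0 : W ≠ ⊥) (hWtop : W ≠ ⊤)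
    {x : V} (hx : x ≠ 0) {r : Module.End (ZMod p) V} (hr : r ∈ adj H N) (hrx : r x = 0) :
    r = 0 := by
  obtain ⟨w₀, hw₀W, hw₀⟩ := (Submodule.ne_bot_iff W).1 hW0
  have hcw : cyc H N w₀ ≤ W := cyc_le_of_invariant H N hW hw₀W
  have hne_top : ∀ t : V, t ≠ 0 → cyc H N t ≠ ⊤ := by
    intro t ht htop
    have hc := card_cyc_eq H N htrans hw₀ ht
    have h1 : cyc H N w₀ = ⊤ := by
      apply submodule_eq_of_le_of_card_le le_top
      rw [hc, htop]
    rw [h1] at hcw
    exact hWtop (top_le_iff.1 hcw)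
  apply LinearMap.ext
  intro y
  rw [LinearMap.zero_apply]
  by_cases hy : y = 0
  · rw [hy, map_zero]
  by_cases hd : cyc H N x ⊓ cyc H N y = ⊥
  · exact apply_eq_zero_of_disjoint H N htrans hx hy hd hr hrx
  · obtain ⟨t, ht, ht0⟩ := (Submodule.ne_bot_iff _).1 hd
    have e1 : cyc H N t = cyc H N x := cyc_eq_of_mem H N htrans hx ht0 ht.1
    have e2 : cyc H N t = cyc H N y := cyc_eq_of_mem H N htrans hy ht0 ht.2
    obtain ⟨v, hv⟩ : ∃ v, v ∉ cyc H N x := by
      by_contra hcon
      push Not at hcon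
      exact hne_top x hx (eq_top_iff.2 fun v _ => hcon v)
    have hv0 : v ≠ 0 := fun h => hv (h ▸ zero_mem _)
    have hdv : cyc H N x ⊓ cyc H N v = ⊥ := by
      by_contra hne
      obtain ⟨s, hs, hs0⟩ := (Submodule.ne_bot_iff _).1 hne
      have a1 : cyc H N s = cyc H N x := cyc_eq_of_mem H N htrans hx hs0 hs.1
      have a2 : cyc H N s = cyc H N v := cyc_eq_of_mem H N htrans hv0 hs0 hs.2
      apply hv
      rw [← a1, a2]
      exact self_mem_cyc H N v
    have hrv : r v = 0 := apply_eq_zero_of_disjoint H N htrans hx hv0 hdv hr hrx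
    have hdv' : cyc H N v ⊓ cyc H N y = ⊥ := by
      rw [← e2, e1, inf_comm]; exact hdv
    exact apply_eq_zero_of_disjoint H N htrans hv0 hy hdv' hr hrv

theorem finite_end [Finite V] : Finite (Module.End (ZMod p) V) :=
  Finite.of_injective (fun f : Module.End (ZMod p) V => (f : V → V)) DFunLike.coe_injective

/-- **IRR**: a non-abelian normal subgroup of a linear group transitive on the non-zero vectors
is irreducible. -/
theorem irreducible_of_normal [Finite V]
    (htrans : ∀ v w : V, v ≠ 0 → w ≠ 0 → ∃ h : H, (h : V ≃ₗ[ZMod p] V) v = w)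
    (hNn : N.Normal) (hNna : ¬ IsMulCommutative N) (W : Submodule (ZMod p) V)
    (hW : ∀ n ∈ N, ∀ v ∈ W, ((n : H) : V ≃ₗ[ZMod p] V) v ∈ W) : W = ⊥ ∨ W = ⊤ := by
  by_contra hcon
  push Not at hcon
  obtain ⟨hW0, hWtop⟩ := hcon
  obtain ⟨w₀, -, hw₀⟩ := (Submodule.ne_bot_iff W).1 hW0
  have : Nontrivial V := ⟨⟨w₀, 0, hw₀⟩⟩
  have := finite_end (p := p) (V := V)
  have hnzd : NoZeroDivisors (adj H N) := by
    constructor
    intro a b hab
    by_contra hne
    push Not at hne
    obtain ⟨ha, hb⟩ := hne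
    have hb' : (b : Module.End (ZMod p) V) ≠ 0 := fun h => hb (Subtype.ext h)
    obtain ⟨x, hx⟩ : ∃ x : V, (b : Module.End (ZMod p) V) x ≠ 0 := by
      by_contra hall
      push Not at hall
      exact hb' (LinearMap.ext hall)
    have h1 : (a : Module.End (ZMod p) V) ((b : Module.End (ZMod p) V) x) = 0 := by
      have := congrArg (fun f : adj H N => (f : Module.End (ZMod p) V) x) hab
      exact this
    have := eq_zero_of_apply_eq_zero H N htrans hW hW0 hWtop hx a.2 h1
    exact ha (Subtype.ext this)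
  have hnt : Nontrivial (adj H N) := by
    refine ⟨⟨0, 1, ?_⟩⟩
    intro h
    have := congrArg (fun f : adj H N => (f : Module.End (ZMod p) V) w₀) h
    exact hw₀ this.symm
  have hdom : IsDomain (adj H N) := NoZeroDivisors.to_isDomain _
  have hF := Finite.isDomain_to_isField (adj H N)
  apply hNna
  constructor
  constructor
  intro a b
  apply Subtype.ext
  apply toE_injective H
  rw [Subgroup.coe_mul, Subgroup.coe_mul, toE_mul, toE_mul]
  have := hF.mul_comm ⟨toE H a, toE_mem_adj H N a.2⟩ ⟨toE H b, toE_mem_adj H N b.2⟩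
  exact congrArg Subtype.val this

/-- the centraliser in `End V` of an irreducible group is commutative -/
theorem centralizer_comm [Finite V]
    (hirr : ∀ W : Submodule (ZMod p) V,
      (∀ n ∈ N, ∀ v ∈ W, ((n : H) : V ≃ₗ[ZMod p] V) v ∈ W) → W = ⊥ ∨ W = ⊤)
    (f g : Module.End (ZMod p) V) (hf : ∀ n ∈ N, toE H n * f = f * toE H n)
    (hg : ∀ n ∈ N, toE H n * g = g * toE H n) : f * g = g * f := by
  rcases subsingleton_or_nontrivial V with hs | hnt
  · apply LinearMap.ext
    intro v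
    exact Subsingleton.elim _ _
  obtain ⟨v₀, hv₀⟩ := exists_ne (0 : V)
  have := finite_end (p := p) (V := V)
  obtain ⟨D, hD⟩ : ∃ D : Subalgebra (ZMod p) (Module.End (ZMod p) V),
      D = Subalgebra.centralizer (ZMod p) (gens H N) := ⟨_, rfl⟩
  have hmem : ∀ a : Module.End (ZMod p) V, a ∈ D ↔ ∀ n ∈ N, toE H n * a = a * toE H n := by
    intro a
    rw [hD, Subalgebra.mem_centralizer_iff]
    constructor
    · intro h n hn
      exact h _ ⟨n, hn, rfl⟩
    · rintro h _ ⟨n, hn, rfl⟩
      exact h n hn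
  have hinj : ∀ a : Module.End (ZMod p) V, a ∈ D → a ≠ 0 → Function.Injective a := by
    intro a haD ha0
    rw [← LinearMap.ker_eq_bot]
    have hker : ∀ n ∈ N, ∀ v ∈ LinearMap.ker a, ((n : H) : V ≃ₗ[ZMod p] V) v ∈ LinearMap.ker a := by
      intro n hn v hv
      rw [LinearMap.mem_ker] at hv ⊢
      have h1 := (hmem a).1 haD n hn
      have h2 := congrArg (fun f : Module.End (ZMod p) V => f v) h1
      simp only [Module.End.mul_apply] at h2
      rw [hv, map_zero] at h2
      exact h2.symm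
    rcases hirr _ hker with h | h
    · exact h
    · exfalso
      apply ha0
      apply LinearMap.ext
      intro v
      have : v ∈ LinearMap.ker a := by rw [h]; trivial
      exact this
  have hnzd : NoZeroDivisors D := by
    constructor
    intro a b hab
    by_contra hne
    push Not at hne
    obtain ⟨ha, hb⟩ := hne
    have ha' : (a : Module.End (ZMod p) V) ≠ 0 := fun h => ha (Subtype.ext h)
    have hb' : (b : Module.End (ZMod p) V) ≠ 0 := fun h => hb (Subtype.ext h)
    obtain ⟨x, hx⟩ : ∃ x : V, (b : Module.End (ZMod p) V) x ≠ 0 := by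
      by_contra hall
      push Not at hall
      exact hb' (LinearMap.ext hall)
    have h1 : (a : Module.End (ZMod p) V) ((b : Module.End (ZMod p) V) x) = 0 := by
      have := congrArg (fun f : D => (f : Module.End (ZMod p) V) x) hab
      exact this
    have h2 := hinj a a.2 ha'
    rw [← map_zero (a : Module.End (ZMod p) V)] at h1
    exact hx (h2 h1)
  have hnt' : Nontrivial D := by
    refine ⟨⟨0, 1, ?_⟩⟩
    intro h
    have := congrArg (fun f : D => (f : Module.End (ZMod p) V) v₀) h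
    exact hv₀ this.symm
  have hdom : IsDomain D := NoZeroDivisors.to_isDomain _
  have hF := Finite.isDomain_to_isField D
  have := hF.mul_comm ⟨f, (hmem f).2 hf⟩ ⟨g, (hmem g).2 hg⟩
  exact congrArg Subtype.val this

end Cfsg.Agent.Lib.Helper12.NearIrr
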