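import Mathlib
import Cfsg.Agent.Lib.Helper12.NearIrr

/-!
# Linear groups with an irreducible abelian normal subgroup are one-dimensional semilinear

`H ≤ GL(V)` over `𝔽_p` with a normal abelian subgroup `A` irreducible on `V`:  `K = 𝔽_p[A]` is a
finite field, `V = K v₀`, and every `h ∈ H` acts as `x ↦ a σ(x)`.
-/

set_option autoImplicit false

namespace Cfsg.Agent.Lib.Helper12.NF

open Cfsg.Agent.Lib.Helper12.NearIrr

/-- a finite field has an isomorphic copy in `Type` -/
theorem exists_type_zero_field {R : Type*} [Ring R] [Finite R] (hF : IsField R) :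
    ∃ (F : Type) (_ : Field F) (_ : Fintype F), Nonempty (R ≃+* F) := by
  let _ : Field R := hF.toField
  have hs : Small.{0} R := inferInstance
  have hfin : Finite (Shrink.{0} R) := Finite.of_equiv R (equivShrink R)
  exact ⟨Shrink.{0} R, inferInstance, Fintype.ofFinite _, ⟨(Shrink.ringEquiv R).symm⟩⟩

variable {p : ℕ} [Fact p.Prime] {V : Type*} [AddCommGroup V] [Module (ZMod p) V]
variable (H : Subgroup (V ≃ₗ[ZMod p] V)) (A : Subgroup H)

theorem adj_commute (hAc : ∀ a ∈ A, ∀ b ∈ A, a * b = b * a)
    {r : Module.End (ZMod p) V} (hr : r ∈ adj H A) :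
    ∀ a ∈ A, toE H a * r = r * toE H a := by
  unfold adj at hr
  induction hr using Algebra.adjoin_induction with
  | mem x hx =>
    obtain ⟨n, hn, rfl⟩ := hx
    intro a ha
    rw [← toE_mul, ← toE_mul, hAc a ha n hn]
  | algebraMap c =>
    intro a _
    exact (Algebra.commutes c (toE H a)).symm
  | add x y _ _ hx hy =>
    intro a ha
    rw [mul_add, add_mul, hx a ha, hy a ha]
  | mul x y _ _ hx hy =>
    intro a ha
    rw [← mul_assoc, hx a ha, mul_assoc, hy a ha, mul_assoc]

theorem conj_mem_adj [A.Normal] (h : H) {r : Module.End (ZMod p) V} (hr : r ∈ adj H A) :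
    toE H h * r * toE H h⁻¹ ∈ adj H A := by
  obtain ⟨r', hr', h2⟩ := exists_conj H A h hr
  have : toE H h * r * toE H h⁻¹ = r' := by
    apply LinearMap.ext
    intro w
    rw [Module.End.mul_apply, Module.End.mul_apply, h2, toE_apply_inv]
  rw [this]
  exact hr'

/-- a nonzero endomorphism commuting with an irreducible group is injective -/
theorem injective_of_commute
    (hirr : ∀ W : Submodule (ZMod p) V,
      (∀ n ∈ A, ∀ v ∈ W, ((n : H) : V ≃ₗ[ZMod p] V) v ∈ W) → W = ⊥ ∨ W = ⊤)
    {r : Module.End (ZMod p) V} (hr : ∀ a ∈ A, toE H a * r = r * toE H a) (hr0 : r ≠ 0) :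
    Function.Injective r := by
  rw [← LinearMap.ker_eq_bot]
  have hker : ∀ n ∈ A, ∀ v ∈ LinearMap.ker r, ((n : H) : V ≃ₗ[ZMod p] V) v ∈ LinearMap.ker r := by
    intro n hn v hv
    rw [LinearMap.mem_ker] at hv ⊢
    have h2 := congrArg (fun f : Module.End (ZMod p) V => f v) (hr n hn)
    simp only [Module.End.mul_apply] at h2
    rw [hv, map_zero] at h2
    exact h2.symm
  rcases hirr _ hker with h | h
  · exact h
  · exfalso
    apply hr0
    apply LinearMap.ext
    intro v
    have : v ∈ LinearMap.ker r := by rw [h]; trivial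
    exact this

/-- **semilinearity**: a linear group with an irreducible abelian normal subgroup lies in
`ΓL(1, F)`. -/
theorem semilinear_of_irreducible_abelian [Finite V] [Nontrivial V] (hAn : A.Normal)
    (hAc : ∀ a ∈ A, ∀ b ∈ A, a * b = b * a)
    (hirr : ∀ W : Submodule (ZMod p) V,
      (∀ n ∈ A, ∀ v ∈ W, ((n : H) : V ≃ₗ[ZMod p] V) v ∈ W) → W = ⊥ ∨ W = ⊤) :
    ∃ (F : Type) (_ : Field F) (_ : Fintype F) (e : V ≃+ F),
      ∀ h : H, ∃ (a : F) (σ : F ≃+* F), ∀ v : V, e ((h : V ≃ₗ[ZMod p] V) v) = a * σ (e v) := by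
  have := hAn
  have := finite_end (p := p) (V := V)
  obtain ⟨v₀, hv₀⟩ := exists_ne (0 : V)
  -- `K` is a finite commutative domain
  have hKc : ∀ r s : adj H A, r * s = s * r := by
    intro r s
    apply Subtype.ext
    exact centralizer_comm H A hirr r s (adj_commute H A hAc r.2) (adj_commute H A hAc s.2)
  have hKinj : ∀ r : adj H A, r ≠ 0 → Function.Injective (r : Module.End (ZMod p) V) := by
    intro r hr
    exact injective_of_commute H A hirr (adj_commute H A hAc r.2) (fun h => hr (Subtype.ext h))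
  have hnzd : NoZeroDivisors (adj H A) := by
    constructor
    intro a b hab
    by_contra hne
    push Not at hne
    obtain ⟨ha, hb⟩ := hne
    have hb' : (b : Module.End (ZMod p) V) ≠ 0 := fun h => hb (Subtype.ext h)
    obtain ⟨x, hx⟩ : ∃ x : V, (b : Module.End (ZMod p) V) x ≠ 0 := by
      by_contra hall
      push Not at hall
      exact hb' (LinearMap.ext hall)
    have h1 : (a : Module.End (ZMod p) V) ((b : Module.End (ZMod p) V) x) = 0 := by
      have := congrArg (fun f : adj H A => (f : Module.End (ZMod p) V) x) hab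
      exact this
    rw [← map_zero (a : Module.End (ZMod p) V)] at h1
    exact hx (hKinj a ha h1)
  have hnt : Nontrivial (adj H A) := by
    refine ⟨⟨0, 1, ?_⟩⟩
    intro h
    have := congrArg (fun f : adj H A => (f : Module.End (ZMod p) V) v₀) h
    exact hv₀ this.symm
  have hdom : IsDomain (adj H A) := NoZeroDivisors.to_isDomain _
  have hF := Finite.isDomain_to_isField (adj H A)
  obtain ⟨F, instF, instFin, ⟨ψ⟩⟩ := exists_type_zero_field hF
  -- evaluation at `v₀`
  obtain ⟨ev, hev⟩ : ∃ ev : adj H A →+ V, ∀ r : adj H A, ev r = (r : Module.End (ZMod p) V) v₀ :=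
    ⟨{ toFun := fun r => (r : Module.End (ZMod p) V) v₀
       map_zero' := rfl
       map_add' := fun _ _ => rfl }, fun _ => rfl⟩
  have hevinj : Function.Injective ev := by
    rw [injective_iff_map_eq_zero]
    intro r hr
    by_contra hr0
    rw [hev] at hr
    rw [← map_zero (r : Module.End (ZMod p) V)] at hr
    exact hv₀ (hKinj r hr0 hr)
  have hevsurj : Function.Surjective ev := by
    have hcyc : cyc H A v₀ = ⊤ := by
      have hinv : ∀ n ∈ A, ∀ v ∈ cyc H A v₀, ((n : H) : V ≃ₗ[ZMod p] V) v ∈ cyc H A v₀ :=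
        fun n hn v hv => apply_mem_cyc H A (toE_mem_adj H A hn) hv
      rcases hirr _ hinv with h | h
      · exfalso
        have := self_mem_cyc H A v₀
        rw [h] at this
        exact hv₀ ((Submodule.mem_bot _).1 this)
      · exact h
    intro v
    have hv : v ∈ cyc H A v₀ := by rw [hcyc]; trivial
    obtain ⟨r, hr, rfl⟩ := hv
    exact ⟨⟨r, hr⟩, hev _⟩
  obtain ⟨E, hE⟩ : ∃ E : adj H A ≃+ V, ∀ r, E r = ev r :=
    ⟨AddEquiv.ofBijective ev ⟨hevinj, hevsurj⟩, fun _ => rfl⟩
  have hEsymm : ∀ v : V, ((E.symm v : adj H A) : Module.End (ZMod p) V) v₀ = v := by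
    intro v
    rw [← hev, ← hE, AddEquiv.apply_symm_apply]
  refine ⟨F, instF, instFin, E.symm.trans ψ.toAddEquiv, ?_⟩
  intro h
  -- the conjugation automorphism of `K`
  obtain ⟨σK, hσK⟩ : ∃ σK : adj H A ≃+* adj H A, ∀ r : adj H A,
      ((σK r : adj H A) : Module.End (ZMod p) V) = toE H h * r * toE H h⁻¹ := by
    have e1 : toE H h⁻¹ * toE H h = 1 := by rw [← toE_mul, inv_mul_cancel, toE_one]
    have e2 : toE H h * toE H h⁻¹ = 1 := by rw [← toE_mul, mul_inv_cancel, toE_one]
    refine ⟨
      { toFun := fun r => ⟨toE H h * r * toE H h⁻¹, conj_mem_adj H A h r.2⟩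
        invFun := fun r => ⟨toE H h⁻¹ * r * toE H h, by
          have := conj_mem_adj H A h⁻¹ r.2
          rwa [inv_inv] at this⟩
        left_inv := by
          intro r
          apply Subtype.ext
          show toE H h⁻¹ * (toE H h * r * toE H h⁻¹) * toE H h = r
          calc toE H h⁻¹ * (toE H h * r * toE H h⁻¹) * toE H h
              = (toE H h⁻¹ * toE H h) * r * (toE H h⁻¹ * toE H h) := by noncomm_ring
            _ = r := by rw [e1, one_mul, mul_one]
        right_inv := by
          intro r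
          apply Subtype.ext
          show toE H h * (toE H h⁻¹ * r * toE H h) * toE H h⁻¹ = r
          calc toE H h * (toE H h⁻¹ * r * toE H h) * toE H h⁻¹
              = (toE H h * toE H h⁻¹) * r * (toE H h * toE H h⁻¹) := by noncomm_ring
            _ = r := by rw [e2, one_mul, mul_one]
        map_mul' := by
          intro r s
          apply Subtype.ext
          show toE H h * (r * s : Module.End (ZMod p) V) * toE H h⁻¹
            = (toE H h * r * toE H h⁻¹) * (toE H h * s * toE H h⁻¹)
          calc toE H h * (r * s : Module.End (ZMod p) V) * toE H h⁻¹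
              = toE H h * r * 1 * s * toE H h⁻¹ := by noncomm_ring
            _ = (toE H h * r * toE H h⁻¹) * (toE H h * s * toE H h⁻¹) := by
                rw [← e1]; noncomm_ring
        map_add' := by
          intro r s
          apply Subtype.ext
          show toE H h * (r + s : Module.End (ZMod p) V) * toE H h⁻¹
            = (toE H h * r * toE H h⁻¹) + (toE H h * s * toE H h⁻¹)
          noncomm_ring }, fun _ => rfl⟩
  obtain ⟨kh, hkh⟩ : ∃ kh : adj H A, (kh : Module.End (ZMod p) V) v₀ = toE H h v₀ := by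
    obtain ⟨k, hk⟩ := hevsurj (toE H h v₀)
    exact ⟨k, by rw [← hev, hk]⟩
  refine ⟨ψ kh, (ψ.symm.trans σK).trans ψ, ?_⟩
  intro v
  obtain ⟨r, hr⟩ : ∃ r : adj H A, r = E.symm v := ⟨_, rfl⟩
  have hrv : (r : Module.End (ZMod p) V) v₀ = v := by rw [hr]; exact hEsymm v
  have key : E.symm ((h : V ≃ₗ[ZMod p] V) v) = kh * σK r := by
    apply E.injective
    rw [AddEquiv.apply_symm_apply, hE, hev, hKc]
    show (h : V ≃ₗ[ZMod p] V) v = ((σK r : adj H A) : Module.End (ZMod p) V)
      ((kh : Module.End (ZMod p) V) v₀)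
    rw [hσK, hkh, Module.End.mul_apply, Module.End.mul_apply, toE_inv_apply, hrv]
    rfl
  show ψ (E.symm ((h : V ≃ₗ[ZMod p] V) v)) = ψ kh * ψ (σK (ψ.symm (ψ (E.symm v))))
  rw [key, map_mul, RingEquiv.symm_apply_apply, ← hr]

end Cfsg.Agent.Lib.Helper12.NF
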