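import Mathlib

/-!
# Generic counting lemmas for additive group actions (for Huppert's theorem, case `2^6`)
-/

set_option autoImplicit false

namespace Cfsg.Agent.Lib.Helper12.Hup26

/-- the order of a group acting freely divides the size of the set -/
theorem card_dvd_of_free {G X : Type*} [Group G] [MulAction G X]
    (h : ∀ (g : G) (x : X), g • x = x → g = 1) : Nat.card G ∣ Nat.card X := by
  have hstab : ∀ b : X, MulAction.stabilizer G b = ⊥ := by
    intro b
    rw [eq_bot_iff]
    intro g hg
    rw [Subgroup.mem_bot]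
    exact h g b (MulAction.mem_stabilizer_iff.mp hg)
  have e := MulAction.selfEquivOrbitsQuotientProd hstab
  rw [Nat.card_congr e, Nat.card_prod]
  exact dvd_mul_left _ _

section generic

variable {Γ : Type*} [Group Γ] {V : Type*} [AddCommGroup V] [MulAction Γ V]

/-- the action is additive -/
def IsAdd (Γ V : Type*) [Group Γ] [AddCommGroup V] [MulAction Γ V] : Prop :=
  ∀ (g : Γ) (v w : V), g • (v + w) = g • v + g • w

theorem IsAdd.smul_zero (h : IsAdd Γ V) (g : Γ) : g • (0 : V) = 0 := by
  have h1 := h g 0 0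
  rw [add_zero] at h1
  simpa using h1

theorem IsAdd.smul_ne_zero (h : IsAdd Γ V) (g : Γ) {v : V} (hv : v ≠ 0) : g • v ≠ 0 := by
  intro h0
  apply hv
  have h1 : g⁻¹ • (g • v) = g⁻¹ • (0 : V) := by rw [h0]
  rwa [inv_smul_smul, h.smul_zero] at h1

/-- the fixed points of an additive action form an additive subgroup -/
def fixAdd (h : IsAdd Γ V) : AddSubgroup V where
  carrier := MulAction.fixedPoints Γ V
  zero_mem' := fun g => h.smul_zero g
  add_mem' := by
    intro a b ha hb g
    rw [h, ha g, hb g]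
  neg_mem' := by
    intro a ha g
    have h1 := h g (-a) a
    rw [neg_add_cancel, h.smul_zero, ha g] at h1
    exact eq_neg_of_add_eq_zero_left h1.symm

theorem mem_fixAdd (h : IsAdd Γ V) (v : V) : v ∈ fixAdd h ↔ ∀ g : Γ, g • v = v := Iff.rfl

theorem card_fixAdd_dvd [Finite V] (h : IsAdd Γ V) : Nat.card (fixAdd h) ∣ Nat.card V :=
  (fixAdd h).card_addSubgroup_dvd_card

theorem card_modEq_card_fixAdd [Finite V] (h : IsAdd Γ V) {p : ℕ} [Fact p.Prime]
    (hΓ : IsPGroup p Γ) : Nat.card V ≡ Nat.card (fixAdd h) [MOD p] :=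
  hΓ.card_modEq_card_fixedPoints V

/-- a group acting additively, leaving the additive subgroup `W` invariant and acting freely on
its non-zero elements, has order dividing `|W| - 1` -/
theorem card_dvd_card_sub_one [Finite V] (h : IsAdd Γ V) (W : AddSubgroup V)
    (hinv : ∀ (g : Γ), ∀ v ∈ W, g • v ∈ W)
    (hfree : ∀ g : Γ, g ≠ 1 → ∀ v ∈ W, v ≠ 0 → g • v ≠ v) :
    Nat.card Γ ∣ Nat.card W - 1 := by
  classical
  let Y : SubMulAction Γ V :=
    { carrier := {v | v ∈ W ∧ v ≠ 0}
      smul_mem' := fun g v hv => ⟨hinv g v hv.1, h.smul_ne_zero g hv.2⟩ }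
  have hfreeY : ∀ (g : Γ) (y : Y), g • y = y → g = 1 := by
    intro g y hy
    by_contra hg
    have h1 : g • (y : V) = y := by
      have := congrArg Subtype.val hy
      simpa using this
    exact hfree g hg y.1 y.2.1 y.2.2 h1
  have h1 := card_dvd_of_free hfreeY
  have h2 : Nat.card Y = Nat.card W - 1 := by
    have e1 : Nat.card Y = ({v | v ∈ W ∧ v ≠ 0} : Set V).ncard := Nat.card_coe_set_eq _
    have e2 : ({v | v ∈ W ∧ v ≠ 0} : Set V) = (W : Set V) \ {0} := by
      ext v
      simp
    have e3 : Nat.card W = (W : Set V).ncard := Nat.card_coe_set_eq _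
    rw [e1, e2, Set.ncard_sdiff_singleton_of_mem (show (0 : V) ∈ (W : Set V) from W.zero_mem), e3]
  rwa [h2] at h1

end generic

/-- a group of order dividing `p ^ 2` is commutative -/
theorem comm_of_card_dvd_sq {G : Type*} [Group G] [Finite G] {p : ℕ} [hp : Fact p.Prime]
    (h : Nat.card G ∣ p ^ 2) : ∀ a b : G, a * b = b * a := by
  obtain ⟨k, hk, hcard⟩ := (Nat.dvd_prime_pow hp.out).1 h
  interval_cases k
  · rw [pow_zero] at hcard
    have := (Nat.card_eq_one_iff_unique.mp hcard).1
    intro a b
    exact Subsingleton.elim _ _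
  · rw [pow_one] at hcard
    have := isCyclic_of_prime_card hcard
    intro a b
    exact IsCyclic.commGroup.mul_comm a b
  · have h2 := IsPGroup.isMulCommutative_of_card_eq_prime_sq hcard
    intro a b
    exact h2.is_comm.comm a b

/-- an element of order dividing `7` centralizes every normal subgroup of order dividing `81` -/
theorem centralizes_of_seven {G : Type*} [Group G] [Finite G] (T : Subgroup G) [T.Normal]
    (hT : Nat.card T ∣ 81) (g : G) (hg : g ^ 7 = 1) : ∀ t ∈ T, g * t = t * g := by
  classical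
  have : Fact (Nat.Prime 7) := ⟨by norm_num⟩
  let Q : Subgroup G := Subgroup.zpowers g
  let φ : Q →* MulAut T := (MulAut.conjNormal (H := T)).comp Q.subtype
  let _ : MulAction Q T := MulAction.compHom T φ
  have hsmul : ∀ (k : Q) (t : T), ((k • t : T) : G) = (k : G) * t * (k : G)⁻¹ := by
    intro k t
    rfl
  have hQ : IsPGroup 7 Q := by
    rintro ⟨k, hk⟩
    obtain ⟨n, rfl⟩ := Subgroup.mem_zpowers_iff.mp hk
    refine ⟨1, ?_⟩
    apply Subtype.ext
    rw [pow_one, Subgroup.coe_pow, Subgroup.coe_one]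
    show (g ^ n) ^ 7 = 1
    rw [← zpow_natCast, ← zpow_mul, mul_comm, zpow_mul, zpow_natCast, hg, one_zpow]
  have hmod := hQ.card_modEq_card_fixedPoints T
  let C : Subgroup T := (Subgroup.centralizer ({g} : Set G)).subgroupOf T
  have hfix : (MulAction.fixedPoints Q T : Set T) = (C : Set T) := by
    ext t
    rw [MulAction.mem_fixedPoints, SetLike.mem_coe, Subgroup.mem_subgroupOf,
      Subgroup.mem_centralizer_iff]
    constructor
    · intro h x hx
      rw [Set.mem_singleton_iff] at hx
      subst hx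
      have h1 := congrArg Subtype.val (h ⟨x, Subgroup.mem_zpowers x⟩)
      rw [hsmul] at h1
      -- h1 : x * t * x⁻¹ = t
      calc x * (t : G) = x * t * x⁻¹ * x := by group
        _ = t * x := by rw [h1]
    · intro h k
      obtain ⟨k, hk⟩ := k
      obtain ⟨n, rfl⟩ := Subgroup.mem_zpowers_iff.mp hk
      apply Subtype.ext
      rw [hsmul]
      have h1 : Commute g (t : G) := h g (Set.mem_singleton g)
      have h2 : Commute (g ^ n) (t : G) := h1.zpow_left n
      show g ^ n * (t : G) * (g ^ n)⁻¹ = t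
      rw [h2.eq, mul_inv_cancel_right]
  have hcardfix : Nat.card (MulAction.fixedPoints Q T) = Nat.card C := by
    rw [hfix]
    rfl
  rw [hcardfix] at hmod
  have hCdvd : Nat.card C ∣ Nat.card T := Subgroup.card_subgroup_dvd_card C
  obtain ⟨a, ha, hTa⟩ := (Nat.dvd_prime_pow Nat.prime_three).1 (show Nat.card T ∣ 3 ^ 4 from hT)
  rw [hTa] at hCdvd hmod
  obtain ⟨b, hb, hCb⟩ := (Nat.dvd_prime_pow Nat.prime_three).1 hCdvd
  rw [hCb] at hmod
  have hab : a = b := by
    interval_cases a <;> interval_cases b <;> first | rfl | (exfalso; revert hmod; decide)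
  have hCtop : C = ⊤ := by
    apply Subgroup.eq_top_of_card_eq
    rw [hCb, hTa, hab]
  intro t ht
  have h1 : (⟨t, ht⟩ : T) ∈ C := by rw [hCtop]; exact Subgroup.mem_top _
  rw [Subgroup.mem_subgroupOf, Subgroup.mem_centralizer_iff] at h1
  exact h1 g (Set.mem_singleton g)

end Cfsg.Agent.Lib.Helper12.Hup26
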