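import Mathlib

/-!
# Normal subgroups of index two via Burnside's transfer theorem
-/

set_option autoImplicit false

namespace Cfsg.Agent.Lib.Helper12.NF

variable {G : Type*} [Group G]

theorem exists_index_two_of_surjective {G' : Type*} [Group G'] (f : G →* G')
    (hf : Function.Surjective f) (h : ∃ N : Subgroup G', N.Normal ∧ N.index = 2) :
    ∃ N : Subgroup G, N.Normal ∧ N.index = 2 := by
  obtain ⟨N, hN, hi⟩ := h
  exact ⟨N.comap f, hN.comap f, by rw [Subgroup.index_comap_of_surjective N hf, hi]⟩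

theorem exists_index_two_of_quotient (K : Subgroup G) [K.Normal]
    (h : ∃ N : Subgroup (G ⧸ K), N.Normal ∧ N.index = 2) :
    ∃ N : Subgroup G, N.Normal ∧ N.index = 2 :=
  exists_index_two_of_surjective (QuotientGroup.mk' K) (QuotientGroup.mk'_surjective K) h

variable [Finite G]

/-- a nontrivial `2`-group has a (normal) subgroup of index `2` -/
theorem exists_index_two_of_isPGroup (hG : IsPGroup 2 G) (hnt : Nontrivial G) :
    ∃ N : Subgroup G, N.Normal ∧ N.index = 2 := by
  have : Fact (Nat.Prime 2) := ⟨Nat.prime_two⟩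
  obtain ⟨k, hk⟩ := IsPGroup.iff_card.mp hG
  have hk0 : k ≠ 0 := by
    rintro rfl
    rw [pow_zero] at hk
    have := (Nat.card_eq_one_iff_unique.mp hk).1
    exact not_subsingleton G this
  obtain ⟨S, hS⟩ := Sylow.exists_subgroup_card_pow_prime (G := G) 2 (n := k - 1)
    (by rw [hk]; exact pow_dvd_pow 2 (Nat.sub_le k 1))
  have hidx : S.index = 2 := by
    have h1 := Subgroup.card_mul_index S
    rw [hS, hk] at h1
    have h2 : 2 ^ k = 2 ^ (k - 1) * 2 := by
      rw [← pow_succ]; congr 1; omega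
    rw [h2] at h1
    exact Nat.eq_of_mul_eq_mul_left (by positivity) h1
  exact ⟨S, Subgroup.normal_of_index_eq_two hidx, hidx⟩

/-- Burnside: a nontrivial Sylow `2`-subgroup in the centre of its normaliser gives a normal
subgroup of index `2`. -/
theorem exists_index_two_of_sylow [Fact (Nat.Prime 2)] (P : Sylow 2 G)
    (hP1 : (P : Subgroup G) ≠ ⊥)
    (hNC : Subgroup.normalizer (P : Set G) ≤ Subgroup.centralizer (P : Set G)) :
    ∃ N : Subgroup G, N.Normal ∧ N.index = 2 := by
  obtain ⟨f, hf⟩ : ∃ f : G →* P, f = MonoidHom.transferSylow P hNC := ⟨_, rfl⟩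
  have hcompl : Subgroup.IsComplement' f.ker P := by
    rw [hf]; exact MonoidHom.ker_transferSylow_isComplement' P hNC
  have hsurj : Function.Surjective f := by
    rw [← MonoidHom.range_eq_top]
    apply Subgroup.eq_top_of_card_eq
    rw [← Subgroup.index_ker]
    exact hcompl.symm.index_eq_card
  apply exists_index_two_of_surjective f hsurj
  apply exists_index_two_of_isPGroup P.isPGroup'
  exact (Subgroup.nontrivial_iff_ne_bot _).mpr hP1

theorem exists_index_two_of_isCyclic_sylow [Fact (Nat.Prime 2)] (P : Sylow 2 G)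
    (hP1 : (P : Subgroup G) ≠ ⊥) (hc : IsCyclic P) :
    ∃ N : Subgroup G, N.Normal ∧ N.index = 2 := by
  have h2 : 2 ∣ Nat.card G := by
    have h1 : Nat.card P ∣ Nat.card G := Subgroup.card_subgroup_dvd_card _
    refine dvd_trans ?_ h1
    obtain ⟨k, hk⟩ := IsPGroup.iff_card.mp P.isPGroup'
    rw [hk]
    apply dvd_pow_self
    rintro rfl
    rw [pow_zero] at hk
    exact hP1 (Subgroup.card_eq_one.mp hk)
  have hmin : (Nat.card G).minFac = 2 := (Nat.minFac_eq_two_iff _).mpr h2
  exact exists_index_two_of_sylow P hP1 (hc.normalizer_le_centralizer hmin)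

theorem exists_index_two_of_comm (hcomm : ∀ a b : G, a * b = b * a) (h2 : 2 ∣ Nat.card G) :
    ∃ N : Subgroup G, N.Normal ∧ N.index = 2 := by
  have : Fact (Nat.Prime 2) := ⟨Nat.prime_two⟩
  obtain ⟨P⟩ : Nonempty (Sylow 2 G) := inferInstance
  have hP1 : (P : Subgroup G) ≠ ⊥ := P.ne_bot_of_dvd_card h2
  apply exists_index_two_of_sylow P hP1
  intro g _
  rw [Subgroup.mem_centralizer_iff]
  intro x _
  exact hcomm x g

theorem exists_index_two_of_card (m : ℕ) (hm : Odd m) (h : Nat.card G = 2 * m) :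
    ∃ N : Subgroup G, N.Normal ∧ N.index = 2 := by
  have : Fact (Nat.Prime 2) := ⟨Nat.prime_two⟩
  obtain ⟨P⟩ : Nonempty (Sylow 2 G) := inferInstance
  have hm0 : m ≠ 0 := by rintro rfl; simp at hm
  have hnd : ¬ 2 ∣ m := by rwa [← Nat.not_even_iff_odd, even_iff_two_dvd] at hm
  have hcard : Nat.card P = 2 := by
    rw [P.card_eq_multiplicity, h, Nat.factorization_mul (by norm_num) hm0, Finsupp.add_apply,
      Nat.prime_two.factorization_self, Nat.factorization_eq_zero_of_not_dvd hnd]
    norm_num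
  have hP1 : (P : Subgroup G) ≠ ⊥ := by
    intro hb
    rw [hb, Subgroup.card_bot] at hcard
    omega
  have hc : IsCyclic P := isCyclic_of_prime_card hcard
  exact exists_index_two_of_isCyclic_sylow P hP1 hc

end Cfsg.Agent.Lib.Helper12.NF
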