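import Mathlib
import Cfsg.Agent.S0688
import Cfsg.Agent.Lib.Helper23.SL23Recog
import Cfsg.Agent.Lib.Helper12.NF1
import Cfsg.Agent.Lib.Helper12.NearIrr

/-!
# Solvable linear groups regular on the non-zero vectors: subgroups of index two
-/

set_option autoImplicit false

namespace Cfsg.Agent.Lib.Helper12.NF

open Cfsg.Agent.Lib.Helper12.NearIrr
open Cfsg.H5.NearQ8
open scoped commutatorElement

theorem conjNormal_ker {G : Type*} [Group G] (N : Subgroup G) [N.Normal] :
    (MulAut.conjNormal (H := N)).ker = Subgroup.centralizer (N : Set G) := by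
  ext g
  rw [MonoidHom.mem_ker, Subgroup.mem_centralizer_iff]
  constructor
  · intro h0 s hs
    have h1 := DFunLike.congr_fun h0 ⟨s, hs⟩
    rw [MulAut.one_apply] at h1
    have h2 := congrArg Subtype.val h1
    rw [MulAut.conjNormal_apply] at h2
    have h3 : g * s * g⁻¹ = s := h2
    calc s * g = (g * s * g⁻¹) * g := by rw [h3]
      _ = g * s := by group
  · intro h
    apply MulEquiv.ext
    intro s
    apply Subtype.ext
    rw [MulAut.one_apply, MulAut.conjNormal_apply]
    have h1 := h s s.2
    show g * (s : G) * g⁻¹ = s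
    rw [← h1]; group

/-- `N/C`: the index of the centraliser of a normal subgroup divides the order of its
automorphism group -/
theorem index_centralizer_dvd_card_mulAut {G : Type*} [Group G] (N : Subgroup G) [N.Normal]
    [Finite (MulAut N)] :
    (Subgroup.centralizer (N : Set G)).index ∣ Nat.card (MulAut N) := by
  rw [← conjNormal_ker, Subgroup.index_ker]
  exact Subgroup.card_subgroup_dvd_card _

theorem sylow_card_of_exact {G : Type*} [Group G] [Finite G] {r : ℕ} [Fact r.Prime]
    (P : Sylow r G) (h1 : r ∣ Nat.card G) (h2 : ¬ r ^ 2 ∣ Nat.card G) : Nat.card P = r := by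
  obtain ⟨k, hk⟩ := IsPGroup.iff_card.mp P.isPGroup'
  have h3 : r ∣ Nat.card P := P.dvd_card_of_dvd_card h1
  have h4 : Nat.card P ∣ Nat.card G := Subgroup.card_subgroup_dvd_card _
  have hr : r.Prime := Fact.out
  rcases Nat.lt_or_ge k 2 with hlt | hge
  · interval_cases k
    · rw [hk, pow_zero, Nat.dvd_one] at h3
      exact absurd h3 hr.one_lt.ne'
    · rw [hk, pow_one]
  · exfalso
    apply h2
    refine dvd_trans (pow_dvd_pow r hge) ?_
    rw [← hk]
    exact h4

theorem eq_top_of_dvd_card {G : Type*} [Group G] [Finite G] (L : Subgroup G)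
    (h : Nat.card G ∣ Nat.card L) : L = ⊤ := by
  apply Subgroup.eq_top_of_card_eq
  exact Nat.dvd_antisymm (Subgroup.card_subgroup_dvd_card L) h

variable {p : ℕ} [Fact p.Prime] {V : Type*} [AddCommGroup V] [Module (ZMod p) V]

/-- **Case I**: an irreducible cyclic normal subgroup and even order give a subgroup of
index two. -/
theorem exists_index_two_caseI [Finite V] [Nontrivial V] (H : Subgroup (V ≃ₗ[ZMod p] V))
    (hfree : ∀ h : H, ∀ v : V, v ≠ 0 → (h : V ≃ₗ[ZMod p] V) v = v → h = 1)
    (A : Subgroup H) (hAn : A.Normal) (hAcyc : IsCyclic A)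
    (hirr : ∀ W : Submodule (ZMod p) V,
      (∀ n ∈ A, ∀ v ∈ W, ((n : H) : V ≃ₗ[ZMod p] V) v ∈ W) → W = ⊥ ∨ W = ⊤)
    (h2 : 2 ∣ Nat.card H) :
    ∃ N : Subgroup H, N.Normal ∧ N.index = 2 := by
  classical
  have : Fact (Nat.Prime 2) := ⟨Nat.prime_two⟩
  have : Finite H := Cfsg.H5.NearFinal.finite_H
  have hAC : AbCyc H := fun B hB => Cfsg.Agent.S0684.isCyclic_of_semiregular H hfree B hB
  have := hAn
  obtain ⟨C, hC⟩ : ∃ C : Subgroup H, C = Subgroup.centralizer (A : Set H) := ⟨_, rfl⟩
  have hCn : C.Normal := by rw [hC]; infer_instance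
  have hCcomm : ∀ a ∈ C, ∀ b ∈ C, a * b = b * a := by
    intro a ha b hb
    rw [hC] at ha hb
    apply toE_injective H
    rw [toE_mul, toE_mul]
    apply centralizer_comm H A hirr
    · intro n hn
      rw [← toE_mul, ← toE_mul, Subgroup.mem_centralizer_iff.1 ha n hn]
    · intro n hn
      rw [← toE_mul, ← toE_mul, Subgroup.mem_centralizer_iff.1 hb n hn]
  -- `H' ≤ C`
  have hcomm_le : commutator H ≤ C := by
    obtain ⟨f, hf⟩ : ∃ f : H →* (ZMod (Nat.card A))ˣ,
        f = (IsCyclic.mulAutMulEquiv (G := A)).toMonoidHom.comp (MulAut.conjNormal (H := A)) :=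
      ⟨_, rfl⟩
    have hker : f.ker = C := by
      rw [hC, ← conjNormal_ker]
      ext g
      rw [MonoidHom.mem_ker, MonoidHom.mem_ker, hf, MonoidHom.comp_apply]
      exact MulEquiv.map_eq_one_iff (IsCyclic.mulAutMulEquiv (G := A))
    rw [← hker]
    exact Abelianization.commutator_subset_ker f
  have hQcomm : ∀ x y : H ⧸ C, x * y = y * x := by
    intro x y
    induction x using QuotientGroup.induction_on with | H g => ?_
    induction y using QuotientGroup.induction_on with | H h => ?_
    rw [← QuotientGroup.mk_mul, ← QuotientGroup.mk_mul, QuotientGroup.eq]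
    apply hcomm_le
    have : (g * h)⁻¹ * (h * g) = ⁅h⁻¹, g⁻¹⁆ := by
      rw [commutatorElement_def]; group
    rw [this]
    exact Subgroup.commutator_mem_commutator (Subgroup.mem_top _) (Subgroup.mem_top _)
  by_cases hev : 2 ∣ Nat.card (H ⧸ C)
  · exact exists_index_two_of_quotient C (exists_index_two_of_comm hQcomm hev)
  · -- the Sylow `2`-subgroups lie in `C`, which is cyclic
    obtain ⟨T⟩ : Nonempty (Sylow 2 H) := inferInstance
    have hT1 : (T : Subgroup H) ≠ ⊥ := T.ne_bot_of_dvd_card h2
    have hTC : (T : Subgroup H) ≤ C := by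
      intro t ht
      rw [← QuotientGroup.eq_one_iff]
      have h1 : orderOf (QuotientGroup.mk' C t) ∣ Nat.card (H ⧸ C) := orderOf_dvd_natCard _
      have h3 : orderOf (QuotientGroup.mk' C t) ∣ orderOf t := orderOf_map_dvd _ t
      obtain ⟨k, hk⟩ := (IsPGroup.iff_orderOf.mp T.isPGroup') ⟨t, ht⟩
      rw [Subgroup.orderOf_mk] at hk
      rw [hk] at h3
      obtain ⟨m, -, hm⟩ := (Nat.dvd_prime_pow Nat.prime_two).1 h3
      rcases Nat.eq_zero_or_pos m with h0 | h0
      · rw [h0, pow_zero, orderOf_eq_one_iff] at hm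
        exact hm
      · exfalso
        apply hev
        refine dvd_trans ?_ h1
        rw [hm]
        exact dvd_pow_self 2 h0.ne'
    have hCc : IsMulCommutative C :=
      ⟨⟨fun a b => Subtype.ext (hCcomm a a.2 b b.2)⟩⟩
    have hCcyc : IsCyclic C := hAC C hCc
    have hTcyc : IsCyclic T := by
      have e := Subgroup.subgroupOfEquivOfLe hTC
      have : IsCyclic ((T : Subgroup H).subgroupOf C) := Subgroup.isCyclic _
      exact isCyclic_of_surjective e.toMonoidHom e.surjective
    exact exists_index_two_of_isCyclic_sylow T hT1 hTcyc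

end Cfsg.Agent.Lib.Helper12.NF
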