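import Mathlib
import Cfsg.Agent.Lib.Helper1.Fitting
import Cfsg.Agent.Lib.Helper12.NF3
import Cfsg.Agent.Lib.Helper12.NF2
import Cfsg.Agent.Lib.Helper12.Hup26a

/-!
# Huppert's theorem, the case `|V| = 2^6`

A solvable subgroup `H` of `GL(6,2)`, transitive on the non-zero vectors, in which every abelian
normal subgroup acts semiregularly on the non-zero vectors (`Lemma C`), has an irreducible abelian
normal subgroup.
-/

set_option autoImplicit false

namespace Cfsg.Agent.Lib.Helper12.Hup26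

open Cfsg Cfsg.Agent.Lib.Helper1

variable {V : Type*} [AddCommGroup V] [Module (ZMod 2) V]

theorem smul_coe (H : Subgroup (V ≃ₗ[ZMod 2] V)) (B : Subgroup H) (b : B) (v : V) :
    b • v = ((b : H) : V ≃ₗ[ZMod 2] V) v := rfl

theorem isAdd_sub (H : Subgroup (V ≃ₗ[ZMod 2] V)) (B : Subgroup H) : IsAdd B V := by
  intro g v w
  rw [smul_coe, smul_coe, smul_coe, map_add]

theorem card_GL64 [Finite V] (hV : Nat.card V = 64) :
    Nat.card (V ≃ₗ[ZMod 2] V) = 63 * 62 * 60 * 56 * 48 * 32 := by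
  classical
  have : Module.Finite (ZMod 2) V := Module.Finite.of_finite
  have hfr : Module.finrank (ZMod 2) V = 6 := by
    have h := Module.natCard_eq_pow_finrank (K := ZMod 2) (V := V)
    rw [hV, Nat.card_zmod] at h
    have h2 : (2 : ℕ) ^ 6 = 2 ^ Module.finrank (ZMod 2) V := by rw [← h]; norm_num
    exact (Nat.pow_right_injective (le_refl 2) h2).symm
  let b := Module.finBasis (ZMod 2) V
  rw [← Nat.card_congr ((Matrix.GeneralLinearGroup.toLin' b).trans
      (LinearMap.GeneralLinearGroup.generalLinearEquiv (ZMod 2) V)).toEquiv,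
    Matrix.card_GL_field,
    Fin.prod_univ_eq_prod_range
      (fun i => Fintype.card (ZMod 2) ^ Module.finrank (ZMod 2) V - Fintype.card (ZMod 2) ^ i),
    hfr, ZMod.card]
  decide

/-- semiregular subgroups have order dividing `|V| - 1` -/
theorem card_dvd_of_semireg [Finite V] (H : Subgroup (V ≃ₗ[ZMod 2] V)) (B : Subgroup H)
    (hB : ∀ a ∈ B, a ≠ 1 → ∀ v : V, v ≠ 0 → ((a : H) : V ≃ₗ[ZMod 2] V) v ≠ v) :
    Nat.card B ∣ Nat.card V - 1 := by
  have h := card_dvd_card_sub_one (isAdd_sub H B) (⊤ : AddSubgroup V)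
    (fun _ _ _ => AddSubgroup.mem_top _)
    (fun g hg v _ hv => by
      rw [smul_coe]
      exact hB g g.2 (fun h1 => hg (Subtype.ext h1)) v hv)
  rwa [AddSubgroup.card_top] at h

/-- an element of order `3` commuting with a semiregular subgroup of order `7` has no non-zero
fixed vector (`|V| = 64`) -/
theorem fpf_of_order_three [Finite V] (hV : Nat.card V = 64) (H : Subgroup (V ≃ₗ[ZMod 2] V))
    (A : Subgroup H) (hA7 : Nat.card A = 7)
    (hAsr : ∀ a ∈ A, a ≠ 1 → ∀ v : V, v ≠ 0 → ((a : H) : V ≃ₗ[ZMod 2] V) v ≠ v)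
    (t : H) (ht : orderOf t = 3) (hcomm : ∀ a ∈ A, a * t = t * a) :
    ∀ v : V, v ≠ 0 → ((t : H) : V ≃ₗ[ZMod 2] V) v ≠ v := by
  classical
  have : Fact (Nat.Prime 3) := ⟨Nat.prime_three⟩
  let Q : Subgroup H := Subgroup.zpowers t
  have hQ3 : IsPGroup 3 Q := by
    apply IsPGroup.of_card (n := 1)
    rw [pow_one, Nat.card_zpowers, ht]
  have hadd := isAdd_sub H Q
  have hmod := card_modEq_card_fixAdd hadd hQ3
  have hdvd := card_fixAdd_dvd hadd
  rw [hV] at hmod hdvd
  -- `A` acts on the fixed space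
  have hinv : ∀ g : A, ∀ v ∈ fixAdd hadd, g • v ∈ fixAdd hadd := by
    intro g v hv k
    obtain ⟨k, hk⟩ := k
    obtain ⟨n, rfl⟩ := Subgroup.mem_zpowers_iff.mp hk
    have h1 : Commute (g : H) t := hcomm g g.2
    have h2 : Commute (g : H) (t ^ n) := h1.zpow_right n
    have h3 := hv ⟨t ^ n, hk⟩
    rw [smul_coe] at h3 ⊢
    rw [smul_coe]
    show ((t ^ n : H) : V ≃ₗ[ZMod 2] V) (((g : H) : V ≃ₗ[ZMod 2] V) v) = _
    have h4 : ((t ^ n : H) : V ≃ₗ[ZMod 2] V) (((g : H) : V ≃ₗ[ZMod 2] V) v)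
        = (((t ^ n * (g : H) : H)) : V ≃ₗ[ZMod 2] V) v := rfl
    rw [h4, ← h2.eq]
    show ((g : H) : V ≃ₗ[ZMod 2] V) (((t ^ n : H) : V ≃ₗ[ZMod 2] V) v) = _
    have h5 : ((t ^ n : H) : V ≃ₗ[ZMod 2] V) v = v := h3
    rw [h5]
  have h7 := card_dvd_card_sub_one (isAdd_sub H A) (fixAdd hadd) hinv
    (fun g hg v _ hv => by
      rw [smul_coe]
      exact hAsr g g.2 (fun h1 => hg (Subtype.ext h1)) v hv)
  rw [hA7] at h7
  obtain ⟨c, hc, hcard⟩ := (Nat.dvd_prime_pow Nat.prime_two).1 (show _ ∣ 2 ^ 6 from hdvd)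
  rw [hcard] at hmod h7
  have hc06 : c = 0 ∨ c = 6 := by
    interval_cases c
    · exact Or.inl rfl
    · exfalso; revert hmod; decide
    · exfalso; revert h7; decide
    · exfalso; revert hmod; decide
    · exfalso; revert h7; decide
    · exfalso; revert hmod; decide
    · exact Or.inr rfl
  intro v hv hfix
  have hvmem : v ∈ fixAdd hadd := by
    intro k
    obtain ⟨k, hk⟩ := k
    obtain ⟨n, rfl⟩ := Subgroup.mem_zpowers_iff.mp hk
    rw [smul_coe]
    show ((t ^ n : H) : V ≃ₗ[ZMod 2] V) v = v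
    have h1 : t ∈ MulAction.stabilizer H v := by
      rw [MulAction.mem_stabilizer_iff]
      exact hfix
    have h2 : t ^ n ∈ MulAction.stabilizer H v := Subgroup.zpow_mem _ h1 n
    exact MulAction.mem_stabilizer_iff.mp h2
  rcases hc06 with h0 | h6
  · rw [h0, pow_zero] at hcard
    have h1 : fixAdd hadd = ⊥ := AddSubgroup.card_eq_one.mp hcard
    rw [h1, AddSubgroup.mem_bot] at hvmem
    exact hv hvmem
  · rw [h6] at hcard
    have h1 : fixAdd hadd = ⊤ := by
      apply AddSubgroup.eq_top_of_card_eq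
      rw [hcard, hV]
      norm_num
    have h2 : t = 1 := by
      apply Subtype.ext
      apply LinearEquiv.ext
      intro w
      have h3 : w ∈ fixAdd hadd := by rw [h1]; exact AddSubgroup.mem_top w
      have h4 := h3 ⟨t, Subgroup.mem_zpowers t⟩
      exact h4
    rw [h2, orderOf_one] at ht
    omega


theorem smul_coe' (H : Subgroup (V ≃ₗ[ZMod 2] V)) (h : H) (v : V) :
    h • v = (h : V ≃ₗ[ZMod 2] V) v := rfl

theorem isAdd_self (H : Subgroup (V ≃ₗ[ZMod 2] V)) : IsAdd H V := by
  intro g v w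
  rw [smul_coe', smul_coe', smul_coe', map_add]

/-- **Huppert, case `2^6`**: a solvable subgroup of `GL(6,2)` transitive on the non-zero vectors,
all of whose abelian normal subgroups are semiregular on the non-zero vectors, has an irreducible
abelian normal subgroup. -/
theorem case_two_six [Finite V] (hV : Nat.card V = 64) (H : Subgroup (V ≃ₗ[ZMod 2] V))
    (hsol : Group.IsSolvable H)
    (htrans : ∀ v w : V, v ≠ 0 → w ≠ 0 → ∃ h : H, (h : V ≃ₗ[ZMod 2] V) v = w)
    (hC : ∀ A : Subgroup H, A.Normal → (∀ a ∈ A, ∀ b ∈ A, a * b = b * a) →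
      ∀ a ∈ A, a ≠ 1 → ∀ v : V, v ≠ 0 → ((a : H) : V ≃ₗ[ZMod 2] V) v ≠ v) :
    ∃ A : Subgroup H, A.Normal ∧ (∀ a ∈ A, ∀ b ∈ A, a * b = b * a) ∧
      (∀ W : Submodule (ZMod 2) V,
        (∀ n ∈ A, ∀ v ∈ W, ((n : H) : V ≃ₗ[ZMod 2] V) v ∈ W) → W = ⊥ ∨ W = ⊤) := by
  classical
  have hfinGL : Finite (V ≃ₗ[ZMod 2] V) :=
    Finite.of_injective (fun g => (g : V → V)) DFunLike.coe_injective
  have hfinH : Finite H := inferInstance
  have : Fact (Nat.Prime 3) := ⟨Nat.prime_three⟩
  have : Fact (Nat.Prime 7) := ⟨by norm_num⟩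
  obtain ⟨v₀, hv₀⟩ : ∃ v : V, v ≠ 0 := by
    by_contra hcon
    push Not at hcon
    have h1 : Subsingleton V := ⟨fun a b => by rw [hcon a, hcon b]⟩
    have h2 : Nat.card V ≤ 1 := Finite.card_le_one_iff_subsingleton.mpr h1
    omega
  -- `63 ∣ |H|`
  have h63 : 63 ∣ Nat.card H := by
    have h1 := MulAction.index_stabilizer H v₀
    have h2 : MulAction.orbit H v₀ = {w : V | w ≠ 0} := by
      ext w
      constructor
      · rintro ⟨h, rfl⟩
        exact (isAdd_self H).smul_ne_zero h hv₀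
      · intro hw
        obtain ⟨h, hh⟩ := htrans v₀ w hv₀ hw
        exact ⟨h, hh⟩
    have h3 : ({w : V | w ≠ 0} : Set V).ncard = 63 := by
      have e : ({w : V | w ≠ 0} : Set V) = (Set.univ : Set V) \ {0} := by
        ext w
        simp
      rw [e, Set.ncard_sdiff_singleton_of_mem (Set.mem_univ _), Set.ncard_univ, hV]
    rw [h2, h3] at h1
    rw [← h1]
    exact Subgroup.index_dvd_card _
  have hHdvd : Nat.card H ∣ 63 * 62 * 60 * 56 * 48 * 32 := by
    rw [← card_GL64 hV]
    exact Subgroup.card_subgroup_dvd_card H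
  -- abelian normal subgroups have order dividing 63
  have hsemi : ∀ B : Subgroup H, B.Normal → (∀ a ∈ B, ∀ b ∈ B, a * b = b * a) →
      Nat.card B ∣ 63 := by
    intro B hBn hBc
    have := card_dvd_of_semireg H B (hC B hBn hBc)
    rwa [hV] at this
  -- nontrivial `p`-cores occur only for `p ∈ {3, 7}`
  have hcore : ∀ (r : ℕ) [Fact r.Prime], pCore r H ≠ ⊥ → r ∣ 63 := by
    intro r hr hne
    have hPn : (pCore r H).Normal := Cfsg.Agent.Lib.Helper1.pCore_normal r
    have hPp : IsPGroup r (pCore r H) := pCore_isPGroup r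
    let Z : Subgroup H := pCore r H ⊓ Subgroup.centralizer (pCore r H : Set H)
    have hZn : Z.Normal := Subgroup.normal_inf_normal _ _
    have hZc : ∀ a ∈ Z, ∀ b ∈ Z, a * b = b * a := by
      intro a ha b hb
      exact (Subgroup.mem_centralizer_iff.mp hb.2 a ha.1)
    have hZne : Z ≠ ⊥ := by
      have hnt : Nontrivial (pCore r H) := (Subgroup.nontrivial_iff_ne_bot _).mpr hne
      have hcn := hPp.center_nontrivial
      obtain ⟨z, hz⟩ := exists_ne (1 : Subgroup.center (pCore r H))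
      intro hbot
      apply hz
      have hzZ : ((z : pCore r H) : H) ∈ Z := by
        refine Subgroup.mem_inf.mpr ⟨(z : pCore r H).2, ?_⟩
        rw [Subgroup.mem_centralizer_iff]
        intro g hg
        have h1 := Subgroup.mem_center_iff.mp z.2 ⟨g, hg⟩
        exact congrArg Subtype.val h1
      rw [hbot, Subgroup.mem_bot] at hzZ
      apply Subtype.ext
      apply Subtype.ext
      exact hzZ
    have hZcard := hsemi Z hZn hZc
    have hZp : IsPGroup r Z := hPp.to_le inf_le_left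
    obtain ⟨k, hk⟩ := IsPGroup.iff_card.mp hZp
    have hk0 : k ≠ 0 := by
      intro h0
      rw [h0, pow_zero] at hk
      exact hZne (Subgroup.card_eq_one.mp hk)
    have h1 : r ∣ Nat.card Z := by rw [hk]; exact dvd_pow_self r hk0
    exact h1.trans hZcard
  have hprime : ∀ (r : ℕ) [Fact r.Prime], pCore r H ≠ ⊥ → r = 3 ∨ r = 7 := by
    intro r hr hne
    have h1 := hcore r hne
    have h2 : r ∣ 3 ^ 2 * 7 := by
      have e : 3 ^ 2 * 7 = 63 := by norm_num
      rw [e]
      exact h1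
    rcases (Nat.Prime.dvd_mul hr.out).mp h2 with h3 | h3
    · left
      exact (Nat.prime_dvd_prime_iff_eq hr.out Nat.prime_three).mp (hr.out.dvd_of_dvd_pow h3)
    · right
      exact (Nat.prime_dvd_prime_iff_eq hr.out (by norm_num)).mp h3
  obtain ⟨T, hTdef⟩ : ∃ T : Subgroup H, T = pCore 3 H := ⟨_, rfl⟩
  obtain ⟨A, hAdef⟩ : ∃ A : Subgroup H, A = pCore 7 H := ⟨_, rfl⟩
  have hTn : T.Normal := hTdef ▸ Cfsg.Agent.Lib.Helper1.pCore_normal 3
  have hAn : A.Normal := hAdef ▸ Cfsg.Agent.Lib.Helper1.pCore_normal 7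
  have hTp : IsPGroup 3 T := hTdef ▸ pCore_isPGroup 3
  have hAp : IsPGroup 7 A := hAdef ▸ pCore_isPGroup 7
  have hA49 : Nat.card A ∣ 7 ^ 2 := by
    obtain ⟨k, hk⟩ := IsPGroup.iff_card.mp hAp
    have hdvd : 7 ^ k ∣ 63 * 62 * 60 * 56 * 48 * 32 := by
      rw [← hk]
      exact (Subgroup.card_subgroup_dvd_card A).trans hHdvd
    have hk2 : k ≤ 2 := by
      by_contra hcon
      have h3 : 7 ^ 3 ∣ 63 * 62 * 60 * 56 * 48 * 32 := (pow_dvd_pow 7 (by omega)).trans hdvd
      revert h3
      decide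
    rw [hk]
    exact pow_dvd_pow 7 hk2
  have hT81 : Nat.card T ∣ 81 := by
    obtain ⟨k, hk⟩ := IsPGroup.iff_card.mp hTp
    have hdvd : 3 ^ k ∣ 63 * 62 * 60 * 56 * 48 * 32 := by
      rw [← hk]
      exact (Subgroup.card_subgroup_dvd_card T).trans hHdvd
    have hk2 : k ≤ 4 := by
      by_contra hcon
      have h3 : 3 ^ 5 ∣ 63 * 62 * 60 * 56 * 48 * 32 := (pow_dvd_pow 3 (by omega)).trans hdvd
      revert h3
      decide
    rw [hk]
    exact pow_dvd_pow 3 hk2
  have hAc : ∀ a ∈ A, ∀ b ∈ A, a * b = b * a := by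
    intro a ha b hb
    exact congrArg Subtype.val (comm_of_card_dvd_sq hA49 ⟨a, ha⟩ ⟨b, hb⟩)
  have hAsr := hC A hAn hAc
  have hA63 := hsemi A hAn hAc
  have hA7 : Nat.card A ∣ 7 := by
    have h1 := Nat.dvd_gcd hA49 hA63
    have e : Nat.gcd (7 ^ 2) 63 = 7 := by norm_num
    rwa [e] at h1
  -- `A ≠ 1`
  have hAne : A ≠ ⊥ := by
    intro hAbot
    have hF : fittingSubgroup H ≤ T := by
      rw [fittingSubgroup_eq_iSup_primes]
      refine iSup_le fun r => ?_
      have : Fact (r : ℕ).Prime := ⟨r.2⟩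
      by_cases hr : pCore (r : ℕ) H = ⊥
      · rw [hr]
        exact bot_le
      · rcases hprime (r : ℕ) hr with h3 | h7
        · rw [h3, ← hTdef]
        · exfalso
          apply hr
          rw [h7, ← hAdef]
          exact hAbot
    have h7 : 7 ∣ Nat.card H := (by norm_num : 7 ∣ 63).trans h63
    obtain ⟨g, hg⟩ := exists_prime_orderOf_dvd_card' 7 h7
    have hg7 : g ^ 7 = 1 := by
      rw [← hg]
      exact pow_orderOf_eq_one g
    have hcent := centralizes_of_seven T hT81 g hg7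
    have hgC : g ∈ Subgroup.centralizer (fittingSubgroup H : Set H) := by
      rw [Subgroup.mem_centralizer_iff]
      intro x hx
      exact (hcent x (hF hx)).symm
    have hgT : g ∈ T := hF (centralizer_fittingSubgroup_le hgC)
    obtain ⟨k, hk⟩ := hTp ⟨g, hgT⟩
    have h1 : g ^ 3 ^ k = 1 := congrArg Subtype.val hk
    have h2 : 7 ∣ 3 ^ k := by
      rw [← hg]
      exact orderOf_dvd_of_pow_eq_one h1
    have h3 : 7 ∣ 3 := Nat.Prime.dvd_of_dvd_pow (by norm_num) h2
    omega
  have hA7' : Nat.card A = 7 := by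
    rcases (Nat.dvd_prime (by norm_num : Nat.Prime 7)).mp hA7 with h | h
    · exact absurd (Subgroup.card_eq_one.mp h) hAne
    · exact h
  -- `T` centralizes `A`
  have hdisj : Disjoint T A := by
    apply Subgroup.disjoint_of_coprime_natCard
    obtain ⟨k, hk⟩ := IsPGroup.iff_card.mp hTp
    rw [hk, hA7']
    exact Nat.Coprime.pow_left k (by norm_num)
  have hTA : ∀ t ∈ T, ∀ a ∈ A, a * t = t * a := by
    intro t ht a ha
    exact ((Subgroup.commute_of_normal_of_disjoint T A hTn hAn hdisj t a ht ha).eq).symm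
  -- `T` is semiregular
  have hTsr : ∀ t ∈ T, t ≠ 1 → ∀ v : V, v ≠ 0 → ((t : H) : V ≃ₗ[ZMod 2] V) v ≠ v := by
    intro t ht ht1 v hv hfix
    let B : Subgroup H := T ⊓ MulAction.stabilizer H v
    have htB : t ∈ B := ⟨ht, MulAction.mem_stabilizer_iff.mpr hfix⟩
    have hBp : IsPGroup 3 B := hTp.to_le inf_le_left
    have hBne : B ≠ ⊥ := by
      intro hb
      rw [hb, Subgroup.mem_bot] at htB
      exact ht1 htB
    obtain ⟨k, hk⟩ := IsPGroup.iff_card.mp hBp
    have hk0 : k ≠ 0 := by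
      intro h0
      rw [h0, pow_zero] at hk
      exact hBne (Subgroup.card_eq_one.mp hk)
    have h3 : 3 ∣ Nat.card B := by rw [hk]; exact dvd_pow_self 3 hk0
    obtain ⟨s, hs⟩ := exists_prime_orderOf_dvd_card' 3 h3
    have hs3 : orderOf (s : H) = 3 := by rw [Subgroup.orderOf_coe]; exact hs
    have hsT : (s : H) ∈ T := s.2.1
    have hsfix : ((s : H) : V ≃ₗ[ZMod 2] V) v = v := MulAction.mem_stabilizer_iff.mp s.2.2
    exact fpf_of_order_three hV H A hA7' hAsr (s : H) hs3 (fun a ha => hTA _ hsT a ha) v hv hsfix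
  have hT63 : Nat.card T ∣ 63 := by
    have := card_dvd_of_semireg H T hTsr
    rwa [hV] at this
  have hT9 : Nat.card T ∣ 3 ^ 2 := by
    have h1 := Nat.dvd_gcd hT81 hT63
    have e : Nat.gcd 81 63 = 3 ^ 2 := by norm_num
    rwa [e] at h1
  have hTc : ∀ a ∈ T, ∀ b ∈ T, a * b = b * a := by
    intro a ha b hb
    exact congrArg Subtype.val (comm_of_card_dvd_sq hT9 ⟨a, ha⟩ ⟨b, hb⟩)
  have hFn : (T ⊔ A).Normal := Subgroup.sup_normal T A
  have hFc : ∀ a ∈ T ⊔ A, ∀ b ∈ T ⊔ A, a * b = b * a := by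
    have h1 : T ⊔ A ≤ Subgroup.centralizer ((T ⊔ A : Subgroup H) : Set H) := by
      apply sup_le
      · rw [Subgroup.le_centralizer_iff]
        apply sup_le
        · intro x hx
          rw [Subgroup.mem_centralizer_iff]
          intro y hy
          exact hTc y hy x hx
        · intro x hx
          rw [Subgroup.mem_centralizer_iff]
          intro y hy
          exact (hTA y hy x hx).symm
      · rw [Subgroup.le_centralizer_iff]
        apply sup_le
        · intro x hx
          rw [Subgroup.mem_centralizer_iff]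
          intro y hy
          exact hTA x hx y hy
        · intro x hx
          rw [Subgroup.mem_centralizer_iff]
          intro y hy
          exact hAc y hy x hx
    intro a ha b hb
    exact (Subgroup.mem_centralizer_iff.mp (h1 hb) a ha)
  by_cases hTbot : T = ⊥
  · exfalso
    have hF : fittingSubgroup H ≤ A := by
      rw [fittingSubgroup_eq_iSup_primes]
      refine iSup_le fun r => ?_
      have : Fact (r : ℕ).Prime := ⟨r.2⟩
      by_cases hr : pCore (r : ℕ) H = ⊥
      · rw [hr]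
        exact bot_le
      · rcases hprime (r : ℕ) hr with h3 | h7
        · exfalso
          apply hr
          rw [h3, ← hTdef]
          exact hTbot
        · rw [h7, ← hAdef]
    have hCA : Subgroup.centralizer (A : Set H) ≤ A := by
      intro x hx
      apply hF
      apply centralizer_fittingSubgroup_le
      rw [Subgroup.mem_centralizer_iff] at hx ⊢
      intro y hy
      exact hx y (hF hy)
    have hidx := Cfsg.Agent.Lib.Helper12.NF.index_centralizer_dvd_card_mulAut A
    have hcyc : IsCyclic A := isCyclic_of_prime_card hA7'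
    have haut : Nat.card (MulAut A) = 6 := by
      rw [IsCyclic.card_mulAut, hA7']
      decide
    rw [haut] at hidx
    have hcc : Nat.card (Subgroup.centralizer (A : Set H)) ∣ 7 := by
      rw [← hA7']
      exact Subgroup.card_dvd_of_le hCA
    have hH42 : Nat.card H ∣ 6 * 7 := by
      rw [← Subgroup.index_mul_card (Subgroup.centralizer (A : Set H))]
      exact Nat.mul_dvd_mul hidx hcc
    have h := h63.trans hH42
    revert h
    decide
  · refine ⟨T ⊔ A, hFn, hFc, ?_⟩
    intro W hW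
    have hFsr := hC (T ⊔ A) hFn hFc
    have h3 : 3 ∣ Nat.card (T ⊔ A : Subgroup H) := by
      obtain ⟨k, hk⟩ := IsPGroup.iff_card.mp hTp
      have hk0 : k ≠ 0 := by
        intro h0
        rw [h0, pow_zero] at hk
        exact hTbot (Subgroup.card_eq_one.mp hk)
      have h1 : 3 ∣ Nat.card T := by rw [hk]; exact dvd_pow_self 3 hk0
      exact h1.trans (Subgroup.card_dvd_of_le le_sup_left)
    have h7 : 7 ∣ Nat.card (T ⊔ A : Subgroup H) := by
      rw [← hA7']
      exact Subgroup.card_dvd_of_le le_sup_right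
    have h21 : 21 ∣ Nat.card (T ⊔ A : Subgroup H) :=
      Nat.Coprime.mul_dvd_of_dvd_of_dvd (by norm_num : Nat.Coprime 3 7) h3 h7
    have hdvdW := card_dvd_card_sub_one (isAdd_sub H (T ⊔ A)) W.toAddSubgroup
      (fun g v hv => by
        rw [smul_coe]
        exact hW g g.2 v hv)
      (fun g hg v _ hv => by
        rw [smul_coe]
        exact hFsr g g.2 (fun h1 => hg (Subtype.ext h1)) v hv)
    have hWdvd : Nat.card W.toAddSubgroup ∣ 2 ^ 6 := by
      have h1 := W.toAddSubgroup.card_addSubgroup_dvd_card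
      rw [hV] at h1
      exact h1
    obtain ⟨c, hc, hcard⟩ := (Nat.dvd_prime_pow Nat.prime_two).1 hWdvd
    rw [hcard] at hdvdW
    have h21' : 21 ∣ 2 ^ c - 1 := h21.trans hdvdW
    have hc06 : c = 0 ∨ c = 6 := by
      interval_cases c
      · exact Or.inl rfl
      · exfalso; revert h21'; decide
      · exfalso; revert h21'; decide
      · exfalso; revert h21'; decide
      · exfalso; revert h21'; decide
      · exfalso; revert h21'; decide
      · exact Or.inr rfl
    rcases hc06 with h0 | h6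
    · left
      rw [h0, pow_zero] at hcard
      have h1 : W.toAddSubgroup = ⊥ := AddSubgroup.card_eq_one.mp hcard
      rw [eq_bot_iff]
      intro x hx
      have h2 : x ∈ W.toAddSubgroup := hx
      rw [h1, AddSubgroup.mem_bot] at h2
      rw [h2]
      exact Submodule.zero_mem _
    · right
      rw [h6] at hcard
      have h1 : W.toAddSubgroup = ⊤ := by
        apply AddSubgroup.eq_top_of_card_eq
        rw [hcard, hV]
        norm_num
      rw [eq_top_iff]
      intro x _
      have h2 : x ∈ W.toAddSubgroup := by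
        rw [h1]
        exact AddSubgroup.mem_top x
      exact h2


/-- the semilinear conclusion in the case `2^6` -/
theorem case_two_six_semilinear [Finite V] (hV : Nat.card V = 64) (H : Subgroup (V ≃ₗ[ZMod 2] V))
    (hsol : Group.IsSolvable H)
    (htrans : ∀ v w : V, v ≠ 0 → w ≠ 0 → ∃ h : H, (h : V ≃ₗ[ZMod 2] V) v = w)
    (hC : ∀ A : Subgroup H, A.Normal → (∀ a ∈ A, ∀ b ∈ A, a * b = b * a) →
      ∀ a ∈ A, a ≠ 1 → ∀ v : V, v ≠ 0 → ((a : H) : V ≃ₗ[ZMod 2] V) v ≠ v) :
    ∃ (F : Type) (_ : Field F) (_ : Fintype F) (e : V ≃+ F),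
      ∀ h : H, ∃ (a : F) (σ : F ≃+* F), ∀ v : V, e ((h : V ≃ₗ[ZMod 2] V) v) = a * σ (e v) := by
  have : Fact (Nat.Prime 2) := ⟨Nat.prime_two⟩
  have hnt : Nontrivial V := by
    rw [← Finite.one_lt_card_iff_nontrivial, hV]
    norm_num
  obtain ⟨A, hAn, hAc, hirr⟩ := case_two_six hV H hsol htrans hC
  exact Cfsg.Agent.Lib.Helper12.NF.semilinear_of_irreducible_abelian H A hAn hAc hirr

end Cfsg.Agent.Lib.Helper12.Hup26
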