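import Mathlib
import Cfsg.Prelude.Def_Classical
import Cfsg.Agent.Lib.Helper14.PSU3Basic

/-!
# S1903: shared definitions

`Rel σ g`: the defining relations of the group of order 320 (`2^{2+4} : 5`, the centralizer of an
involution in `U₃(4)`) on two generators `σ` (order 5) and `g` (a 2-element outside the centre of the
normal Sylow 2-subgroup).  Notation: `gi σ g i = σ^i g σ^{-i}`, `c1 = [g, g_1]`, `c2 = [g, g_2]`.
-/

set_option autoImplicit false

namespace Cfsg.Agent.Lib.Helper12.S1903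

section
variable {X : Type*} [Group X]

/-- `gi σ g i = σ ^ i * g * σ ^ (-i)`. -/
def gi (σ g : X) (i : ℕ) : X := σ ^ i * g * (σ ^ i)⁻¹

/-- `c1 = [g, σ g σ⁻¹]`. -/
def c1 (σ g : X) : X := g * gi σ g 1 * g⁻¹ * (gi σ g 1)⁻¹

/-- `c2 = [g, σ² g σ⁻²]`. -/
def c2 (σ g : X) : X := g * gi σ g 2 * g⁻¹ * (gi σ g 2)⁻¹

/-- The defining relations. -/
structure Rel (σ g : X) : Prop where
  s5 : σ ^ 5 = 1
  c1σ : Commute (c1 σ g) σ
  c1g : Commute (c1 σ g) g
  c2σ : Commute (c2 σ g) σ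
  c2g : Commute (c2 σ g) g
  c1sq : c1 σ g * c1 σ g = 1
  c2sq : c2 σ g * c2 σ g = 1
  gsq : g * g = c1 σ g * c2 σ g
  c3 : g * gi σ g 3 * g⁻¹ * (gi σ g 3)⁻¹ = c2 σ g
  r5 : gi σ g 4 = g * gi σ g 1 * gi σ g 2 * gi σ g 3

theorem gi_zero (σ g : X) : gi σ g 0 = g := by simp [gi]

theorem map_gi {Y : Type*} [Group Y] (f : X →* Y) (σ g : X) (i : ℕ) :
    f (gi σ g i) = gi (f σ) (f g) i := by
  simp [gi, map_mul, map_pow, map_inv]

theorem map_c1 {Y : Type*} [Group Y] (f : X →* Y) (σ g : X) : f (c1 σ g) = c1 (f σ) (f g) := by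
  simp [c1, map_mul, map_inv, map_gi]

theorem map_c2 {Y : Type*} [Group Y] (f : X →* Y) (σ g : X) : f (c2 σ g) = c2 (f σ) (f g) := by
  simp [c2, map_mul, map_inv, map_gi]

theorem Rel.map {Y : Type*} [Group Y] (f : X →* Y) {σ g : X} (h : Rel σ g) : Rel (f σ) (f g) where
  s5 := by rw [← map_pow, h.s5, map_one]
  c1σ := by rw [← map_c1]; exact h.c1σ.map f
  c1g := by rw [← map_c1]; exact h.c1g.map f
  c2σ := by rw [← map_c2]; exact h.c2σ.map f
  c2g := by rw [← map_c2]; exact h.c2g.map f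
  c1sq := by rw [← map_c1, ← map_mul, h.c1sq, map_one]
  c2sq := by rw [← map_c2, ← map_mul, h.c2sq, map_one]
  gsq := by rw [← map_c1, ← map_c2, ← map_mul, ← map_mul, h.gsq]
  c3 := by rw [← map_c2, ← h.c3]; simp [map_mul, map_inv, map_gi]
  r5 := by rw [← map_gi, h.r5]; simp [map_mul, map_gi]

theorem Rel.of_injective {Y : Type*} [Group Y] (f : X →* Y) (hf : Function.Injective f) {σ g : X}
    (h : Rel (f σ) (f g)) : Rel σ g where
  s5 := hf (by rw [map_pow, h.s5, map_one])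
  c1σ := by
    have := h.c1σ; rw [← map_c1] at this
    exact hf (by simpa [map_mul] using this.eq)
  c1g := by
    have := h.c1g; rw [← map_c1] at this
    exact hf (by simpa [map_mul] using this.eq)
  c2σ := by
    have := h.c2σ; rw [← map_c2] at this
    exact hf (by simpa [map_mul] using this.eq)
  c2g := by
    have := h.c2g; rw [← map_c2] at this
    exact hf (by simpa [map_mul] using this.eq)
  c1sq := hf (by rw [map_mul, map_c1, h.c1sq, map_one])
  c2sq := hf (by rw [map_mul, map_c2, h.c2sq, map_one])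
  gsq := hf (by rw [map_mul, map_mul, map_c1, map_c2, h.gsq])
  c3 := hf (by rw [map_c2, ← h.c3]; simp [map_mul, map_inv, map_gi])
  r5 := hf (by rw [map_gi, h.r5]; simp [map_mul, map_gi])

theorem Rel.prod {Y : Type*} [Group Y] {σ g : X} {σ' g' : Y} (h : Rel σ g) (h' : Rel σ' g') :
    Rel ((σ, σ') : X × Y) (g, g') := by
  have e1 : ∀ i, gi ((σ, σ') : X × Y) (g, g') i = (gi σ g i, gi σ' g' i) := by
    intro i; simp [gi]
  have ec1 : c1 ((σ, σ') : X × Y) (g, g') = (c1 σ g, c1 σ' g') := by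
    simp [c1, e1]
  have ec2 : c2 ((σ, σ') : X × Y) (g, g') = (c2 σ g, c2 σ' g') := by
    simp [c2, e1]
  refine ⟨?_, ?_, ?_, ?_, ?_, ?_, ?_, ?_, ?_, ?_⟩
  · simp [h.s5, h'.s5]
  · rw [ec1]; exact Prod.ext h.c1σ.eq h'.c1σ.eq
  · rw [ec1]; exact Prod.ext h.c1g.eq h'.c1g.eq
  · rw [ec2]; exact Prod.ext h.c2σ.eq h'.c2σ.eq
  · rw [ec2]; exact Prod.ext h.c2g.eq h'.c2g.eq
  · rw [ec1]; exact Prod.ext h.c1sq h'.c1sq
  · rw [ec2]; exact Prod.ext h.c2sq h'.c2sq
  · rw [ec1, ec2]; exact Prod.ext h.gsq h'.gsq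
  · rw [ec2, e1]
    simp only [Prod.mk_mul_mk, Prod.inv_mk]
    exact Prod.ext h.c3 h'.c3
  · rw [e1, e1, e1, e1]
    simp only [Prod.mk_mul_mk]
    exact Prod.ext h.r5 h'.r5

end

section
open Cfsg Matrix

variable {F : Type*} [Field F] [Fintype F]

/-- A field with 16 elements has characteristic 2. -/
theorem two_eq_zero (hF : Fintype.card F = 16) : (2 : F) = 0 := by
  have h16 : ((16 : ℕ) : F) = 0 := by rw [← hF]; exact Nat.cast_card_eq_zero F
  have h : ((2 : ℕ) : F) ^ 4 = 0 := by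
    rw [← Nat.cast_pow]; norm_num; exact_mod_cast h16
  simpa using pow_eq_zero_iff (n := 4) (by norm_num) |>.mp h

theorem neg_one_eq_one (hF : Fintype.card F = 16) : (-1 : F) = 1 := by
  have h := two_eq_zero hF
  linear_combination -h

/-- The involution `t₀`: the permutation matrix of the transposition `(0 1)`, an element of
`SU₃(4)` (for the identity Hermitian form) because the field has characteristic 2. -/
noncomputable def t0 (hF : Fintype.card F = 16) : SU 3 F 4 :=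
  ⟨⟨Matrix.swap F (0 : Fin 3) 1, by
      rw [Matrix.swap, Matrix.det_permutation, Equiv.Perm.sign_swap (by decide)]
      simpa using neg_one_eq_one hF⟩,
    fun x y => Cfsg.Agent.Lib.Helper6.swap_pres (0 : Fin 3) 1 x y⟩

theorem mat_t0 (hF : Fintype.card F = 16) :
    Cfsg.Agent.Lib.Helper14.PSU3.mat (t0 hF) = Matrix.swap F (0 : Fin 3) 1 := rfl

end

end Cfsg.Agent.Lib.Helper12.S1903
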