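import Mathlib

/-!
# S2933: the relations `RelU` of `Syl₂ U₃(4)` on four generators, and their transport
-/

set_option autoImplicit false

namespace Cfsg.Agent.Lib.Helper12.S2933

/-- the relations of `Syl₂ U₃(4)` on four generators `y, y' = σ y, w, w' = σ w` -/
def RelU {G : Type*} [Group G] (y y' w w' : G) : Prop :=
  (y * y) * (y * y) = 1 ∧ (y' * y') * (y' * y') = 1 ∧
  (y * y) * y' = y' * (y * y) ∧ (y * y) * w = w * (y * y) ∧ (y * y) * w' = w' * (y * y) ∧
  (y' * y') * y = y * (y' * y') ∧ (y' * y') * w = w * (y' * y') ∧ (y' * y') * w' = w' * (y' * y') ∧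
  y * y' = y' * y ∧ w * w' = w' * w ∧
  w * w = y' * y' ∧ w' * w' = (y * y) * (y' * y') ∧
  y * w = (y * y) * (w * y) ∧ y' * w = ((y * y) * (y' * y')) * (w * y') ∧
  y * w' = ((y * y) * (y' * y')) * (w' * y) ∧ y' * w' = (y' * y') * (w' * y')

variable {G H : Type*} [Group G] [Group H]

theorem RelU.map (f : G →* H) {y y' w w' : G} (h : RelU y y' w w') :
    RelU (f y) (f y') (f w) (f w') := by
  obtain ⟨h1, h2, h3, h4, h5, h6, h7, h8, h9, h10, h11, h12, h13, h14, h15, h16⟩ := h
  refine ⟨?_, ?_, ?_, ?_, ?_, ?_, ?_, ?_, ?_, ?_, ?_, ?_, ?_, ?_, ?_, ?_⟩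
  · simpa only [map_mul, map_one] using congrArg f h1
  · simpa only [map_mul, map_one] using congrArg f h2
  · simpa only [map_mul, map_one] using congrArg f h3
  · simpa only [map_mul, map_one] using congrArg f h4
  · simpa only [map_mul, map_one] using congrArg f h5
  · simpa only [map_mul, map_one] using congrArg f h6
  · simpa only [map_mul, map_one] using congrArg f h7
  · simpa only [map_mul, map_one] using congrArg f h8
  · simpa only [map_mul, map_one] using congrArg f h9
  · simpa only [map_mul, map_one] using congrArg f h10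
  · simpa only [map_mul, map_one] using congrArg f h11
  · simpa only [map_mul, map_one] using congrArg f h12
  · simpa only [map_mul, map_one] using congrArg f h13
  · simpa only [map_mul, map_one] using congrArg f h14
  · simpa only [map_mul, map_one] using congrArg f h15
  · simpa only [map_mul, map_one] using congrArg f h16

theorem RelU.of_injective (f : G →* H) (hf : Function.Injective f) {y y' w w' : G}
    (h : RelU (f y) (f y') (f w) (f w')) : RelU y y' w w' := by
  obtain ⟨h1, h2, h3, h4, h5, h6, h7, h8, h9, h10, h11, h12, h13, h14, h15, h16⟩ := h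
  refine ⟨hf ?_, hf ?_, hf ?_, hf ?_, hf ?_, hf ?_, hf ?_, hf ?_, hf ?_, hf ?_, hf ?_, hf ?_,
    hf ?_, hf ?_, hf ?_, hf ?_⟩
  · simpa only [map_mul, map_one] using h1
  · simpa only [map_mul, map_one] using h2
  · simpa only [map_mul, map_one] using h3
  · simpa only [map_mul, map_one] using h4
  · simpa only [map_mul, map_one] using h5
  · simpa only [map_mul, map_one] using h6
  · simpa only [map_mul, map_one] using h7
  · simpa only [map_mul, map_one] using h8
  · simpa only [map_mul, map_one] using h9
  · simpa only [map_mul, map_one] using h10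
  · simpa only [map_mul, map_one] using h11
  · simpa only [map_mul, map_one] using h12
  · simpa only [map_mul, map_one] using h13
  · simpa only [map_mul, map_one] using h14
  · simpa only [map_mul, map_one] using h15
  · simpa only [map_mul, map_one] using h16

theorem RelU.prod {y y' w w' : G} {z z' v v' : H} (h : RelU y y' w w') (k : RelU z z' v v') :
    RelU ((y, z) : G × H) (y', z') (w, v) (w', v') := by
  obtain ⟨h1, h2, h3, h4, h5, h6, h7, h8, h9, h10, h11, h12, h13, h14, h15, h16⟩ := h
  obtain ⟨k1, k2, k3, k4, k5, k6, k7, k8, k9, k10, k11, k12, k13, k14, k15, k16⟩ := k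
  refine ⟨?_, ?_, ?_, ?_, ?_, ?_, ?_, ?_, ?_, ?_, ?_, ?_, ?_, ?_, ?_, ?_⟩ <;>
    (apply Prod.ext <;> simp only [Prod.fst_mul, Prod.snd_mul, Prod.fst_one, Prod.snd_one] <;>
      assumption)

end Cfsg.Agent.Lib.Helper12.S2933
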