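import Mathlib
import Cfsg.Agent.Lib.Helper3.SpTDefs
import Cfsg.Agent.Lib.Helper3.SpTL1

/-!
# S5704, layer 2, piece COMMa: formal identities for the root elements `gE`, `zA`, `rootW`, `rootU` (helper12)
-/

set_option autoImplicit false

namespace Cfsg.Agent.Lib.Helper12.S5704COMMa

open Matrix Module QuadraticMap
open scoped Kronecker commutatorElement
open Cfsg.Agent.Lib.Helper16.Tens
open Cfsg.Agent.Lib.Helper23.S5637T3b (kronGL)
open Cfsg.Agent.Lib.Helper3.SpT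

variable {F : Type*} [Field F] {a b : ℕ} {J1 : Matrix (Fin a) (Fin a) F} {J2 : Matrix (Fin b) (Fin b) F}
  {Q : QuadraticForm F (Fin a × Fin b → F)}

/-! ### auxiliary -/

theorem neg_kron (A : Matrix (Fin a) (Fin a) F) (B : Matrix (Fin b) (Fin b) F) : (-A) ⊗ₖ B = -(A ⊗ₖ B) := by
  ext ⟨i, j⟩ ⟨i', j'⟩
  simp [Matrix.kroneckerMap_apply]

theorem kron_E_mul (X Y : Matrix (Fin a) (Fin a) F) (w w' y y' : Fin b → F) :
    (X ⊗ₖ E J2 w w') * (Y ⊗ₖ E J2 y y') = bf J2 y w' • ((X * Y) ⊗ₖ E J2 w y') := by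
  rw [← Matrix.mul_kronecker_mul, E_mul_E, Matrix.kronecker_smul]

theorem TE_mul_TE (C C' : Matrix (Fin a) (Fin a) F) (w w' y y' : Fin b → F) :
    TE J1 J2 C w w' * TE J1 J2 C' y y' =
      bf J2 y w' • ((C * C') ⊗ₖ E J2 w y') + bf J2 y' w' • ((C * adj J1 C') ⊗ₖ E J2 w y) +
        (bf J2 y w • ((adj J1 C * C') ⊗ₖ E J2 w' y') + bf J2 y' w • ((adj J1 C * adj J1 C') ⊗ₖ E J2 w' y)) := by
  unfold TE
  rw [add_mul, mul_add, mul_add, kron_E_mul, kron_E_mul, kron_E_mul, kron_E_mul]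

theorem TE_add (C C' : Matrix (Fin a) (Fin a) F) (w w' : Fin b → F) :
    TE J1 J2 (C + C') w w' = TE J1 J2 C w w' + TE J1 J2 C' w w' := by
  unfold TE
  rw [adj_add, Matrix.add_kronecker, Matrix.add_kronecker]
  abel

theorem TE_neg (C : Matrix (Fin a) (Fin a) F) (w w' : Fin b → F) :
    TE J1 J2 (-C) w w' = - TE J1 J2 C w w' := by
  unfold TE
  rw [adj_neg, neg_kron, neg_kron]
  abel

theorem TE_smul (c : F) (C : Matrix (Fin a) (Fin a) F) (w w' : Fin b → F) :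
    TE J1 J2 (c • C) w w' = c • TE J1 J2 C w w' := by
  unfold TE
  rw [adj_smul, Matrix.smul_kronecker, Matrix.smul_kronecker, smul_add]

theorem TE_zero (w w' : Fin b → F) :
    TE J1 J2 (0 : Matrix (Fin a) (Fin a) F) w w' = 0 := by
  have h := TE_smul (J1 := J1) (J2 := J2) (0 : F) (0 : Matrix (Fin a) (Fin a) F) w w'
  rw [zero_smul, zero_smul] at h
  exact h

theorem TE_smul_right (c : F) (C : Matrix (Fin a) (Fin a) F) (w w' : Fin b → F) :
    TE J1 J2 C w (c • w') = c • TE J1 J2 C w w' := by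
  unfold TE
  rw [E_smul_right, E_smul_left, Matrix.kronecker_smul, Matrix.kronecker_smul, smul_add]

theorem TE_smul_left (c : F) (C : Matrix (Fin a) (Fin a) F) (w w' : Fin b → F) :
    TE J1 J2 C (c • w) w' = c • TE J1 J2 C w w' := by
  unfold TE
  rw [E_smul_right, E_smul_left, Matrix.kronecker_smul, Matrix.kronecker_smul, smul_add]

theorem TE_add_right (C : Matrix (Fin a) (Fin a) F) (w w' y' : Fin b → F) :
    TE J1 J2 C w (w' + y') = TE J1 J2 C w w' + TE J1 J2 C w y' := by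
  unfold TE
  rw [E_add_right, E_add_left, Matrix.kronecker_add, Matrix.kronecker_add]
  abel

theorem TE_swap (hJ1 : SympG J1) (C : Matrix (Fin a) (Fin a) F) (w w' : Fin b → F) :
    TE J1 J2 C w w' = TE J1 J2 (adj J1 C) w' w := by
  unfold TE
  rw [adj_adj hJ1, add_comm]

/-! ### the statements -/

theorem gE_mul (hJ2 : SympG J2) (C C' : Matrix (Fin a) (Fin a) F) (w w' : Fin b → F) (h : bf J2 w w' = 0) :
    gE J1 J2 hJ2 C w w' h * gE J1 J2 hJ2 C' w w' h = gE J1 J2 hJ2 (C + C') w w' h := by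
  apply Units.ext
  rw [Units.val_mul, gE_val, gE_val, gE_val, TE_add, add_mul, mul_add, mul_add,
    TE_mul_TE, h, hJ2.eq_zero_comm h, hJ2.alt, hJ2.alt]
  simp only [zero_smul, add_zero, one_mul, mul_one]
  abel

theorem gE_inv (hJ2 : SympG J2) (C : Matrix (Fin a) (Fin a) F) (w w' : Fin b → F) (h : bf J2 w w' = 0) :
    (gE J1 J2 hJ2 C w w' h)⁻¹ = gE J1 J2 hJ2 (-C) w w' h := by
  apply Units.ext
  rw [gE_inv_val, gE_val, TE_neg]
  abel

theorem gE_zero (hJ2 : SympG J2) (w w' : Fin b → F) (h : bf J2 w w' = 0) :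
    gE J1 J2 hJ2 (0 : Matrix (Fin a) (Fin a) F) w w' h = 1 := by
  apply Units.ext
  rw [gE_val, TE_zero, add_zero, Units.val_one]

theorem gE_swap (hJ1 : SympG J1) (hJ2 : SympG J2) (C : Matrix (Fin a) (Fin a) F) (w w' : Fin b → F)
    (h : bf J2 w w' = 0) :
    gE J1 J2 hJ2 C w w' h = gE J1 J2 hJ2 (adj J1 C) w' w (hJ2.eq_zero_comm h) := by
  apply Units.ext
  rw [gE_val, gE_val, TE_swap hJ1]

/-- scalars move between the three slots -/
theorem gE_smul_right (hJ2 : SympG J2) (C : Matrix (Fin a) (Fin a) F) (c : F) (w w' : Fin b → F)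
    (h : bf J2 w w' = 0) (h' : bf J2 w (c • w') = 0) :
    gE J1 J2 hJ2 C w (c • w') h' = gE J1 J2 hJ2 (c • C) w w' h := by
  apply Units.ext
  rw [gE_val, gE_val, TE_smul_right, TE_smul]

theorem gE_smul_left (hJ2 : SympG J2) (C : Matrix (Fin a) (Fin a) F) (c : F) (w w' : Fin b → F)
    (h : bf J2 w w' = 0) (h' : bf J2 (c • w) w' = 0) :
    gE J1 J2 hJ2 C (c • w) w' h' = gE J1 J2 hJ2 (c • C) w w' h := by
  apply Units.ext
  rw [gE_val, gE_val, TE_smul_left, TE_smul]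

/-- additivity in the last slot -/
theorem gE_add_right (hJ2 : SympG J2) (C : Matrix (Fin a) (Fin a) F) (w w' y' : Fin b → F)
    (h : bf J2 w w' = 0) (h' : bf J2 w y' = 0) (h'' : bf J2 w (w' + y') = 0) (hwy : bf J2 w' y' = 0) :
    gE J1 J2 hJ2 C w (w' + y') h'' = gE J1 J2 hJ2 C w w' h * gE J1 J2 hJ2 C w y' h' := by
  apply Units.ext
  rw [Units.val_mul, gE_val, gE_val, gE_val, TE_add_right, add_mul, mul_add, mul_add,
    TE_mul_TE, h, hJ2.eq_zero_comm hwy, hJ2.alt, hJ2.eq_zero_comm h']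
  simp only [zero_smul, add_zero, one_mul, mul_one]
  abel

/-- dependent pair: `gE C w (c • w) = zA (c • (C + C^*)) w` -/
theorem gE_self (hJ2 : SympG J2) (C : Matrix (Fin a) (Fin a) F) (c : F) (w : Fin b → F) (h : bf J2 w (c • w) = 0) :
    gE J1 J2 hJ2 C w (c • w) h = zA J2 hJ2 (c • (C + adj J1 C)) w := by
  apply Units.ext
  rw [gE_val, zA_val, TE_smul_right]
  unfold TE
  rw [Matrix.smul_kronecker, Matrix.add_kronecker]

theorem zA_mul (hJ2 : SympG J2) (α β : Matrix (Fin a) (Fin a) F) (k : Fin b → F) :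
    zA J2 hJ2 α k * zA J2 hJ2 β k = zA J2 hJ2 (α + β) k := by
  apply Units.ext
  rw [Units.val_mul, zA_val, zA_val, zA_val, add_mul, mul_add, mul_add,
    kron_E_mul, hJ2.alt, zero_smul, add_zero, Matrix.add_kronecker]
  simp only [one_mul, mul_one]
  abel

theorem zA_inv (hJ2 : SympG J2) (α : Matrix (Fin a) (Fin a) F) (k : Fin b → F) :
    (zA J2 hJ2 α k)⁻¹ = zA J2 hJ2 (-α) k := by
  apply Units.ext
  rw [zA_val, neg_kron]
  show (1 : Matrix (Fin a × Fin b) (Fin a × Fin b) F) - α ⊗ₖ E J2 k k = _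
  abel

theorem zA_smul (hJ2 : SympG J2) (α : Matrix (Fin a) (Fin a) F) (c : F) (k : Fin b → F) :
    zA J2 hJ2 α (c • k) = zA J2 hJ2 ((c * c) • α) k := by
  apply Units.ext
  rw [zA_val, zA_val, E_smul_left, E_smul_right, smul_smul, Matrix.kronecker_smul, Matrix.smul_kronecker]

/-- conjugating `1 + T` by a Kronecker product -/
theorem kronGL_conj_TE (β : GL (Fin b) F)
    (hβ : ∀ x y, bf J2 ((β : Matrix (Fin b) (Fin b) F) *ᵥ x) ((β : Matrix (Fin b) (Fin b) F) *ᵥ y) = bf J2 x y)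
    (C : Matrix (Fin a) (Fin a) F) (w w' : Fin b → F) :
    ((kronGL (1 : GL (Fin a) F) β : GL (Fin a × Fin b) F) : Matrix (Fin a × Fin b) (Fin a × Fin b) F) *
        (C ⊗ₖ E J2 w w') *
        (((kronGL (1 : GL (Fin a) F) β)⁻¹ : GL (Fin a × Fin b) F) : Matrix (Fin a × Fin b) (Fin a × Fin b) F) =
      C ⊗ₖ E J2 ((β : Matrix (Fin b) (Fin b) F) *ᵥ w) ((β : Matrix (Fin b) (Fin b) F) *ᵥ w') := by
  rw [Cfsg.Agent.Lib.Helper23.S5637T3b.kronGL_val, Cfsg.Agent.Lib.Helper23.S5637T3b.kronGL_inv_val,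
    ← Matrix.mul_kronecker_mul, ← Matrix.mul_kronecker_mul, conj_E β hβ, inv_one, Units.val_one, one_mul, mul_one]

theorem conj_one_add (K : GL (Fin a × Fin b) F) (T : Matrix (Fin a × Fin b) (Fin a × Fin b) F) :
    (K : Matrix (Fin a × Fin b) (Fin a × Fin b) F) * (1 + T) *
        ((K⁻¹ : GL (Fin a × Fin b) F) : Matrix (Fin a × Fin b) (Fin a × Fin b) F) =
      1 + (K : Matrix (Fin a × Fin b) (Fin a × Fin b) F) * T *
        ((K⁻¹ : GL (Fin a × Fin b) F) : Matrix (Fin a × Fin b) (Fin a × Fin b) F) := by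
  have h1 : (K : Matrix (Fin a × Fin b) (Fin a × Fin b) F) *
      ((K⁻¹ : GL (Fin a × Fin b) F) : Matrix (Fin a × Fin b) (Fin a × Fin b) F) = 1 := by
    rw [← Units.val_mul, mul_inv_cancel, Units.val_one]
  rw [Matrix.mul_add, Matrix.add_mul, Matrix.mul_one, h1]

/-- conjugation by `1 ⊗ β`, `β` an isometry of `f₂` -/
theorem conjW_gE (hJ2 : SympG J2) (β : GL (Fin b) F)
    (hβ : ∀ x y, bf J2 ((β : Matrix (Fin b) (Fin b) F) *ᵥ x) ((β : Matrix (Fin b) (Fin b) F) *ᵥ y) = bf J2 x y)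
    (C : Matrix (Fin a) (Fin a) F) (w w' : Fin b → F) (h : bf J2 w w' = 0) :
    kronGL 1 β * gE J1 J2 hJ2 C w w' h * (kronGL 1 β)⁻¹ =
      gE J1 J2 hJ2 C ((β : Matrix (Fin b) (Fin b) F) *ᵥ w) ((β : Matrix (Fin b) (Fin b) F) *ᵥ w')
        (by rw [hβ]; exact h) := by
  apply Units.ext
  rw [Units.val_mul, Units.val_mul, gE_val, gE_val, conj_one_add]
  unfold TE
  rw [Matrix.mul_add, Matrix.add_mul, kronGL_conj_TE β hβ, kronGL_conj_TE β hβ]

theorem conjW_zA (hJ2 : SympG J2) (β : GL (Fin b) F)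
    (hβ : ∀ x y, bf J2 ((β : Matrix (Fin b) (Fin b) F) *ᵥ x) ((β : Matrix (Fin b) (Fin b) F) *ᵥ y) = bf J2 x y)
    (α : Matrix (Fin a) (Fin a) F) (k : Fin b → F) :
    kronGL (1 : GL (Fin a) F) β * zA J2 hJ2 α k * (kronGL 1 β)⁻¹ =
      zA J2 hJ2 α ((β : Matrix (Fin b) (Fin b) F) *ᵥ k) := by
  apply Units.ext
  rw [Units.val_mul, Units.val_mul, zA_val, zA_val, conj_one_add, kronGL_conj_TE β hβ]

theorem rootU_val' (hJ1 : SympG J1) (u : Fin a → F) (c : F) :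
    ((rootU (b := b) J1 hJ1 u c : GL (Fin a × Fin b) F) : Matrix (Fin a × Fin b) (Fin a × Fin b) F) =
      (1 + c • E J1 u u) ⊗ₖ (1 : Matrix (Fin b) (Fin b) F) := by
  rw [rootU_val, Matrix.add_kronecker, Matrix.one_kronecker_one]

theorem rootU_inv_val' (hJ1 : SympG J1) (u : Fin a → F) (c : F) :
    (((rootU (b := b) J1 hJ1 u c)⁻¹ : GL (Fin a × Fin b) F) : Matrix (Fin a × Fin b) (Fin a × Fin b) F) =
      (1 - c • E J1 u u) ⊗ₖ (1 : Matrix (Fin b) (Fin b) F) := by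
  show (1 : Matrix (Fin a × Fin b) (Fin a × Fin b) F) - (c • E J1 u u) ⊗ₖ (1 : Matrix (Fin b) (Fin b) F) = _
  rw [sub_eq_add_neg, sub_eq_add_neg, Matrix.add_kronecker, Matrix.one_kronecker_one, neg_kron]

/-- conjugation by `t_u(c) ⊗ 1` -/
theorem conjU_gE (hJ1 : SympG J1) (hJ2 : SympG J2) (u : Fin a → F) (c : F)
    (C : Matrix (Fin a) (Fin a) F) (w w' : Fin b → F) (h : bf J2 w w' = 0) :
    rootU J1 hJ1 u c * gE J1 J2 hJ2 C w w' h * (rootU J1 hJ1 u c)⁻¹ =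
      gE J1 J2 hJ2 ((1 + c • E J1 u u) * C * (1 - c • E J1 u u)) w w' h := by
  apply Units.ext
  rw [Units.val_mul, Units.val_mul, gE_val, gE_val, conj_one_add, rootU_val', rootU_inv_val']
  unfold TE
  have hadj : adj J1 ((1 + c • E J1 u u) * C * (1 - c • E J1 u u)) =
      (1 + c • E J1 u u) * adj J1 C * (1 - c • E J1 u u) := by
    rw [adj_mul hJ1, adj_mul hJ1, sub_eq_add_neg, adj_add, adj_add, adj_neg, adj_one hJ1, adj_smul, adj_E hJ1,
      smul_neg, neg_neg, ← sub_eq_add_neg, Matrix.mul_assoc]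
  rw [hadj, Matrix.mul_add, Matrix.add_mul, ← Matrix.mul_kronecker_mul, ← Matrix.mul_kronecker_mul,
    ← Matrix.mul_kronecker_mul, ← Matrix.mul_kronecker_mul, Matrix.one_mul, Matrix.mul_one, Matrix.one_mul,
    Matrix.mul_one]

/-- `kronGL 1 (t_k(c)) = rootW k c` -/
theorem rootW_eq_kronGL (hJ2 : SympG J2) (k : Fin b → F) (c : F) :
    rootW (a := a) J2 hJ2 k c =
      kronGL 1 (uni (c • E J2 k k) (by rw [Matrix.smul_mul, Matrix.mul_smul, E_mul_E, hJ2.alt]; simp)) := by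
  apply Units.ext
  unfold rootW
  rw [zA_val, Cfsg.Agent.Lib.Helper23.S5637T3b.kronGL_val, uni_val, Units.val_one, Matrix.kronecker_add,
    Matrix.one_kronecker_one, Matrix.smul_kronecker, Matrix.kronecker_smul]

/-- the Siegel transformation `ρ_{u⊗w, u'⊗w'}` is `gE (E J1 u u') w w'`: its action on vectors -/
theorem act_gE_E (hS : Setup J1 J2 Q) (u u' : Fin a → F) (w w' : Fin b → F) (h : bf J2 w w' = 0)
    (v : Fin a × Fin b → F) :
    act (gE J1 J2 hS.h2 (E J1 u u') w w' h) v =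
      v + QuadraticMap.polar (⇑Q) (pur u' w') v • pur u w + (-(QuadraticMap.polar (⇑Q) (pur u w) v)) • pur u' w' := by
  refine pur_induction (p := fun v => act (gE J1 J2 hS.h2 (E J1 u u') w w' h) v =
      v + QuadraticMap.polar (⇑Q) (pur u' w') v • pur u w + (-(QuadraticMap.polar (⇑Q) (pur u w) v)) • pur u' w')
    ?_ ?_ ?_ v
  · show act (gE J1 J2 hS.h2 (E J1 u u') w w' h) 0 = _
    rw [map_zero]
    simp [QuadraticMap.polar]
  · intro x y hx hy
    show act (gE J1 J2 hS.h2 (E J1 u u') w w' h) (x + y) = _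
    rw [map_add, hx, hy, QuadraticMap.polar_add_right, QuadraticMap.polar_add_right, neg_add, add_smul, add_smul]
    abel
  · intro y x
    show act (gE J1 J2 hS.h2 (E J1 u u') w w' h) (pur y x) = _
    rw [act_gE, hS.polar_pur, hS.polar_pur, adj_E hS.h1, Matrix.neg_mulVec, E_mulVec, E_mulVec, pur_neg_left,
      pur_smul_left, pur_smul_left, hS.h1.skew u' y, hS.h2.skew w' x, hS.h1.skew u y, hS.h2.skew w x]
    rw [smul_neg, smul_smul, smul_smul, neg_smul]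
    rw [neg_mul_neg, neg_mul_neg, mul_comm (bf J2 x w'), mul_comm (bf J2 x w)]

/-- `zA α k` commutes with `gE C k w` -/
theorem zA_comm_gE (hJ2 : SympG J2) (α C : Matrix (Fin a) (Fin a) F) (k w : Fin b → F) (h : bf J2 k w = 0) :
    zA J2 hJ2 α k * gE J1 J2 hJ2 C k w h = gE J1 J2 hJ2 C k w h * zA J2 hJ2 α k := by
  apply Units.ext
  rw [Units.val_mul, Units.val_mul, zA_val, gE_val]
  unfold TE
  simp only [add_mul, mul_add, one_mul, mul_one, kron_E_mul, h, hJ2.eq_zero_comm h, hJ2.alt, zero_smul, add_zero]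
  abel

/-- `zA α k` commutes with `gE C w w'` when `w, w' ⊥ k` -/
theorem zA_comm_gE_perp (hJ2 : SympG J2) (α C : Matrix (Fin a) (Fin a) F) (k w w' : Fin b → F)
    (h : bf J2 w w' = 0) (hkw : bf J2 k w = 0) (hkw' : bf J2 k w' = 0) :
    zA J2 hJ2 α k * gE J1 J2 hJ2 C w w' h = gE J1 J2 hJ2 C w w' h * zA J2 hJ2 α k := by
  apply Units.ext
  rw [Units.val_mul, Units.val_mul, zA_val, gE_val]
  unfold TE
  simp only [add_mul, mul_add, one_mul, mul_one, kron_E_mul, hkw, hkw', hJ2.eq_zero_comm hkw,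
    hJ2.eq_zero_comm hkw', zero_smul, add_zero]
  abel

end Cfsg.Agent.Lib.Helper12.S5704COMMa
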