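import Mathlib
import Cfsg.Agent.Lib.Helper3.SpTDefs
import Cfsg.Agent.Lib.Helper3.SpTL1
import Cfsg.Agent.Lib.Helper12.S5704FOCOMMa

/-!
# S5704, layer 2, piece ISO: the root elements are isometries; isometries trivial on `Pk k` (helper12)
-/

set_option autoImplicit false

namespace Cfsg.Agent.Lib.Helper12.S5704ISO

open Matrix Module QuadraticMap
open scoped Kronecker commutatorElement
open Cfsg.Agent.Lib.Helper16.Tens
open Cfsg.Agent.Lib.Helper23.S5637T3b (kronGL)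
open Cfsg.Agent.Lib.Helper3.SpT

variable {F : Type*} [Field F] {a b : ℕ} {J1 : Matrix (Fin a) (Fin a) F} {J2 : Matrix (Fin b) (Fin b) F}
  {Q : QuadraticForm F (Fin a × Fin b → F)}

/-! ### auxiliary -/

theorem bf_kron_symm (hS : Setup J1 J2 Q) (x y : Fin a × Fin b → F) :
    bf (J1 ⊗ₖ J2) x y = bf (J1 ⊗ₖ J2) y x := by
  rw [← hS.polar, ← hS.polar, QuadraticMap.polar_comm]

theorem bf_kron_pur_left (hS : Setup J1 J2 Q) (v : Fin a × Fin b → F) (u' : Fin a → F) (k : Fin b → F) :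
    bf (J1 ⊗ₖ J2) (pur u' k) v = bf J1 (ctr (J2 *ᵥ k) v) u' := by
  rw [bf_kron_symm hS, bf_kron_pur_right]

theorem Q_add (x y : Fin a × Fin b → F) : Q (x + y) = Q x + Q y + QuadraticMap.polar (⇑Q) x y := by
  unfold QuadraticMap.polar
  ring

theorem gE_mem_iso (hS : Setup J1 J2 Q) (C : Matrix (Fin a) (Fin a) F) (w w' : Fin b → F) (h : bf J2 w w' = 0) :
    gE J1 J2 hS.h2 C w w' h ∈ Cfsg.isometryGroup F (⇑Q) := by
  apply hS.mem_iso_of
  · intro x y
    rw [act_gE', act_gE']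
    simp only [bf_add_left, bf_add_right, bf_kron_pur_right, bf_kron_pur_left hS, ctr_J_pur, h, hS.h2.alt,
      hS.h2.eq_zero_comm h, zero_smul, bf_zero_left, add_zero]
    rw [← bf_adj hS.h1 C (ctr (J2 *ᵥ w') y), ← bf_adj hS.h1 C (ctr (J2 *ᵥ w') x),
      hS.h1.skew (C *ᵥ ctr (J2 *ᵥ w') y), hS.h1.skew (C *ᵥ ctr (J2 *ᵥ w') x)]
    ring
  · intro u x
    rw [act_gE, add_assoc, Q_add, Q_add, hS.pure, QuadraticMap.polar_add_right, QuadraticMap.polar_smul_right,
      QuadraticMap.polar_smul_right, QuadraticMap.polar_smul_left, QuadraticMap.polar_smul_right,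
      QuadraticMap.map_smul, QuadraticMap.map_smul, hS.pure, hS.pure, hS.polar_pur, hS.polar_pur, hS.polar_pur, h,
      ← bf_adj hS.h1 C u u, hS.h1.skew (C *ᵥ u) u]
    simp only [smul_eq_mul]
    ring

/-- `zA α k` is an isometry when `α` is self-adjoint and alternating -/
theorem zA_mem_iso_of (hS : Setup J1 J2 Q) (α : Matrix (Fin a) (Fin a) F) (hadj : adj J1 α = α)
    (halt : ∀ u, bf J1 u (α *ᵥ u) = 0) (k : Fin b → F) :
    zA J2 hS.h2 α k ∈ Cfsg.isometryGroup F (⇑Q) := by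
  apply hS.mem_iso_of
  · intro x y
    rw [act_zA, act_zA]
    simp only [bf_add_left, bf_add_right, bf_kron_pur_right, bf_kron_pur_left hS, ctr_J_pur, hS.h2.alt,
      zero_smul, bf_zero_left, add_zero]
    have h1 : bf J1 (ctr (J2 *ᵥ k) y) (α *ᵥ ctr (J2 *ᵥ k) x) = bf J1 (α *ᵥ ctr (J2 *ᵥ k) y) (ctr (J2 *ᵥ k) x) := by
      rw [bf_adj hS.h1, hadj]
    rw [h1, hS.h1.skew (α *ᵥ ctr (J2 *ᵥ k) y)]
    ring
  · intro u x
    rw [act_zA, Q_add, hS.pure, hS.pure, hS.polar_pur, ctr_J_pur, Matrix.mulVec_smul, bf_smul_right, halt]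
    ring

/-- `zA α k` is an isometry when `α = X + X^*` -/
theorem zA_mem_iso (hS : Setup J1 J2 Q) (X : Matrix (Fin a) (Fin a) F) (k : Fin b → F) :
    zA J2 hS.h2 (X + adj J1 X) k ∈ Cfsg.isometryGroup F (⇑Q) := by
  apply zA_mem_iso_of hS
  · rw [adj_add, adj_adj hS.h1, add_comm]
  · intro u
    rw [Matrix.add_mulVec, bf_add_right, ← bf_adj hS.h1, hS.h1.skew (X *ᵥ u) u, add_neg_cancel]

theorem rootW_mem_iso (hS : Setup J1 J2 Q) (k : Fin b → F) (c : F) :
    rootW (a := a) J2 hS.h2 k c ∈ Cfsg.isometryGroup F (⇑Q) := by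
  unfold rootW
  apply zA_mem_iso_of hS
  · rw [adj_smul, adj_one hS.h1]
  · intro u
    rw [Matrix.smul_mulVec, Matrix.one_mulVec, bf_smul_right, hS.h1.alt, mul_zero]

/-- Kronecker products of a `ν`-similitude of `f₁` and a `ν⁻¹`-similitude of `f₂` are isometries -/
theorem kronGL_mem_iso (hS : Setup J1 J2 Q) (A : GL (Fin a) F) (B : GL (Fin b) F) (ν : F) (hν : ν ≠ 0)
    (hA : ∀ x y, bf J1 ((A : Matrix (Fin a) (Fin a) F) *ᵥ x) ((A : Matrix (Fin a) (Fin a) F) *ᵥ y) = ν * bf J1 x y)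
    (hB : ∀ x y, bf J2 ((B : Matrix (Fin b) (Fin b) F) *ᵥ x) ((B : Matrix (Fin b) (Fin b) F) *ᵥ y) = ν⁻¹ * bf J2 x y) :
    kronGL A B ∈ Cfsg.isometryGroup F (⇑Q) := by
  apply hS.mem_iso_of
  · intro x
    refine pur_induction (p := fun x => ∀ y, bf (J1 ⊗ₖ J2) (act (kronGL A B) x) (act (kronGL A B) y) =
      bf (J1 ⊗ₖ J2) x y) ?_ ?_ ?_ x
    · intro y
      rw [map_zero, bf_zero_left, bf_zero_left]
    · intro x x' hx hx' y
      rw [map_add, bf_add_left, bf_add_left, hx, hx']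
    · intro u w y
      refine pur_induction (p := fun y => bf (J1 ⊗ₖ J2) (act (kronGL A B) (pur u w)) (act (kronGL A B) y) =
        bf (J1 ⊗ₖ J2) (pur u w) y) ?_ ?_ ?_ y
      · show bf (J1 ⊗ₖ J2) (act (kronGL A B) (pur u w)) (act (kronGL A B) 0) = bf (J1 ⊗ₖ J2) (pur u w) 0
        rw [map_zero, bf_zero_right, bf_zero_right]
      · intro y y' hy hy'
        show bf (J1 ⊗ₖ J2) (act (kronGL A B) (pur u w)) (act (kronGL A B) (y + y')) = bf (J1 ⊗ₖ J2) (pur u w) (y + y')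
        rw [map_add, bf_add_right, bf_add_right, hy, hy']
      · intro u' w'
        show bf (J1 ⊗ₖ J2) (act (kronGL A B) (pur u w)) (act (kronGL A B) (pur u' w')) =
          bf (J1 ⊗ₖ J2) (pur u w) (pur u' w')
        rw [act_kronGL, act_kronGL, bf_kron_pur, bf_kron_pur, hA, hB]
        field_simp
  · intro u w
    rw [act_kronGL, hS.pure]

theorem rootU_mem_iso (hS : Setup J1 J2 Q) (u : Fin a → F) (c : F) :
    rootU (b := b) J1 hS.h1 u c ∈ Cfsg.isometryGroup F (⇑Q) := by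
  have hsq : (c • E J1 u u) * (c • E J1 u u) = 0 := by
    rw [Matrix.smul_mul, Matrix.mul_smul, E_mul_E, hS.h1.alt]; simp
  have he : rootU (b := b) J1 hS.h1 u c = kronGL (uni (c • E J1 u u) hsq) 1 := by
    apply Units.ext
    rw [Cfsg.Agent.Lib.Helper12.S5704COMMa.rootU_val', Cfsg.Agent.Lib.Helper23.S5637T3b.kronGL_val, uni_val,
      Units.val_one]
  rw [he]
  apply kronGL_mem_iso hS _ _ 1 one_ne_zero
  · intro x y
    rw [uni_val, Matrix.add_mulVec, Matrix.add_mulVec, Matrix.one_mulVec, Matrix.one_mulVec, Matrix.smul_mulVec,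
      Matrix.smul_mulVec, E_mulVec, E_mulVec, bf_add_left, bf_add_right, bf_add_right, bf_smul_left, bf_smul_left,
      bf_smul_right, bf_smul_right, bf_smul_right, bf_smul_right, bf_smul_left, bf_smul_left, hS.h1.alt,
      hS.h1.skew u y]
    ring
  · intro x y
    rw [Units.val_one, Matrix.one_mulVec, Matrix.one_mulVec, inv_one, one_mul]

theorem exists_partner' (hJ2 : SympG J2) (k : Fin b → F) (hk : k ≠ 0) : ∃ k' : Fin b → F, bf J2 k k' = 1 := by
  by_contra hcon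
  push Not at hcon
  apply hk
  apply hJ2.nondeg
  intro y
  by_contra hy
  apply hcon ((bf J2 k y)⁻¹ • y)
  rw [bf_smul_right, inv_mul_cancel₀ hy]

theorem nondeg_apply (hS : Setup J1 J2 Q) (x : Fin a × Fin b → F) (h : ∀ y, bf (J1 ⊗ₖ J2) x y = 0) : x = 0 := by
  apply hS.nondeg.1
  intro y
  rw [QuadraticMap.polarBilin_apply_apply, hS.polar]
  exact h y

/-- the decomposition `v = (v + c ⊗ k') - c ⊗ k'`, `c = ctr (J2 k) v`, with first summand in `Pk k` -/
theorem add_pur_mem_Pk {k k' : Fin b → F} (hkk' : bf J2 k k' = 1) (hJ2 : SympG J2) (v : Fin a × Fin b → F) :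
    v + pur (ctr (J2 *ᵥ k) v) k' ∈ Pk (a := a) J2 k := by
  rw [mem_Pk_iff, map_add, ctr_J_pur, hJ2.skew k' k, hkk', neg_smul, one_smul, add_neg_cancel]

/-- an isometry trivial on `Pk k` is of the form `zA α k` with `α` self-adjoint (`k ≠ 0`) -/
theorem eq_zA_of_fix_Pk (hS : Setup J1 J2 Q) (k : Fin b → F) (hk : k ≠ 0) (ζ : GL (Fin a × Fin b) F)
    (hζ : ζ ∈ Cfsg.isometryGroup F (⇑Q)) (hfix : ∀ x ∈ Pk (a := a) J2 k, act ζ x = x) :
    ∃ α : Matrix (Fin a) (Fin a) F, adj J1 α = α ∧ (∀ u, bf J1 u (α *ᵥ u) = 0) ∧ ζ = zA J2 hS.h2 α k := by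
  obtain ⟨k', hkk'⟩ := exists_partner' hS.h2 k hk
  have hk'k : bf J2 k' k = -1 := by rw [hS.h2.skew, hkk']
  -- the linear map `α'`
  let α' : (Fin a → F) →ₗ[F] (Fin a → F) :=
    (ctr (a := a) (J2 *ᵥ k')) ∘ₗ ((act ζ).toLinearMap - LinearMap.id) ∘ₗ (purL (F := F) (a := a) k')
  have hα' : ∀ u, α' u = ctr (J2 *ᵥ k') (act ζ (pur u k') - pur u k') := fun u => rfl
  -- key: `ζ (u ⊗ k') = u ⊗ k' + α' u ⊗ k`
  have key : ∀ u, act ζ (pur u k') = pur u k' + pur (α' u) k := by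
    intro u
    have h0 : act ζ (pur u k') - pur u k' - pur (α' u) k = 0 := by
      apply nondeg_apply hS
      intro v
      have hv : v = (v + pur (ctr (J2 *ᵥ k) v) k') - pur (ctr (J2 *ᵥ k) v) k' := by abel
      have hp := add_pur_mem_Pk (a := a) hkk' hS.h2 v
      have h1 : bf (J1 ⊗ₖ J2) (act ζ (pur u k') - pur u k' - pur (α' u) k) (v + pur (ctr (J2 *ᵥ k) v) k') = 0 := by
        have h4 : ∀ p ∈ Pk (a := a) J2 k, bf (J1 ⊗ₖ J2) (act ζ (pur u k') - pur u k' - pur (α' u) k) p = 0 := by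
          intro p hp
          have h5 : bf (J1 ⊗ₖ J2) (act ζ (pur u k')) p = bf (J1 ⊗ₖ J2) (pur u k') p := by
            calc bf (J1 ⊗ₖ J2) (act ζ (pur u k')) p = bf (J1 ⊗ₖ J2) (act ζ (pur u k')) (act ζ p) := by
                  rw [hfix p hp]
              _ = bf (J1 ⊗ₖ J2) (pur u k') p := hS.polar_act ζ hζ _ _
          rw [bf_sub_left, bf_sub_left, bf_kron_pur_left hS p (α' u) k, (mem_Pk_iff k p).1 hp, bf_zero_left,
            sub_zero, h5, sub_self]
        exact h4 _ hp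
      have h2 : bf (J1 ⊗ₖ J2) (act ζ (pur u k') - pur u k' - pur (α' u) k) (pur (ctr (J2 *ᵥ k) v) k') = 0 := by
        rw [bf_kron_pur_right, map_sub, ← hα', ctr_J_pur, hkk', one_smul, sub_self, bf_zero_left]
      rw [hv, bf_sub_right, h1, h2, sub_zero]
    have h3 : act ζ (pur u k') = (act ζ (pur u k') - pur u k' - pur (α' u) k) + (pur u k' + pur (α' u) k) := by abel
    rw [h3, h0, zero_add]
  -- `α' u` is alternating
  have halt' : ∀ u, bf J1 u (α' u) = 0 := by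
    intro u
    have h1 := (mem_iso_iff (Q := Q) ζ).1 hζ (pur u k')
    rw [key, Q_add, hS.pure, hS.pure, hS.polar_pur, hk'k] at h1
    linear_combination -h1
  refine ⟨-(LinearMap.toMatrix' α'), ?_, ?_, ?_⟩
  · -- self-adjoint
    have hpol : ∀ x y, bf J1 x (α' y) + bf J1 y (α' x) = 0 := by
      intro x y
      have h := halt' (x + y)
      rw [map_add, bf_add_left, bf_add_right, bf_add_right, halt' x, halt' y] at h
      linear_combination h
    apply adj_unique hS.h1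
    intro x y
    rw [Matrix.neg_mulVec, Matrix.neg_mulVec, LinearMap.toMatrix'_mulVec, LinearMap.toMatrix'_mulVec, bf_neg_left,
      bf_neg_right, hS.h1.skew (α' x) y]
    linear_combination hpol x y
  · intro u
    rw [Matrix.neg_mulVec, LinearMap.toMatrix'_mulVec, bf_neg_right, halt' u, neg_zero]
  · apply Units.ext
    apply mat_ext_mulVec
    intro v
    show act ζ v = act (zA J2 hS.h2 (-(LinearMap.toMatrix' α')) k) v
    rw [act_zA, Matrix.neg_mulVec, LinearMap.toMatrix'_mulVec, pur_neg_left]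
    have hv : v = (v + pur (ctr (J2 *ᵥ k) v) k') - pur (ctr (J2 *ᵥ k) v) k' := by abel
    have hp := add_pur_mem_Pk (a := a) hkk' hS.h2 v
    conv_lhs => rw [hv, map_sub, hfix _ hp, key]
    abel

end Cfsg.Agent.Lib.Helper12.S5704ISO
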