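import Mathlib
import Cfsg.Prelude.Def_GeometricClasses

/-!
# General lemma G1 for Aschbacher's theorem (S5630): Burnside's theorem (helper12)

If a subgroup `R` of `GL(ι, F)` acts absolutely irreducibly (frozen vocabulary: irreducible and commutant = scalars),
then the `F`-span of its matrices is the whole matrix algebra.  Proof: Jacobson density (Mathlib).
-/

set_option autoImplicit false

namespace Cfsg.Agent.Lib.Helper12.AschG1

open Matrix Cfsg.Geo

variable {ι : Type} [Fintype ι] [DecidableEq ι] {F : Type*} [Field F]

theorem adj_smul (S : Set (Matrix ι ι F)) (x : Algebra.adjoin F S) (v : ι → F) :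
    x • v = (x : Matrix ι ι F) *ᵥ v := rfl

theorem adj_algebraMap_smul (S : Set (Matrix ι ι F)) (c : F) (v : ι → F) :
    (algebraMap F (Algebra.adjoin F S) c) • v = c • v := by
  rw [adj_smul]
  have : ((algebraMap F (Algebra.adjoin F S) c : Algebra.adjoin F S) : Matrix ι ι F) = c • (1 : Matrix ι ι F) := by
    rw [Algebra.algebraMap_eq_smul_one]
    rfl
  rw [this, Matrix.smul_mulVec, Matrix.one_mulVec]

/-- an `A`-submodule as an `F`-submodule -/
def toF (S : Set (Matrix ι ι F)) (W : Submodule (Algebra.adjoin F S) (ι → F)) : Submodule F (ι → F) where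
  carrier := W
  add_mem' := fun ha hb => W.add_mem ha hb
  zero_mem' := W.zero_mem
  smul_mem' := fun c v hv => by
    have := W.smul_mem (algebraMap F (Algebra.adjoin F S) c) hv
    rw [adj_algebraMap_smul] at this
    exact this

theorem mem_toF (S : Set (Matrix ι ι F)) (W : Submodule (Algebra.adjoin F S) (ι → F)) (v : ι → F) :
    v ∈ toF S W ↔ v ∈ W := Iff.rfl

theorem isSimpleModule_adjoin [Nonempty ι] (S : Set (Matrix ι ι F)) (hS : ActsIrreducibly S) :
    IsSimpleModule (Algebra.adjoin F S) (ι → F) := by
  refine { exists_pair_ne := ⟨⊥, ⊤, ?_⟩, eq_bot_or_eq_top := ?_ }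
  · intro h
    obtain ⟨i⟩ := ‹Nonempty ι›
    have h1 : (Pi.single i (1 : F) : ι → F) ∈ (⊤ : Submodule (Algebra.adjoin F S) (ι → F)) := trivial
    rw [← h, Submodule.mem_bot] at h1
    have := congrFun h1 i
    simp at this
  · intro W
    have hinv : ∀ s ∈ S, (toF S W).map (Matrix.toLin' s) ≤ toF S W := by
      intro s hs v hv
      obtain ⟨w, hw, rfl⟩ := hv
      have := W.smul_mem (⟨s, Algebra.subset_adjoin hs⟩ : Algebra.adjoin F S) hw
      rw [adj_smul] at this
      rw [mem_toF, Matrix.toLin'_apply]
      exact this
    rcases hS (toF S W) hinv with h | h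
    · left
      ext v
      rw [← mem_toF, h]
      simp
    · right
      ext v
      rw [← mem_toF, h]
      simp

/-- every endomorphism of the `A`-module `F^ι` is a scalar -/
theorem end_scalar (S : Set (Matrix ι ι F)) (hS : ActsAbsolutelyIrreducibly S)
    (φ : Module.End (Algebra.adjoin F S) (ι → F)) : ∃ c : F, ∀ v, φ v = c • v := by
  let φF : (ι → F) →ₗ[F] (ι → F) :=
    { toFun := φ
      map_add' := φ.map_add
      map_smul' := fun c v => by
        have := φ.map_smul (algebraMap F (Algebra.adjoin F S) c) v
        rw [adj_algebraMap_smul, adj_algebraMap_smul] at this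
        exact this }
  have hcomm : ∀ s ∈ S, LinearMap.toMatrix' φF * s = s * LinearMap.toMatrix' φF := by
    intro s hs
    apply Matrix.toLin'.injective
    apply LinearMap.ext
    intro v
    rw [Matrix.toLin'_mul, Matrix.toLin'_mul, Matrix.toLin'_toMatrix', LinearMap.comp_apply, LinearMap.comp_apply,
      Matrix.toLin'_apply]
    have := φ.map_smul (⟨s, Algebra.subset_adjoin hs⟩ : Algebra.adjoin F S) v
    rw [adj_smul, adj_smul] at this
    exact this
  obtain ⟨c, hc⟩ := hS.2 _ hcomm
  refine ⟨c, fun v => ?_⟩
  have h1 : φ v = LinearMap.toMatrix' φF *ᵥ v := by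
    rw [LinearMap.toMatrix'_mulVec]
    rfl
  rw [h1, hc, Matrix.smul_mulVec, Matrix.one_mulVec]

/-- **Burnside**: an absolutely irreducible set of matrices generates the full matrix algebra -/
theorem mem_adjoin_of_absIrred [Nonempty ι] (S : Set (Matrix ι ι F)) (hS : ActsAbsolutelyIrreducibly S)
    (M : Matrix ι ι F) : M ∈ Algebra.adjoin F S := by
  classical
  have := isSimpleModule_adjoin S hS.1
  let f : Module.End (Module.End (Algebra.adjoin F S) (ι → F)) (ι → F) :=
    { toFun := fun v => M *ᵥ v
      map_add' := fun v w => Matrix.mulVec_add M v w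
      map_smul' := fun φ v => by
        obtain ⟨c, hc⟩ := end_scalar S hS φ
        simp only [RingHom.id_apply, Module.End.smul_def]
        rw [hc, hc, Matrix.mulVec_smul] }
  obtain ⟨r, hr⟩ := jacobson_density f (Finset.univ.image (fun i => (Pi.single i (1 : F) : ι → F)))
  have hM : M = (r : Matrix ι ι F) := by
    ext i j
    have h1 := hr (Pi.single j 1) (Finset.mem_image.mpr ⟨j, Finset.mem_univ _, rfl⟩)
    rw [adj_smul] at h1
    have h2 : f (Pi.single j 1) = M *ᵥ (Pi.single j 1) := rfl
    rw [h2] at h1
    have := congrFun h1 i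
    rwa [Matrix.mulVec_single_one, Matrix.mulVec_single_one] at this
  rw [hM]
  exact r.2

/-- the matrices of a subgroup form a submonoid of the matrix algebra -/
def matrixSubmonoid (R : Subgroup (GL ι F)) : Submonoid (Matrix ι ι F) :=
  R.toSubmonoid.map (Units.coeHom (Matrix ι ι F))

theorem coe_matrixSubmonoid (R : Subgroup (GL ι F)) : (matrixSubmonoid R : Set (Matrix ι ι F)) = matrixSet R := rfl

/-- **Burnside** for subgroups of `GL`: the span of an absolutely irreducible group is the full matrix algebra -/
theorem span_matrixSet_eq_top (R : Subgroup (GL ι F)) (h : ActsAbsolutelyIrreducibly (matrixSet R)) :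
    Submodule.span F (matrixSet R) = ⊤ := by
  rcases isEmpty_or_nonempty ι with he | hne
  · rw [Submodule.eq_top_iff']
    intro M
    have : M = 0 := Subsingleton.elim _ _
    rw [this]
    exact Submodule.zero_mem _
  · rw [Submodule.eq_top_iff']
    intro M
    have h1 := mem_adjoin_of_absIrred (matrixSet R) h M
    have h2 : (Algebra.adjoin F (matrixSet R)).toSubmodule = Submodule.span F (matrixSet R) := by
      rw [Algebra.adjoin_eq_span, ← coe_matrixSubmonoid, Submonoid.closure_eq]
    rw [← h2]
    exact h1

/-- every matrix is a finite linear combination of elements of an absolutely irreducible group -/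
theorem mem_span_matrixSet (R : Subgroup (GL ι F)) (h : ActsAbsolutelyIrreducibly (matrixSet R))
    (M : Matrix ι ι F) : M ∈ Submodule.span F (matrixSet R) := by
  rw [span_matrixSet_eq_top R h]
  trivial

/-- a matrix commuting with an absolutely irreducible group commutes with everything (in particular: it is scalar, which is
part of the definition; this form is for maps: two linear maps agreeing on the group agree everywhere) -/
theorem linearMap_ext_of_absIrred {N : Type*} [AddCommMonoid N] [Module F N] (R : Subgroup (GL ι F))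
    (h : ActsAbsolutelyIrreducibly (matrixSet R)) (f g : Matrix ι ι F →ₗ[F] N)
    (hfg : ∀ x ∈ R, f (x : Matrix ι ι F) = g (x : Matrix ι ι F)) : f = g := by
  apply LinearMap.ext_on_range (v := fun x : R => ((x : GL ι F) : Matrix ι ι F))
  · rw [← span_matrixSet_eq_top R h]
    congr 1
    ext M
    constructor
    · rintro ⟨x, rfl⟩
      exact ⟨x.1, x.2, rfl⟩
    · rintro ⟨x, hx, rfl⟩
      exact ⟨⟨x, hx⟩, rfl⟩
  · intro x
    exact hfg x.1 x.2

end Cfsg.Agent.Lib.Helper12.AschG1
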