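import Mathlib
import Cfsg.Prelude.Def_GeometricClasses

/-!
# General lemma G3 for Aschbacher's theorem (S5630): the normaliser of a subfield-realisable absolutely irreducible
group lies in a subfield group (helper12)

"Noether–Deuring by coefficient comparison": if all members of `S` have entries in the subfield `F₀`, the commutant of `S` is the
scalars, and `h s h⁻¹ ∈ S` for all `s ∈ S`, then `h = c • h₀` with `h₀` invertible over `F₀`.
-/

set_option autoImplicit false
set_option linter.unusedSectionVars false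

namespace Cfsg.Agent.Lib.Helper12.AschG3

open Matrix Cfsg.Geo

variable {ι : Type} [Fintype ι] [DecidableEq ι] {F : Type*} [Field F]

section coord

variable (F₀ : Subfield F) {κ : Type*} [Fintype κ] (b : Module.Basis κ F₀ F)

/-- the `k`-th coordinate matrix of `M` with respect to an `F₀`-basis of `F` -/
noncomputable def coord (k : κ) (M : Matrix ι ι F) : Matrix ι ι F :=
  fun i j => ((b.repr (M i j) k : F₀) : F)

theorem coord_mem (k : κ) (M : Matrix ι ι F) (i j : ι) : coord F₀ b k M i j ∈ F₀ :=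
  (b.repr (M i j) k).2

theorem eq_sum_coord (M : Matrix ι ι F) : M = ∑ k, b k • coord F₀ b k M := by
  ext i j
  rw [Matrix.sum_apply]
  have h := b.sum_repr (M i j)
  conv_lhs => rw [← h]
  apply Finset.sum_congr rfl
  intro k _
  rw [Matrix.smul_apply, coord, smul_eq_mul, mul_comm]
  rfl

/-- `coord` commutes with right multiplication by a matrix over `F₀` -/
theorem coord_mul_right (k : κ) (M s : Matrix ι ι F) (hs : ∀ i j, s i j ∈ F₀) :
    coord F₀ b k (M * s) = coord F₀ b k M * s := by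
  ext i j
  simp only [coord, Matrix.mul_apply]
  have h1 : ∀ l, M i l * s l j = (⟨s l j, hs l j⟩ : F₀) • M i l := by
    intro l
    rw [mul_comm]
    rfl
  simp_rw [h1]
  rw [map_sum]
  simp only [map_smul, Finsupp.coe_finsetSum, Finset.sum_apply, Finsupp.coe_smul, Pi.smul_apply, smul_eq_mul]
  rw [AddSubmonoidClass.coe_finsetSum]
  apply Finset.sum_congr rfl
  intro l _
  rw [Subfield.coe_mul, mul_comm]

/-- `coord` commutes with left multiplication by a matrix over `F₀` -/
theorem coord_mul_left (k : κ) (M s : Matrix ι ι F) (hs : ∀ i j, s i j ∈ F₀) :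
    coord F₀ b k (s * M) = s * coord F₀ b k M := by
  ext i j
  simp only [coord, Matrix.mul_apply]
  have h1 : ∀ l, s i l * M l j = (⟨s i l, hs i l⟩ : F₀) • M l j := by
    intro l
    rfl
  simp_rw [h1]
  rw [map_sum]
  simp only [map_smul, Finsupp.coe_finsetSum, Finset.sum_apply, Finsupp.coe_smul, Pi.smul_apply, smul_eq_mul]
  rw [AddSubmonoidClass.coe_finsetSum]
  apply Finset.sum_congr rfl
  intro l _
  rw [Subfield.coe_mul]

end coord

/-- **Noether–Deuring by coefficient comparison** -/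
theorem mem_range_sup_scalars_of_normalizes [Finite F] (F₀ : Subfield F) (S : Set (Matrix ι ι F))
    (hent : ∀ s ∈ S, ∀ i j, s i j ∈ F₀)
    (hcomm : ∀ M : Matrix ι ι F, (∀ s ∈ S, M * s = s * M) → ∃ c : F, M = c • (1 : Matrix ι ι F))
    (h : GL ι F) (hnorm : ∀ s ∈ S, (h : Matrix ι ι F) * s * ((h⁻¹ : GL ι F) : Matrix ι ι F) ∈ S) :
    h ∈ (Matrix.GeneralLinearGroup.map (F₀.subtype : F₀ →+* F)).range ⊔ scalars ι F := by
  classical
  have hfin : Module.Finite F₀ F := Module.Finite.of_finite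
  let b := Module.Free.chooseBasis F₀ F
  have hinv1 : (h : Matrix ι ι F) * ((h⁻¹ : GL ι F) : Matrix ι ι F) = 1 := by
    rw [← Units.val_mul, mul_inv_cancel, Units.val_one]
  have hinv2 : ((h⁻¹ : GL ι F) : Matrix ι ι F) * (h : Matrix ι ι F) = 1 := by
    rw [← Units.val_mul, inv_mul_cancel, Units.val_one]
  -- each coordinate matrix is a multiple of `h`
  have hk : ∀ k, ∃ c : F, coord F₀ b k (h : Matrix ι ι F) = c • (h : Matrix ι ι F) := by
    intro k
    have h1 : ∀ s ∈ S, coord F₀ b k (h : Matrix ι ι F) * s =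
        ((h : Matrix ι ι F) * s * ((h⁻¹ : GL ι F) : Matrix ι ι F)) * coord F₀ b k (h : Matrix ι ι F) := by
      intro s hs
      rw [← coord_mul_right F₀ b k _ s (hent s hs), ← coord_mul_left F₀ b k _ _ (hent _ (hnorm s hs)),
        Matrix.mul_assoc, hinv2, Matrix.mul_one]
    obtain ⟨c, hc⟩ := hcomm (((h⁻¹ : GL ι F) : Matrix ι ι F) * coord F₀ b k (h : Matrix ι ι F)) (by
      intro s hs
      rw [Matrix.mul_assoc, h1 s hs, ← Matrix.mul_assoc, ← Matrix.mul_assoc, ← Matrix.mul_assoc, hinv2,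
        Matrix.one_mul, Matrix.mul_assoc])
    refine ⟨c, ?_⟩
    calc coord F₀ b k (h : Matrix ι ι F)
        = (h : Matrix ι ι F) * (((h⁻¹ : GL ι F) : Matrix ι ι F) * coord F₀ b k (h : Matrix ι ι F)) := by
          rw [← Matrix.mul_assoc, hinv1, Matrix.one_mul]
      _ = c • (h : Matrix ι ι F) := by rw [hc, Matrix.mul_smul, Matrix.mul_one]
  choose c hc using hk
  by_cases hall : ∀ k, c k = 0
  · -- degenerate: `h = 0`, the matrix ring is trivial
    have h0 : (h : Matrix ι ι F) = 0 := by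
      rw [eq_sum_coord F₀ b (h : Matrix ι ι F)]
      apply Finset.sum_eq_zero
      intro k _
      rw [hc k, hall k, zero_smul, smul_zero]
    have h1 : h = 1 := by
      apply Units.ext
      rw [Units.val_one, ← hinv1, h0, Matrix.zero_mul]
    rw [h1]
    exact Subgroup.one_mem _
  · push Not at hall
    obtain ⟨k, hck⟩ := hall
    let M0 : Matrix ι ι F₀ := fun i j => ⟨coord F₀ b k (h : Matrix ι ι F) i j, coord_mem F₀ b k _ i j⟩
    have hM0 : M0.map (F₀.subtype : F₀ →+* F) = coord F₀ b k (h : Matrix ι ι F) := by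
      ext i j
      rfl
    have hdet : (F₀.subtype : F₀ →+* F) M0.det ≠ 0 := by
      rw [RingHom.map_det, RingHom.mapMatrix_apply, hM0, hc k, Matrix.det_smul]
      apply mul_ne_zero (pow_ne_zero _ hck)
      have : IsUnit (h : Matrix ι ι F).det := (Matrix.isUnit_iff_isUnit_det _).mp h.isUnit
      exact this.ne_zero
    have hdet0 : M0.det ≠ 0 := fun h0 => hdet (by rw [h0, map_zero])
    let g0 : GL ι F₀ := Matrix.GeneralLinearGroup.mkOfDetNeZero M0 hdet0
    have hg0 : ((Matrix.GeneralLinearGroup.map (F₀.subtype : F₀ →+* F) g0 : GL ι F) : Matrix ι ι F) =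
        c k • (h : Matrix ι ι F) := by
      rw [← hc k, ← hM0]
      rfl
    have hsc : (Units.map (Matrix.scalar ι : F →+* Matrix ι ι F).toMonoidHom (Units.mk0 (c k)⁻¹ (inv_ne_zero hck)) :
        GL ι F) ∈ scalars ι F := ⟨_, rfl⟩
    have heq : h = Matrix.GeneralLinearGroup.map (F₀.subtype : F₀ →+* F) g0 *
        Units.map (Matrix.scalar ι : F →+* Matrix ι ι F).toMonoidHom (Units.mk0 (c k)⁻¹ (inv_ne_zero hck)) := by
      apply Units.ext
      rw [Units.val_mul, hg0]
      simp only [Units.coe_map, RingHom.toMonoidHom_eq_coe, MonoidHom.coe_coe, Units.val_mk0, Matrix.scalar_apply]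
      rw [← Matrix.smul_one_eq_diagonal, Matrix.mul_smul, Matrix.mul_one, smul_smul, inv_mul_cancel₀ hck, one_smul]
    rw [heq]
    exact Subgroup.mul_mem_sup ⟨g0, rfl⟩ hsc

/-- the normaliser of an absolutely irreducible group realised over `F₀` (via `B`) lies in the subfield group of `F₀`, `B⁻¹` -/
theorem normalizer_le_subfieldSubgroup [Finite F] (F₀ : Subfield F) (R : Subgroup (GL ι F))
    (habs : ActsAbsolutelyIrreducibly (matrixSet R)) (B : GL ι F)
    (hB : ∀ s ∈ matrixSet R, ∀ i j, ((B : Matrix ι ι F) * s * ((B⁻¹ : GL ι F) : Matrix ι ι F)) i j ∈ F₀) :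
    Subgroup.normalizer (R : Set (GL ι F)) ≤ subfieldSubgroup F₀ B⁻¹ := by
  intro h hh
  have hBinv1 : (B : Matrix ι ι F) * ((B⁻¹ : GL ι F) : Matrix ι ι F) = 1 := by
    rw [← Units.val_mul, mul_inv_cancel, Units.val_one]
  have hBinv2 : ((B⁻¹ : GL ι F) : Matrix ι ι F) * (B : Matrix ι ι F) = 1 := by
    rw [← Units.val_mul, inv_mul_cancel, Units.val_one]
  have key : B * h * B⁻¹ ∈ (Matrix.GeneralLinearGroup.map (F₀.subtype : F₀ →+* F)).range ⊔ scalars ι F := by
    apply mem_range_sup_scalars_of_normalizes F₀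
      ((fun s : Matrix ι ι F => (B : Matrix ι ι F) * s * ((B⁻¹ : GL ι F) : Matrix ι ι F)) '' matrixSet R)
    · rintro _ ⟨s, hs, rfl⟩ i j
      exact hB s hs i j
    · intro M hM
      obtain ⟨c, hc⟩ := habs.2 (((B⁻¹ : GL ι F) : Matrix ι ι F) * M * (B : Matrix ι ι F)) (by
        intro s hs
        have h1 := hM _ ⟨s, hs, rfl⟩
        calc ((B⁻¹ : GL ι F) : Matrix ι ι F) * M * (B : Matrix ι ι F) * s
            = ((B⁻¹ : GL ι F) : Matrix ι ι F) * (M * ((B : Matrix ι ι F) * s * ((B⁻¹ : GL ι F) : Matrix ι ι F))) *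
                (B : Matrix ι ι F) := by
              simp only [Matrix.mul_assoc, hBinv2, Matrix.mul_one]
          _ = ((B⁻¹ : GL ι F) : Matrix ι ι F) * ((B : Matrix ι ι F) * s * ((B⁻¹ : GL ι F) : Matrix ι ι F) * M) *
                (B : Matrix ι ι F) := by rw [h1]
          _ = s * (((B⁻¹ : GL ι F) : Matrix ι ι F) * M * (B : Matrix ι ι F)) := by
              simp only [Matrix.mul_assoc]
              rw [← Matrix.mul_assoc ((B⁻¹ : GL ι F) : Matrix ι ι F) (B : Matrix ι ι F), hBinv2, Matrix.one_mul])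
      refine ⟨c, ?_⟩
      calc M = (B : Matrix ι ι F) * (((B⁻¹ : GL ι F) : Matrix ι ι F) * M * (B : Matrix ι ι F)) *
            ((B⁻¹ : GL ι F) : Matrix ι ι F) := by
            simp only [Matrix.mul_assoc, hBinv1, Matrix.mul_one]
            rw [← Matrix.mul_assoc, hBinv1, Matrix.one_mul]
        _ = c • (1 : Matrix ι ι F) := by
            rw [hc, Matrix.mul_smul, Matrix.mul_one, Matrix.smul_mul, hBinv1]
    · rintro _ ⟨s, ⟨x, hx, rfl⟩, rfl⟩
      refine ⟨((h * x * h⁻¹ : GL ι F) : Matrix ι ι F), ⟨h * x * h⁻¹, ?_, rfl⟩, ?_⟩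
      · exact (Subgroup.mem_normalizer_iff.mp hh x).mp hx
      · have h1 : (B * (h * x * h⁻¹) * B⁻¹ : GL ι F) = (B * h * B⁻¹) * (B * x * B⁻¹) * (B * h * B⁻¹)⁻¹ := by group
        have h2 := congrArg (fun g : GL ι F => (g : Matrix ι ι F)) h1
        simp only [Units.val_mul] at h2
        simp only [Units.val_mul]
        exact h2
  unfold subfieldSubgroup
  rw [Subgroup.mem_map]
  refine ⟨B * h * B⁻¹, key, ?_⟩
  show B⁻¹ * (B * h * B⁻¹) * (B⁻¹)⁻¹ = h
  group

/-- above every proper subfield of a finite field there is a subfield of prime index -/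
theorem exists_prime_index_subfield [Fintype F] (F₀ : Subfield F) (h0 : F₀ ≠ ⊤) :
    ∃ (F₁ : Subfield F) (r : ℕ), F₀ ≤ F₁ ∧ r.Prime ∧ Fintype.card F = Nat.card F₁ ^ r := by
  classical
  have : Finite (Subfield F) := Finite.of_injective (fun K : Subfield F => (K : Set F)) SetLike.coe_injective
  obtain ⟨F₁, h01, ⟨⟨-, h1top⟩, hmax⟩⟩ :=
    Finite.exists_le_maximal (p := fun K : Subfield F => F₀ ≤ K ∧ K ≠ ⊤) (a := F₀) ⟨le_refl _, h0⟩
  refine ⟨F₁, Module.finrank F₁ F, h01, ?_, ?_⟩
  swap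
  · rw [Module.card_eq_pow_finrank (K := F₁) (V := F), Nat.card_eq_fintype_card]
  -- notation
  have hcard : Fintype.card F = Fintype.card F₁ ^ Module.finrank F₁ F := Module.card_eq_pow_finrank
  have hQ2 : 2 ≤ Fintype.card F₁ := Fintype.one_lt_card
  have hr0 : 0 < Module.finrank F₁ F := Module.finrank_pos
  -- r ≠ 1
  have hr1 : Module.finrank F₁ F ≠ 1 := by
    intro h1
    apply h1top
    rw [h1, pow_one] at hcard
    have hbij : Function.Bijective (Subtype.val : F₁ → F) :=
      (Fintype.bijective_iff_injective_and_card _).2 ⟨Subtype.val_injective, hcard.symm⟩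
    rw [eq_top_iff]
    intro x _
    obtain ⟨y, rfl⟩ := hbij.2 x
    exact y.2
  by_contra hnp
  obtain ⟨r1, hr1dvd, hr12, hr1lt⟩ := Nat.exists_dvd_of_not_prime2 (by omega) hnp
  obtain ⟨r2, hr2⟩ := hr1dvd
  -- characteristic
  obtain ⟨p, hp⟩ := CharP.exists F
  haveI := hp
  haveI : Fact p.Prime := ⟨CharP.char_is_prime F p⟩
  haveI : CharP F₁ p := by
    exact RingHom.charP (algebraMap F₁ F) (algebraMap F₁ F).injective p
  obtain ⟨d, -, hd⟩ := FiniteField.card F₁ p
  -- the intermediate field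
  let K : Subfield F := (iterateFrobenius F p ((d : ℕ) * r1)).eqLocusField (RingHom.id F)
  have hK : ∀ x : F, x ∈ K ↔ x ^ (Fintype.card F₁ ^ r1) = x := by
    intro x
    rw [hd, ← pow_mul]
    exact Iff.rfl
  have h1K : F₁ ≤ K := by
    intro x hx
    rw [hK]
    have := FiniteField.pow_card_pow r1 (⟨x, hx⟩ : F₁)
    exact congrArg Subtype.val this
  -- a generator of the multiplicative group
  obtain ⟨g, hg⟩ := IsCyclic.exists_generator (α := Fˣ)
  have hog : orderOf g = Fintype.card F₁ ^ Module.finrank F₁ F - 1 := by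
    rw [orderOf_eq_card_of_forall_mem_zpowers hg, Nat.card_eq_fintype_card, Fintype.card_units, hcard]
  have key : ∀ (x : Fˣ) (n : ℕ), 0 < n → (x : F) ^ n = x → x ^ (n - 1) = 1 := by
    intro x n hn hx
    apply Units.ext
    rw [Units.val_pow_eq_pow_val, Units.val_one]
    apply mul_left_cancel₀ x.ne_zero
    rw [← pow_succ', Nat.sub_add_cancel hn, hx, mul_one]
  have hQr1 : Fintype.card F₁ < Fintype.card F₁ ^ r1 := by
    calc Fintype.card F₁ = Fintype.card F₁ ^ 1 := (pow_one _).symm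
      _ < Fintype.card F₁ ^ r1 := Nat.pow_lt_pow_right hQ2 (by omega)
  have hQr : Fintype.card F₁ ^ r1 < Fintype.card F₁ ^ Module.finrank F₁ F := Nat.pow_lt_pow_right hQ2 hr1lt
  have hmN : Fintype.card F₁ ^ r1 - 1 ∣ Fintype.card F₁ ^ Module.finrank F₁ F - 1 := by
    exact Nat.pow_sub_one_dvd_pow_sub_one (Fintype.card F₁) ⟨r2, hr2⟩
  obtain ⟨t, ht⟩ := hmN
  have ht0 : 0 < t := by
    rcases Nat.eq_zero_or_pos t with h | h
    · rw [h, mul_zero] at ht
      omega
    · exact h
  -- K ≠ ⊤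
  have hKtop : K ≠ ⊤ := by
    intro hK1
    have h1 : (g : F) ∈ K := by rw [hK1]; trivial
    rw [hK] at h1
    have h2 := key g _ (by omega) h1
    have h3 := orderOf_dvd_of_pow_eq_one h2
    rw [hog] at h3
    have := Nat.le_of_dvd (by omega) h3
    omega
  -- K = F₁
  have hKle : K ≤ F₁ := hmax ⟨h01.trans h1K, hKtop⟩ h1K
  -- the element `u`
  have hu : ((g ^ t : Fˣ) : F) ∈ K := by
    rw [hK]
    have h1 : (g ^ t) ^ (Fintype.card F₁ ^ r1 - 1) = 1 := by
      rw [← pow_mul, mul_comm, ← ht, ← hog, pow_orderOf_eq_one]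
    have h2 := congrArg (fun x : Fˣ => (x : F)) h1
    simp only [Units.val_pow_eq_pow_val, Units.val_one] at h2
    calc ((g ^ t : Fˣ) : F) ^ (Fintype.card F₁ ^ r1)
        = ((g ^ t : Fˣ) : F) ^ (Fintype.card F₁ ^ r1 - 1 + 1) := by
          rw [Nat.sub_add_cancel (by omega)]
      _ = ((g ^ t : Fˣ) : F) := by
          rw [pow_succ, Units.val_pow_eq_pow_val, h2, one_mul]
  have hu1 := hKle hu
  have h4 := FiniteField.pow_card (⟨((g ^ t : Fˣ) : F), hu1⟩ : F₁)
  have h5 : ((g ^ t : Fˣ) : F) ^ Fintype.card F₁ = ((g ^ t : Fˣ) : F) := congrArg Subtype.val h4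
  have h6 := key (g ^ t) _ (by omega) h5
  rw [← pow_mul] at h6
  have h7 := orderOf_dvd_of_pow_eq_one h6
  rw [hog, ht, mul_comm t] at h7
  have h8 := Nat.dvd_of_mul_dvd_mul_right ht0 h7
  have := Nat.le_of_dvd (by omega) h8
  omega


/-- a subgroup normalised by `H` (in the elementwise form used in the frozen text) has `H` inside its normaliser -/
theorem le_normalizer_of_forall {G : Type*} [Group G] (H R : Subgroup G)
    (hnorm : ∀ h ∈ H, ∀ x ∈ R, h * x * h⁻¹ ∈ R) : H ≤ Subgroup.normalizer (R : Set G) := by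
  intro h hh
  rw [Subgroup.mem_normalizer_iff]
  intro x
  constructor
  · intro hx
    exact hnorm h hh x hx
  · intro hx
    have := hnorm h⁻¹ (H.inv_mem hh) _ hx
    rw [inv_inv] at this
    have h2 : h⁻¹ * (h * x * h⁻¹) * h = x := by group
    rwa [h2] at this

/-- **C5 exit**: if `H` normalises an absolutely irreducible group `R` that can be realised over a proper subfield, then `H` lies
in a member of class 5 of `InLinearClass` -/
theorem exists_class5_of_realisable [Fintype F] {n : ℕ} (R H : Subgroup (GL (Fin n) F))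
    (habs : ActsAbsolutelyIrreducibly (matrixSet R)) (hnorm : ∀ h ∈ H, ∀ x ∈ R, h * x * h⁻¹ ∈ R)
    (F₀ : Subfield F) (h0 : F₀ ≠ ⊤) (hreal : RealisableOver F₀ (matrixSet R)) :
    ∃ M : Subgroup (GL (Fin n) F), InLinearClass n F M ∧ H ≤ M := by
  obtain ⟨F₁, r, h01, hr, hcard⟩ := exists_prime_index_subfield F₀ h0
  obtain ⟨B, hB⟩ := hreal
  refine ⟨subfieldSubgroup F₁ B⁻¹, ?_, ?_⟩
  · exact Or.inr (Or.inr (Or.inr (Or.inr (Or.inr (Or.inr (Or.inl ⟨F₁, r, B⁻¹, hr, hcard, rfl⟩))))))
  · exact (le_normalizer_of_forall H R hnorm).trans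
      (normalizer_le_subfieldSubgroup F₁ R habs B (fun s hs i j => h01 (hB s hs i j)))

end Cfsg.Agent.Lib.Helper12.AschG3
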