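import Mathlib
import Cfsg.Prelude.Def_GeometricClasses
import Cfsg.Agent.Lib.Helper7.AschDefs

/-!
# S5630 CORE-ND (helper12): Noether-Deuring-lite by coefficient comparison

If `H` normalises an absolutely irreducible group `R` that is realisable over the subfield `F₀`, then `H` is realisable over
`F₀` modulo scalars.  No finiteness is needed: instead of an `F₀`-basis of `F` we apply an `F₀`-linear functional `F → F₀`
entrywise.
-/

set_option autoImplicit false
set_option linter.unusedSectionVars false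

namespace Cfsg.Agent.Lib.Helper12.S5630CoreND

open Matrix Cfsg.Geo Cfsg.Agent.Lib.Helper7.Asch

variable {F : Type*} [Field F] {n : ℕ}

section app

variable {ι : Type} [Fintype ι] (F₀ : Subfield F) (φ : F →ₗ[F₀] F₀)

/-- entrywise application of an `F₀`-linear functional -/
def app (M : Matrix ι ι F) : Matrix ι ι F :=
  fun i j => ((φ (M i j) : F₀) : F)

theorem app_mem (M : Matrix ι ι F) (i j : ι) : app F₀ φ M i j ∈ F₀ :=
  (φ (M i j)).2

theorem app_mul_right (M s : Matrix ι ι F) (hs : ∀ i j, s i j ∈ F₀) :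
    app F₀ φ (M * s) = app F₀ φ M * s := by
  ext i j
  simp only [app, Matrix.mul_apply]
  have h1 : ∀ l, M i l * s l j = (⟨s l j, hs l j⟩ : F₀) • M i l := by
    intro l
    rw [mul_comm]
    rfl
  simp_rw [h1]
  rw [map_sum]
  simp only [map_smul, smul_eq_mul]
  rw [AddSubmonoidClass.coe_finsetSum]
  apply Finset.sum_congr rfl
  intro l _
  rw [Subfield.coe_mul, mul_comm]

theorem app_mul_left (M s : Matrix ι ι F) (hs : ∀ i j, s i j ∈ F₀) :
    app F₀ φ (s * M) = s * app F₀ φ M := by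
  ext i j
  simp only [app, Matrix.mul_apply]
  have h1 : ∀ l, s i l * M l j = (⟨s i l, hs i l⟩ : F₀) • M l j := by
    intro l
    rfl
  simp_rw [h1]
  rw [map_sum]
  simp only [map_smul, smul_eq_mul]
  rw [AddSubmonoidClass.coe_finsetSum]
  apply Finset.sum_congr rfl
  intro l _
  rw [Subfield.coe_mul]

end app

/-- coefficient comparison: a matrix normalising a set of matrices over `F₀` with scalar commutant is a scalar multiple of a
matrix over `F₀` -/
theorem exists_smul_entries_mem {ι : Type} [Fintype ι] [DecidableEq ι] (F₀ : Subfield F) (S : Set (Matrix ι ι F))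
    (hent : ∀ s ∈ S, ∀ i j, s i j ∈ F₀)
    (hcomm : ∀ M : Matrix ι ι F, (∀ s ∈ S, M * s = s * M) → ∃ c : F, M = c • (1 : Matrix ι ι F))
    (h : GL ι F) (hnorm : ∀ s ∈ S, (h : Matrix ι ι F) * s * ((h⁻¹ : GL ι F) : Matrix ι ι F) ∈ S) :
    ∃ c : Fˣ, ∀ i j, ((c : F) • (h : Matrix ι ι F)) i j ∈ F₀ := by
  classical
  have hinv1 : (h : Matrix ι ι F) * ((h⁻¹ : GL ι F) : Matrix ι ι F) = 1 := by
    rw [← Units.val_mul, mul_inv_cancel, Units.val_one]
  have hinv2 : ((h⁻¹ : GL ι F) : Matrix ι ι F) * (h : Matrix ι ι F) = 1 := by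
    rw [← Units.val_mul, inv_mul_cancel, Units.val_one]
  by_cases h0 : (h : Matrix ι ι F) = 0
  · refine ⟨1, fun i j => ?_⟩
    rw [h0, smul_zero]
    exact F₀.zero_mem
  · have hex : ∃ i j, (h : Matrix ι ι F) i j ≠ 0 := by
      by_contra hcon
      push Not at hcon
      apply h0
      ext i j
      exact hcon i j
    obtain ⟨i₀, j₀, hij⟩ := hex
    obtain ⟨φ, hφ⟩ : ∃ φ : F →ₗ[F₀] F₀, φ ((h : Matrix ι ι F) i₀ j₀) ≠ 0 := by
      by_contra hcon
      push Not at hcon
      exact hij ((Module.forall_dual_apply_eq_zero_iff F₀ ((h : Matrix ι ι F) i₀ j₀)).1 hcon)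
    have h1 : ∀ s ∈ S, app F₀ φ (h : Matrix ι ι F) * s =
        ((h : Matrix ι ι F) * s * ((h⁻¹ : GL ι F) : Matrix ι ι F)) * app F₀ φ (h : Matrix ι ι F) := by
      intro s hs
      rw [← app_mul_right F₀ φ _ s (hent s hs), ← app_mul_left F₀ φ _ _ (hent _ (hnorm s hs)),
        Matrix.mul_assoc, hinv2, Matrix.mul_one]
    obtain ⟨c, hc⟩ := hcomm (((h⁻¹ : GL ι F) : Matrix ι ι F) * app F₀ φ (h : Matrix ι ι F)) (by
      intro s hs
      rw [Matrix.mul_assoc, h1 s hs, ← Matrix.mul_assoc, ← Matrix.mul_assoc, ← Matrix.mul_assoc, hinv2,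
        Matrix.one_mul, Matrix.mul_assoc])
    have hch : app F₀ φ (h : Matrix ι ι F) = c • (h : Matrix ι ι F) := by
      calc app F₀ φ (h : Matrix ι ι F)
          = (h : Matrix ι ι F) * (((h⁻¹ : GL ι F) : Matrix ι ι F) * app F₀ φ (h : Matrix ι ι F)) := by
            rw [← Matrix.mul_assoc, hinv1, Matrix.one_mul]
        _ = c • (h : Matrix ι ι F) := by rw [hc, Matrix.mul_smul, Matrix.mul_one]
    have hc0 : c ≠ 0 := by
      intro hc0
      rw [hc0, zero_smul] at hch
      have := congrFun (congrFun hch i₀) j₀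
      simp only [app, Matrix.zero_apply] at this
      exact hφ (Subtype.ext this)
    refine ⟨Units.mk0 c hc0, fun i j => ?_⟩
    rw [Units.val_mk0, ← hch]
    exact app_mem F₀ φ _ i j

/-- **CORE-ND** (Noether-Deuring-lite) if `H` normalises an absolutely irreducible `R` that is realisable over `F₀`, then
`H` is realisable over `F₀` modulo scalars -/
theorem realModScal_of_normalizes (H R : Subgroup (GL (Fin n) F)) (hn : ∀ h ∈ H, ∀ x ∈ R, h * x * h⁻¹ ∈ R)
    (hR : AbsIrr R) (F₀ : Subfield F) (hreal : RealisableOver F₀ (matrixSet R)) : RealModScal F₀ H := by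
  obtain ⟨B, hB⟩ := hreal
  refine ⟨B, fun h hh => ?_⟩
  have hBinv1 : (B : Matrix (Fin n) (Fin n) F) * ((B⁻¹ : GL (Fin n) F) : Matrix (Fin n) (Fin n) F) = 1 := by
    rw [← Units.val_mul, mul_inv_cancel, Units.val_one]
  have hBinv2 : ((B⁻¹ : GL (Fin n) F) : Matrix (Fin n) (Fin n) F) * (B : Matrix (Fin n) (Fin n) F) = 1 := by
    rw [← Units.val_mul, inv_mul_cancel, Units.val_one]
  have key := exists_smul_entries_mem F₀
    ((fun s : Matrix (Fin n) (Fin n) F => (B : Matrix (Fin n) (Fin n) F) * s *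
      ((B⁻¹ : GL (Fin n) F) : Matrix (Fin n) (Fin n) F)) '' matrixSet R)
    (by
      rintro _ ⟨s, hs, rfl⟩ i j
      exact hB s hs i j)
    (by
      intro M hM
      obtain ⟨c, hc⟩ := hR.2 (((B⁻¹ : GL (Fin n) F) : Matrix (Fin n) (Fin n) F) * M *
        (B : Matrix (Fin n) (Fin n) F)) (by
        intro s hs
        have h1 := hM _ ⟨s, hs, rfl⟩
        calc ((B⁻¹ : GL (Fin n) F) : Matrix (Fin n) (Fin n) F) * M * (B : Matrix (Fin n) (Fin n) F) * s
            = ((B⁻¹ : GL (Fin n) F) : Matrix (Fin n) (Fin n) F) * (M * ((B : Matrix (Fin n) (Fin n) F) * s *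
                ((B⁻¹ : GL (Fin n) F) : Matrix (Fin n) (Fin n) F))) * (B : Matrix (Fin n) (Fin n) F) := by
              simp only [Matrix.mul_assoc, hBinv2, Matrix.mul_one]
          _ = ((B⁻¹ : GL (Fin n) F) : Matrix (Fin n) (Fin n) F) * ((B : Matrix (Fin n) (Fin n) F) * s *
                ((B⁻¹ : GL (Fin n) F) : Matrix (Fin n) (Fin n) F) * M) * (B : Matrix (Fin n) (Fin n) F) := by
              rw [h1]
          _ = s * (((B⁻¹ : GL (Fin n) F) : Matrix (Fin n) (Fin n) F) * M * (B : Matrix (Fin n) (Fin n) F)) := by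
              simp only [Matrix.mul_assoc]
              rw [← Matrix.mul_assoc ((B⁻¹ : GL (Fin n) F) : Matrix (Fin n) (Fin n) F)
                (B : Matrix (Fin n) (Fin n) F), hBinv2, Matrix.one_mul])
      refine ⟨c, ?_⟩
      calc M = (B : Matrix (Fin n) (Fin n) F) * (((B⁻¹ : GL (Fin n) F) : Matrix (Fin n) (Fin n) F) * M *
            (B : Matrix (Fin n) (Fin n) F)) * ((B⁻¹ : GL (Fin n) F) : Matrix (Fin n) (Fin n) F) := by
            simp only [Matrix.mul_assoc, hBinv1, Matrix.mul_one]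
            rw [← Matrix.mul_assoc, hBinv1, Matrix.one_mul]
        _ = c • (1 : Matrix (Fin n) (Fin n) F) := by
            rw [hc, Matrix.mul_smul, Matrix.mul_one, Matrix.smul_mul, hBinv1])
    (B * h * B⁻¹)
    (by
      rintro _ ⟨s, ⟨x, hx, rfl⟩, rfl⟩
      refine ⟨((h * x * h⁻¹ : GL (Fin n) F) : Matrix (Fin n) (Fin n) F), ⟨h * x * h⁻¹, hn h hh x hx, rfl⟩, ?_⟩
      have h1 : (B * (h * x * h⁻¹) * B⁻¹ : GL (Fin n) F) = (B * h * B⁻¹) * (B * x * B⁻¹) * (B * h * B⁻¹)⁻¹ := by
        group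
      have h2 := congrArg (fun g : GL (Fin n) F => (g : Matrix (Fin n) (Fin n) F)) h1
      simp only [Units.val_mul] at h2
      simp only [Units.val_mul]
      exact h2)
  obtain ⟨c, hc⟩ := key
  refine ⟨c, fun i j => ?_⟩
  have := hc i j
  simp only [Units.val_mul] at this
  exact this

end Cfsg.Agent.Lib.Helper12.S5630CoreND
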