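import Cfsg.Prelude.Def_Classification2

set_option autoImplicit false
open Cfsg

namespace Cfsg.Agent.Lib.Helper12

/-- `IsKnownSimple'` is invariant under group isomorphism. -/
theorem isKnownSimple'_of_equiv {G H : Type*} [Group G] [Group H] (e : G ≃* H)
    (h : Cfsg.IsKnownSimple' G) : Cfsg.IsKnownSimple' H := by
  unfold Cfsg.IsKnownSimple' at h ⊢
  rcases h with h | h | h | h | h | h | h | h | h | h
  · left
    unfold Cfsg.IsPrimeCyclic at h ⊢
    rwa [← Nat.card_congr e.toEquiv]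
  · right; left
    obtain ⟨n, hn, ⟨f⟩⟩ := h
    exact ⟨n, hn, ⟨e.symm.trans f⟩⟩
  · right; right; left
    obtain ⟨F, i1, i2, n, h1, h2, ⟨f⟩⟩ := h
    exact ⟨F, i1, i2, n, h1, h2, ⟨e.symm.trans f⟩⟩
  · right; right; right; left
    obtain ⟨F, i1, i2, n, h1, h2, ⟨f⟩⟩ := h
    exact ⟨F, i1, i2, n, h1, h2, ⟨e.symm.trans f⟩⟩
  · right; right; right; right; left
    obtain ⟨F, i1, i2, n, q, h1, h2, h3, ⟨f⟩⟩ := h
    exact ⟨F, i1, i2, n, q, h1, h2, h3, ⟨e.symm.trans f⟩⟩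
  · right; right; right; right; right; left
    obtain ⟨F, i1, i2, n, h1, h2, ⟨f⟩⟩ := h
    exact ⟨F, i1, i2, n, h1, h2, ⟨e.symm.trans f⟩⟩
  · right; right; right; right; right; right; left
    obtain ⟨F, i1, i2, n, h1, ⟨f⟩⟩ := h
    exact ⟨F, i1, i2, n, h1, ⟨e.symm.trans f⟩⟩
  · right; right; right; right; right; right; right; left
    obtain ⟨F, i1, i2, n, a, b, h1, h2, ⟨f⟩⟩ := h
    exact ⟨F, i1, i2, n, a, b, h1, h2, ⟨e.symm.trans f⟩⟩
  · right; right; right; right; right; right; right; right; left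
    unfold Cfsg.IsExceptionalLieType at h ⊢
    rcases h with h | h | h | h | h | h | h | h | h | h | h
    · left
      obtain ⟨F, i1, i2, h1, ⟨f⟩⟩ := h
      exact ⟨F, i1, i2, h1, ⟨e.symm.trans f⟩⟩
    · right; left
      obtain ⟨F, i1, i2, ⟨f⟩⟩ := h
      exact ⟨F, i1, i2, ⟨e.symm.trans f⟩⟩
    · right; right; left
      obtain ⟨F, i1, i2, ⟨f⟩⟩ := h
      exact ⟨F, i1, i2, ⟨e.symm.trans f⟩⟩
    · right; right; right; left
      obtain ⟨F, i1, i2, ⟨f⟩⟩ := h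
      exact ⟨F, i1, i2, ⟨e.symm.trans f⟩⟩
    · right; right; right; right; left
      obtain ⟨F, i1, i2, ⟨f⟩⟩ := h
      exact ⟨F, i1, i2, ⟨e.symm.trans f⟩⟩
    · right; right; right; right; right; left
      obtain ⟨F, i1, i2, q, h1, h2, ⟨f⟩⟩ := h
      exact ⟨F, i1, i2, q, h1, h2, ⟨e.symm.trans f⟩⟩
    · right; right; right; right; right; right; left
      obtain ⟨F, i1, i2, q, h1, h2, ⟨f⟩⟩ := h
      exact ⟨F, i1, i2, q, h1, h2, ⟨e.symm.trans f⟩⟩
    · right; right; right; right; right; right; right; left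
      obtain ⟨F, i1, i2, q, h1, h2, ⟨f⟩⟩ := h
      exact ⟨F, i1, i2, q, h1, h2, ⟨e.symm.trans f⟩⟩
    · right; right; right; right; right; right; right; right; left
      obtain ⟨F, i1, i2, q, h1, h2, ⟨f⟩⟩ := h
      exact ⟨F, i1, i2, q, h1, h2, ⟨e.symm.trans f⟩⟩
    · right; right; right; right; right; right; right; right; right; left
      obtain ⟨F, i1, i2, q, h1, h2, ⟨f⟩⟩ := h
      exact ⟨F, i1, i2, q, h1, h2, ⟨e.symm.trans f⟩⟩
    · right; right; right; right; right; right; right; right; right; right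
      obtain ⟨f⟩ := h
      exact ⟨e.symm.trans f⟩
  · right; right; right; right; right; right; right; right; right
    unfold Cfsg.IsSporadicGroup at h ⊢
    have key : ∀ {X : Type} [Group X], Nonempty (G ≃* X) → Nonempty (H ≃* X) :=
      fun ⟨f⟩ => ⟨e.symm.trans f⟩
    rcases h with h | h | h | h | h | h | h | h | h | h | h | h | h | h | h | h | h | h | h | h
      | h | h | h | h | h | h
    · exact Or.inl (key h)
    · exact Or.inr (Or.inl (key h))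
    · exact Or.inr (Or.inr (Or.inl (key h)))
    · exact Or.inr (Or.inr (Or.inr (Or.inl (key h))))
    · exact Or.inr (Or.inr (Or.inr (Or.inr (Or.inl (key h)))))
    · exact Or.inr (Or.inr (Or.inr (Or.inr (Or.inr (Or.inl (key h))))))
    · exact Or.inr (Or.inr (Or.inr (Or.inr (Or.inr (Or.inr (Or.inl (key h)))))))
    · refine Or.inr (Or.inr (Or.inr (Or.inr (Or.inr (Or.inr (Or.inr (Or.inl ?_)))))))
      obtain ⟨F, i1, i2, ω, h1, h2, ⟨f⟩⟩ := h
      exact ⟨F, i1, i2, ω, h1, h2, ⟨e.symm.trans f⟩⟩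
    · exact Or.inr (Or.inr (Or.inr (Or.inr (Or.inr (Or.inr (Or.inr (Or.inr (Or.inl (key h)))))))))
    · exact Or.inr (Or.inr (Or.inr (Or.inr (Or.inr (Or.inr (Or.inr (Or.inr (Or.inr (Or.inl (key h))))))))))
    · exact Or.inr (Or.inr (Or.inr (Or.inr (Or.inr (Or.inr (Or.inr (Or.inr (Or.inr (Or.inr (Or.inl (key h)))))))))))
    · exact Or.inr (Or.inr (Or.inr (Or.inr (Or.inr (Or.inr (Or.inr (Or.inr (Or.inr (Or.inr (Or.inr (Or.inl (key h))))))))))))
    · exact Or.inr (Or.inr (Or.inr (Or.inr (Or.inr (Or.inr (Or.inr (Or.inr (Or.inr (Or.inr (Or.inr (Or.inr (Or.inl (key h)))))))))))))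
    · exact Or.inr (Or.inr (Or.inr (Or.inr (Or.inr (Or.inr (Or.inr (Or.inr (Or.inr (Or.inr (Or.inr (Or.inr (Or.inr (Or.inl (key h))))))))))))))
    · exact Or.inr (Or.inr (Or.inr (Or.inr (Or.inr (Or.inr (Or.inr (Or.inr (Or.inr (Or.inr (Or.inr (Or.inr (Or.inr (Or.inr (Or.inl (key h)))))))))))))))
    · exact Or.inr (Or.inr (Or.inr (Or.inr (Or.inr (Or.inr (Or.inr (Or.inr (Or.inr (Or.inr (Or.inr (Or.inr (Or.inr (Or.inr (Or.inr (Or.inl (key h))))))))))))))))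
    · exact Or.inr (Or.inr (Or.inr (Or.inr (Or.inr (Or.inr (Or.inr (Or.inr (Or.inr (Or.inr (Or.inr (Or.inr (Or.inr (Or.inr (Or.inr (Or.inr (Or.inl (key h)))))))))))))))))
    · exact Or.inr (Or.inr (Or.inr (Or.inr (Or.inr (Or.inr (Or.inr (Or.inr (Or.inr (Or.inr (Or.inr (Or.inr (Or.inr (Or.inr (Or.inr (Or.inr (Or.inr (Or.inl (key h))))))))))))))))))
    · exact Or.inr (Or.inr (Or.inr (Or.inr (Or.inr (Or.inr (Or.inr (Or.inr (Or.inr (Or.inr (Or.inr (Or.inr (Or.inr (Or.inr (Or.inr (Or.inr (Or.inr (Or.inr (Or.inl (key h)))))))))))))))))))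
    · exact Or.inr (Or.inr (Or.inr (Or.inr (Or.inr (Or.inr (Or.inr (Or.inr (Or.inr (Or.inr (Or.inr (Or.inr (Or.inr (Or.inr (Or.inr (Or.inr (Or.inr (Or.inr (Or.inr (Or.inl (key h))))))))))))))))))))
    · exact Or.inr (Or.inr (Or.inr (Or.inr (Or.inr (Or.inr (Or.inr (Or.inr (Or.inr (Or.inr (Or.inr (Or.inr (Or.inr (Or.inr (Or.inr (Or.inr (Or.inr (Or.inr (Or.inr (Or.inr (Or.inl (key h)))))))))))))))))))))
    · exact Or.inr (Or.inr (Or.inr (Or.inr (Or.inr (Or.inr (Or.inr (Or.inr (Or.inr (Or.inr (Or.inr (Or.inr (Or.inr (Or.inr (Or.inr (Or.inr (Or.inr (Or.inr (Or.inr (Or.inr (Or.inr (Or.inl (key h))))))))))))))))))))))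
    · exact Or.inr (Or.inr (Or.inr (Or.inr (Or.inr (Or.inr (Or.inr (Or.inr (Or.inr (Or.inr (Or.inr (Or.inr (Or.inr (Or.inr (Or.inr (Or.inr (Or.inr (Or.inr (Or.inr (Or.inr (Or.inr (Or.inr (Or.inl (key h)))))))))))))))))))))))
    · exact Or.inr (Or.inr (Or.inr (Or.inr (Or.inr (Or.inr (Or.inr (Or.inr (Or.inr (Or.inr (Or.inr (Or.inr (Or.inr (Or.inr (Or.inr (Or.inr (Or.inr (Or.inr (Or.inr (Or.inr (Or.inr (Or.inr (Or.inr (Or.inl (key h))))))))))))))))))))))))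
    · exact Or.inr (Or.inr (Or.inr (Or.inr (Or.inr (Or.inr (Or.inr (Or.inr (Or.inr (Or.inr (Or.inr (Or.inr (Or.inr (Or.inr (Or.inr (Or.inr (Or.inr (Or.inr (Or.inr (Or.inr (Or.inr (Or.inr (Or.inr (Or.inr (Or.inl (key h)))))))))))))))))))))))))
    · exact Or.inr (Or.inr (Or.inr (Or.inr (Or.inr (Or.inr (Or.inr (Or.inr (Or.inr (Or.inr (Or.inr (Or.inr (Or.inr (Or.inr (Or.inr (Or.inr (Or.inr (Or.inr (Or.inr (Or.inr (Or.inr (Or.inr (Or.inr (Or.inr (Or.inr (key h)))))))))))))))))))))))))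

end Cfsg.Agent.Lib.Helper12
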