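import Mathlib
import Cfsg.Prelude.Def_OddOrderLocal

/-!
Basics on `Cfsg.piCore` (the π-core), and its relation to `Cfsg.pPrimeCore`.
-/

set_option autoImplicit false
open Cfsg

namespace Cfsg.Agent.Lib.Helper12

variable {G : Type*} [Group G]

/-- `n` is a `π`-number: all its prime divisors lie in `π`. -/
def IsPiNat (π : Set ℕ) (n : ℕ) : Prop := ∀ p : ℕ, p.Prime → p ∣ n → p ∈ π

theorem IsPiNat.of_dvd {π : Set ℕ} {m n : ℕ} (h : IsPiNat π n) (hd : m ∣ n) : IsPiNat π m :=
  fun p hp hpm => h p hp (hpm.trans hd)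

theorem IsPiNat.mul {π : Set ℕ} {m n : ℕ} (hm : IsPiNat π m) (hn : IsPiNat π n) :
    IsPiNat π (m * n) := by
  intro p hp hd
  rcases (Nat.Prime.dvd_mul hp).mp hd with h | h
  · exact hm p hp h
  · exact hn p hp h

theorem isPiNat_one (π : Set ℕ) : IsPiNat π 1 := by
  intro p hp hd
  exact absurd (Nat.dvd_one.mp hd) hp.one_lt.ne'

theorem piCore_def (π : Set ℕ) :
    piCore π G = sSup {N : Subgroup G | N.Normal ∧ IsPiNat π (Nat.card N)} := rfl

theorem finite_sSup_induction [Finite G] (P : Subgroup G → Prop) (hbot : P ⊥)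
    (hsup : ∀ H K, P H → P K → P (H ⊔ K)) (S : Set (Subgroup G)) (hS : ∀ H ∈ S, P H) :
    P (sSup S) := by
  have hfin : S.Finite := Set.toFinite S
  induction S, hfin using Set.Finite.induction_on with
  | empty => simpa using hbot
  | @insert a s _ _ ih =>
    rw [sSup_insert]
    exact hsup _ _ (hS a (Set.mem_insert a s)) (ih fun H hH => hS H (Set.mem_insert_of_mem a hH))

theorem card_mul_relIndex_eq {K L : Subgroup G} (h : K ≤ L) :
    Nat.card K * K.relIndex L = Nat.card L := by
  rw [Subgroup.relIndex, ← Nat.card_congr (Subgroup.subgroupOfEquivOfLe h).toEquiv,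
    Subgroup.card_mul_index]

theorem card_sup_dvd_mul (H K : Subgroup G) [K.Normal] :
    Nat.card (H ⊔ K : Subgroup G) ∣ Nat.card H * Nat.card K := by
  rw [← card_mul_relIndex_eq (le_sup_right : K ≤ H ⊔ K), Subgroup.relIndex_sup_right, mul_comm]
  exact Nat.mul_dvd_mul_right (Subgroup.relIndex_dvd_card K H) _

/-- In a finite group, the `π`-core is a `π`-group. -/
theorem piCore_isPiNat [Finite G] (π : Set ℕ) : IsPiNat π (Nat.card (piCore π G)) := by
  have := finite_sSup_induction (G := G) (fun N => N.Normal ∧ IsPiNat π (Nat.card N))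
    ⟨inferInstance, by simpa using isPiNat_one π⟩ ?_
    {N : Subgroup G | N.Normal ∧ IsPiNat π (Nat.card N)} (fun _ h => h)
  · exact this.2
  · rintro H K ⟨hH1, hH2⟩ ⟨hK1, hK2⟩
    exact ⟨inferInstance, (hH2.mul hK2).of_dvd (card_sup_dvd_mul H K)⟩

/-- Every normal `π`-subgroup lies in the `π`-core. -/
theorem le_piCore {π : Set ℕ} {N : Subgroup G} (hN : N.Normal) (h : IsPiNat π (Nat.card N)) :
    N ≤ piCore π G :=
  le_sSup ⟨hN, h⟩

theorem piCore_map_equiv_le {A B : Type*} [Group A] [Group B] (π : Set ℕ) (f : A ≃* B) :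
    (piCore π A).map f.toMonoidHom ≤ piCore π B := by
  rw [piCore_def, sSup_eq_iSup', Subgroup.map_iSup, iSup_le_iff]
  rintro ⟨N, hN1, hN2⟩
  refine le_piCore (Subgroup.Normal.map hN1 _ f.surjective) ?_
  exact hN2.of_dvd (Subgroup.card_map_dvd N _)

/-- The `π`-core is mapped onto the `π`-core by a group isomorphism. -/
theorem piCore_map_equiv {H : Type*} [Group H] (π : Set ℕ) (e : G ≃* H) :
    (piCore π G).map e.toMonoidHom = piCore π H := by
  apply le_antisymm (piCore_map_equiv_le π e)
  have h2 := piCore_map_equiv_le π e.symm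
  intro x hx
  have h3 := h2 (Subgroup.mem_map_of_mem e.symm.toMonoidHom hx)
  refine ⟨e.symm x, h3, ?_⟩
  simp

theorem piCore_characteristic (π : Set ℕ) : (piCore π G).Characteristic := by
  rw [Subgroup.characteristic_iff_map_eq]
  intro φ
  exact piCore_map_equiv π φ

/-- A subgroup `H ≤ K` with `H` normal in `K`: the `π`-core of `H` is contained in that of `K`
(both viewed inside `G`). -/
theorem piCore_map_le_of_normal [Finite G] (π : Set ℕ) {H K : Subgroup G} (hHK : H ≤ K)
    (hN : (H.subgroupOf K).Normal) :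
    (piCore π H).map H.subtype ≤ (piCore π K).map K.subtype := by
  -- the π-core of `H.subgroupOf K`, pushed into `K`
  haveI := hN
  haveI : (piCore π ↥(H.subgroupOf K)).Characteristic := piCore_characteristic π
  have hnorm : ((piCore π ↥(H.subgroupOf K)).map (H.subgroupOf K).subtype).Normal :=
    ConjAct.normal_of_characteristic_of_normal
  have hpi : IsPiNat π (Nat.card ((piCore π ↥(H.subgroupOf K)).map (H.subgroupOf K).subtype)) :=
    (piCore_isPiNat π).of_dvd (Subgroup.card_map_dvd _ _)
  have hle := le_piCore hnorm hpi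
  -- transport along `H.subgroupOf K ≃* H`
  have he := piCore_map_equiv π (Subgroup.subgroupOfEquivOfLe hHK)
  rw [← he]
  intro x hx
  obtain ⟨y, hy, rfl⟩ := Subgroup.mem_map.mp hx
  obtain ⟨z, hz, rfl⟩ := Subgroup.mem_map.mp hy
  have h1 : ((H.subgroupOf K).subtype z) ∈ piCore π ↥K :=
    hle (Subgroup.mem_map_of_mem _ hz)
  refine Subgroup.mem_map.mpr ⟨(H.subgroupOf K).subtype z, h1, ?_⟩
  rfl

/-- In a finite group, the `π`-core of a subnormal subgroup lies in the `π`-core. -/
theorem piCore_map_le_of_isSubnormal [Finite G] (π : Set ℕ) {H : Subgroup G}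
    (hH : H.IsSubnormal) : (piCore π H).map H.subtype ≤ piCore π G := by
  induction hH with
  | top =>
    have he := piCore_map_equiv π (Subgroup.topEquiv (G := G))
    rw [← he]
    intro x hx
    obtain ⟨y, hy, rfl⟩ := Subgroup.mem_map.mp hx
    exact Subgroup.mem_map.mpr ⟨y, hy, rfl⟩
  | step H K hle _ hN ih =>
    exact (piCore_map_le_of_normal π hle hN).trans ih

/-- In a finite group, a subnormal `π`-subgroup lies in the `π`-core. -/
theorem le_piCore_of_isSubnormal [Finite G] {π : Set ℕ} {H : Subgroup G}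
    (hH : H.IsSubnormal) (h : IsPiNat π (Nat.card H)) : H ≤ piCore π G := by
  have h1 : piCore π ↥H = ⊤ := by
    rw [eq_top_iff]
    apply le_piCore inferInstance
    rw [Nat.card_congr (Subgroup.topEquiv (G := ↥H)).toEquiv]
    exact h
  have h2 := piCore_map_le_of_isSubnormal π hH
  rw [h1] at h2
  intro x hx
  exact h2 (Subgroup.mem_map.mpr ⟨⟨x, hx⟩, Subgroup.mem_top _, rfl⟩)

/-- `O_π(G / O_π(G)) = 1` for a finite group `G`. -/
theorem piCore_quotient_piCore [Finite G] (π : Set ℕ) :
    piCore π (G ⧸ piCore π G) = ⊥ := by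
  rw [eq_bot_iff]
  set N := piCore π G with hNdef
  set M := piCore π (G ⧸ N) with hMdef
  -- the preimage of `M` in `G` is a normal `π`-subgroup
  have hMn : M.Normal := piCore_normal π _
  have hcn : (M.comap (QuotientGroup.mk' N)).Normal := Subgroup.Normal.comap hMn _
  have hcard : Nat.card (M.comap (QuotientGroup.mk' N)) = Nat.card M * Nat.card N := by
    have h1 := Subgroup.card_mul_index ((N.subgroupOf (M.comap (QuotientGroup.mk' N))))
    have hle : N ≤ M.comap (QuotientGroup.mk' N) := by
      intro x hx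
      rw [Subgroup.mem_comap]
      have : (QuotientGroup.mk' N) x = 1 := by
        rw [QuotientGroup.mk'_apply, QuotientGroup.eq_one_iff]; exact hx
      rw [this]; exact one_mem _
    have h2 : Nat.card (N.subgroupOf (M.comap (QuotientGroup.mk' N))) = Nat.card N :=
      Nat.card_congr (Subgroup.subgroupOfEquivOfLe hle).toEquiv
    -- index of N in the comap equals card M
    have h3 : (N.subgroupOf (M.comap (QuotientGroup.mk' N))).index = Nat.card M := by
      have hker : (QuotientGroup.mk' N).ker = N := QuotientGroup.ker_mk' N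
      let f : ↥(M.comap (QuotientGroup.mk' N)) →* ↥M :=
        ((QuotientGroup.mk' N).comp (Subgroup.subtype _)).codRestrict M (fun x => x.2)
      have hfs : Function.Surjective f := by
        rintro ⟨y, hy⟩
        obtain ⟨x, rfl⟩ := QuotientGroup.mk'_surjective N y
        exact ⟨⟨x, hy⟩, rfl⟩
      have hfk : f.ker = N.subgroupOf (M.comap (QuotientGroup.mk' N)) := by
        ext ⟨x, hx⟩
        rw [MonoidHom.mem_ker, Subgroup.mem_subgroupOf]
        constructor
        · intro h
          have h' := congrArg Subtype.val h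
          simp only [f, MonoidHom.codRestrict_apply, MonoidHom.comp_apply, Subgroup.subtype_apply,
            QuotientGroup.mk'_apply, Subgroup.coe_one] at h'
          exact (QuotientGroup.eq_one_iff x).mp h'
        · intro h
          apply Subtype.ext
          simp only [f, MonoidHom.codRestrict_apply, MonoidHom.comp_apply, Subgroup.subtype_apply,
            QuotientGroup.mk'_apply, Subgroup.coe_one]
          exact (QuotientGroup.eq_one_iff x).mpr h
      rw [← hfk, Subgroup.index_ker, MonoidHom.range_eq_top.mpr hfs, Subgroup.card_top]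
    rw [h2, h3] at h1
    rw [← h1, mul_comm]
  have hpi : IsPiNat π (Nat.card (M.comap (QuotientGroup.mk' N))) := by
    rw [hcard]
    exact (piCore_isPiNat π).mul (piCore_isPiNat π)
  have hle : M.comap (QuotientGroup.mk' N) ≤ N := le_piCore hcn hpi
  intro y hy
  obtain ⟨x, rfl⟩ := QuotientGroup.mk'_surjective N y
  have hx : x ∈ N := hle hy
  rw [Subgroup.mem_bot, QuotientGroup.mk'_apply, QuotientGroup.eq_one_iff]
  exact hx

/-- For a prime `p`, the `p'`-core is the `π`-core for `π` the set of numbers different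
from `p`. -/
theorem pPrimeCore_eq_piCore (p : ℕ) (hp : p.Prime) :
    pPrimeCore p G = piCore {q | q ≠ p} G := by
  unfold pPrimeCore piCore
  congr 1
  ext N
  simp only [Set.mem_ofPred_eq]
  constructor
  · rintro ⟨h1, h2⟩
    refine ⟨h1, fun q hq hqd hqp => ?_⟩
    subst hqp
    have := Nat.Coprime.eq_one_of_dvd h2.symm hqd
    exact hq.one_lt.ne' this
  · rintro ⟨h1, h2⟩
    refine ⟨h1, ?_⟩
    rw [Nat.coprime_comm, Nat.Prime.coprime_iff_not_dvd hp]
    intro hd
    exact h2 p hp hd rfl

end Cfsg.Agent.Lib.Helper12
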