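import Mathlib
import Cfsg.Prelude.Def_Classification2
import Cfsg.Agent.Lib.Helper12.PiCore
import Cfsg.Agent.Lib.Helper12.KnownIso

/-!
Components of `C / O_{p'}(C)`: their centre is a `p`-group; their simple quotient is a section
of `C`, hence a known simple group when `C` is a `K`-group.
-/

set_option autoImplicit false
open Cfsg

namespace Cfsg.Agent.Lib.Helper12

open scoped commutatorElement

/-- In a non-abelian simple group the centralizer of a non-identity element is proper. -/
theorem centralizer_ne_top_of_simple {G : Type*} [Group G] [IsSimpleGroup G]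
    (hG : ¬ IsMulCommutative G) {x : G} (hx : x ≠ 1) :
    Subgroup.centralizer ({x} : Set G) ≠ ⊤ := by
  intro htop
  have hxc : x ∈ Subgroup.center G := by
    rw [Subgroup.mem_center_iff]
    intro g
    have hg : g ∈ Subgroup.centralizer ({x} : Set G) := by rw [htop]; exact Subgroup.mem_top g
    rw [Subgroup.mem_centralizer_iff] at hg
    exact (hg x rfl).symm
  rcases (inferInstance : (Subgroup.center G).Normal).eq_bot_or_eq_top with h | h
  · rw [h, Subgroup.mem_bot] at hxc
    exact hx hxc
  · apply hG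
    constructor
    constructor
    intro a b
    have ha : a ∈ Subgroup.center G := by rw [h]; exact Subgroup.mem_top a
    rw [Subgroup.mem_center_iff] at ha
    exact (ha b).symm

/-- The central quotient of a quasisimple group is not commutative. -/
theorem quasisimple_quotient_not_comm {K : Type*} [Group K] (hK : Cfsg.IsQuasisimple K) :
    ¬ IsMulCommutative (K ⧸ Subgroup.center K) := by
  intro hc
  obtain ⟨hperf, hsimp⟩ := hK
  -- commutator ≤ center
  have h1 : commutator K ≤ Subgroup.center K := by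
    rw [commutator_eq_closure, Subgroup.closure_le]
    rintro _ ⟨a, b, rfl⟩
    have hab : ((⁅a, b⁆ : K) : K ⧸ Subgroup.center K) = 1 := by
      rw [commutatorElement_def]
      have := hc.is_comm.comm (a : K ⧸ Subgroup.center K) (b : K ⧸ Subgroup.center K)
      simp only [QuotientGroup.mk_mul, QuotientGroup.mk_inv]
      rw [this]
      group
    exact (QuotientGroup.eq_one_iff _).mp hab
  rw [hperf.commutator_eq_top] at h1
  -- so K is commutative, hence commutator trivial, hence K trivial
  have hcomm : ∀ a b : K, a * b = b * a := fun a b => by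
    have ha : a ∈ Subgroup.center K := h1 (Subgroup.mem_top a)
    rw [Subgroup.mem_center_iff] at ha
    exact (ha b).symm
  have h2 : commutator K = ⊥ := by
    rw [commutator_eq_closure, Subgroup.closure_eq_bot_iff]
    rintro _ ⟨a, b, rfl⟩
    rw [Set.mem_singleton_iff, commutatorElement_def, hcomm a b]
    group
  rw [hperf.commutator_eq_top] at h2
  have hsub : Subsingleton K := by
    constructor
    intro a b
    have ha : a ∈ (⊤ : Subgroup K) := Subgroup.mem_top a
    have hb : b ∈ (⊤ : Subgroup K) := Subgroup.mem_top b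
    rw [h2, Subgroup.mem_bot] at ha hb
    rw [ha, hb]
  obtain ⟨a, b, hab⟩ := hsimp.toNontrivial
  apply hab
  obtain ⟨a', rfl⟩ := QuotientGroup.mk_surjective a
  obtain ⟨b', rfl⟩ := QuotientGroup.mk_surjective b
  rw [Subsingleton.elim a' b']

/-- A component of a finite group `Q` with `O_{p'}(Q) = 1` has centre a `p`-group. -/
theorem isPGroup_center_of_isComponent {Q : Type*} [Group Q] [Finite Q] {p : ℕ} (hp : p.Prime)
    (hQ : Cfsg.pPrimeCore p Q = ⊥) {K : Subgroup Q} (hK : Cfsg.IsComponent K) :
    IsPGroup p ↥(Subgroup.center ↥K) := by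
  rintro ⟨z, hz⟩
  -- order of z is p^a * m with m prime to p
  have hpos : 0 < orderOf z := orderOf_pos z
  obtain ⟨a, m, hm, hzm⟩ := Nat.exists_eq_pow_mul_and_not_dvd hpos.ne' p hp.ne_one
  refine ⟨a, ?_⟩
  apply Subtype.ext
  rw [Subgroup.coe_pow, Subgroup.coe_one]
  -- w = z^(p^a) has order m
  set w : ↥K := z ^ (p ^ a) with hw
  have hwo : orderOf w = m := by
    rw [hw, orderOf_pow' z (pow_ne_zero a hp.ne_zero).symm.symm, hzm]
    rw [Nat.gcd_eq_right (dvd_mul_right _ _)]
    exact Nat.mul_div_cancel_left m (pow_pos hp.pos a)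
  have hwc : w ∈ Subgroup.center ↥K := Subgroup.pow_mem _ hz _
  -- the cyclic subgroup generated by (w : Q)
  set H : Subgroup Q := Subgroup.zpowers (w : Q) with hH
  have hHK : H ≤ K := by
    rw [hH, Subgroup.zpowers_le]; exact w.2
  have hHn : (H.subgroupOf K).Normal := by
    constructor
    intro n hn g
    rw [Subgroup.mem_subgroupOf, hH, Subgroup.mem_zpowers_iff] at hn
    obtain ⟨k, hk⟩ := hn
    have hnw : n = w ^ k := Subtype.ext (by rw [← hk]; simp)
    have hnc : n ∈ Subgroup.center ↥K := by rw [hnw]; exact Subgroup.zpow_mem _ hwc _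
    rw [Subgroup.mem_center_iff] at hnc
    have : g * n * g⁻¹ = n := by rw [hnc g]; group
    rw [this, Subgroup.mem_subgroupOf, hH, Subgroup.mem_zpowers_iff]
    exact ⟨k, hk⟩
  have hHsub : H.IsSubnormal := Subgroup.IsSubnormal.step H K hHK hK.1 hHn
  have hHcard : Nat.card H = m := by
    rw [hH, Nat.card_zpowers, Subgroup.orderOf_coe, hwo]
  have hpi : IsPiNat {q | q ≠ p} (Nat.card H) := by
    intro r hr hrd hrp
    rw [hHcard] at hrd
    change r = p at hrp
    rw [hrp] at hrd
    exact hm hrd
  have hle := le_piCore_of_isSubnormal hHsub hpi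
  rw [← pPrimeCore_eq_piCore p hp, hQ] at hle
  have hw1 : (w : Q) ∈ (⊥ : Subgroup Q) := hle (by rw [hH]; exact Subgroup.mem_zpowers _)
  rw [Subgroup.mem_bot] at hw1
  exact Subtype.ext hw1

/-- `O_{p'}(C / O_{p'}(C)) = 1` for a finite group `C` and a prime `p`. -/
theorem pPrimeCore_quotient_pPrimeCore {C : Type*} [Group C] [Finite C] {p : ℕ} (hp : p.Prime) :
    Cfsg.pPrimeCore p (C ⧸ Cfsg.pPrimeCore p C) = ⊥ := by
  have h1 : Cfsg.pPrimeCore p C = Cfsg.piCore {q | q ≠ p} C := pPrimeCore_eq_piCore p hp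
  have h2 := piCore_quotient_piCore (G := C) {q | q ≠ p}
  have h3 := pPrimeCore_eq_piCore (G := C ⧸ Cfsg.pPrimeCore p C) p hp
  rw [h3]
  have key : ∀ (N : Subgroup C) [N.Normal], N = Cfsg.piCore {q | q ≠ p} C →
      Cfsg.piCore {q | q ≠ p} (C ⧸ N) = ⊥ := by
    intro N _ hN
    subst hN
    exact h2
  exact key _ h1

/-- A component of `C / O_{p'}(C)` has centre a `p`-group. -/
theorem isPGroup_center_of_isComponent_quotient {C : Type*} [Group C] [Finite C] {p : ℕ}
    (hp : p.Prime) {K : Subgroup (C ⧸ Cfsg.pPrimeCore p C)} (hK : Cfsg.IsComponent K) :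
    IsPGroup p ↥(Subgroup.center ↥K) :=
  isPGroup_center_of_isComponent hp (pPrimeCore_quotient_pPrimeCore hp) hK

/-- If `C` is a `K`-group, `N` a normal subgroup of `C` and `K` a quasisimple subgroup of `C / N`,
then `K / Z(K)` is a known simple group. -/
theorem isKnownSimple'_of_quasisimple_section {C : Type*} [Group C] (hC : Cfsg.IsKGroup C)
    (N : Subgroup C) [N.Normal] (K : Subgroup (C ⧸ N)) (hK : Cfsg.IsQuasisimple ↥K) :
    Cfsg.IsKnownSimple' (↥K ⧸ Subgroup.center ↥K) := by
  set H' : Subgroup C := K.comap (QuotientGroup.mk' N) with hH'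
  let φ : ↥H' →* ↥K :=
    ((QuotientGroup.mk' N).comp H'.subtype).codRestrict K (fun x => x.2)
  have hφ : Function.Surjective φ := by
    rintro ⟨y, hy⟩
    obtain ⟨x, rfl⟩ := QuotientGroup.mk'_surjective N y
    exact ⟨⟨x, hy⟩, rfl⟩
  let ψ : ↥H' →* ↥K ⧸ Subgroup.center ↥K := (QuotientGroup.mk' (Subgroup.center ↥K)).comp φ
  have hψ : Function.Surjective ψ := (QuotientGroup.mk'_surjective _).comp hφ
  let e : ↥H' ⧸ ψ.ker ≃* ↥K ⧸ Subgroup.center ↥K :=
    QuotientGroup.quotientKerEquivOfSurjective ψ hψ
  haveI : IsSimpleGroup (↥K ⧸ Subgroup.center ↥K) := hK.2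
  have hs : IsSimpleGroup (↥H' ⧸ ψ.ker) := e.isSimpleGroup
  have hnc : ¬ IsMulCommutative (↥H' ⧸ ψ.ker) := by
    intro hc
    apply quasisimple_quotient_not_comm hK
    constructor
    constructor
    intro a b
    have := hc.is_comm.comm (e.symm a) (e.symm b)
    have h2 := congrArg e this
    simpa using h2
  exact isKnownSimple'_of_equiv e (hC H' ψ.ker hs hnc)

end Cfsg.Agent.Lib.Helper12
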