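import Mathlib
import Cfsg.Prelude.Def_Local
import Cfsg.Agent.Lib.Helper1.Cores
import Cfsg.Agent.Lib.Helper1.Fitting
import Cfsg.Agent.Lib.Helper9.Layer2
import Cfsg.Agent.Lib.Helper9.PComp3
import Cfsg.Agent.Lib.Helper9.AxB
import Cfsg.Agent.Lib.Helper10.Transport

/-!
# Groups of characteristic `p`: `F*(M) = O_p(M)`

`IsOfCharP p M` says `F*(M) = O_p(M)`; equivalently `O_{p'}(M) = 1 = E(M)`, or `C_M(O_p(M)) ≤ O_p(M)`.
It passes to subnormal subgroups, to normalizers of `p`-subgroups, up through normal subgroups of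
`p`-power index, and up from a subgroup containing `C_M(O_p(M))`.
-/

set_option autoImplicit false
set_option linter.unusedSectionVars false
open Cfsg

namespace Cfsg.Agent.Lib.Helper12

open Cfsg.Agent.Lib.Helper1 Cfsg.Agent.Lib.Helper9
open scoped commutatorElement

/-- `F*(M) = O_p(M)` -/
def IsOfCharP (p : ℕ) (M : Type*) [Group M] : Prop :=
  Cfsg.generalizedFittingSubgroup M = Cfsg.pCore p M

section Abstract

variable {p : ℕ} [hp : Fact p.Prime] {M : Type*} [Group M] [Finite M]

theorem layer_eq_bot_iff : Cfsg.layer M = ⊥ ↔ ∀ L : Subgroup M, ¬ Cfsg.IsComponent L := by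
  constructor
  · intro h L hL
    have := comp_le_layer hL
    rw [h, le_bot_iff] at this
    exact comp_ne_bot hL this
  · intro h
    unfold Cfsg.layer
    rw [eq_bot_iff]
    apply sSup_le
    intro L hL
    exact absurd hL (h L)

theorem layer_eq_bot_of_le_pCore (h : Cfsg.layer M ≤ Cfsg.pCore p M) : Cfsg.layer M = ⊥ := by
  rw [layer_eq_bot_iff]
  intro L hL
  have hs : Group.IsSolvable ↥(Cfsg.pCore p M) := by
    have := (pCore_isPGroup (G := M) p).isNilpotent
    infer_instance
  exact comp_not_le_of_isSolvable hL hs ((comp_le_layer hL).trans h)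

theorem pPrimeCore_eq_bot_of_le_pCore (h : Cfsg.pPrimeCore p M ≤ Cfsg.pCore p M) :
    Cfsg.pPrimeCore p M = ⊥ := by
  rw [eq_bot_iff, ← pCore_inf_pPrimeCore (G := M) p]
  exact le_inf h le_rfl

theorem isOfCharP_iff : IsOfCharP p M ↔ Cfsg.pPrimeCore p M = ⊥ ∧ Cfsg.layer M = ⊥ := by
  constructor
  · intro h
    have hc : Subgroup.centralizer (Cfsg.pCore p M : Set M) ≤ Cfsg.pCore p M := by
      have := centralizer_gfs_le (G := M)
      rwa [h] at this
    constructor
    · apply pPrimeCore_eq_bot_of_le_pCore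
      refine le_trans ?_ hc
      rw [← Subgroup.commutator_eq_bot_iff_le_centralizer, Subgroup.commutator_comm]
      exact commutator_pCore_pPrimeCore p
    · apply layer_eq_bot_of_le_pCore (p := p)
      rw [← h]
      exact layer_le_gfs
  · rintro ⟨h1, h2⟩
    unfold IsOfCharP Cfsg.generalizedFittingSubgroup
    rw [h2, bot_sup_eq]
    exact fittingSubgroup_eq_pCore_of_pPrimeCore_eq_bot p h1

theorem isOfCharP_iff_centralizer :
    IsOfCharP p M ↔ Subgroup.centralizer (Cfsg.pCore p M : Set M) ≤ Cfsg.pCore p M := by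
  constructor
  · intro h
    have := centralizer_gfs_le (G := M)
    rwa [h] at this
  · intro hc
    rw [isOfCharP_iff]
    have h1 : Cfsg.pPrimeCore p M = ⊥ := by
      apply pPrimeCore_eq_bot_of_le_pCore
      refine le_trans ?_ hc
      rw [← Subgroup.commutator_eq_bot_iff_le_centralizer, Subgroup.commutator_comm]
      exact commutator_pCore_pPrimeCore p
    refine ⟨h1, ?_⟩
    apply layer_eq_bot_of_le_pCore (p := p)
    refine le_trans ?_ hc
    rw [← Subgroup.commutator_eq_bot_iff_le_centralizer,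
      ← fittingSubgroup_eq_pCore_of_pPrimeCore_eq_bot p h1]
    exact commutator_layer_fitting

omit [Finite M] hp in
theorem IsOfCharP.of_equiv {M' : Type*} [Group M'] (e : M ≃* M') (h : IsOfCharP p M) : IsOfCharP p M' := by
  unfold IsOfCharP at h ⊢
  rw [← Cfsg.Agent.Lib.Helper10.map_generalizedFittingSubgroup e,
    ← Cfsg.Agent.Lib.Helper10.map_pCore e, h]

/-- characteristic `p` passes to subnormal subgroups -/
theorem IsOfCharP.of_subnormal {K : Subgroup M} (hK : K.IsSubnormal) (h : IsOfCharP p M) : IsOfCharP p ↥K := by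
  rw [isOfCharP_iff] at h ⊢
  obtain ⟨h1, h2⟩ := h
  constructor
  · have := map_pPrimeCore_subnormal (p := p) hK
    rw [h1, bot_inf_eq, Subgroup.map_eq_bot_iff_of_injective _ K.subtype_injective] at this
    exact this
  · rw [layer_eq_bot_iff] at h2 ⊢
    intro L hL
    exact h2 _ ((isComponent_map_subtype_iff hK L).mp hL)

theorem IsOfCharP.of_normal (K : Subgroup M) [hK : K.Normal] (h : IsOfCharP p M) : IsOfCharP p ↥K :=
  h.of_subnormal hK.isSubnormal

/-- **S1268** restated -/
theorem IsOfCharP.normalizer (h : IsOfCharP p M) {P : Subgroup M} (hP : IsPGroup p ↥P) :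
    IsOfCharP p ↥(Subgroup.normalizer (P : Set M)) :=
  gfs_normalizer_eq_pCore h hP

/-- an element of order prime to `p` lies in every normal subgroup of `p`-power index -/
theorem mem_of_index_pow_of_coprime {K : Subgroup M} [hK : K.Normal] {n : ℕ} (hidx : K.index = p ^ n)
    {x : M} (hx : (orderOf x).Coprime p) : x ∈ K := by
  have h1 : (QuotientGroup.mk' K x) ^ (p ^ n) = 1 := by
    have : Nat.card (M ⧸ K) = p ^ n := by rw [← Subgroup.index_eq_card]; exact hidx
    rw [← this]
    exact pow_card_eq_one'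
  have h2 : (QuotientGroup.mk' K x) ^ orderOf x = 1 := by
    rw [← map_pow, pow_orderOf_eq_one, map_one]
  have h3 : (QuotientGroup.mk' K x) ^ (Nat.gcd (p ^ n) (orderOf x)) = 1 :=
    pow_gcd_eq_one.mpr ⟨h1, h2⟩
  have h4 : Nat.gcd (p ^ n) (orderOf x) = 1 := Nat.Coprime.pow_left n hx.symm
  rw [h4, pow_one, QuotientGroup.mk'_apply, QuotientGroup.eq_one_iff] at h3
  exact h3

/-- a perfect subgroup lies in every normal subgroup of `p`-power index -/
theorem le_of_index_pow_of_perfect {K : Subgroup M} [hK : K.Normal] {n : ℕ} (hidx : K.index = p ^ n)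
    {L : Subgroup M} (hL : ⁅L, L⁆ = L) : L ≤ K := by
  have hres := pResidual_eq_top_of_perfect p (commutator_eq_top_of_perfect_subgroup hL)
  have hL1 : L = (pResidual p ↥L).map L.subtype := by
    rw [hres, ← MonoidHom.range_eq_map, Subgroup.range_subtype]
  rw [hL1]
  unfold Cfsg.pResidual
  rw [MonoidHom.map_closure, Subgroup.closure_le]
  rintro _ ⟨g, hg, rfl⟩
  have hcop : (orderOf (g : M)).Coprime p := by
    rw [Subgroup.orderOf_coe]; exact hg
  exact mem_of_index_pow_of_coprime hidx hcop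

/-- characteristic `p` passes up through a normal subgroup of `p`-power index -/
theorem IsOfCharP.of_index_pow (K : Subgroup M) [hK : K.Normal] {n : ℕ} (hidx : K.index = p ^ n)
    (h : IsOfCharP p ↥K) : IsOfCharP p M := by
  rw [isOfCharP_iff] at h ⊢
  obtain ⟨h1, h2⟩ := h
  constructor
  · have hW : Cfsg.pPrimeCore p M ≤ K := by
      intro w hw
      apply mem_of_index_pow_of_coprime hidx
      have h3 : orderOf w ∣ Nat.card ↥(Cfsg.pPrimeCore p M) := by
        have := orderOf_dvd_natCard (⟨w, hw⟩ : ↥(Cfsg.pPrimeCore p M))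
        rwa [← Subgroup.orderOf_coe] at this
      exact Nat.Coprime.coprime_dvd_left h3 (pPrimeCore_coprime p)
    have hn : ((Cfsg.pPrimeCore p M).subgroupOf K).Normal :=
      (pPrimeCore_normal (G := M) p).subgroupOf K
    have hc : (Nat.card ↥((Cfsg.pPrimeCore p M).subgroupOf K)).Coprime p := by
      rw [Nat.card_congr (Subgroup.subgroupOfEquivOfLe hW).toEquiv]
      exact pPrimeCore_coprime p
    have := le_pPrimeCore hn hc
    rw [h1, le_bot_iff, Subgroup.subgroupOf_eq_bot, disjoint_iff, inf_eq_left.mpr hW] at this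
    exact this
  · rw [layer_eq_bot_iff] at h2 ⊢
    intro L hL
    have hLK : L ≤ K := le_of_index_pow_of_perfect hidx (comp_perfect hL)
    exact h2 _ (isComponent_subgroupOf hL hLK)

/-- characteristic `p` passes up from a subgroup containing `C_M(O_p(M))` -/
theorem IsOfCharP.of_le (D : Subgroup M) (hD : Subgroup.centralizer (Cfsg.pCore p M : Set M) ≤ D)
    (h : IsOfCharP p ↥D) : IsOfCharP p M := by
  rw [isOfCharP_iff] at h ⊢
  obtain ⟨h1, h2⟩ := h
  have hW : Cfsg.pPrimeCore p M ≤ D := by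
    refine le_trans ?_ hD
    rw [← Subgroup.commutator_eq_bot_iff_le_centralizer, Subgroup.commutator_comm]
    exact commutator_pCore_pPrimeCore p
  have hW0 : Cfsg.pPrimeCore p M = ⊥ := by
    have hn : ((Cfsg.pPrimeCore p M).subgroupOf D).Normal :=
      (pPrimeCore_normal (G := M) p).subgroupOf D
    have hc : (Nat.card ↥((Cfsg.pPrimeCore p M).subgroupOf D)).Coprime p := by
      rw [Nat.card_congr (Subgroup.subgroupOfEquivOfLe hW).toEquiv]
      exact pPrimeCore_coprime p
    have := le_pPrimeCore hn hc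
    rw [h1, le_bot_iff, Subgroup.subgroupOf_eq_bot, disjoint_iff, inf_eq_left.mpr hW] at this
    exact this
  refine ⟨hW0, ?_⟩
  rw [layer_eq_bot_iff] at h2 ⊢
  intro L hL
  have hLD : L ≤ D := by
    refine le_trans ?_ hD
    rw [← Subgroup.commutator_eq_bot_iff_le_centralizer, eq_bot_iff,
      ← commutator_layer_fitting (G := M), fittingSubgroup_eq_pCore_of_pPrimeCore_eq_bot p hW0]
    exact Subgroup.commutator_mono (comp_le_layer hL) le_rfl
  exact h2 _ (isComponent_subgroupOf hL hLD)

end Abstract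

section Relative

variable {p : ℕ} [hp : Fact p.Prime] {G : Type*} [Group G] [Finite G]

omit hp [Finite G] in
theorem isOfCharP_subgroupOf_iff {K H : Subgroup G} (hKH : K ≤ H) :
    IsOfCharP p ↥(K.subgroupOf H) ↔ IsOfCharP p ↥K :=
  ⟨fun h => h.of_equiv (Subgroup.subgroupOfEquivOfLe hKH),
    fun h => h.of_equiv (Subgroup.subgroupOfEquivOfLe hKH).symm⟩

/-- characteristic `p` passes to a normal subgroup (subgroups of a fixed group) -/
theorem IsOfCharP.of_normal_rel {K H : Subgroup G} (hKH : K ≤ H)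
    (hHK : H ≤ Subgroup.normalizer (K : Set G)) (h : IsOfCharP p ↥H) : IsOfCharP p ↥K := by
  haveI : (K.subgroupOf H).Normal := (Subgroup.normal_subgroupOf_iff_le_normalizer hKH).mpr hHK
  exact (isOfCharP_subgroupOf_iff hKH).mp (h.of_normal (K.subgroupOf H))

/-- characteristic `p` passes up through a normal subgroup of `p`-power index
(subgroups of a fixed group) -/
theorem IsOfCharP.of_relIndex_pow {K H : Subgroup G} (hKH : K ≤ H)
    (hHK : H ≤ Subgroup.normalizer (K : Set G)) {n : ℕ} (hidx : K.relIndex H = p ^ n)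
    (h : IsOfCharP p ↥K) : IsOfCharP p ↥H := by
  haveI : (K.subgroupOf H).Normal := (Subgroup.normal_subgroupOf_iff_le_normalizer hKH).mpr hHK
  exact IsOfCharP.of_index_pow (K.subgroupOf H) hidx ((isOfCharP_subgroupOf_iff hKH).mpr h)

/-- **S1268**, for subgroups of a fixed group: `N_H(P)` has characteristic `p` if `H` has. -/
theorem IsOfCharP.inf_normalizer {H P : Subgroup G} (hPH : P ≤ H) (hP : IsPGroup p ↥P)
    (h : IsOfCharP p ↥H) : IsOfCharP p ↥(H ⊓ Subgroup.normalizer (P : Set G)) := by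
  have h1 : IsOfCharP p ↥(Subgroup.normalizer ((P.subgroupOf H : Subgroup ↥H) : Set ↥H)) :=
    h.normalizer hP.comap_subtype
  rw [← Subgroup.subgroupOf_normalizer_eq hPH, ← Subgroup.inf_subgroupOf_left] at h1
  exact (isOfCharP_subgroupOf_iff inf_le_left).mp h1

/-- characteristic `p` passes up from a subgroup containing `C_H(O_p(H))`
(subgroups of a fixed group) -/
theorem IsOfCharP.of_le_rel {D H : Subgroup G} (hDH : D ≤ H)
    (hC : ∀ h ∈ H, (∀ q : ↥H, q ∈ Cfsg.pCore p ↥H → (q : G) * h = h * (q : G)) → h ∈ D)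
    (hD : IsOfCharP p ↥D) : IsOfCharP p ↥H := by
  apply IsOfCharP.of_le (D.subgroupOf H) _ ((isOfCharP_subgroupOf_iff hDH).mpr hD)
  intro h hh
  rw [Subgroup.mem_subgroupOf]
  apply hC h.1 h.2
  intro q hq
  have := (Subgroup.mem_centralizer_iff.mp hh) q hq
  exact congrArg Subtype.val this

end Relative

section Tools

variable {p : ℕ} [hp : Fact p.Prime] {G : Type*} [Group G] [Finite G]

/-- a nontrivial `p`-subgroup has a central element of order `p` -/
theorem exists_central_orderOf_eq {T : Subgroup G} (hT : IsPGroup p ↥T) (hT1 : T ≠ ⊥) :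
    ∃ z ∈ T, orderOf z = p ∧ ∀ t ∈ T, t * z = z * t := by
  haveI : Nontrivial ↥T := (Subgroup.nontrivial_iff_ne_bot T).mpr hT1
  haveI hZ : Nontrivial ↥(Subgroup.center ↥T) := hT.center_nontrivial
  have hZp : IsPGroup p ↥(Subgroup.center ↥T) := hT.to_subgroup _
  obtain ⟨n, hn, hcard⟩ := hZp.nontrivial_iff_card.mp hZ
  have hdvd : p ∣ Nat.card ↥(Subgroup.center ↥T) := by
    rw [hcard]; exact dvd_pow_self p (Nat.pos_iff_ne_zero.mp hn)
  obtain ⟨z, hz⟩ := exists_prime_orderOf_dvd_card' p hdvd
  refine ⟨((z : ↥T) : G), (z : ↥T).2, ?_, ?_⟩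
  · rw [Subgroup.orderOf_coe, Subgroup.orderOf_coe]; exact hz
  · intro t ht
    have := (Subgroup.mem_center_iff.mp z.2) ⟨t, ht⟩
    exact congrArg Subtype.val this

/-- a normal `p`-subgroup `T` of `H`, as a subgroup of `O_p(H)` -/
theorem mem_pCore_of_normal_pgroup {T H : Subgroup G} (hT : IsPGroup p ↥T) (hTH : T ≤ H)
    (hHT : H ≤ Subgroup.normalizer (T : Set G)) {z : G} (hz : z ∈ T) :
    (⟨z, hTH hz⟩ : ↥H) ∈ Cfsg.pCore p ↥H := by
  have hn : (T.subgroupOf H).Normal := (Subgroup.normal_subgroupOf_iff_le_normalizer hTH).mpr hHT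
  have := le_pCore hn hT.comap_subtype
  apply this
  rw [Subgroup.mem_subgroupOf]
  exact hz

end Tools

end Cfsg.Agent.Lib.Helper12
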