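import Cfsg.Agent.H5.TCkSound
import Cfsg.Agent.H5.StemTC
import Cfsg.Agent.Lib.Helper5.Sp62Data

/-!
# S2047 (Schur multiplier of the McLaughlin group is `C₃`): the data (helper12)

`McL = ⟨a, b, c, d, e⟩`, all of order `7` (generators `0, …, 4`; letters `2 i`, `2 i + 1` for generator `i` and its
inverse; words in the convention of `Cfsg.H5.TCk.ev`), along the chain `⟨a,b⟩ ≅ L₂(7) < ⟨a,b,c⟩ ≅ A₇ <
⟨a,b,c,d⟩ ≅ M₂₂ < McL`. The Sylow `7`-subgroup of `McL` is cyclic, so `7` does not divide the order of the kernel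
of a finite stem extension and elements of order `7` have unique lifts of order `7`. For these lifts
* the seventh powers and the conjugation relators `conjW` (`u xᵢ u⁻¹ = xⱼ^k`) hold exactly;
* the relators `tightW` of `⟨a, b⟩ ≅ L₂(7)` hold exactly as soon as the kernel has odd order (the group presented
  by `relsAB` has order `≤ 336`, and `|⟨a, b⟩| = 168`);
* every relator `ρ ∈ weakW` of `McL` evaluates to a central element, so the commutator words `cword ρ i` hold.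
The group presented by `relsW` has order `≤ 7 · 24 · 45 · 352 · 2025 = 6 |McL|` (four coset enumerations), and it
maps onto `3 · McL` (permutation model on `66825` points), `wordZ ↦` the central element of order `3`.
The kernel has odd order: `U = ⟨u₁, u₂⟩ ≅ 2 · A₈` (odd index `22275`) is presented by the conjugation relators
`relsU` on two elements of order `7` (order `≤ 7 · 5760 = 40320 = |U|`).
-/

set_option autoImplicit false

namespace Cfsg.Agent.Lib.Helper12.McLW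

open Cfsg.H5.TCk
open Cfsg.Agent.Lib.Helper5.Sp62 (cr crOf)
open Cfsg.H5.StemTC (cword cwords)

/-- the conjugation relators in `a, b`: `(u, i, c, m)` stands for `cr u i c m = u xᵢ u⁻¹ c ^ m` -/
def conjAB : List (List ℕ × ℕ × ℕ × ℕ) := [
  ([3, 1], 1, 1, 1),
  ([3, 3, 0, 0, 3], 0, 1, 2)]

/-- the other conjugation relators -/
def conjCDE : List (List ℕ × ℕ × ℕ × ℕ) := [
  ([7, 5], 3, 5, 1),
  ([9, 7], 4, 7, 1),
  ([5, 3, 3], 2, 3, 2)]

/-- all conjugation relators -/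
def conjW : List (List ℕ × ℕ × ℕ × ℕ) := conjAB ++ conjCDE

/-- relators of `⟨a, b⟩ ≅ L₂(7)` which are not conjugation relators -/
def tightW : List (List ℕ) := [
  [0, 2, 0, 2, 0, 2],
  [0, 2, 2, 0, 2, 2],
  [0, 0, 2, 0, 3, 3, 1, 3]]

/-- relators of `McL` which are only known to be central in a stem extension -/
def weakW : List (List ℕ) := [
  [2, 5, 2, 5, 2, 5],
  [4, 4, 6, 4, 4, 6],
  [4, 6, 4, 6, 4, 6],
  [4, 6, 4, 7, 5, 7],
  [0, 0, 5, 2, 1, 3, 5],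
  [0, 3, 5, 1, 5, 1, 4],
  [2, 5, 5, 5, 2, 5, 5, 5],
  [6, 9, 6, 9, 6, 9, 6, 9],
  [4, 4, 9, 4, 4, 9, 4, 4, 9],
  [2, 2, 5, 9, 2, 4, 2, 5, 8, 7],
  [2, 6, 5, 5, 6, 3, 6, 5, 6, 4],
  [4, 4, 7, 7, 4, 9, 6, 6, 9, 9],
  [0, 2, 1, 8, 8, 8, 1, 2, 1, 8, 4],
  [2, 2, 2, 2, 4, 3, 3, 3, 4],
  [0, 2, 4, 0, 5, 5, 5],
  [0, 3, 0, 4, 4, 0, 3, 4],
  [0, 4, 2, 6, 0, 4, 2, 6],
  [2, 4, 6, 3, 7, 2, 4, 7],
  [2, 5, 2, 7, 3, 7, 7, 4],
  [2, 5, 5, 7, 3, 7, 7, 5],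
  [2, 6, 6, 6, 2, 6, 6, 6],
  [4, 6, 5, 6, 4, 6, 6, 6],
  [4, 7, 4, 7, 4, 7, 4, 7]]

/-- the seventh powers of the first `n` generators -/
def powW (n : ℕ) : List (List ℕ) := (List.range n).map fun i => List.replicate 7 (2 * i)

/-- conjugation relators which present a group of order `≤ 336` on `a, b` -/
def relsAB : List (List ℕ) := powW 2 ++ conjAB.map crOf

/-- relators which hold in `McL` -/
def relsG : List (List ℕ) := powW 5 ++ conjW.map crOf ++ tightW ++ weakW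

/-- relators of the cover `3 · McL` -/
def relsW : List (List ℕ) := powW 5 ++ conjW.map crOf ++ tightW ++ cwords weakW 5

/-- `a b c a c⁻³`: trivial in `McL`, the central element of order `3` of the cover -/
def wordZ : List ℕ := [0, 2, 4, 0, 5, 5, 5]

/-- conjugation relators of `U = ⟨u₁, u₂⟩ ≅ 2 · A₈` (generators `0, 1`) -/
def conjU : List (List ℕ × ℕ × ℕ × ℕ) := [
  ([3, 1, 3, 1, 3], 0, 1, 1),
  ([2, 0, 2, 0, 2], 0, 1, 1),
  ([1, 3, 1, 3, 1], 1, 3, 1),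
  ([0, 2, 0, 2, 0], 1, 3, 1),
  ([0, 3, 0, 0, 0, 2], 0, 3, 2),
  ([3, 3, 3, 3, 3, 3, 3], 0, 1, 1),
  ([2, 2, 2, 2, 2, 2, 2], 0, 1, 1),
  ([3, 1, 1, 1, 2, 1], 1, 0, 3),
  ([1, 1, 1, 1, 1, 1, 1], 1, 3, 1),
  ([0, 0, 0, 0, 0, 0, 0], 1, 3, 1),
  ([0, 3, 0, 0, 3, 1, 3], 0, 3, 2),
  ([0, 3, 1, 1, 1, 1, 2], 0, 3, 2),
  ([2, 0, 0, 0, 2, 1, 1], 1, 1, 2),
  ([2, 2, 0, 2, 0, 2, 0, 3], 0, 1, 1),
  ([2, 1, 3, 1, 3, 1, 3, 3], 0, 1, 1),
  ([3, 3, 1, 3, 1, 3, 1, 2], 0, 1, 1),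
  ([3, 0, 2, 0, 2, 0, 2, 2], 0, 1, 1),
  ([0, 0, 3, 1, 1, 1, 3], 0, 2, 3),
  ([2, 0, 2, 1, 1, 2, 1], 1, 0, 3),
  ([3, 0, 0, 0, 0, 2, 1], 1, 0, 3),
  ([0, 3, 1, 3, 1, 3, 1, 1], 1, 3, 1),
  ([0, 0, 2, 0, 2, 0, 2, 1], 1, 3, 1),
  ([1, 2, 0, 2, 0, 2, 0, 0], 1, 3, 1),
  ([1, 1, 3, 1, 3, 1, 3, 0], 1, 3, 1)]

/-- relators of `U` -/
def relsU : List (List ℕ) := powW 2 ++ conjU.map crOf

/-- the hypotheses on `g 0, …, g 4` (= `a, …, e`) and `u 0, u 1` (= `u₁, u₂`) in a group `G` which make `G` a copy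
of `McL` for our purposes -/
def IsMcLTuple {G : Type*} [Group G] (g u : ℕ → G) : Prop :=
  Nat.card G = 898128000 ∧ Subgroup.closure (Set.range fun i : Fin 5 => g i.val) = ⊤ ∧
    (∀ r ∈ relsG, ev g r = 1) ∧
    168 ≤ Nat.card (Subgroup.closure (Set.range fun i : Fin 2 => g i.val)) ∧
    (∀ r ∈ relsU, ev u r = 1) ∧
    40320 ≤ Nat.card (Subgroup.closure (Set.range fun i : Fin 2 => u i.val))

end Cfsg.Agent.Lib.Helper12.McLW
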