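import Mathlib
import Cfsg.Prelude.Def_KGroupFacts
import Cfsg.Agent.H5.StemTC
import Cfsg.Agent.Lib.Helper12.McLWData

/-!
# S2047: the group presented by `relsW` (helper12; port of helper23's `Sp62EGen`, first part)

`Cover` = the group presented by `relsW` on five generators, its generators `cgen`, and the universal property
`exists_hom`.
-/

set_option autoImplicit false
set_option linter.style.haveILetI false
set_option linter.unusedSectionVars false
set_option linter.unusedVariables false

namespace Cfsg.Agent.Lib.Helper12.McLW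

open Cfsg Cfsg.H5.TCk

universe u

/-! ### words -/

theorem ev_congr' {Γ : Type*} [Group Γ] (g g' : ℕ → Γ) (t : ℕ) (h : ∀ i < t, g i = g' i)
    (w : List ℕ) (hw : w.all (fun l => decide (l < 2 * t)) = true) : ev g w = ev g' w := by
  induction w with
  | nil => rfl
  | cons l w ih =>
    rw [List.all_cons, Bool.and_eq_true] at hw
    have hl : l < 2 * t := of_decide_eq_true hw.1
    have hl2 : l / 2 < t := by omega
    simp only [ev]
    rw [ih hw.2]
    congr 1
    unfold gl
    rw [h _ hl2]

set_option maxRecDepth 100000 in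
theorem relsW_all : ∀ r ∈ relsW, r.all (fun l => decide (l < 2 * 5)) = true := by decide +kernel

theorem wordZ_all : wordZ.all (fun l => decide (l < 2 * 5)) = true := by decide

/-! ### the presented group -/

/-- the free generators as a sequence -/
def fgen : ℕ → FreeGroup (ULift.{u} (Fin 5)) :=
  fun i => if h : i < 5 then FreeGroup.of (ULift.up ⟨i, h⟩) else 1

/-- the relators as elements of the free group -/
def relSet : Set (FreeGroup (ULift.{u} (Fin 5))) := {x | ∃ r ∈ relsW, x = ev fgen r}

/-- the group presented by `relsW` -/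
abbrev Cover : Type u := PresentedGroup relSet.{u}

/-- its generators as a sequence -/
def cgen : ℕ → Cover.{u} := fun i => PresentedGroup.mk relSet (fgen i)

theorem cgen_rel (r : List ℕ) (hr : r ∈ relsW) : ev cgen.{u} r = 1 := by
  have h1 := Cfsg.H5.StemTC.map_ev (PresentedGroup.mk relSet.{u}) fgen r
  have h2 : ev cgen.{u} r = PresentedGroup.mk relSet.{u} (ev fgen r) := h1.symm
  rw [h2]
  exact PresentedGroup.one_of_mem ⟨r, hr, rfl⟩

theorem closure_cgen :
    Subgroup.closure (Set.range fun i : Fin 5 => cgen.{u} i.val) = ⊤ := by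
  rw [← PresentedGroup.closure_range_of relSet.{u}]
  congr 1
  ext x
  constructor
  · rintro ⟨i, rfl⟩
    refine ⟨ULift.up i, ?_⟩
    show PresentedGroup.of (ULift.up i) = PresentedGroup.mk relSet (fgen i.val)
    unfold fgen
    rw [dif_pos i.2]
    rfl
  · rintro ⟨j, rfl⟩
    refine ⟨j.down, ?_⟩
    show PresentedGroup.mk relSet (fgen j.down.val) = PresentedGroup.of j
    unfold fgen
    rw [dif_pos j.down.2]
    rfl

/-- the universal property -/
theorem exists_hom {H : Type*} [Group H] (h : ℕ → H) (hrel : ∀ r ∈ relsW, ev h r = 1) :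
    ∃ ψ : Cover.{u} →* H, ∀ w : List ℕ, w.all (fun l => decide (l < 2 * 5)) = true →
      ψ (ev cgen w) = ev h w := by
  have hlift : ∀ i < 5, FreeGroup.lift (fun j : ULift.{u} (Fin 5) => h j.down.val) (fgen i) = h i := by
    intro i hi
    unfold fgen
    rw [dif_pos hi, FreeGroup.lift_apply_of]
  have hr : ∀ x ∈ relSet.{u}, FreeGroup.lift (fun j : ULift.{u} (Fin 5) => h j.down.val) x = 1 := by
    rintro x ⟨r, hr, rfl⟩
    rw [Cfsg.H5.StemTC.map_ev, ev_congr' _ h 5 hlift r (relsW_all r hr)]
    exact hrel r hr
  refine ⟨PresentedGroup.toGroup hr, fun w hw => ?_⟩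
  rw [Cfsg.H5.StemTC.map_ev]
  apply ev_congr' _ h 5 _ w hw
  intro i hi
  show PresentedGroup.toGroup hr (PresentedGroup.mk relSet (fgen i)) = h i
  unfold fgen
  rw [dif_pos hi]
  exact PresentedGroup.toGroup.of hr


end Cfsg.Agent.Lib.Helper12.McLW
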