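import Mathlib
import Cfsg.Prelude.Def_GeometricClasses
import Cfsg.Agent.Lib.Helper13.OrthMax
import Cfsg.Agent.Lib.Helper13.OrthNondeg
import Cfsg.Agent.Lib.Helper13.AltRank

/-!
# Even-dimensional orthogonal rows : the pieces E-ODD, E-PERP, E-PLANE2 of helper1's row skeleton

* `odd_card_of_odd_finrank` : a subspace of odd dimension on which the polar form is non-degenerate exists only over
  fields of odd order;
* `exists_perp` : the orthogonal complement of a non-degenerate subspace;
* `plane_le_stab_two` : over the field with two elements, the stabiliser of a plus-type plane fixes its unique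
  non-singular vector.
-/

set_option autoImplicit false
set_option linter.unusedSectionVars false
set_option linter.unusedVariables false

namespace Cfsg.Agent.Lib.Helper12.OECorE

open Matrix Cfsg Cfsg.Geo Module QuadraticMap
open Cfsg.Agent.Lib.Helper13 (toQF toQF_nondegenerate)

variable {F : Type*} [Field F] [Fintype F] {n : ℕ}

/-- characteristic two from an even number of elements -/
theorem two_eq_zero_of_not_odd (h : ¬ Odd (Fintype.card F)) : (2 : F) = 0 := by
  have he : Even (Fintype.card F) := Nat.not_odd_iff_even.mp h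
  have h3 : Fintype.card F % 2 = 0 := Nat.even_iff.mp he
  have h4 : ringChar F = 2 := FiniteField.even_card_iff_char_two.mpr h3
  have : CharP F 2 := ringChar.of_eq h4
  exact_mod_cast (CharP.cast_eq_zero F 2)

/-- **E-ODD** -/
theorem odd_card_of_odd_finrank {Q : (Fin n → F) → F} (hQ : IsNondegenerateQuadraticForm Q)
    (W : Submodule F (Fin n → F)) (hW : IsNondegenerateOn (polar Q) W) (hodd : Odd (finrank F W)) :
    Odd (Fintype.card F) := by
  by_contra hne
  have h2 : (2 : F) = 0 := two_eq_zero_of_not_odd hne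
  have hB : ∀ x y : W, ((polarBilin (toQF Q hQ)).domRestrict₁₂ W W) x y = polar Q (x : Fin n → F) y :=
    fun x y => rfl
  have halt : ∀ x : W, ((polarBilin (toQF Q hQ)).domRestrict₁₂ W W) x x = 0 := by
    intro x
    rw [hB]
    unfold QuadraticMap.polar
    have h3 : ((x : Fin n → F) + x) = (2 : F) • (x : Fin n → F) := by rw [two_smul]
    rw [h3, hQ.smul, h2]
    have h4 : Q (x : Fin n → F) + Q (x : Fin n → F) = 0 := by rw [← two_mul, h2, zero_mul]
    linear_combination -h4
  have hK : ∀ x : W, x ∈ (⊥ : Submodule F W) ↔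
      ∀ y : W, ((polarBilin (toQF Q hQ)).domRestrict₁₂ W W) y x = 0 := by
    intro x
    rw [Submodule.mem_bot]
    constructor
    · rintro rfl y
      rw [map_zero]
    · intro hx
      by_contra hx0
      have hx0' : (x : Fin n → F) ≠ 0 := fun h => hx0 (Subtype.ext h)
      obtain ⟨⟨y, hyW, hy⟩, -⟩ := hW x x.2 hx0'
      exact hy (hx ⟨y, hyW⟩)
  have hev := Cfsg.Agent.Lib.Helper13.even_finrank_sub_radical _ halt ⊥ hK
  rw [finrank_bot, Nat.sub_zero] at hev
  exact (Nat.not_even_iff_odd.mpr hodd) hev

/-- **E-PERP** -/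
theorem exists_perp {Q : (Fin n → F) → F} (hQ : IsNondegenerateQuadraticForm Q)
    (W : Submodule F (Fin n → F)) (hW : IsNondegenerateOn (polar Q) W) :
    ∃ W' : Submodule F (Fin n → F), IsNondegenerateOn (polar Q) W' ∧ finrank F W + finrank F W' = n ∧
      AreOrthogonalFor (polar Q) W W' ∧ IsCompl W W' ∧
      subspaceStabilizer W ⊓ omegaGL Q = subspaceStabilizer W' ⊓ omegaGL Q := by
  have hP := Cfsg.Agent.Lib.Helper13.OND.orthPair_of_nondeg (toQF Q hQ) (toQF_nondegenerate Q hQ) W hW
  refine ⟨LinearMap.BilinForm.orthogonal (polarBilin (toQF Q hQ)) W, ?_, ?_, ?_, ?_, ?_⟩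
  · intro w hw hw0
    obtain ⟨y, hy, hne⟩ := hP.ndW w hw hw0
    refine ⟨⟨y, hy, ?_⟩, ⟨y, hy, hne⟩⟩
    rw [polar_comm]
    exact hne
  · have := hP.finrank_add
    rw [Fintype.card_fin] at this
    exact this
  · exact fun u hu w hw => hP.orth u hu w hw
  · refine ⟨?_, ?_⟩
    · rw [Submodule.disjoint_def]
      intro x hxU hxW
      exact hP.inter hxU hxW
    · rw [codisjoint_iff, Submodule.eq_top_iff']
      intro x
      obtain ⟨u, hu, w, hw, rfl⟩ := hP.dec x
      exact Submodule.add_mem_sup hu hw
  · exact hP.stab_eq.symm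

/-- in the field with two elements every element is `0` or `1` -/
theorem eq_zero_or_eq_one (hq : Fintype.card F = 2) (a : F) : a = 0 ∨ a = 1 := by
  have h := FiniteField.pow_card a
  rw [hq] at h
  have h1 : a * (a - 1) = 0 := by linear_combination h
  rcases mul_eq_zero.mp h1 with h0 | h0
  · exact Or.inl h0
  · exact Or.inr (sub_eq_zero.mp h0)

/-- **E-PLANE2** -/
theorem plane_le_stab_two {Q : (Fin n → F) → F} (hQ : IsNondegenerateQuadraticForm Q)
    (hq : Fintype.card F = 2) (W : Submodule F (Fin n → F)) (hdim : finrank F W = 2)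
    (hW : IsNondegenerateOn (polar Q) W) (hWp : IsPlusTypeOn Q W) :
    ∃ v : Fin n → F, Q v ≠ 0 ∧
      subspaceStabilizer W ⊓ isometryGroup F Q ≤ subspaceStabilizer (Submodule.span F {v}) := by
  have h2 : (2 : F) = 0 := two_eq_zero_of_not_odd (by rw [hq]; decide)
  have hB := hQ.polar_bilinear
  have hQadd : ∀ x y : Fin n → F, Q (x + y) = Q x + Q y + polar Q x y := by
    intro x y
    unfold QuadraticMap.polar
    ring
  obtain ⟨U, hUW, hUts, hUdim⟩ := hWp
  rw [hdim] at hUdim
  have hU1 : finrank F U = 1 := by omega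
  obtain ⟨e, heU, he0⟩ : ∃ e ∈ U, e ≠ 0 := by
    have hne : U ≠ ⊥ := by
      intro h
      rw [h, finrank_bot] at hU1
      exact zero_ne_one hU1
    exact Submodule.exists_mem_ne_zero_of_ne_bot hne
  have heW : e ∈ W := hUW heU
  have hQe : Q e = 0 := hUts e heU
  obtain ⟨-, x, hxW, hex⟩ := hW e heW he0
  have hex1 : polar Q e x = 1 := (eq_zero_or_eq_one hq _).resolve_left hex
  -- a singular partner `f`
  obtain ⟨f, hfW, hQf, hef⟩ : ∃ f ∈ W, Q f = 0 ∧ polar Q e f = 1 := by
    rcases eq_zero_or_eq_one hq (Q x) with h0 | h1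
    · exact ⟨x, hxW, h0, hex1⟩
    · refine ⟨x + e, W.add_mem hxW heW, ?_, ?_⟩
      · rw [hQadd, h1, hQe, polar_comm, hex1]
        linear_combination h2
      · rw [hB.add_right, hex1]
        have : polar Q e e = 0 := by
          unfold QuadraticMap.polar
          have h3 : e + e = (2 : F) • e := by rw [two_smul]
          rw [h3, hQ.smul, h2, hQe]
          ring
        rw [this, add_zero]
  -- `W` is spanned by `e`, `f`
  have hli : LinearIndependent F ![e, f] := by
    rw [LinearIndependent.pair_iff]
    intro s t hst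
    have h1 : polar Q e (s • e + t • f) = t := by
      rw [hB.add_right, hB.smul_right, hB.smul_right, hef]
      have : polar Q e e = 0 := by
        unfold QuadraticMap.polar
        have h3 : e + e = (2 : F) • e := by rw [two_smul]
        rw [h3, hQ.smul, h2, hQe]
        ring
      rw [this]
      ring
    have h2' : polar Q (s • e + t • f) f = s := by
      rw [hB.add_left, hB.smul_left, hB.smul_left, hef]
      have : polar Q f f = 0 := by
        unfold QuadraticMap.polar
        have h3 : f + f = (2 : F) • f := by rw [two_smul]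
        rw [h3, hQ.smul, h2, hQf]
        ring
      rw [this]
      ring
    rw [hst] at h1 h2'
    have hz1 : polar Q e 0 = 0 := by
      have := hB.smul_right (0 : F) e 0
      rw [zero_smul, zero_mul] at this
      exact this
    have hz2 : polar Q 0 f = 0 := by
      have := hB.smul_left (0 : F) 0 f
      rw [zero_smul, zero_mul] at this
      exact this
    exact ⟨by rw [← h2', hz2], by rw [← h1, hz1]⟩
  have hspan : Submodule.span F (Set.range ![e, f]) = W := by
    apply Submodule.eq_of_le_of_finrank_eq
    · rw [Submodule.span_le]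
      rintro _ ⟨i, rfl⟩
      fin_cases i
      · exact heW
      · exact hfW
    · rw [finrank_span_eq_card hli, hdim, Fintype.card_fin]
  have hmemW : ∀ w ∈ W, ∃ a b : F, w = a • e + b • f := by
    intro w hw
    rw [← hspan, Matrix.range_cons, Matrix.range_cons, Matrix.range_empty, Set.union_empty] at hw
    have hw' : w ∈ Submodule.span F ({e, f} : Set (Fin n → F)) := by
      have hset : ({e, f} : Set (Fin n → F)) = {e} ∪ {f} := by
        ext z
        simp only [Set.mem_insert_iff, Set.mem_singleton_iff, Set.mem_union]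
      rw [hset]
      exact hw
    obtain ⟨a, b, hab⟩ := Submodule.mem_span_pair.mp hw'
    exact ⟨a, b, hab.symm⟩
  have hQab : ∀ a b : F, Q (a • e + b • f) = a * b := by
    intro a b
    rw [hQadd, hQ.smul, hQ.smul, hQe, hQf, hB.smul_left, hB.smul_right, hef]
    ring
  have huniq : ∀ w ∈ W, Q w ≠ 0 → w = e + f := by
    intro w hw hQw
    obtain ⟨a, b, rfl⟩ := hmemW w hw
    rw [hQab] at hQw
    have ha : a = 1 := (eq_zero_or_eq_one hq a).resolve_left (left_ne_zero_of_mul hQw)
    have hb : b = 1 := (eq_zero_or_eq_one hq b).resolve_left (right_ne_zero_of_mul hQw)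
    rw [ha, hb, one_smul, one_smul]
  have hQv : Q (e + f) ≠ 0 := by
    have := hQab 1 1
    rw [one_smul, one_smul] at this
    rw [this]
    simp
  refine ⟨e + f, hQv, ?_⟩
  rintro g ⟨hgW, hgI⟩
  have hgv : (g : Matrix (Fin n) (Fin n) F) *ᵥ (e + f) = e + f := by
    apply huniq
    · exact (hgW (e + f)).mp (W.add_mem heW hfW)
    · have := hgI (e + f) (e + f)
      change Q ((g : Matrix (Fin n) (Fin n) F) *ᵥ (e + f)) = Q (e + f) at this
      rw [this]
      exact hQv
  apply Cfsg.Agent.Lib.Helper13.mem_subspaceStabilizer_of_forall'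
  intro y hy
  obtain ⟨c, rfl⟩ := Submodule.mem_span_singleton.mp hy
  rw [Matrix.mulVec_smul, hgv]
  exact Submodule.smul_mem _ c (Submodule.mem_span_singleton_self _)

end Cfsg.Agent.Lib.Helper12.OECorE
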