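import Mathlib
import Cfsg.Agent.Lib.Helper1.OrthSubfDefs
import Cfsg.Agent.Lib.Helper24.S5683FOP

/-!
# S5702 farm-out piece FO-P2 (helper12): reduction to `P = 1` (orthogonal case, even dimension, any
characteristic); port of helper24's `S5683FOP.bridge_odd`.
-/

set_option autoImplicit false

namespace Cfsg.Agent.Lib.Helper12.S5702FOP2

open Matrix QuadraticMap Cfsg.Agent.Lib.Helper6 Cfsg.Agent.Lib.Helper13
open Cfsg.Agent.Lib.Helper1.OrthSubf Cfsg.Agent.Lib.Helper24.S5683FOP

universe u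
variable {F : Type u} [Field F] {n : ℕ}

/-- **FO-P2** (orthogonal case, even dimension) -/
theorem bridge_even [Fintype F] (Q₁ : (Fin n → F) → F)
    (hQ₁ : Cfsg.Geo.IsNondegenerateQuadraticForm Q₁)
    (F₀ : Subfield F) (P : Matrix.GeneralLinearGroup (Fin n) F) (ζ : F) (hζ : ζ ≠ 0)
    (hP : Cfsg.Geo.IsQuadFormRationalStructure (fun v : Fin n → F => ζ * Q₁ v) F₀ P) :
    ∃ Q : QuadraticForm F (Fin n → F), (polarBilin Q).Nondegenerate ∧ RatQ F₀ Q ∧
      (Cfsg.Geo.IsMaximalIn (Cfsg.Geo.omegaGL ⇑Q) (H1Q F₀ Q) →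
        Cfsg.Geo.IsMaximalIn (Cfsg.Geo.omegaGL Q₁)
          (Cfsg.Geo.subfieldSubgroup F₀ P ⊓ Cfsg.Geo.omegaGL Q₁)) := by
  classical
  let e : Fin n ≃ Fin n := Equiv.refl (Fin n)
  let Q0 : QuadraticForm F (Fin n → F) := toQF Q₁ hQ₁
  have hcoe : ⇑Q0 = Q₁ := rfl
  -- the linear map `x ↦ P x`
  let L : (Fin n → F) →ₗ[F] (Fin n → F) := Matrix.toLin' P.val
  have hL : ∀ x, L x = P.val *ᵥ x := fun x => rfl
  have hLsurj : ∀ v, ∃ x, L x = v := by
    intro v
    refine ⟨(P⁻¹).val *ᵥ v, ?_⟩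
    rw [hL, mulVec_mulVec, ← Units.val_mul, mul_inv_cancel, Units.val_one, one_mulVec]
  have hLinj : ∀ x, L x = 0 → x = 0 := by
    intro x hx
    rw [hL] at hx
    have h1 := congrArg (fun w => (P⁻¹).val *ᵥ w) hx
    simp only [mulVec_mulVec, mulVec_zero] at h1
    rw [← Units.val_mul, inv_mul_cancel, Units.val_one, one_mulVec] at h1
    exact h1
  let Q : QuadraticForm F (Fin n → F) := (ζ • Q0).comp L
  have hQ : ∀ x, Q x = ζ * Q₁ (P.val *ᵥ x) := by
    intro x
    show ζ • Q0 (L x) = _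
    rw [hL, smul_eq_mul]
    rfl
  have hpol : ∀ x y, polar (⇑Q) x y = ζ * polar Q₁ (L x) (L y) := by
    intro x y
    unfold polar
    rw [hQ, hQ, hQ, ← hL, ← hL, ← hL, map_add]
    ring
  have hnd0 := toQF_nondegenerate Q₁ hQ₁
  refine ⟨Q, ?_, ?_, ?_⟩
  · constructor
    · intro x hx
      apply hLinj
      apply hnd0.1
      intro v
      obtain ⟨y, rfl⟩ := hLsurj v
      have := hx y
      rw [polarBilin_apply_apply] at this ⊢
      rw [hpol] at this
      exact (mul_eq_zero.mp this).resolve_left hζ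
    · intro y hy
      apply hLinj
      apply hnd0.2
      intro v
      obtain ⟨x, rfl⟩ := hLsurj v
      have := hy x
      rw [polarBilin_apply_apply] at this ⊢
      rw [hpol] at this
      exact (mul_eq_zero.mp this).resolve_left hζ
  · intro u
    rw [hQ]
    apply hP
    intro i
    exact (u i).2
  · intro hmax
    let Ψ := bridgeEquiv e P
    have hbm : ∀ (g : GL (Fin n) F) (x : Fin n → F),
        ((bridgeEquiv e P g : GL (Fin n) F) : Matrix (Fin n) (Fin n) F) *ᵥ (P.val *ᵥ x) =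
          P.val *ᵥ ((g : Matrix (Fin n) (Fin n) F) *ᵥ x) := by
      intro g x
      exact bridgeEquiv_mulVec e P g x
    -- isometry groups correspond
    have hiso : (Cfsg.isometryGroup F (⇑Q)).map Ψ.toMonoidHom =
        Cfsg.isometryGroup F Q₁ := by
      ext y
      constructor
      · rintro ⟨g, hg, rfl⟩
        rw [SetLike.mem_coe, mem_isometryGroup_iff] at hg
        rw [mem_isometryGroup_iff]
        intro v
        obtain ⟨x, rfl⟩ := hLsurj v
        rw [hL]
        show Q₁ ((bridgeEquiv e P g).val *ᵥ _) = _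
        rw [hbm]
        have := hg x
        rw [hQ, hQ] at this
        exact mul_left_cancel₀ hζ this
      · intro hy
        rw [mem_isometryGroup_iff] at hy
        refine ⟨Ψ.symm y, ?_, by simp⟩
        rw [SetLike.mem_coe, mem_isometryGroup_iff]
        intro x
        rw [hQ, hQ]
        have h1 := hbm (Ψ.symm y) x
        have h3 : bridgeEquiv e P (Ψ.symm y) = y := Ψ.apply_symm_apply y
        rw [h3] at h1
        rw [← h1, hy _]
    have hom : (Cfsg.Geo.omegaGL (⇑Q)).map Ψ.toMonoidHom =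
        Cfsg.Geo.omegaGL Q₁ := by
      rw [omegaGL_eq, omegaGL_eq, Subgroup.map_commutator, hiso]
    have h1 := isMaximalIn_mapEquiv Ψ _ _ hmax
    rw [hom] at h1
    have h2 : (H1Q F₀ Q).map Ψ.toMonoidHom =
        Cfsg.Geo.subfieldSubgroup F₀ P ⊓ Cfsg.Geo.omegaGL Q₁ := by
      unfold H1Q
      rw [Subgroup.map_inf _ _ _ Ψ.injective, hom]
      congr 1
      exact map_bridge_subfield F₀ e P
    rw [h2] at h1
    exact h1

end Cfsg.Agent.Lib.Helper12.S5702FOP2
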