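import Mathlib
import Cfsg.Agent.Lib.Helper13.SymForm

/-!
# S5683 farm-out pieces FO-G5, FO-G7, FO-G8 (geometry of a nondegenerate symmetric bilinear form
over a finite field of odd characteristic), for helper1's skeleton.
-/

set_option autoImplicit false

namespace Cfsg.Agent.Lib.Helper12.S5683G

open Matrix Module Cfsg.Agent.Lib.Helper13

variable {k : Type*} [Field k] {n : ℕ} {B : (Fin n → k) →ₗ[k] (Fin n → k) →ₗ[k] k}

/-- making a partner singular -/
theorem singularize (h : IsS B) (c e : Fin n → k) (hcc : B c c = 0) (hce : B c e = 1) :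
    B (e - (B e e / 2) • c) (e - (B e e / 2) • c) = 0 ∧ B c (e - (B e e / 2) • c) = 1 := by
  have h2 := h.two
  have hec : B e c = 1 := by rw [h.symm, hce]
  constructor
  · simp only [map_sub, map_smul, LinearMap.sub_apply, LinearMap.smul_apply, smul_eq_mul, hcc,
      hce, hec]
    field_simp
    ring
  · simp only [map_sub, map_smul, smul_eq_mul, hcc, hce]
    ring

/-- a vector `e` with `B c e = 1` and perpendicular to `u, c'`, when `c ∉ ⟨u, c'⟩` -/
theorem exists_dual_vec (h : IsS B) (u c c' : Fin n → k)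
    (hind : ∀ k₁ k₂ : k, c ≠ k₁ • u + k₂ • c') :
    ∃ e : Fin n → k, B c e = 1 ∧ B u e = 0 ∧ B c' e = 0 := by
  have hc : c ∉ Submodule.span k ({u, c'} : Set (Fin n → k)) := by
    intro hmem
    rw [Submodule.mem_span_pair] at hmem
    obtain ⟨a, b, hab⟩ := hmem
    exact hind a b hab.symm
  obtain ⟨f, hfc, hf⟩ := Submodule.exists_dual_map_eq_bot_of_notMem hc inferInstance
  obtain ⟨e₀, he₀⟩ := (LinearMap.BilinForm.toDual B h.nondeg).surjective f
  have hB : ∀ x, B e₀ x = f x := by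
    intro x
    rw [← he₀, LinearMap.BilinForm.toDual_def]
  have hfu : f u = 0 := by
    have : f u ∈ Submodule.map f (Submodule.span k ({u, c'} : Set (Fin n → k))) :=
      Submodule.mem_map_of_mem (Submodule.subset_span (by simp))
    rw [hf] at this
    exact (Submodule.mem_bot k).mp this
  have hfc' : f c' = 0 := by
    have : f c' ∈ Submodule.map f (Submodule.span k ({u, c'} : Set (Fin n → k))) :=
      Submodule.mem_map_of_mem (Submodule.subset_span (by simp))
    rw [hf] at this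
    exact (Submodule.mem_bot k).mp this
  refine ⟨(f c)⁻¹ • e₀, ?_, ?_, ?_⟩
  · rw [map_smul, smul_eq_mul, h.symm, hB, inv_mul_cancel₀ hfc]
  · rw [map_smul, smul_eq_mul, h.symm, hB, hfu, mul_zero]
  · rw [map_smul, smul_eq_mul, h.symm, hB, hfc', mul_zero]

/-- FO-G5 -/
theorem exists_partner (h : IsS B) (u c c' : Fin n → k) (hcc : B c c = 0) (huc : B u c = 0)
    (hc'c : B c' c = 0) (hind : ∀ k₁ k₂ : k, c ≠ k₁ • u + k₂ • c') :
    ∃ f : Fin n → k, B f f = 0 ∧ B c f = 1 ∧ B u f = 0 ∧ B c' f = 0 := by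
  obtain ⟨e, hce, hue, hc'e⟩ := exists_dual_vec h u c c' hind
  obtain ⟨h1, h2⟩ := singularize h c e hcc hce
  refine ⟨e - (B e e / 2) • c, h1, h2, ?_, ?_⟩
  · rw [map_sub, map_smul, hue, huc, smul_zero, sub_zero]
  · rw [map_sub, map_smul, hc'e, hc'c, smul_zero, sub_zero]

/-- FO-G7 -/
theorem exists_hyp_pair [Finite k] (h : IsS B) (hn : 3 ≤ n) :
    ∃ u v : Fin n → k, B u u = 0 ∧ B v v = 0 ∧ B u v = 1 := by
  obtain ⟨u, -, hu0, huu⟩ := exists_singular_in B ⊤ (by rw [finrank_top_fun]; exact hn)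
  obtain ⟨x, hx⟩ := h.nd' u hu0
  have hy : B u ((B u x)⁻¹ • x) = 1 := by
    rw [map_smul, smul_eq_mul, inv_mul_cancel₀ hx]
  obtain ⟨h1, h2⟩ := singularize h u _ huu hy
  exact ⟨u, _, huu, h1, h2⟩

/-- FO-G8 -/
theorem exists_ts_partner [Finite k] (h : IsS B) (hn : 5 ≤ n) (u : Fin n → k) (hu0 : u ≠ 0)
    (huu : B u u = 0) :
    ∃ c e : Fin n → k, B c c = 0 ∧ B u c = 0 ∧ B c e = 1 ∧ B u e = 0 := by
  obtain ⟨x, hx⟩ := h.nd' u hu0
  have d1 := finrank_le_inf_ker_add_one' (⊤ : Submodule k (Fin n → k)) (B u)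
  have d2 := finrank_le_inf_ker_add_one' (⊤ ⊓ LinearMap.ker (B u)) (B x)
  rw [finrank_top_fun] at d1
  obtain ⟨c, hcS, hc0, hcc⟩ := exists_singular_in B
    ((⊤ ⊓ LinearMap.ker (B u)) ⊓ LinearMap.ker (B x)) (by omega)
  simp only [Submodule.mem_inf, LinearMap.mem_ker, Submodule.mem_top, true_and] at hcS
  obtain ⟨huc, hxc⟩ := hcS
  have hind : ∀ k₁ k₂ : k, c ≠ k₁ • u + k₂ • (0 : Fin n → k) := by
    intro k₁ k₂ hc
    rw [smul_zero, add_zero] at hc
    have h1 : B x c = k₁ * B x u := by rw [hc, map_smul, smul_eq_mul]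
    rw [hxc, h.symm x u] at h1
    rcases mul_eq_zero.mp h1.symm with h2 | h2
    · rw [h2, zero_smul] at hc
      exact hc0 hc
    · exact hx h2
  obtain ⟨e, hce, hue, -⟩ := exists_dual_vec h u c 0 hind
  exact ⟨c, e, hcc, huc, hce, hue⟩

end Cfsg.Agent.Lib.Helper12.S5683G
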