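import Mathlib

/-!
# Arithmetic lemmas for Hall subgroups of symmetric groups (helper12)

Elementary number theory used in the classification of Hall subgroups of `S_n`, `A_n`
(Thompson 1966): Kummer-type no-carry consequences, a wreath-product valuation inequality,
a central binomial coefficient lemma for `2^k`, and the largest prime below `n`.
-/

set_option autoImplicit false

namespace Cfsg.Agent.Lib.Helper12.HallSymArith

open Nat

/-- Kummer: if `p ∤ C(a+b, a)` then adding `a` and `b` in base `p` has no carry. -/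
theorem no_carry_of_not_dvd {p a b : ℕ} (hp : p.Prime) (h : ¬ p ∣ (a + b).choose a) (i : ℕ) :
    a % p ^ i + b % p ^ i < p ^ i := by
  by_contra hc
  push Not at hc
  have hi : 1 ≤ i := by
    rcases Nat.eq_zero_or_pos i with rfl | h1
    · simp [Nat.mod_one] at hc
    · exact h1
  set B := max (i + 1) (Nat.log p (b + a) + 1) with hB
  have hlog : Nat.log p (b + a) < B := lt_of_lt_of_le (Nat.lt_succ_self _) (le_max_right _ _)
  have hm := Nat.Prime.emultiplicity_choose' (p := p) (n := b) (k := a) (b := B) hp hlog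
  have hmem : i ∈ (Finset.Ico 1 B).filter (fun i => p ^ i ≤ a % p ^ i + b % p ^ i) := by
    simp only [Finset.mem_filter, Finset.mem_Ico]
    exact ⟨⟨hi, lt_of_lt_of_le (Nat.lt_succ_self _) (le_max_left _ _)⟩, hc⟩
  have hpos : 0 < ((Finset.Ico 1 B).filter (fun i => p ^ i ≤ a % p ^ i + b % p ^ i)).card :=
    Finset.card_pos.mpr ⟨i, hmem⟩
  apply h
  rw [add_comm a b]
  have hne : emultiplicity p ((b + a).choose a) ≠ 0 := by
    rw [hm]
    exact_mod_cast hpos.ne'
  exact emultiplicity_ne_zero.mp hne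

theorem mod_of_dvd_add {q b j : ℕ} (hj : 1 ≤ j) (hjq : j ≤ q) (h : q ∣ b + j) :
    b % q = q - j := by
  obtain ⟨m, hm⟩ := h
  have hm0 : m ≠ 0 := by
    rintro rfl
    simp at hm
    omega
  obtain ⟨m', rfl⟩ := Nat.exists_eq_succ_of_ne_zero hm0
  have hb : b = q - j + q * m' := by
    rw [Nat.mul_succ] at hm
    omega
  rw [hb, Nat.add_mul_mod_self_left]
  exact Nat.mod_eq_of_lt (by omega)

theorem dvd_of_prime_pow {t X : ℕ}
    (h : ∀ p k : ℕ, p.Prime → 1 ≤ k → p ^ k ∣ t → p ^ k ∣ X) : t ∣ X := by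
  rw [Nat.dvd_iff_prime_pow_dvd_dvd]
  intro p k hp hpk
  rcases Nat.eq_zero_or_pos k with rfl | hk
  · simp
  · exact h p k hp hk hpk

theorem dvd_mul_pred_of_mod {a q : ℕ} (h : a % q = 0 ∨ a % q = 1) : q ∣ a * (a - 1) := by
  rcases h with h0 | h1
  · exact dvd_mul_of_dvd_left (Nat.dvd_of_mod_eq_zero h0) _
  · apply dvd_mul_of_dvd_right
    have hdm := Nat.div_add_mod a q
    rw [h1] at hdm
    have : a - 1 = q * (a / q) := by omega
    rw [this]
    exact dvd_mul_right _ _

theorem two_le_prime_pow {p k : ℕ} (hp : p.Prime) (hk : 1 ≤ k) : 2 ≤ p ^ k :=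
  calc 2 ≤ p := hp.two_le
    _ = p ^ 1 := (pow_one p).symm
    _ ≤ p ^ k := Nat.pow_le_pow_right hp.pos hk

/-- No prime `≤ b` divides `C(a+b,a)`. -/
def NC (a b : ℕ) : Prop := ∀ r : ℕ, r.Prime → r ≤ b → ¬ r ∣ (a + b).choose a

theorem NC.lt {a b : ℕ} (h : NC a b) {p : ℕ} (hp : p.Prime) (hpb : p ≤ b) (i : ℕ) :
    a % p ^ i + b % p ^ i < p ^ i :=
  no_carry_of_not_dvd hp (h p hp hpb) i

theorem NC.succ_prime {a b : ℕ} (h : NC a b) (ha : 1 ≤ a) (hab : a ≤ b) : (b + 1).Prime := by
  by_contra hnp
  have hdvd : (b + 1) ∣ a := by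
    apply dvd_of_prime_pow
    intro p k hp hk hpk
    have hpd : p ∣ b + 1 := dvd_trans (dvd_pow_self p (by omega)) hpk
    have hpb : p ≤ b := by
      have h1 : p ≤ b + 1 := Nat.le_of_dvd (by omega) hpd
      rcases Nat.lt_or_ge p (b + 1) with h2 | h2
      · omega
      · have e : p = b + 1 := le_antisymm h1 h2
        exact absurd (e ▸ hp) hnp
    have hq : 1 ≤ p ^ k := Nat.one_le_pow _ _ hp.pos
    have hmod := mod_of_dvd_add (le_refl 1) hq hpk
    have hlt := h.lt hp hpb k
    rw [hmod] at hlt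
    apply Nat.dvd_of_mod_eq_zero
    generalize p ^ k = q at hlt hq ⊢
    omega
  have := Nat.le_of_dvd (by omega) hdvd
  omega

theorem NC.add_prime {a b : ℕ} (h : NC a b) (ha : 1 ≤ a) (hab : a ≤ b) : (a + b).Prime := by
  by_contra hnp
  have hdvd : (a + b) ∣ a := by
    apply dvd_of_prime_pow
    intro p k hp hk hpk
    have hpd : p ∣ a + b := dvd_trans (dvd_pow_self p (by omega)) hpk
    have hpb : p ≤ b := by
      obtain ⟨m, hm⟩ := hpd
      have hm2 : 2 ≤ m := by
        by_contra hlt
        push Not at hlt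
        interval_cases m
        · omega
        · rw [mul_one] at hm
          exact hnp (hm ▸ hp)
      have : p * 2 ≤ p * m := Nat.mul_le_mul_left p hm2
      omega
    have hlt := h.lt hp hpb k
    have hmod : (a + b) % p ^ k = 0 := Nat.mod_eq_zero_of_dvd hpk
    rw [Nat.add_mod, Nat.mod_eq_of_lt hlt] at hmod
    apply Nat.dvd_of_mod_eq_zero
    generalize p ^ k = q at hlt hmod ⊢
    omega
  have := Nat.le_of_dvd (by omega) hdvd
  omega

theorem NC.succ_dvd {a b : ℕ} (h : NC a b) (hab : a + 1 ≤ b) : (a + 1) ∣ b := by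
  apply dvd_of_prime_pow
  intro p k hp hk hpk
  have hpd : p ∣ a + 1 := dvd_trans (dvd_pow_self p (by omega)) hpk
  have hpb : p ≤ b := le_trans (Nat.le_of_dvd (by omega) hpd) hab
  have hq : 1 ≤ p ^ k := Nat.one_le_pow _ _ hp.pos
  have hmod := mod_of_dvd_add (le_refl 1) hq hpk
  have hlt := h.lt hp hpb k
  rw [hmod] at hlt
  apply Nat.dvd_of_mod_eq_zero
  generalize p ^ k = q at hlt hq ⊢
  omega

theorem NC.pred_dvd {a b : ℕ} (h : NC a b) (ha : 2 ≤ a) (hab : a ≤ b) :
    (a + b - 1) ∣ a * (a - 1) := by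
  have hnp := h.add_prime (by omega) hab
  apply dvd_of_prime_pow
  intro p k hp hk hpk
  have hpd : p ∣ a + b - 1 := dvd_trans (dvd_pow_self p (by omega)) hpk
  have hpb : p ≤ b := by
    by_contra hlt
    push Not at hlt
    obtain ⟨m, hm⟩ := hpd
    have hm1 : m = 1 := by
      rcases Nat.lt_or_ge m 2 with h2 | h2
      · interval_cases m
        · omega
        · rfl
      · have : p * 2 ≤ p * m := Nat.mul_le_mul_left p h2
        omega
    subst hm1
    rw [mul_one] at hm
    have h1 : (a + b - 1).Prime := hm ▸ hp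
    rcases Nat.Prime.eq_two_or_odd h1 with e | e
    · omega
    · rcases Nat.Prime.eq_two_or_odd hnp with e2 | e2 <;> omega
  have hq2 : 2 ≤ p ^ k := two_le_prime_pow hp hk
  have hlt := h.lt hp hpb k
  have hmod : (a + b) % p ^ k = 1 := by
    obtain ⟨m, hm⟩ := hpk
    have : a + b = 1 + p ^ k * m := by omega
    rw [this, Nat.add_mul_mod_self_left]
    exact Nat.mod_eq_of_lt hq2
  rw [Nat.add_mod, Nat.mod_eq_of_lt hlt] at hmod
  apply dvd_mul_pred_of_mod
  generalize p ^ k = q at hlt hmod hq2 ⊢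
  omega

theorem NC.add_two_dvd {a b : ℕ} (h : NC a b) (ha : 2 ≤ a) (hab : a ≤ b) (hb3 : 3 ≤ b) :
    (b + 2) ∣ a * (a - 1) := by
  have hbp := h.succ_prime (by omega) hab
  apply dvd_of_prime_pow
  intro p k hp hk hpk
  have hpd : p ∣ b + 2 := dvd_trans (dvd_pow_self p (by omega)) hpk
  have hpb : p ≤ b := by
    have h1 : p ≤ b + 2 := Nat.le_of_dvd (by omega) hpd
    by_contra hlt
    push Not at hlt
    have hcases : p = b + 1 ∨ p = b + 2 := by omega
    rcases hcases with e | e
    · rw [e] at hpd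
      have h3 : b + 1 ∣ 1 := by
        have h4 : b + 1 ∣ (b + 1) + 1 := by
          have : b + 1 + 1 = b + 2 := by ring
          rw [this]; exact hpd
        exact (Nat.dvd_add_right (dvd_refl (b + 1))).mp h4
      have := Nat.le_of_dvd one_pos h3
      omega
    · have h2 : (b + 2).Prime := e ▸ hp
      rcases Nat.Prime.eq_two_or_odd h2 with e1 | e1
      · omega
      · rcases Nat.Prime.eq_two_or_odd hbp with e2 | e2 <;> omega
  have hq2 : 2 ≤ p ^ k := two_le_prime_pow hp hk
  have hmod := mod_of_dvd_add (by norm_num : 1 ≤ 2) hq2 hpk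
  have hlt := h.lt hp hpb k
  rw [hmod] at hlt
  apply dvd_mul_pred_of_mod
  generalize p ^ k = q at hlt hq2 ⊢
  omega

/-- **Key arithmetic lemma**: if `2 ≤ a ≤ b` and no prime `≤ b` divides `C(a+b, a)`, then
`(a, b) = (3, 4)`. -/
theorem NC.eq_three_four {a b : ℕ} (h : NC a b) (ha : 2 ≤ a) (hab : a ≤ b) : a = 3 ∧ b = 4 := by
  have hnp := h.add_prime (by omega) hab
  have hlt : a < b := by
    rcases Nat.lt_or_ge a b with h1 | h1
    · exact h1
    · have e : a = b := le_antisymm hab h1
      rw [← e] at hnp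
      rcases Nat.Prime.eq_two_or_odd hnp with h2 | h2 <;> omega
  have hb3 : 3 ≤ b := by omega
  obtain ⟨c, hc⟩ := h.succ_dvd hlt
  have hc1 : 1 ≤ c := by
    rcases Nat.eq_zero_or_pos c with rfl | h1
    · simp at hc; omega
    · exact h1
  have hD := h.pred_dvd ha hab
  have h6 := h.add_two_dvd ha hab hb3
  have hDz : ((a : ℤ) + b - 1) ∣ (a : ℤ) * ((a : ℤ) - 1) := by
    have h1 := Int.natCast_dvd_natCast.mpr hD
    rw [Nat.cast_mul, Nat.cast_sub (by omega : 1 ≤ a), Nat.cast_sub (by omega : 1 ≤ a + b),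
      Nat.cast_add] at h1
    simpa using h1
  have h6z : ((b : ℤ) + 2) ∣ (a : ℤ) * ((a : ℤ) - 1) := by
    have h1 := Int.natCast_dvd_natCast.mpr h6
    rw [Nat.cast_mul, Nat.cast_sub (by omega : 1 ≤ a), Nat.cast_add] at h1
    simpa using h1
  have hbz : (b : ℤ) = ((a : ℤ) + 1) * c := by exact_mod_cast hc
  have haz : (2 : ℤ) ≤ a := by exact_mod_cast ha
  have hcz : (1 : ℤ) ≤ c := by exact_mod_cast hc1
  rcases Nat.lt_or_ge c 2 with hc2 | hc2
  · have hc' : c = 1 := by omega
    subst hc'
    rw [mul_one] at hc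
    have h12 : ((a : ℤ) + 3) ∣ 12 := by
      have e : (12 : ℤ) = (a : ℤ) * ((a : ℤ) - 1) - ((a : ℤ) + 3) * ((a : ℤ) - 4) := by ring
      rw [e]
      refine dvd_sub ?_ (dvd_mul_right _ _)
      have : (b : ℤ) + 2 = (a : ℤ) + 3 := by rw [hbz]; push_cast; ring
      rw [← this]; exact h6z
    have h12n : (a + 3) ∣ 12 := by exact_mod_cast h12
    have hle : a + 3 ≤ 12 := Nat.le_of_dvd (by norm_num) h12n
    have ha9 : a ≤ 9 := by omega
    interval_cases a
    · exact absurd h12n (by decide)
    · exact ⟨rfl, by omega⟩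
    · exact absurd h12n (by decide)
    · exact absurd h12n (by decide)
    · exact absurd h12n (by decide)
    · exact absurd h12n (by decide)
    · exact absurd h12n (by decide)
    · exfalso
      have hb10 : b = 10 := by omega
      subst hb10
      exact h 2 Nat.prime_two (by norm_num) (by decide)
  · exfalso
    have hc2z : (2 : ℤ) ≤ c := by exact_mod_cast hc2
    have hposz : (0 : ℤ) < (a : ℤ) * ((a : ℤ) - 1) := by nlinarith
    have hlez : (a : ℤ) + b - 1 ≤ (a : ℤ) * ((a : ℤ) - 1) := Int.le_of_dvd hposz hDz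
    -- a ≥ c + 3
    have hac : (c : ℤ) + 3 ≤ a := by
      by_contra hcon
      push Not at hcon
      have h1 : (a : ℤ) ≤ c + 2 := by omega
      rcases (by omega : (a : ℤ) = 2 ∨ (a : ℤ) = 3 ∨ 4 ≤ (a : ℤ)) with e | e | e
      · rw [hbz, e] at hlez; nlinarith
      · rw [hbz, e] at hlez; nlinarith
      · rw [hbz] at hlez; nlinarith
    -- D ∣ 2c(c-1)
    set D : ℤ := (a : ℤ) + b - 1 with hDdef
    have hDeq : D = ((c : ℤ) + 1) * a + c - 1 := by rw [hDdef, hbz]; ring
    have hD2 : D ∣ 2 * (c : ℤ) * ((c : ℤ) - 1) := by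
      have e : 2 * (c : ℤ) * ((c : ℤ) - 1) =
          ((c : ℤ) + 1) ^ 2 * ((a : ℤ) * ((a : ℤ) - 1)) - D * (((c : ℤ) + 1) * a - 2 * c) := by
        rw [hDeq]; ring
      rw [e]
      exact dvd_sub (dvd_mul_of_dvd_right hDz _) (dvd_mul_right _ _)
    have hDpos : 0 < D := by rw [hDeq]; nlinarith
    have hNpos : (0 : ℤ) < 2 * (c : ℤ) * ((c : ℤ) - 1) := by nlinarith
    obtain ⟨k, hk⟩ := hD2
    have hk1 : k = 1 := by
      have hkpos : 0 < k := by
        by_contra hneg
        push Not at hneg
        nlinarith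
      have hklt : k < 2 := by
        by_contra hge
        push Not at hge
        have : D * 2 ≤ D * k := by nlinarith
        rw [hDeq] at this hk
        nlinarith
      omega
    rw [hk1, mul_one] at hk
    -- (c+1) * a = 2c^2 - 3c + 1
    have h1 : ((c : ℤ) + 1) * (a - 2 * c + 5) = 6 := by
      rw [hDeq] at hk; nlinarith
    have h2 : ((c : ℤ) + 1) ∣ 6 := Dvd.intro _ h1
    have h2n : (c + 1) ∣ 6 := by exact_mod_cast h2
    have hle6 : c + 1 ≤ 6 := Nat.le_of_dvd (by norm_num) h2n
    have hc5 : c ≤ 5 := by omega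
    interval_cases c <;> (simp at h1 hac; omega)


/-! ### The wreath product valuation inequality -/

/-- `(r-1) v_r(a!) + 1 ≤ a`, with equality only for powers of `r`. -/
theorem legendre_bound {r : ℕ} [hr : Fact r.Prime] : ∀ a : ℕ, 1 ≤ a →
    (r - 1) * padicValNat r a ! + 1 ≤ a ∧
      ((r - 1) * padicValNat r a ! + 1 = a → ∃ k, a = r ^ k) := by
  intro a
  induction a using Nat.strong_induction_on with
  | _ a ih =>
    intro ha
    have hr2 := hr.out.two_le
    rcases Nat.lt_or_ge a r with hlt | hge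
    · have hv : padicValNat r a ! = 0 := by
        apply padicValNat.eq_zero_of_not_dvd
        rw [hr.out.dvd_factorial]
        omega
      rw [hv, mul_zero]
      refine ⟨by omega, fun h => ⟨0, ?_⟩⟩
      rw [pow_zero]; omega
    · set m := a / r with hm
      have hm1 : 1 ≤ m := Nat.div_pos hge hr.out.pos
      have hma : m < a := Nat.div_lt_self (by omega) hr.out.one_lt
      have hv : padicValNat r a ! = padicValNat r m ! + m := by
        rw [← padicValNat_mul_div_factorial a, padicValNat_factorial_mul]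
      obtain ⟨ih1, ih2⟩ := ih m hma hm1
      have hrm : r * m ≤ a := Nat.mul_div_le a r
      have h1 : (r - 1) * m + m = r * m := by
        have : r - 1 + 1 = r := by omega
        calc (r - 1) * m + m = (r - 1 + 1) * m := by ring
          _ = r * m := by rw [this]
      have key : (r - 1) * padicValNat r a ! + 1 =
          ((r - 1) * padicValNat r m ! + 1) + (r - 1) * m := by
        rw [hv]; ring
      constructor
      · rw [key]
        generalize (r - 1) * padicValNat r m ! = u at ih1 ih2 ⊢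
        generalize (r - 1) * m = w at h1 ⊢
        generalize r * m = z at h1 hrm
        omega
      · intro heq
        rw [key] at heq
        have hm_eq : (r - 1) * padicValNat r m ! + 1 = m := by
          generalize (r - 1) * padicValNat r m ! = u at ih1 ih2 heq ⊢
          generalize (r - 1) * m = w at h1 heq ⊢
          generalize r * m = z at h1 hrm
          omega
        obtain ⟨k, hk⟩ := ih2 hm_eq
        refine ⟨k + 1, ?_⟩
        have : a = r * m := by
          generalize (r - 1) * padicValNat r m ! = u at ih1 ih2 heq hm_eq ⊢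
          generalize (r - 1) * m = w at h1 heq ⊢
          generalize r * m = z at h1 hrm ⊢
          omega
        rw [this, hk, pow_succ]; ring

/-- one step of the monotonicity: `v((a(b+1))!) = v((ab)!) + v(a!) + v(b+1) + v(C(a(b+1)-1, a-1))`. -/
theorem val_step {r : ℕ} [hr : Fact r.Prime] (a b : ℕ) (ha : 1 ≤ a) :
    padicValNat r (a * b)! + padicValNat r a ! + padicValNat r (b + 1) ≤
      padicValNat r (a * (b + 1))! := by
  have h1 : (a * b + a).choose a * (a * b)! * a ! = (a * b + a)! :=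
    Nat.add_choose_mul_factorial_mul_factorial (a * b) a
  -- C(ab+a, a) * a = (ab+a) * C(ab+a-1, a-1)
  obtain ⟨a', rfl⟩ : ∃ a', a = a' + 1 := ⟨a - 1, by omega⟩
  have h2 : ((a' + 1) * b + a' + 1) * ((a' + 1) * b + a').choose a' =
      ((a' + 1) * b + a' + 1).choose (a' + 1) * (a' + 1) :=
    Nat.add_one_mul_choose_eq ((a' + 1) * b + a') a'
  have h3 : ((a' + 1) * b + (a' + 1)).choose (a' + 1) =
      (b + 1) * ((a' + 1) * b + a').choose a' := by
    have h4 : ((a' + 1) * b + a' + 1) = (a' + 1) * (b + 1) := by ring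
    rw [h4] at h2
    have h5 : (a' + 1) * ((b + 1) * ((a' + 1) * b + a').choose a') =
        (a' + 1) * ((a' + 1) * (b + 1)).choose (a' + 1) := by
      rw [← mul_assoc, h2]; ring
    have h6 := Nat.eq_of_mul_eq_mul_left (by omega : 0 < a' + 1) h5
    have h7 : (a' + 1) * b + (a' + 1) = (a' + 1) * (b + 1) := by ring
    rw [h7]; exact h6.symm
  have hmul : (a' + 1) * (b + 1) = (a' + 1) * b + (a' + 1) := by ring
  rw [hmul, ← h1, h3]
  have hc0 : ((a' + 1) * b + a').choose a' ≠ 0 :=
    (Nat.choose_pos (by omega)).ne'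
  rw [padicValNat.mul (by positivity) (Nat.factorial_ne_zero _),
    padicValNat.mul (by positivity) (Nat.factorial_ne_zero _),
    padicValNat.mul (by omega) hc0]
  omega

/-- If `v_r((ab)!) ≤ b v_r(a!) + v_r(b!)` then `a` is a power of `r` or `b < r`. -/
theorem wreath_val {r a b : ℕ} (hr : r.Prime) (ha : 1 ≤ a)
    (h : padicValNat r (a * b)! ≤ b * padicValNat r a ! + padicValNat r b !) :
    (∃ k, a = r ^ k) ∨ b < r := by
  have : Fact r.Prime := ⟨hr⟩
  by_contra hcon
  push Not at hcon
  obtain ⟨hnp, hrb⟩ := hcon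
  -- claim: for all b ≥ r, strict inequality the other way
  have claim : ∀ b, r ≤ b →
      b * padicValNat r a ! + padicValNat r b ! + 1 ≤ padicValNat r (a * b)! := by
    intro b hb
    induction b, hb using Nat.le_induction with
    | base =>
      have h1 : padicValNat r (a * r)! = padicValNat r a ! + a := by
        rw [mul_comm, padicValNat_factorial_mul]
      have h2 : padicValNat r r ! = 1 := by
        have := padicValNat_factorial_mul (p := r) 1
        rw [mul_one] at this
        rw [this]; simp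
      obtain ⟨hb1, hb2⟩ := legendre_bound (r := r) a ha
      have hne : (r - 1) * padicValNat r a ! + 1 ≠ a := fun e => by
        obtain ⟨k, hk⟩ := hb2 e
        exact hnp k hk
      rw [h1, h2]
      have h3 : (r - 1) * padicValNat r a ! + padicValNat r a ! = r * padicValNat r a ! := by
        have : r - 1 + 1 = r := by have := hr.two_le; omega
        calc (r - 1) * padicValNat r a ! + padicValNat r a !
            = (r - 1 + 1) * padicValNat r a ! := by ring
          _ = r * padicValNat r a ! := by rw [this]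
      generalize (r - 1) * padicValNat r a ! = u at hb1 hne h3
      generalize r * padicValNat r a ! = w at h3 ⊢
      omega
    | succ b hb ih =>
      have hs := val_step (r := r) a b ha
      have h4 : padicValNat r (b + 1)! = padicValNat r (b + 1) + padicValNat r b ! := by
        rw [Nat.factorial_succ, padicValNat.mul (by omega) (Nat.factorial_ne_zero _)]
      rw [h4]
      have h5 : (b + 1) * padicValNat r a ! = b * padicValNat r a ! + padicValNat r a ! := by ring
      rw [h5]
      omega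
  have := claim b hrb
  omega

/-- `(a!)^b * b! ∣ (ab)!` in valuation form. -/
theorem wreath_val_ge {r : ℕ} [hr : Fact r.Prime] (a : ℕ) (ha : 1 ≤ a) : ∀ b : ℕ,
    b * padicValNat r a ! + padicValNat r b ! ≤ padicValNat r (a * b)! := by
  intro b
  induction b with
  | zero => simp
  | succ b ih =>
    have hs := val_step (r := r) a b ha
    have h4 : padicValNat r (b + 1)! = padicValNat r (b + 1) + padicValNat r b ! := by
      rw [Nat.factorial_succ, padicValNat.mul (by omega) (Nat.factorial_ne_zero _)]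
    rw [h4]
    have h5 : (b + 1) * padicValNat r a ! = b * padicValNat r a ! + padicValNat r a ! := by ring
    rw [h5]
    omega

/-! ### Binomial valuations -/

theorem val_choose_add {r : ℕ} [hr : Fact r.Prime] (a b : ℕ) :
    padicValNat r (a + b)! =
      padicValNat r ((a + b).choose a) + padicValNat r a ! + padicValNat r b ! := by
  have h1 : (b + a).choose a * b ! * a ! = (b + a)! :=
    Nat.add_choose_mul_factorial_mul_factorial b a
  rw [add_comm a b, ← h1,
    padicValNat.mul (by
      have := (Nat.choose_pos (show a ≤ b + a by omega)).ne'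
      positivity) (Nat.factorial_ne_zero _),
    padicValNat.mul (Nat.choose_pos (by omega)).ne' (Nat.factorial_ne_zero _)]
  omega

/-- two parts -/
theorem not_dvd_choose_of_val {r : ℕ} (hr : r.Prime) (a b : ℕ)
    (h : padicValNat r (a + b)! ≤ padicValNat r a ! + padicValNat r b !) :
    ¬ r ∣ (a + b).choose a := by
  have : Fact r.Prime := ⟨hr⟩
  have h1 := val_choose_add (r := r) a b
  rw [dvd_iff_padicValNat_ne_zero (Nat.choose_pos (by omega)).ne']
  omega

/-- three parts -/
theorem not_dvd_choose_of_val₃ {r : ℕ} (hr : r.Prime) (a b c : ℕ)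
    (h : padicValNat r (a + b + c)! ≤ padicValNat r a ! + padicValNat r b ! + padicValNat r c !) :
    ¬ r ∣ (a + b).choose a := by
  have : Fact r.Prime := ⟨hr⟩
  have h1 := val_choose_add (r := r) a b
  have h2 := val_choose_add (r := r) (a + b) c
  rw [dvd_iff_padicValNat_ne_zero (Nat.choose_pos (by omega)).ne']
  omega

/-! ### The central binomial coefficient of `2^k` -/

theorem dvd_centralChoose_of_carry {r a : ℕ} (hr : r.Prime) (h : r ≤ a % r + a % r) :
    r ∣ (a + a).choose a := by
  by_contra hnd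
  have := no_carry_of_not_dvd hr hnd 1
  rw [pow_one] at this
  omega

theorem two_pow_add_one_eq_three_pow {m j : ℕ} (hm : 2 ≤ m) (h : 2 ^ m + 1 = 3 ^ j) : m = 3 := by
  -- 3^j ≡ 1 mod 4 so j even
  have h4 : 4 ∣ 2 ^ m := by
    obtain ⟨m', rfl⟩ : ∃ m', m = m' + 2 := ⟨m - 2, by omega⟩
    rw [pow_add]; exact Dvd.intro_left _ rfl
  have hj : Even j := by
    by_contra hodd
    rw [Nat.not_even_iff_odd] at hodd
    obtain ⟨i, rfl⟩ := hodd
    have h9 : (3 : ℕ) ^ (2 * i + 1) % 4 = 3 := by
      rw [pow_succ, pow_mul, Nat.mul_mod, Nat.pow_mod]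
      norm_num
    generalize 2 ^ m = x at h h4
    generalize 3 ^ (2 * i + 1) = y at h h9
    omega
  obtain ⟨i, rfl⟩ := hj
  have hfac : (3 ^ i - 1) * (3 ^ i + 1) = 2 ^ m := by
    have h1 : 1 ≤ 3 ^ i := Nat.one_le_pow _ _ (by norm_num)
    have h2 : 3 ^ (i + i) = 3 ^ i * 3 ^ i := pow_add _ _ _
    zify [h1] at h2 h ⊢
    rw [h2] at h
    linear_combination -h
  have hd1 : (3 ^ i - 1) ∣ 2 ^ m := Dvd.intro _ hfac
  have hd2 : (3 ^ i + 1) ∣ 2 ^ m := Dvd.intro_left _ hfac
  obtain ⟨u, hu, hu'⟩ := (Nat.dvd_prime_pow Nat.prime_two).mp hd1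
  obtain ⟨w, hw, hw'⟩ := (Nat.dvd_prime_pow Nat.prime_two).mp hd2
  have h1 : 1 ≤ 3 ^ i := Nat.one_le_pow _ _ (by norm_num)
  have hdiff : 2 ^ w = 2 ^ u + 2 := by omega
  -- u = 1
  have hu1 : u = 1 := by
    rcases Nat.lt_or_ge u 2 with h2 | h2
    · interval_cases u
      · -- 2^w = 3 impossible
        exfalso
        rcases Nat.lt_or_ge w 2 with h3 | h3
        · interval_cases w <;> simp at hdiff
        · have : 4 ∣ 2 ^ w := by
            obtain ⟨w', rfl⟩ : ∃ w', w = w' + 2 := ⟨w - 2, by omega⟩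
            rw [pow_add]; exact Dvd.intro_left _ rfl
          omega
      · rfl
    · exfalso
      have h4u : 4 ∣ 2 ^ u := by
        obtain ⟨u', rfl⟩ : ∃ u', u = u' + 2 := ⟨u - 2, by omega⟩
        rw [pow_add]; exact Dvd.intro_left _ rfl
      have hwu : 2 ≤ w := by
        by_contra hlt
        push Not at hlt
        have : 2 ^ u ≥ 4 := Nat.le_of_dvd (by positivity) h4u
        interval_cases w <;> omega
      have h4w : 4 ∣ 2 ^ w := by
        obtain ⟨w', rfl⟩ : ∃ w', w = w' + 2 := ⟨w - 2, by omega⟩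
        rw [pow_add]; exact Dvd.intro_left _ rfl
      omega
  subst hu1
  -- 3^i = 3, so 2^m = 2 * 4 = 8
  have h3i : 3 ^ i = 3 := by omega
  rw [h3i] at hfac
  have : 2 ^ m = 2 ^ 3 := by rw [← hfac]; norm_num
  exact Nat.pow_right_injective (le_refl 2) this

/-- For `k ≥ 3` some odd prime `r ≤ 2^k` divides `C(2^(k+1), 2^k)`. -/
theorem exists_odd_prime_dvd_two_pow {k : ℕ} (hk : 3 ≤ k) :
    ∃ r : ℕ, r.Prime ∧ r ≠ 2 ∧ r ≤ 2 ^ k ∧ r ∣ (2 ^ k + 2 ^ k).choose (2 ^ k) := by
  set a := 2 ^ k with ha
  have ha8 : 8 ≤ a := by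
    calc 8 = 2 ^ 3 := by norm_num
      _ ≤ 2 ^ k := Nat.pow_le_pow_right (by norm_num) hk
  have haeven : a % 2 = 0 := by
    obtain ⟨k', rfl⟩ : ∃ k', k = k' + 1 := ⟨k - 1, by omega⟩
    rw [ha, pow_succ]; omega
  by_cases hp1 : (a + 1).Prime
  · -- Fermat prime case
    obtain ⟨k', rfl⟩ : ∃ k', k = k' + 1 := ⟨k - 1, by omega⟩
    set M := 2 ^ k' + 1 with hM
    have haM : a + 2 = 2 * M := by rw [ha, hM, pow_succ]; ring
    have hModd : M % 2 = 1 := by
      obtain ⟨k'', rfl⟩ : ∃ k'', k' = k'' + 1 := ⟨k' - 1, by omega⟩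
      rw [hM, pow_succ]; omega
    by_cases hex : ∃ r : ℕ, r.Prime ∧ r ∣ M ∧ r ≠ 3
    · obtain ⟨r, hr, hrM, hr3⟩ := hex
      have hr2 : r ≠ 2 := by
        rintro rfl
        omega
      have hr5 : 5 ≤ r := by
        have := hr.two_le
        rcases (by omega : r = 4 ∨ 5 ≤ r) with e | e
        · subst e; exact absurd hr (by decide)
        · exact e
      have hrle : r ≤ a := by
        have h1 : r ≤ M := Nat.le_of_dvd (by omega) hrM
        omega
      refine ⟨r, hr, hr2, hrle, ?_⟩
      apply dvd_centralChoose_of_carry hr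
      have hd : r ∣ a + 2 := by rw [haM]; exact dvd_mul_of_dvd_right hrM _
      have := mod_of_dvd_add (by norm_num : 1 ≤ 2) (by omega : 2 ≤ r) hd
      omega
    · push Not at hex
      -- M is a power of 3
      have hMpow : M = 3 ^ M.primeFactorsList.length :=
        Nat.eq_prime_pow_of_unique_prime_dvd (by omega) (fun {d} hd hdM => hex d hd hdM)
      have hk'2 : 2 ≤ k' := by omega
      have := two_pow_add_one_eq_three_pow hk'2 (by rw [← hM]; exact hMpow)
      subst this
      refine ⟨3, Nat.prime_three, by norm_num, by omega, ?_⟩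
      rw [ha]; decide
  · -- a + 1 composite: take its least prime factor
    refine ⟨(a + 1).minFac, Nat.minFac_prime (by omega), ?_, ?_, ?_⟩
    · intro h2
      have : 2 ∣ a + 1 := h2 ▸ Nat.minFac_dvd (a + 1)
      omega
    · have h1 : (a + 1).minFac ≤ a + 1 := Nat.minFac_le (by omega)
      rcases Nat.lt_or_ge (a + 1).minFac (a + 1) with h2 | h2
      · omega
      · exfalso
        apply hp1
        have e : (a + 1).minFac = a + 1 := le_antisymm h1 h2
        rw [← e]
        exact Nat.minFac_prime (by omega)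
    · apply dvd_centralChoose_of_carry (Nat.minFac_prime (by omega))
      have hd : (a + 1).minFac ∣ a + 1 := Nat.minFac_dvd _
      have h2 : 2 ≤ (a + 1).minFac := (Nat.minFac_prime (by omega)).two_le
      have := mod_of_dvd_add (le_refl 1) (by omega) hd
      omega

/-! ### The largest prime below `n` -/

theorem exists_largest_prime {n : ℕ} (hn : 2 ≤ n) :
    ∃ p, p.Prime ∧ p ≤ n ∧ n < 2 * p ∧ ∀ q : ℕ, q.Prime → q ≤ n → q ≤ p := by
  have hne : ((Finset.range (n + 1)).filter Nat.Prime).Nonempty :=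
    ⟨2, by simp [Nat.prime_two]; omega⟩
  set p := ((Finset.range (n + 1)).filter Nat.Prime).max' hne with hp
  have hmem := Finset.max'_mem _ hne
  rw [← hp, Finset.mem_filter, Finset.mem_range] at hmem
  have hmax : ∀ q : ℕ, q.Prime → q ≤ n → q ≤ p := by
    intro q hq hqn
    apply Finset.le_max'
    simp [hq]; omega
  refine ⟨p, hmem.2, by omega, ?_, hmax⟩
  by_contra hcon
  push Not at hcon
  obtain ⟨q, hq, hpq, hq2⟩ := Nat.exists_prime_lt_and_le_two_mul p hmem.2.ne_zero
  have := hmax q hq (by omega)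
  omega

end Cfsg.Agent.Lib.Helper12.HallSymArith
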