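import Mathlib
import Cfsg.Prelude.Def_HallClasses
import Cfsg.Agent.Lib.Helper1.HallUniversal

/-!
# Hall subgroups of symmetric/alternating groups: basic API (helper12)

General lemmas about relative Hall subgroups (`Cfsg.IsPiHallOf`), the setwise stabiliser of a
finset in `Perm α`, restriction of permutation groups to an invariant finset, and the class
`XOK` of ambient groups (`⊤` or the alternating group).
-/

set_option autoImplicit false
set_option linter.style.haveILetI false
set_option linter.unusedSectionVars false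

namespace Cfsg.Agent.Lib.Helper12.HallSym

open Equiv Equiv.Perm

section General

variable {G : Type*} [Group G] [Finite G]

theorem card_eq_card_mul_relIndex {H X : Subgroup G} (h : H ≤ X) :
    Nat.card X = Nat.card H * H.relIndex X := by
  rw [Subgroup.relIndex, ← Subgroup.card_mul_index (H.subgroupOf X)]
  congr 1
  exact Nat.card_congr (Subgroup.subgroupOfEquivOfLe h).toEquiv

theorem relIndex_ne_zero' (H X : Subgroup G) : H.relIndex X ≠ 0 :=
  Subgroup.index_ne_zero_of_finite

theorem hallOf_mono {π : Set ℕ} {H X Y : Subgroup G} (h : Cfsg.IsPiHallOf π H X)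
    (hHY : H ≤ Y) (hYX : Y ≤ X) : Cfsg.IsPiHallOf π H Y := by
  refine ⟨hHY, h.2.1, fun p hp hpπ hd => h.2.2 p hp hpπ ?_⟩
  rw [← Subgroup.relIndex_mul_relIndex H Y X hHY hYX]
  exact dvd_mul_of_dvd_left hd _

omit [Finite G] in
theorem relIndex_map_dvd {G' : Type*} [Group G'] {H X : Subgroup G} (f : G →* G') (h : H ≤ X) :
    (H.map f).relIndex (X.map f) ∣ H.relIndex X := by
  have hsurj := f.subgroupMap_surjective X
  have hmap : (H.subgroupOf X).map (f.subgroupMap X) = (H.map f).subgroupOf (X.map f) := by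
    ext ⟨y, hy⟩
    simp only [Subgroup.mem_map, Subgroup.mem_subgroupOf]
    constructor
    · rintro ⟨x, hx, hxy⟩
      refine ⟨x.1, hx, ?_⟩
      have := congrArg Subtype.val hxy
      simpa using this
    · rintro ⟨x, hx, hxy⟩
      refine ⟨⟨x, h hx⟩, hx, ?_⟩
      apply Subtype.ext
      simpa using hxy
  rw [Subgroup.relIndex, ← hmap]
  exact Subgroup.index_map_dvd _ hsurj

omit [Finite G] in
theorem hallOf_map {G' : Type*} [Group G'] {π : Set ℕ} {H X : Subgroup G} (f : G →* G')
    (h : Cfsg.IsPiHallOf π H X) : Cfsg.IsPiHallOf π (H.map f) (X.map f) :=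
  ⟨Subgroup.map_mono h.1,
    fun p hp hd => h.2.1 p hp (dvd_trans hd (Subgroup.card_map_dvd H f)),
    fun p hp hpπ hd => h.2.2 p hp hpπ (dvd_trans hd (relIndex_map_dvd f h.1))⟩

theorem hallOf_val {π : Set ℕ} {H X : Subgroup G} (h : Cfsg.IsPiHallOf π H X) {r : ℕ}
    (hr : r.Prime) (hrπ : r ∈ π) :
    padicValNat r (Nat.card X) = padicValNat r (Nat.card H) := by
  haveI : Fact r.Prime := ⟨hr⟩
  rw [card_eq_card_mul_relIndex h.1, padicValNat.mul Nat.card_pos.ne' (relIndex_ne_zero' H X),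
    padicValNat.eq_zero_of_not_dvd (h.2.2 r hr hrπ), add_zero]

theorem hallOf_of_val {π : Set ℕ} {H X : Subgroup G} (hle : H ≤ X)
    (hpi : ∀ p : ℕ, p.Prime → p ∣ Nat.card H → p ∈ π)
    (hv : ∀ r : ℕ, r.Prime → r ∈ π →
      padicValNat r (Nat.card X) ≤ padicValNat r (Nat.card H)) : Cfsg.IsPiHallOf π H X := by
  refine ⟨hle, hpi, fun r hr hrπ hd => ?_⟩
  haveI : Fact r.Prime := ⟨hr⟩
  have h1 := hv r hr hrπ
  rw [card_eq_card_mul_relIndex hle,
    padicValNat.mul Nat.card_pos.ne' (relIndex_ne_zero' H X)] at h1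
  have h2 : padicValNat r (H.relIndex X) ≠ 0 :=
    (dvd_iff_padicValNat_ne_zero (relIndex_ne_zero' H X)).mp hd
  omega

theorem exists_conj_mem {π : Set ℕ} {H X : Subgroup G} (h : Cfsg.IsPiHallOf π H X) {r : ℕ}
    (hr : r.Prime) (hrπ : r ∈ π) (g : G) (hg : g ∈ X) (k : ℕ) (hgk : g ^ r ^ k = 1) :
    ∃ x ∈ X, x * g * x⁻¹ ∈ H := by
  haveI : Fact r.Prime := ⟨hr⟩
  obtain ⟨x, hx⟩ := Cfsg.Agent.Lib.Helper1.HallUniversal.exists_conj_mem_of_pow_eq_one
    (G := ↥X) (ℓ := r) (H.subgroupOf X) (h.2.2 r hr hrπ) ⟨g, hg⟩ k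
    (Subtype.ext (by simpa using hgk))
  refine ⟨x.1, x.2, ?_⟩
  simpa [Subgroup.mem_subgroupOf] using hx

theorem hallOf_eq {π : Set ℕ} {H X : Subgroup G} (h : Cfsg.IsPiHallOf π H X)
    (hall : ∀ p : ℕ, p.Prime → p ∣ Nat.card X → p ∈ π) : H = X := by
  have h1 : H.relIndex X = 1 := by
    by_contra hne
    obtain ⟨p, hp, hpd⟩ := Nat.exists_prime_and_dvd hne
    exact h.2.2 p hp (hall p hp (dvd_trans hpd (Subgroup.relIndex_dvd_card H X))) hpd
  exact le_antisymm h.1 (Subgroup.relIndex_eq_one.mp h1)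

omit [Finite G] in
theorem hallOf_top_iff {π : Set ℕ} {H : Subgroup G} :
    Cfsg.IsPiHallOf π H ⊤ ↔ Cfsg.IsPiHall π H := by
  unfold Cfsg.IsPiHallOf Cfsg.IsPiHall
  rw [Subgroup.relIndex_top_right]
  exact ⟨fun h => ⟨h.2.1, h.2.2⟩, fun h => ⟨le_top, h.1, h.2⟩⟩

/-- a prime of `π` dividing the order of `X` divides the order of the Hall subgroup -/
theorem dvd_card_of_hallOf {π : Set ℕ} {H X : Subgroup G} (h : Cfsg.IsPiHallOf π H X) {r : ℕ}
    (hr : r.Prime) (hrπ : r ∈ π) (hd : r ∣ Nat.card X) : r ∣ Nat.card H := by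
  haveI : Fact r.Prime := ⟨hr⟩
  have h1 := hallOf_val h hr hrπ
  rw [dvd_iff_padicValNat_ne_zero Nat.card_pos.ne'] at hd ⊢
  omega

end General

section Perm

variable {α : Type*} [Fintype α] [DecidableEq α]

/-- the admissible ambient groups: the full symmetric group, and (if `A`) the alternating group -/
def XOK (A : Prop) (X : Subgroup (Perm α)) : Prop := X = ⊤ ∨ (A ∧ X = alternatingGroup α)

/-- setwise stabiliser of a finset -/
def stabS (S : Finset α) : Subgroup (Perm α) where
  carrier := {g | ∀ x, g x ∈ S ↔ x ∈ S}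
  one_mem' := fun x => by simp
  mul_mem' := by
    intro a b ha hb x
    have h1 := ha (b x)
    have h2 := hb x
    simp only [Perm.mul_apply]
    exact h1.trans h2
  inv_mem' := by
    intro a ha x
    have := ha (a⁻¹ x)
    rw [show a (a⁻¹ x) = x from by simp] at this
    exact this.symm

theorem mem_stabS {S : Finset α} {g : Perm α} : g ∈ stabS S ↔ ∀ x, g x ∈ S ↔ x ∈ S := Iff.rfl

/-- restriction to an invariant finset -/
def resS (S : Finset α) : stabS S →* Perm {x // x ∈ S} where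
  toFun g := Perm.subtypePerm g.1 (fun x => g.2 x)
  map_one' := by
    ext x
    rfl
  map_mul' := by
    intro a b
    ext x
    rfl

theorem resS_apply (S : Finset α) (g : stabS S) (x : {x // x ∈ S}) :
    ((resS S g) x : α) = g.1 x.1 := rfl

/-- the group induced on an invariant finset -/
def resG (S : Finset α) (Z : Subgroup (Perm α)) : Subgroup (Perm {x // x ∈ S}) :=
  (Z.subgroupOf (stabS S)).map (resS S)

theorem mem_resG {S : Finset α} {Z : Subgroup (Perm α)} {τ : Perm {x // x ∈ S}} :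
    τ ∈ resG S Z ↔ ∃ g : Perm α, ∃ hg : g ∈ stabS S, g ∈ Z ∧ resS S ⟨g, hg⟩ = τ := by
  unfold resG
  simp only [Subgroup.mem_map, Subgroup.mem_subgroupOf]
  constructor
  · rintro ⟨x, hx, rfl⟩
    exact ⟨x.1, x.2, hx, rfl⟩
  · rintro ⟨g, hg, hgZ, rfl⟩
    exact ⟨⟨g, hg⟩, hgZ, rfl⟩

theorem hallOf_resG {π : Set ℕ} {H Z : Subgroup (Perm α)} (S : Finset α)
    (h : Cfsg.IsPiHallOf π H Z) (hZ : Z ≤ stabS S) :
    Cfsg.IsPiHallOf π (resG S H) (resG S Z) := by
  apply hallOf_map
  refine ⟨Subgroup.comap_mono h.1, ?_, ?_⟩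
  · intro p hp hd
    apply h.2.1 p hp
    rwa [Nat.card_congr (Subgroup.subgroupOfEquivOfLe (h.1.trans hZ)).toEquiv] at hd
  · intro p hp hpπ
    rw [Subgroup.relIndex_subgroupOf hZ]
    exact h.2.2 p hp hpπ

theorem ofSubtype_mem_stabS (S : Finset α) (τ : Perm {x // x ∈ S}) :
    Perm.ofSubtype τ ∈ stabS S := by
  intro x
  by_cases hx : x ∈ S
  · rw [Perm.ofSubtype_apply_of_mem τ hx]
    exact ⟨fun _ => hx, fun _ => (τ ⟨x, hx⟩).2⟩
  · rw [Perm.ofSubtype_apply_of_not_mem τ hx]

theorem resS_ofSubtype (S : Finset α) (τ : Perm {x // x ∈ S}) :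
    resS S ⟨Perm.ofSubtype τ, ofSubtype_mem_stabS S τ⟩ = τ :=
  Perm.subtypePerm_ofSubtype τ

theorem eq_top_or_alt {β : Type*} [Fintype β] [DecidableEq β] (K : Subgroup (Perm β))
    (h : alternatingGroup β ≤ K) : K = ⊤ ∨ K = alternatingGroup β := by
  by_cases hodd : ∃ g ∈ K, Perm.sign g = -1
  · left
    obtain ⟨g, hg, hs⟩ := hodd
    rw [eq_top_iff]
    intro σ _
    rcases Int.units_eq_one_or (Perm.sign σ) with h1 | h1
    · exact h (Perm.mem_alternatingGroup.mpr h1)
    · have h2 : σ * g⁻¹ ∈ alternatingGroup β := by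
        rw [Perm.mem_alternatingGroup, Perm.sign_mul, Perm.sign_inv, h1, hs]
        simp
      have := K.mul_mem (h h2) hg
      simpa using this
  · right
    push Not at hodd
    apply le_antisymm _ h
    intro g hg
    rcases Int.units_eq_one_or (Perm.sign g) with h1 | h1
    · exact Perm.mem_alternatingGroup.mpr h1
    · exact absurd h1 (hodd g hg)

theorem xok_resG {A : Prop} {X Z : Subgroup (Perm α)} (S : Finset α) (hX : XOK A X)
    (hZ : ∀ τ : Perm {x // x ∈ S},
      (X = ⊤ ∨ τ ∈ alternatingGroup {x // x ∈ S}) → Perm.ofSubtype τ ∈ Z) :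
    XOK A (resG S Z) := by
  have key : ∀ τ : Perm {x // x ∈ S}, Perm.ofSubtype τ ∈ Z → τ ∈ resG S Z := by
    intro τ hτ
    rw [mem_resG]
    exact ⟨Perm.ofSubtype τ, ofSubtype_mem_stabS S τ, hτ, resS_ofSubtype S τ⟩
  rcases hX with hX | ⟨hA, hX⟩
  · left
    rw [eq_top_iff]
    intro τ _
    exact key τ (hZ τ (Or.inl hX))
  · have hle : alternatingGroup {x // x ∈ S} ≤ resG S Z := fun τ hτ => key τ (hZ τ (Or.inr hτ))
    rcases eq_top_or_alt _ hle with h1 | h1
    · exact Or.inl h1
    · exact Or.inr ⟨hA, h1⟩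

/-- the ambient group induced on an invariant finset is again admissible -/
theorem xok_resG_stab {A : Prop} {X : Subgroup (Perm α)} (S : Finset α) (hX : XOK A X) :
    XOK A (resG S (X ⊓ stabS S)) := by
  apply xok_resG S hX
  intro τ hτ
  refine Subgroup.mem_inf.mpr ⟨?_, ofSubtype_mem_stabS S τ⟩
  rcases hX with hX | ⟨_, hX⟩
  · rw [hX]; exact Subgroup.mem_top _
  · rcases hτ with hτ | hτ
    · rw [hτ]; exact Subgroup.mem_top _
    · rw [hX, Perm.mem_alternatingGroup, Perm.sign_ofSubtype]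
      exact Perm.mem_alternatingGroup.mp hτ

theorem pretransitive_resG {H : Subgroup (Perm α)} {S : Finset α} (hS : H ≤ stabS S)
    (htr : ∀ x ∈ S, ∀ y ∈ S, ∃ h ∈ H, h x = y) :
    MulAction.IsPretransitive ↥(resG S H) {x // x ∈ S} := by
  refine ⟨fun x y => ?_⟩
  obtain ⟨h, hh, e⟩ := htr x.1 x.2 y.1 y.2
  refine ⟨⟨resS S ⟨h, hS hh⟩, mem_resG.mpr ⟨h, hS hh, hh, rfl⟩⟩, ?_⟩
  apply Subtype.ext
  exact e

theorem pretransitive_iff (H : Subgroup (Perm α)) :
    MulAction.IsPretransitive ↥H α ↔ ∀ x y : α, ∃ h ∈ H, h x = y := by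
  constructor
  · intro h x y
    obtain ⟨g, hg⟩ := h.exists_smul_eq x y
    exact ⟨g.1, g.2, hg⟩
  · intro h
    refine ⟨fun x y => ?_⟩
    obtain ⟨g, hg, e⟩ := h x y
    exact ⟨⟨g, hg⟩, e⟩

/-! ### Orders -/

theorem index_mul_card_perm (X : Subgroup (Perm α)) :
    X.index * Nat.card X = (Fintype.card α).factorial := by
  rw [Subgroup.index_mul_card, Nat.card_eq_fintype_card, Fintype.card_perm]

theorem index_xok {A : Prop} {X : Subgroup (Perm α)} (hX : XOK A X) : X.index = 1 ∨ X.index = 2 := by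
  rcases hX with hX | ⟨_, hX⟩
  · left; rw [hX]; exact Subgroup.index_top
  · rcases subsingleton_or_nontrivial α with h | h
    · left
      rw [hX, Subgroup.index_eq_one]
      rw [eq_top_iff]
      intro g _
      rw [Perm.mem_alternatingGroup]
      have : g = 1 := Subsingleton.elim _ _
      rw [this]; simp
    · right; rw [hX]; exact alternatingGroup.index_eq_two

/-- order of `X ⊓ Y` when `Y` is not contained in the alternating group -/
theorem index_mul_card_inf {A : Prop} {X : Subgroup (Perm α)} (hX : XOK A X)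
    (Y : Subgroup (Perm α)) (hY : X = ⊤ ∨ ∃ g ∈ Y, Perm.sign g = -1) :
    X.index * Nat.card (X ⊓ Y : Subgroup (Perm α)) = Nat.card Y := by
  rcases hX with hX | ⟨_, hX⟩
  · rw [hX, Subgroup.index_top, one_mul, top_inf_eq]
  · rcases hY with hY | ⟨g, hg, hs⟩
    · rw [hY, Subgroup.index_top, one_mul, top_inf_eq]
    · have hnt : Nontrivial α := by
        by_contra hnt
        rw [not_nontrivial_iff_subsingleton] at hnt
        have : g = 1 := Subsingleton.elim _ _
        rw [this] at hs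
        simp at hs
      rw [hX, alternatingGroup.index_eq_two]
      have h1 : (alternatingGroup α ⊓ Y).relIndex Y = 2 := by
        rw [Subgroup.inf_relIndex_right]
        have hd : (alternatingGroup α).relIndex Y ∣ 2 := by
          rw [← alternatingGroup.index_eq_two (α := α)]
          exact Subgroup.relIndex_dvd_index_of_normal _ _
        rcases (Nat.dvd_prime Nat.prime_two).mp hd with h1 | h2
        · exfalso
          rw [Subgroup.relIndex_eq_one] at h1
          have := Perm.mem_alternatingGroup.mp (h1 hg)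
          rw [this] at hs
          exact absurd hs (by decide)
        · exact h2
      rw [card_eq_card_mul_relIndex (inf_le_right : alternatingGroup α ⊓ Y ≤ Y), h1, mul_comm]

/-! ### Cycles -/

theorem exists_cycle {m : ℕ} (hm2 : 2 ≤ m) (hm : m ≤ Fintype.card α) :
    ∃ g : Perm α, g.IsCycle ∧ g.support.card = m := by
  obtain ⟨s, -, hs⟩ := Finset.exists_subset_card_eq (s := (Finset.univ : Finset α)) (n := m)
    (by rw [Finset.card_univ]; exact hm)
  have hnd : s.toList.Nodup := Finset.nodup_toList s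
  have hlen : s.toList.length = m := by rw [Finset.length_toList]; exact hs
  refine ⟨s.toList.formPerm, List.isCycle_formPerm hnd (by omega), ?_⟩
  rw [List.support_formPerm_of_nodup _ hnd, List.toFinset_card_of_nodup hnd, hlen]
  intro x hx
  rw [hx] at hlen
  simp at hlen
  omega

/-- a Hall subgroup contains a cycle of each prime length in `π` (odd, or with `X = ⊤`) -/
theorem exists_cycle_mem {A : Prop} {π : Set ℕ} {X H : Subgroup (Perm α)} (hX : XOK A X)
    (hH : Cfsg.IsPiHallOf π H X) {r : ℕ} (hr : r.Prime) (hrπ : r ∈ π)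
    (hrn : r ≤ Fintype.card α) (hodd : X = ⊤ ∨ r ≠ 2) :
    ∃ g ∈ H, g.IsCycle ∧ g.support.card = r := by
  obtain ⟨c, hc, hcard⟩ := exists_cycle (α := α) hr.two_le hrn
  have hcX : c ∈ X := by
    rcases hX with hX | ⟨_, hX⟩
    · rw [hX]; exact Subgroup.mem_top _
    · rcases hodd with h | h
      · rw [h]; exact Subgroup.mem_top _
      · rw [hX, Perm.mem_alternatingGroup, hc.sign, hcard]
        have hro : Odd r := hr.odd_of_ne_two h
        obtain ⟨k, hk⟩ := hro
        rw [hk]
        simp [pow_succ, pow_mul]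
  have hpow : c ^ r ^ 1 = 1 := by
    rw [pow_one, ← hcard, ← hc.orderOf]
    exact pow_orderOf_eq_one c
  obtain ⟨x, _, hx⟩ := exists_conj_mem hH hr hrπ c hcX 1 hpow
  exact ⟨x * c * x⁻¹, hx, hc.conj, by rw [Perm.card_support_conj, hcard]⟩

end Perm

end Cfsg.Agent.Lib.Helper12.HallSym
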