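import Mathlib
import Cfsg.Agent.Lib.Helper12.HallSymArith
import Cfsg.Agent.Lib.Helper12.HallSymBasic

/-!
# Hall subgroups of symmetric/alternating groups: Young and wreath numerics (helper12)
-/

set_option autoImplicit false
set_option linter.style.haveILetI false
set_option linter.unusedSectionVars false

namespace Cfsg.Agent.Lib.Helper12.HallSym

open Equiv Equiv.Perm Nat
open Cfsg.Agent.Lib.Helper12.HallSymArith

theorem val_le_of_dvd {r : ℕ} [Fact r.Prime] {a b : ℕ} (hb : b ≠ 0) (h : a ∣ b) :
    padicValNat r a ≤ padicValNat r b := by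
  obtain ⟨c, rfl⟩ := h
  have ha : a ≠ 0 := fun e => hb (by rw [e, zero_mul])
  have hc : c ≠ 0 := fun e => hb (by rw [e, mul_zero])
  rw [padicValNat.mul ha hc]
  omega

theorem val_prod {r : ℕ} [Fact r.Prime] {ι : Type*} (s : Finset ι) (g : ι → ℕ)
    (hg : ∀ i ∈ s, g i ≠ 0) :
    padicValNat r (∏ i ∈ s, g i) = ∑ i ∈ s, padicValNat r (g i) := by
  classical
  induction s using Finset.induction_on with
  | empty => simp
  | insert a s ha ih =>
    rw [Finset.prod_insert ha, Finset.sum_insert ha,
      padicValNat.mul (hg a (Finset.mem_insert_self a s))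
        (Finset.prod_ne_zero_iff.mpr (fun i hi => hg i (Finset.mem_insert_of_mem hi))),
      ih (fun i hi => hg i (Finset.mem_insert_of_mem hi))]

variable {α : Type*} [Fintype α] [DecidableEq α] {ι : Type*} [Fintype ι] [DecidableEq ι]

/-- permutations preserving every fibre of `f` -/
def fibS (f : α → ι) : Subgroup (Perm α) where
  carrier := {g | ∀ x, f (g x) = f x}
  one_mem' := fun _ => rfl
  mul_mem' := by
    intro a b ha hb x
    have h1 := ha (b x)
    have h2 := hb x
    simp only [Perm.mul_apply]
    exact h1.trans h2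
  inv_mem' := by
    intro a ha x
    have := ha (a⁻¹ x)
    rw [show a (a⁻¹ x) = x from by simp] at this
    exact this.symm

theorem mem_fibS {f : α → ι} {g : Perm α} : g ∈ fibS f ↔ ∀ x, f (g x) = f x := Iff.rfl

theorem card_fibS (f : α → ι) :
    Nat.card (fibS f) = ∏ i, (Fintype.card {a // f a = i})! := by
  rw [← DomMulAct.stabilizer_card f, ← Nat.card_eq_fintype_card]
  apply Nat.card_congr
  exact Equiv.subtypeEquivRight (fun g => by
    rw [funext_iff]
    rfl)

theorem swap_mem_fibS {f : α → ι} {x y : α} (h : f x = f y) : Equiv.swap x y ∈ fibS f := by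
  intro z
  by_cases hzx : z = x
  · rw [hzx, Equiv.swap_apply_left, h]
  · by_cases hzy : z = y
    · rw [hzy, Equiv.swap_apply_right, h]
    · rw [Equiv.swap_apply_of_ne_of_ne hzx hzy]

theorem fibS_eq_bot_of_injective {f : α → ι} (hf : Function.Injective f) : fibS f = ⊥ := by
  rw [eq_bot_iff]
  intro g hg
  rw [Subgroup.mem_bot]
  ext x
  exact hf (hg x)

theorem three_le_val_two_factorial {n : ℕ} (hn : 4 ≤ n) : 3 ≤ padicValNat 2 n ! := by
  haveI : Fact (Nat.Prime 2) := ⟨Nat.prime_two⟩
  rw [← padicValNat_dvd_iff_le (Nat.factorial_ne_zero n)]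
  have h1 : (4 : ℕ)! ∣ n ! := Nat.factorial_dvd_factorial hn
  have h2 : 2 ^ 3 ∣ (4 : ℕ)! := by decide
  exact dvd_trans h2 h1

/-- **Young numerics**: a Hall subgroup preserving the fibres of `f` forces
`v_r(n!) ≤ ∑ v_r(|fibre|!)` for all `r ∈ π`. -/
theorem young_val {A : Prop} {π : Set ℕ} {X H : Subgroup (Perm α)} (hX : XOK A X)
    (hH : Cfsg.IsPiHallOf π H X) (hn : 4 ≤ Fintype.card α) (f : α → ι)
    (hf : ∀ h ∈ H, ∀ x, f (h x) = f x) {r : ℕ} (hr : r.Prime) (hrπ : r ∈ π) :
    padicValNat r (Fintype.card α)! ≤ ∑ i, padicValNat r (Fintype.card {a // f a = i})! := by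
  haveI : Fact r.Prime := ⟨hr⟩
  have hle : H ≤ X ⊓ fibS f := le_inf hH.1 (fun h hh => hf h hh)
  have hval := hallOf_val hH hr hrπ
  have hdvd : Nat.card H ∣ Nat.card (X ⊓ fibS f : Subgroup (Perm α)) :=
    Subgroup.card_dvd_of_le hle
  have hv1 := val_le_of_dvd (r := r) Nat.card_pos.ne' hdvd
  have hXc := index_mul_card_perm X
  have hidx : X.index ≠ 0 := Subgroup.index_ne_zero_of_finite
  have hsum : padicValNat r (Nat.card (fibS f)) =
      ∑ i, padicValNat r (Fintype.card {a // f a = i})! := by
    rw [card_fibS]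
    exact val_prod _ _ (fun i _ => Nat.factorial_ne_zero _)
  by_cases hY : X = ⊤ ∨ ∃ g ∈ fibS f, Perm.sign g = -1
  · have hc := index_mul_card_inf hX (fibS f) hY
    rw [← hXc, ← hsum, ← hc, padicValNat.mul hidx Nat.card_pos.ne',
      padicValNat.mul hidx Nat.card_pos.ne']
    omega
  · push Not at hY
    obtain ⟨hXtop, hev⟩ := hY
    have hXalt : X = alternatingGroup α := by
      rcases hX with h | ⟨_, h⟩
      · exact absurd h hXtop
      · exact h
    have hinj : Function.Injective f := by
      intro x y hxy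
      by_contra hne
      exact hev _ (swap_mem_fibS hxy) (Perm.sign_swap hne)
    have hHbot : H = ⊥ := by
      rw [eq_bot_iff, ← fibS_eq_bot_of_injective hinj]
      exact fun h hh => hf h hh
    have hcardH : Nat.card H = 1 := by rw [hHbot]; exact Subgroup.card_bot
    rw [hcardH] at hval
    have hnt : Nontrivial α := by
      rw [← Fintype.one_lt_card_iff_nontrivial]; omega
    have h2 : X.index = 2 := by rw [hXalt]; exact alternatingGroup.index_eq_two
    rw [h2] at hXc
    rw [← hXc, padicValNat.mul (by norm_num) Nat.card_pos.ne', hval]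
    simp only [padicValNat_one_right, add_zero]
    by_cases hr2 : r = 2
    · exfalso
      subst hr2
      have h3 := three_le_val_two_factorial hn
      rw [← hXc, padicValNat.mul (by norm_num) Nat.card_pos.ne', hval] at h3
      simp at h3
    · rw [padicValNat.eq_zero_of_not_dvd]
      · exact Nat.zero_le _
      · intro hd
        exact hr2 ((Nat.prime_dvd_prime_iff_eq hr Nat.prime_two).mp hd)

/-- Two disjoint invariant finsets `S`, `T`: no prime of `π` divides `C(|S|+|T|, |S|)`. -/
theorem not_dvd_choose_of_stable {A : Prop} {π : Set ℕ} {X H : Subgroup (Perm α)} (hX : XOK A X)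
    (hH : Cfsg.IsPiHallOf π H X) (hn : 4 ≤ Fintype.card α) {S T : Finset α}
    (hST : Disjoint S T) (hS : H ≤ stabS S) (hT : H ≤ stabS T) {r : ℕ} (hr : r.Prime)
    (hrπ : r ∈ π) : ¬ r ∣ (S.card + T.card).choose S.card := by
  set f : α → Fin 3 := fun x => if x ∈ S then 0 else if x ∈ T then 1 else 2 with hf
  have hinv : ∀ h ∈ H, ∀ x, f (h x) = f x := by
    intro h hh x
    have h1 := hS hh x
    have h2 := hT hh x
    simp only [hf]
    by_cases hxS : x ∈ S
    · rw [if_pos hxS, if_pos (h1.mpr hxS)]
    · rw [if_neg hxS, if_neg (fun hc => hxS (h1.mp hc))]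
      by_cases hxT : x ∈ T
      · rw [if_pos hxT, if_pos (h2.mpr hxT)]
      · rw [if_neg hxT, if_neg (fun hc => hxT (h2.mp hc))]
  have hy := young_val hX hH hn f hinv hr hrπ
  rw [Fin.sum_univ_three] at hy
  have c0 : Fintype.card {a // f a = 0} = S.card := by
    rw [Fintype.card_subtype]
    congr 1
    ext x
    simp only [Finset.mem_filter, Finset.mem_univ, true_and, hf]
    by_cases hxS : x ∈ S
    · simp [hxS]
    · by_cases hxT : x ∈ T <;> simp [hxS, hxT]
  have c1 : Fintype.card {a // f a = 1} = T.card := by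
    rw [Fintype.card_subtype]
    congr 1
    ext x
    simp only [Finset.mem_filter, Finset.mem_univ, true_and, hf]
    by_cases hxS : x ∈ S
    · have hxT : x ∉ T := Finset.disjoint_left.mp hST hxS
      simp [hxS, hxT]
    · by_cases hxT : x ∈ T <;> simp [hxS, hxT]
  have c2 : S.card + T.card + Fintype.card {a // f a = 2} = Fintype.card α := by
    have h1 : Fintype.card {a // f a = 2} = ((S ∪ T)ᶜ).card := by
      rw [Fintype.card_subtype]
      congr 1
      ext x
      simp only [Finset.mem_filter, Finset.mem_univ, true_and, hf, Finset.mem_compl,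
        Finset.mem_union]
      by_cases hxS : x ∈ S
      · simp [hxS]
      · by_cases hxT : x ∈ T <;> simp [hxS, hxT]
    rw [h1, Finset.card_compl, Finset.card_union_of_disjoint hST]
    have : (S ∪ T).card ≤ Fintype.card α := Finset.card_le_univ _
    rw [Finset.card_union_of_disjoint hST] at this
    omega
  rw [c0, c1, ← c2] at hy
  exact not_dvd_choose_of_val₃ hr _ _ _ hy

end Cfsg.Agent.Lib.Helper12.HallSym
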