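import Mathlib
import Cfsg.Agent.Lib.Helper12.HallSymYoung

/-!
# Hall subgroups of symmetric/alternating groups: wreath numerics (helper12)

A Hall subgroup permuting the fibres of a map `f : α → ι` with all fibres of size `a`.
-/

set_option autoImplicit false
set_option linter.style.haveILetI false
set_option linter.unusedSectionVars false

namespace Cfsg.Agent.Lib.Helper12.HallSym

open Equiv Equiv.Perm Nat
open Cfsg.Agent.Lib.Helper12.HallSymArith

variable {α : Type*} [Fintype α] [DecidableEq α] {ι : Type*} [Fintype ι] [DecidableEq ι]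

theorem card_eq_mul_of_fibres (f : α → ι) (a : ℕ) (hfib : ∀ i, Fintype.card {x // f x = i} = a) :
    Fintype.card α = a * Fintype.card ι := by
  rw [Fintype.card_congr (Equiv.sigmaFiberEquiv f).symm, Fintype.card_sigma]
  simp only [hfib, Finset.sum_const, Finset.card_univ, smul_eq_mul]
  ring

theorem wreath_facts {A : Prop} {π : Set ℕ} {X H : Subgroup (Perm α)} (hX : XOK A X)
    (hH : Cfsg.IsPiHallOf π H X) (f : α → ι) (θ : ↥H →* Perm ι)
    (hθ : ∀ (h : ↥H) (x : α), f (h.1 x) = θ h (f x))
    (a : ℕ) (ha : 2 ≤ a) (hι : Nonempty ι) (hfib : ∀ i, Fintype.card {x // f x = i} = a) :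
    (∀ r : ℕ, r.Prime → r ∈ π → padicValNat r (a * Fintype.card ι)! ≤
      Fintype.card ι * padicValNat r a ! + padicValNat r (Fintype.card ι)!) ∧
    Cfsg.IsPiHallOf π θ.range ⊤ ∧
    Cfsg.IsPiHallOf π (θ.ker.map H.subtype) (X ⊓ fibS f) := by
  set b := Fintype.card ι with hb
  have hn : Fintype.card α = a * b := card_eq_mul_of_fibres f a hfib
  -- the kernel
  have hKle : θ.ker.map H.subtype ≤ X ⊓ fibS f := by
    rintro _ ⟨k, hk, rfl⟩
    refine Subgroup.mem_inf.mpr ⟨hH.1 k.2, ?_⟩
    intro x
    have := hθ k x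
    rw [MonoidHom.mem_ker.mp hk] at this
    simpa using this
  have hKcard : Nat.card (θ.ker.map H.subtype) = Nat.card θ.ker :=
    Subgroup.card_map_of_injective H.subtype_injective
  have hHcard : Nat.card H = Nat.card θ.ker * Nat.card θ.range := by
    rw [Subgroup.card_eq_card_quotient_mul_card_subgroup θ.ker,
      Nat.card_congr (QuotientGroup.quotientKerEquivRange θ).toEquiv, mul_comm]
  have hrange : Nat.card θ.range ∣ b ! := by
    have := Subgroup.card_subgroup_dvd_card θ.range
    rwa [Nat.card_eq_fintype_card (α := Perm ι), Fintype.card_perm] at this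
  -- an odd element in fibS f
  have hodd : X = ⊤ ∨ ∃ g ∈ fibS f, Perm.sign g = -1 := by
    right
    obtain ⟨i⟩ := hι
    have hc := hfib i
    have h2 : 1 < Fintype.card {x // f x = i} := by omega
    obtain ⟨x, y, hxy⟩ := Fintype.exists_pair_of_one_lt_card h2
    refine ⟨Equiv.swap x.1 y.1, swap_mem_fibS (x.2.trans y.2.symm), Perm.sign_swap ?_⟩
    exact fun e => hxy (Subtype.ext e)
  have hinf := index_mul_card_inf hX (fibS f) hodd
  have hfibcard : Nat.card (fibS f) = (a !) ^ b := by
    rw [card_fibS]
    simp only [hfib, Finset.prod_const, Finset.card_univ]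
    rfl
  have hXc := index_mul_card_perm X
  have hidx : X.index ≠ 0 := Subgroup.index_ne_zero_of_finite
  have hKdvd : Nat.card (θ.ker.map H.subtype) ∣ Nat.card (X ⊓ fibS f : Subgroup (Perm α)) :=
    Subgroup.card_dvd_of_le hKle
  have hrange0 : Nat.card θ.range ≠ 0 := Nat.card_pos.ne'
  have hker0 : Nat.card θ.ker ≠ 0 := Nat.card_pos.ne'
  -- valuations
  have main : ∀ r : ℕ, r.Prime → r ∈ π →
      padicValNat r (a * b)! ≤ b * padicValNat r a ! + padicValNat r b ! ∧
      padicValNat r b ! ≤ padicValNat r (Nat.card θ.range) ∧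
      padicValNat r (Nat.card (X ⊓ fibS f : Subgroup (Perm α))) ≤
        padicValNat r (Nat.card (θ.ker.map H.subtype)) := by
    intro r hr hrπ
    haveI : Fact r.Prime := ⟨hr⟩
    have hval := hallOf_val hH hr hrπ
    have e1 : padicValNat r (a * b)! = padicValNat r X.index + padicValNat r (Nat.card X) := by
      rw [← hn, ← hXc, padicValNat.mul hidx Nat.card_pos.ne']
    have e2 : padicValNat r (Nat.card H) =
        padicValNat r (Nat.card θ.ker) + padicValNat r (Nat.card θ.range) := by
      rw [hHcard, padicValNat.mul hker0 hrange0]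
    have e3 : padicValNat r X.index + padicValNat r (Nat.card (X ⊓ fibS f : Subgroup (Perm α))) =
        b * padicValNat r a ! := by
      rw [← padicValNat.mul hidx Nat.card_pos.ne', hinf, hfibcard, padicValNat.pow]
    have e4 := val_le_of_dvd (r := r) Nat.card_pos.ne' hKdvd
    have e5 := val_le_of_dvd (r := r) (Nat.factorial_ne_zero b) hrange
    have e6 := wreath_val_ge (r := r) a (by omega) b
    rw [hKcard] at e4 ⊢
    omega
  refine ⟨fun r hr hrπ => (main r hr hrπ).1, ?_, ?_⟩
  · apply hallOf_of_val le_top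
    · intro p hp hd
      apply hH.2.1 p hp
      rw [hHcard]
      exact dvd_mul_of_dvd_right hd _
    · intro r hr hrπ
      have h1 : Nat.card (⊤ : Subgroup (Perm ι)) = b ! := by
        rw [Subgroup.card_top, Nat.card_eq_fintype_card, Fintype.card_perm]
      rw [h1]
      exact (main r hr hrπ).2.1
  · apply hallOf_of_val hKle
    · intro p hp hd
      apply hH.2.1 p hp
      rw [hHcard, ← hKcard]
      exact dvd_mul_of_dvd_left hd _
    · intro r hr hrπ
      exact (main r hr hrπ).2.2

end Cfsg.Agent.Lib.Helper12.HallSym
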