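import Mathlib
import Cfsg.Agent.Lib.Helper12.HallSymWreath

/-!
# Hall subgroups of symmetric/alternating groups: statements and orbits (helper12)
-/

set_option autoImplicit false
set_option linter.style.haveILetI false
set_option linter.unusedSectionVars false

namespace Cfsg.Agent.Lib.Helper12.HallSym

open Equiv Equiv.Perm Nat
open Cfsg.Agent.Lib.Helper12.HallSymArith

/-- at least two primes of `π` are `≤ n` -/
def TwoPrimes (π : Set ℕ) (n : ℕ) : Prop :=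
  ∃ r s : ℕ, r.Prime ∧ s.Prime ∧ r ≠ s ∧ r ∈ π ∧ s ∈ π ∧ r ≤ n ∧ s ≤ n

/-- some prime `≤ n` is not in `π` -/
def NotAll (π : Set ℕ) (n : ℕ) : Prop := ∃ r : ℕ, r.Prime ∧ r ≤ n ∧ r ∉ π

/-- all primes `≤ n` are in `π` -/
def AllP (π : Set ℕ) (n : ℕ) : Prop := ∀ r : ℕ, r.Prime → r ≤ n → r ∈ π

theorem allP_or_notAll (π : Set ℕ) (n : ℕ) : AllP π n ∨ NotAll π n := by
  by_cases h : AllP π n
  · exact Or.inl h
  · right
    unfold AllP at h
    push Not at h
    obtain ⟨r, hr, hrn, hrπ⟩ := h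
    exact ⟨r, hr, hrn, hrπ⟩

theorem three_le_of_twoPrimes {π : Set ℕ} {n : ℕ} (h : TwoPrimes π n) : 3 ≤ n := by
  obtain ⟨r, s, hr, hs, hrs, -, -, hrn, hsn⟩ := h
  have := hr.two_le
  have := hs.two_le
  omega

theorem five_le_of {π : Set ℕ} {n : ℕ} (h : TwoPrimes π n) (h' : NotAll π n) : 5 ≤ n := by
  obtain ⟨r, s, hr, hs, hrs, hrπ, hsπ, hrn, hsn⟩ := h
  obtain ⟨t, ht, htn, htπ⟩ := h'
  by_contra hlt
  push Not at hlt
  have hr2 := hr.two_le
  have hs2 := hs.two_le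
  have ht2 := ht.two_le
  have hrt : r ≠ t := fun e => htπ (e ▸ hrπ)
  have hst : s ≠ t := fun e => htπ (e ▸ hsπ)
  have h4 : ¬ Nat.Prime 4 := by decide
  have hr4 : r ≠ 4 := fun e => h4 (e ▸ hr)
  have hs4 : s ≠ 4 := fun e => h4 (e ▸ hs)
  have ht4 : t ≠ 4 := fun e => h4 (e ▸ ht)
  omega

variable {α : Type*} [Fintype α] [DecidableEq α]

/-- the conclusion of the classification -/
def Concl (H : Subgroup (Perm α)) (π : Set ℕ) : Prop :=
  ((Fintype.card α).Prime ∧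
      (∀ r : ℕ, r.Prime → r ≤ Fintype.card α → (r ∈ π ↔ r < Fintype.card α)) ∧
      ∃ x : α, ∀ h ∈ H, h x = x) ∨
  (Fintype.card α = 7 ∧ (∀ r : ℕ, r.Prime → r ≤ 7 → (r ∈ π ↔ (r = 2 ∨ r = 3))) ∧
      ∃ S : Finset α, S.card = 3 ∧ H ≤ stabS S) ∨
  (Fintype.card α = 8 ∧ (∀ r : ℕ, r.Prime → r ≤ 8 → (r ∈ π ↔ (r = 2 ∨ r = 3))) ∧
      ∃ S : Finset α, S.card = 4 ∧
        ∀ h ∈ H, (∀ x, h x ∈ S ↔ x ∈ S) ∨ (∀ x, h x ∈ S ↔ x ∉ S))

theorem concl_trans {H : Subgroup (Perm α)} {π : Set ℕ} (h : Concl H π)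
    (htr : ∀ x y : α, ∃ g ∈ H, g x = y) (h3 : 3 ≤ Fintype.card α) :
    Fintype.card α = 8 ∧ (∀ r : ℕ, r.Prime → r ≤ 8 → (r ∈ π ↔ (r = 2 ∨ r = 3))) := by
  rcases h with ⟨-, -, x, hx⟩ | ⟨h7, -, S, hS3, hS⟩ | ⟨h8, hp, -⟩
  · exfalso
    have h1 : 1 < Fintype.card α := by omega
    obtain ⟨y, hy⟩ := Fintype.exists_ne_of_one_lt_card h1 x
    obtain ⟨g, hg, e⟩ := htr x y
    exact hy (by rw [← e, hx g hg])
  · exfalso
    have hne : S.Nonempty := by
      rw [← Finset.card_pos]; omega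
    obtain ⟨x, hx⟩ := hne
    have hlt : S.card < Fintype.card α := by omega
    obtain ⟨y, hy⟩ : ∃ y, y ∉ S := by
      by_contra hall
      push Not at hall
      have : S = Finset.univ := Finset.eq_univ_iff_forall.mpr hall
      rw [this, Finset.card_univ] at hlt
      omega
    obtain ⟨g, hg, e⟩ := htr x y
    have := (hS hg x).mpr hx
    rw [e] at this
    exact hy this
  · exact ⟨h8, hp⟩

/-! ### Orbits -/

open Classical in
/-- the orbit of `x` under `H`, as a finset -/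
noncomputable def orb (H : Subgroup (Perm α)) (x : α) : Finset α :=
  Finset.univ.filter (fun y => ∃ h ∈ H, h x = y)

theorem mem_orb {H : Subgroup (Perm α)} {x y : α} : y ∈ orb H x ↔ ∃ h ∈ H, h x = y := by
  simp [orb]

theorem self_mem_orb (H : Subgroup (Perm α)) (x : α) : x ∈ orb H x :=
  mem_orb.mpr ⟨1, H.one_mem, rfl⟩

theorem le_stabS_orb (H : Subgroup (Perm α)) (x : α) : H ≤ stabS (orb H x) := by
  intro h hh y
  rw [mem_orb, mem_orb]
  constructor
  · rintro ⟨g, hg, e⟩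
    refine ⟨h⁻¹ * g, H.mul_mem (H.inv_mem hh) hg, ?_⟩
    rw [Perm.mul_apply, e]
    simp
  · rintro ⟨g, hg, e⟩
    exact ⟨h * g, H.mul_mem hh hg, by rw [Perm.mul_apply, e]⟩

theorem orb_trans {H : Subgroup (Perm α)} {x : α} : ∀ y ∈ orb H x, ∀ z ∈ orb H x,
    ∃ h ∈ H, h y = z := by
  intro y hy z hz
  obtain ⟨g, hg, e⟩ := mem_orb.mp hy
  obtain ⟨g', hg', e'⟩ := mem_orb.mp hz
  refine ⟨g' * g⁻¹, H.mul_mem hg' (H.inv_mem hg), ?_⟩
  rw [Perm.mul_apply, ← e, ← e']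
  simp

theorem orb_disjoint {H : Subgroup (Perm α)} {x y : α} (h : y ∉ orb H x) :
    Disjoint (orb H x) (orb H y) := by
  rw [Finset.disjoint_left]
  intro z hzx hzy
  apply h
  obtain ⟨g, hg, e⟩ := mem_orb.mp hzx
  obtain ⟨g', hg', e'⟩ := mem_orb.mp hzy
  refine mem_orb.mpr ⟨g'⁻¹ * g, H.mul_mem (H.inv_mem hg') hg, ?_⟩
  rw [Perm.mul_apply, e, ← e']
  simp

theorem orb_eq_singleton {H : Subgroup (Perm α)} {y : α} (h : (orb H y).card = 1) :
    orb H y = {y} := by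
  obtain ⟨z, hz⟩ := Finset.card_eq_one.mp h
  have := self_mem_orb H y
  rw [hz, Finset.mem_singleton] at this
  rw [hz, this]

theorem stabS_union {H : Subgroup (Perm α)} {U V : Finset α} (hU : H ≤ stabS U)
    (hV : H ≤ stabS V) : H ≤ stabS (U ∪ V) := by
  intro h hh x
  rw [Finset.mem_union, Finset.mem_union, hU hh x, hV hh x]

/-- a prime dividing `|X|` -/
theorem prime_dvd_card_xok {A : Prop} {X : Subgroup (Perm α)} (hX : XOK A X)
    (hn : 4 ≤ Fintype.card α) {r : ℕ} (hr : r.Prime) (hrn : r ≤ Fintype.card α) :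
    r ∣ Nat.card X := by
  have h := index_mul_card_perm X
  have hrf : r ∣ (Fintype.card α)! := hr.dvd_factorial.mpr hrn
  rcases index_xok hX with h1 | h2
  · rw [h1, one_mul] at h
    rw [h]; exact hrf
  · rw [h2] at h
    by_cases hr2 : r = 2
    · subst hr2
      have h4 : 4 ∣ (Fintype.card α)! :=
        dvd_trans (by decide : 4 ∣ (4 : ℕ)!) (Nat.factorial_dvd_factorial hn)
      rw [← h] at h4
      omega
    · rw [← h] at hrf
      rcases (Nat.Prime.dvd_mul hr).mp hrf with h3 | h3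
      · exact absurd ((Nat.prime_dvd_prime_iff_eq hr Nat.prime_two).mp h3) hr2
      · exact h3

/-- a prime of `π` below `n` is at most the size of some orbit of the Hall subgroup -/
theorem prime_le_orbit {A : Prop} {π : Set ℕ} {X H : Subgroup (Perm α)} (hX : XOK A X)
    (hH : Cfsg.IsPiHallOf π H X) (hn : 4 ≤ Fintype.card α) {r : ℕ} (hr : r.Prime)
    (hrπ : r ∈ π) (hrn : r ≤ Fintype.card α) : ∃ x : α, r ≤ (orb H x).card := by
  haveI : Fact r.Prime := ⟨hr⟩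
  have hd := dvd_card_of_hallOf hH hr hrπ (prime_dvd_card_xok hX hn hr hrn)
  obtain ⟨g, hg⟩ := exists_prime_orderOf_dvd_card' r hd
  have hg1 : orderOf (g : Perm α) = r := by rw [Subgroup.orderOf_coe]; exact hg
  have hne : (g : Perm α) ≠ 1 := by
    intro e
    rw [e, orderOf_one] at hg1
    exact hr.one_lt.ne hg1
  obtain ⟨x, hx⟩ : ∃ x, (g : Perm α) x ≠ x := by
    by_contra hall
    push Not at hall
    exact hne (Perm.ext hall)
  refine ⟨x, ?_⟩
  have hcyc := Perm.isCycle_cycleOf (g : Perm α) hx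
  have hdvd : orderOf (Perm.cycleOf (g : Perm α) x) ∣ r := by
    rw [← hg1]; exact Perm.orderOf_cycleOf_dvd_orderOf _ _
  have hord : orderOf (Perm.cycleOf (g : Perm α) x) = r := by
    rcases (Nat.dvd_prime hr).mp hdvd with h1 | h1
    · exfalso
      rw [orderOf_eq_one_iff] at h1
      exact hcyc.ne_one h1
    · exact h1
  rw [← hord, hcyc.orderOf]
  apply Finset.card_le_card
  intro y hy
  rw [Perm.mem_support_cycleOf_iff] at hy
  obtain ⟨i, hi⟩ := hy.1
  rw [mem_orb]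
  exact ⟨((g ^ i : ↥H) : Perm α), (g ^ i).2, by simpa using hi⟩

end Cfsg.Agent.Lib.Helper12.HallSym
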