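import Mathlib
import Cfsg.Agent.Lib.Helper12.HallSymDefs

/-!
# Hall subgroups of symmetric/alternating groups: the intransitive case (helper12)
-/

set_option autoImplicit false
set_option linter.style.haveILetI false
set_option linter.unusedSectionVars false

namespace Cfsg.Agent.Lib.Helper12.HallSym

open Equiv Equiv.Perm Nat
open Cfsg.Agent.Lib.Helper12.HallSymArith

universe u

/-- the induction hypothesis -/
def IHyp (A : Prop) (π : Set ℕ) (n : ℕ) : Prop :=
  ∀ (β : Type u) [Fintype β] [DecidableEq β] (X H : Subgroup (Perm β)),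
    Fintype.card β < n → XOK A X → Cfsg.IsPiHallOf π H X →
    TwoPrimes π (Fintype.card β) → NotAll π (Fintype.card β) → Concl H π

variable {α : Type u} [Fintype α] [DecidableEq α]

theorem restrict_stable {A : Prop} {π : Set ℕ} {X H : Subgroup (Perm α)} (hX : XOK A X)
    (hH : Cfsg.IsPiHallOf π H X) (S : Finset α) (hS : H ≤ stabS S) :
    XOK A (resG S (X ⊓ stabS S)) ∧ Cfsg.IsPiHallOf π (resG S H) (resG S (X ⊓ stabS S)) :=
  ⟨xok_resG_stab S hX, hallOf_resG S (hallOf_mono hH (le_inf hH.1 hS) inf_le_left) inf_le_right⟩

theorem prime_le_four {r : ℕ} (hr : r.Prime) (h : r ≤ 4) : r = 2 ∨ r = 3 := by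
  have h2 := hr.two_le
  have h4 : ¬ Nat.Prime 4 := by decide
  have hr4 : r ≠ 4 := fun e => h4 (e ▸ hr)
  omega

theorem intransitive_case {A : Prop} {π : Set ℕ} {X H : Subgroup (Perm α)} (hX : XOK A X)
    (hH : Cfsg.IsPiHallOf π H X) (h2 : TwoPrimes π (Fintype.card α))
    (hN : NotAll π (Fintype.card α)) (IH : IHyp.{u} A π (Fintype.card α))
    (hnt : ¬ ∀ x y : α, ∃ g ∈ H, g x = y) : Concl H π := by
  have hn5 := five_le_of h2 hN
  have hn4 : 4 ≤ Fintype.card α := by omega
  haveI : Nonempty α := Fintype.card_pos_iff.mp (by omega)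
  obtain ⟨x₀, -, hmax⟩ := Finset.exists_max_image Finset.univ (fun x => (orb H x).card)
    Finset.univ_nonempty
  have hmax' : ∀ x, (orb H x).card ≤ (orb H x₀).card := fun x => hmax x (Finset.mem_univ x)
  have hSH : H ≤ stabS (orb H x₀) := le_stabS_orb H x₀
  generalize hSdef : orb H x₀ = S at hmax' hSH
  generalize hm : S.card = m at hmax'
  -- m < n
  have hmn : m < Fintype.card α := by
    by_contra hge
    push Not at hge
    have hle : S.card ≤ Fintype.card α := Finset.card_le_univ S
    have hSuniv : S = Finset.univ := by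
      apply Finset.eq_univ_of_card
      omega
    apply hnt
    intro x y
    have hx : x ∈ orb H x₀ := by rw [hSdef, hSuniv]; exact Finset.mem_univ x
    have hy : y ∈ orb H x₀ := by rw [hSdef, hSuniv]; exact Finset.mem_univ y
    exact orb_trans x hx y hy
  have hle_m : ∀ r : ℕ, r.Prime → r ∈ π → r ≤ Fintype.card α → r ≤ m := by
    intro r hr hrπ hrn
    obtain ⟨x, hx⟩ := prime_le_orbit hX hH hn4 hr hrπ hrn
    exact hx.trans (hmax' x)
  have h2m : TwoPrimes π m := by
    obtain ⟨r, s, hr, hs, hrs, hrπ, hsπ, hrn, hsn⟩ := h2
    exact ⟨r, s, hr, hs, hrs, hrπ, hsπ, hle_m r hr hrπ hrn, hle_m s hs hsπ hsn⟩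
  have hm3 : 3 ≤ m := three_le_of_twoPrimes h2m
  obtain ⟨hXS, hHS⟩ := restrict_stable hX hH S hSH
  have hcardS : Fintype.card {x // x ∈ S} = m := by rw [Fintype.card_coe, hm]
  have htrS : ∀ x y : {x // x ∈ S}, ∃ g ∈ resG S H, g x = y := by
    intro x y
    have hx : x.1 ∈ orb H x₀ := by rw [hSdef]; exact x.2
    have hy : y.1 ∈ orb H x₀ := by rw [hSdef]; exact y.2
    obtain ⟨h, hh, e⟩ := orb_trans x.1 hx y.1 hy
    exact ⟨resS S ⟨h, hSH hh⟩, mem_resG.mpr ⟨h, hSH hh, hh, rfl⟩, Subtype.ext e⟩
  have hdisj : ∀ y, y ∉ S → Disjoint S (orb H y) := by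
    intro y hy
    rw [← hSdef]
    apply orb_disjoint
    rw [hSdef]; exact hy
  have hpos : ∀ y, 1 ≤ (orb H y).card := fun y => Finset.card_pos.mpr ⟨y, self_mem_orb H y⟩
  obtain ⟨y₀, hy₀⟩ : ∃ y, y ∉ S := by
    by_contra hall
    push Not at hall
    have : S = Finset.univ := Finset.eq_univ_iff_forall.mpr hall
    rw [this, Finset.card_univ] at hm
    omega
  rcases allP_or_notAll π m with hAm | hNm
  · -- all primes `≤ m` lie in `π`
    have hNC : ∀ y, y ∉ S → NC (orb H y).card m := by
      intro y hy r hr hrm
      have hrπ := hAm r hr hrm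
      have := not_dvd_choose_of_stable hX hH hn4 (hdisj y hy).symm (le_stabS_orb H y) hSH hr hrπ
      rw [hm] at this
      exact this
    have hcases : ∀ y, y ∉ S → (orb H y).card = 1 ∨ ((orb H y).card = 3 ∧ m = 4) := by
      intro y hy
      have ha1 := hpos y
      by_cases h1 : (orb H y).card = 1
      · exact Or.inl h1
      · right
        exact (hNC y hy).eq_three_four (by omega) (hmax' y)
    by_cases hex : ∃ y, y ∉ S ∧ (orb H y).card ≠ 1
    · obtain ⟨y, hy, hy1⟩ := hex
      obtain ⟨hT3, hm4⟩ : (orb H y).card = 3 ∧ m = 4 := by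
        rcases hcases y hy with h | h
        · exact absurd h hy1
        · exact h
      have h2π : 2 ∈ π := hAm 2 Nat.prime_two (by omega)
      have h3π : 3 ∈ π := hAm 3 Nat.prime_three (by omega)
      by_cases hn7 : Fintype.card α = 7
      · right; left
        refine ⟨hn7, ?_, orb H y, hT3, le_stabS_orb H y⟩
        intro r hr hr7
        constructor
        · intro hrπ
          have := hle_m r hr hrπ (by omega)
          exact prime_le_four hr (by omega)
        · rintro (rfl | rfl)
          · exact h2π
          · exact h3π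
      · exfalso
        have hcU : (S ∪ orb H y).card = 7 := by
          rw [Finset.card_union_of_disjoint (hdisj y hy), hm, hT3, hm4]
        obtain ⟨z, hz⟩ : ∃ z, z ∉ S ∪ orb H y := by
          by_contra hall
          push Not at hall
          have : S ∪ orb H y = Finset.univ := Finset.eq_univ_iff_forall.mpr hall
          rw [this, Finset.card_univ] at hcU
          exact hn7 hcU
        rw [Finset.mem_union, not_or] at hz
        have e := not_dvd_choose_of_stable hX hH hn4 (orb_disjoint hz.2) (le_stabS_orb H y)
          (le_stabS_orb H z) Nat.prime_two h2π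
        rw [hT3] at e
        rcases hcases z hz.1 with h | ⟨h, -⟩
        · rw [h] at e
          exact e (by decide)
        · rw [h] at e
          exact e (by decide)
    · push Not at hex
      have hfix : ∀ y, y ∉ S → orb H y = {y} := fun y hy => orb_eq_singleton (hex y hy)
      by_cases hz : ∃ z, z ∉ S ∧ z ≠ y₀
      · exfalso
        obtain ⟨z, hzS, hzy⟩ := hz
        have hst : H ≤ stabS ({y₀} ∪ {z}) := by
          apply stabS_union
          · rw [← hfix y₀ hy₀]; exact le_stabS_orb H y₀
          · rw [← hfix z hzS]; exact le_stabS_orb H z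
        have hcard2 : ({y₀} ∪ {z} : Finset α).card = 2 := by
          rw [Finset.card_union_of_disjoint (by simpa using hzy.symm)]
          simp
        have hdj : Disjoint ({y₀} ∪ {z} : Finset α) S := by
          rw [Finset.disjoint_left]
          intro w hw
          rw [Finset.mem_union, Finset.mem_singleton, Finset.mem_singleton] at hw
          rcases hw with rfl | rfl
          · exact hy₀
          · exact hzS
        have hnc : NC 2 m := by
          intro r hr hrm
          have := not_dvd_choose_of_stable hX hH hn4 hdj hst hSH hr (hAm r hr hrm)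
          rw [hcard2, hm] at this
          exact this
        have := hnc.eq_three_four (le_refl 2) (by omega)
        omega
      · push Not at hz
        have hcompl : Sᶜ = {y₀} := by
          ext w
          rw [Finset.mem_compl, Finset.mem_singleton]
          constructor
          · intro hw
            exact hz w hw
          · rintro rfl
            exact hy₀
        have hnm : Fintype.card α = m + 1 := by
          have := Finset.card_add_card_compl S
          rw [hcompl, hm, Finset.card_singleton] at this
          omega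
        have hnc1 : NC 1 m := by
          have := hNC y₀ hy₀
          rwa [hex y₀ hy₀] at this
        left
        refine ⟨?_, ?_, y₀, ?_⟩
        · rw [hnm]
          exact hnc1.succ_prime (le_refl 1) (by omega)
        · intro r hr hrn
          constructor
          · intro hrπ
            have := hle_m r hr hrπ hrn
            omega
          · intro hlt
            exact hAm r hr (by omega)
        · intro h hh
          have : h y₀ ∈ orb H y₀ := mem_orb.mpr ⟨h, hh, rfl⟩
          rw [hfix y₀ hy₀, Finset.mem_singleton] at this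
          exact this
  · -- some prime `≤ m` is not in `π`: induction
    exfalso
    have hc := IH {x // x ∈ S} (resG S (X ⊓ stabS S)) (resG S H) (by rw [hcardS]; exact hmn)
      hXS hHS (by rw [hcardS]; exact h2m) (by rw [hcardS]; exact hNm)
    obtain ⟨h8, hp8⟩ := concl_trans hc htrS (by rw [hcardS]; exact hm3)
    rw [hcardS] at h8
    have h2π : 2 ∈ π := (hp8 2 Nat.prime_two (by norm_num)).mpr (Or.inl rfl)
    have h3π : 3 ∈ π := (hp8 3 Nat.prime_three (by norm_num)).mpr (Or.inr rfl)
    have e2 := not_dvd_choose_of_stable hX hH hn4 (hdisj y₀ hy₀) hSH (le_stabS_orb H y₀)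
      Nat.prime_two h2π
    have e3 := not_dvd_choose_of_stable hX hH hn4 (hdisj y₀ hy₀) hSH (le_stabS_orb H y₀)
      Nat.prime_three h3π
    have ha1 := hpos y₀
    have ha8 := hmax' y₀
    rw [hm, h8] at e2 e3
    rw [h8] at ha8
    generalize (orb H y₀).card = a at e2 e3 ha1 ha8
    interval_cases a <;> revert e2 e3 <;> decide

end Cfsg.Agent.Lib.Helper12.HallSym
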