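import Mathlib
import Cfsg.Agent.Lib.Helper12.HallSymIntrans

/-!
# Hall subgroups of symmetric/alternating groups: the imprimitive case (helper12)
-/

set_option autoImplicit false
set_option linter.style.haveILetI false
set_option linter.unusedSectionVars false

namespace Cfsg.Agent.Lib.Helper12.HallSym

open Equiv Equiv.Perm Nat
open Cfsg.Agent.Lib.Helper12.HallSymArith

universe u

theorem val_factorial_eq_zero {r m : ℕ} (hr : r.Prime) (h : m < r) : padicValNat r m ! = 0 := by
  apply padicValNat.eq_zero_of_not_dvd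
  rw [hr.dvd_factorial]
  omega

theorem pow_two_ne_pow_three {a k j : ℕ} (ha : 2 ≤ a) (h2 : a = 2 ^ k) (h3 : a = 3 ^ j) :
    False := by
  have hk : k ≠ 0 := by
    rintro rfl
    rw [pow_zero] at h2
    omega
  have hd : 2 ∣ 3 ^ j := by
    rw [← h3, h2]
    exact dvd_pow_self 2 hk
  have := Nat.prime_two.dvd_of_dvd_pow hd
  omega

theorem imprim_stepA {π : Set ℕ} {a b : ℕ} (ha : 2 ≤ a) (hb : 3 ≤ b)
    (hnum : ∀ r : ℕ, r.Prime → r ∈ π →
      padicValNat r (a * b)! ≤ b * padicValNat r a ! + padicValNat r b !)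
    (h2π : 2 ∈ π) (h3π : 3 ∈ π) : False := by
  rcases wreath_val Nat.prime_two (by omega) (hnum 2 Nat.prime_two h2π) with ⟨k, hk⟩ | h
  · rcases wreath_val Nat.prime_three (by omega) (hnum 3 Nat.prime_three h3π) with ⟨j, hj⟩ | h
    · exact pow_two_ne_pow_three ha hk hj
    · omega
  · omega

theorem imprim_arith {π : Set ℕ} {a b : ℕ} (ha : 2 ≤ a) (hb : 2 ≤ b)
    (h2 : TwoPrimes π (a * b))
    (hnum : ∀ r : ℕ, r.Prime → r ∈ π →
      padicValNat r (a * b)! ≤ b * padicValNat r a ! + padicValNat r b !)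
    (hbπ : ∀ s : ℕ, s.Prime → s ∣ b → s ∈ π) (hnb : ¬ TwoPrimes π b) :
    ∃ s j k : ℕ, s.Prime ∧ s ∈ π ∧ 1 ≤ j ∧ 1 ≤ k ∧ b = s ^ j ∧ a = s ^ k ∧
      (∀ r : ℕ, r.Prime → r ∈ π → r ≤ a * b → r ≠ s → b < r ∧ r ≤ a) ∧ TwoPrimes π a := by
  obtain ⟨s, hs, hsb⟩ := Nat.exists_prime_and_dvd (show b ≠ 1 by omega)
  have hsπ := hbπ s hs hsb
  have hsle : s ≤ b := Nat.le_of_dvd (by omega) hsb
  have huniq : ∀ {d : ℕ}, d.Prime → d ∣ b → d = s := by
    intro d hd hdb
    by_contra hne
    exact hnb ⟨d, s, hd, hs, hne, hbπ d hd hdb, hsπ, Nat.le_of_dvd (by omega) hdb, hsle⟩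
  have hbpow := Nat.eq_prime_pow_of_unique_prime_dvd (by omega : b ≠ 0) huniq
  generalize b.primeFactorsList.length = j at hbpow
  have hj1 : 1 ≤ j := by
    by_contra h0
    have : j = 0 := by omega
    rw [this, pow_zero] at hbpow
    omega
  have hother : ∀ r : ℕ, r.Prime → r ∈ π → r ≤ a * b → r ≠ s → b < r ∧ r ≤ a := by
    intro r hr hrπ hrn hrs
    have hbr : b < r := by
      by_contra hle
      push Not at hle
      exact hnb ⟨r, s, hr, hs, hrs, hrπ, hsπ, hle, hsle⟩
    refine ⟨hbr, ?_⟩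
    by_contra hlt
    push Not at hlt
    have h1 := hnum r hr hrπ
    rw [val_factorial_eq_zero hr hbr, val_factorial_eq_zero hr hlt] at h1
    haveI : Fact r.Prime := ⟨hr⟩
    have h3 : r ∣ (a * b)! := hr.dvd_factorial.mpr hrn
    have h4 := (dvd_iff_padicValNat_ne_zero (Nat.factorial_ne_zero _)).mp h3
    omega
  obtain ⟨k, hk⟩ : ∃ k, a = s ^ k := by
    rcases wreath_val hs (by omega) (hnum s hs hsπ) with h | h
    · exact h
    · omega
  have hk1 : 1 ≤ k := by
    by_contra h0
    have : k = 0 := by omega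
    rw [this, pow_zero] at hk
    omega
  have hsa : s ≤ a := by
    rw [hk]
    exact Nat.le_self_pow (by omega) s
  refine ⟨s, j, k, hs, hsπ, hj1, hk1, hbpow, hk, hother, ?_⟩
  obtain ⟨r₁, r₂, hr₁, hr₂, hne, hπ₁, hπ₂, hle₁, hle₂⟩ := h2
  by_cases h1 : r₁ = s
  · have h2' : r₂ ≠ s := fun e => hne (h1.trans e.symm)
    exact ⟨r₂, s, hr₂, hs, h2', hπ₂, hsπ, (hother r₂ hr₂ hπ₂ hle₂ h2').2, hsa⟩
  · exact ⟨r₁, s, hr₁, hs, h1, hπ₁, hsπ, (hother r₁ hr₁ hπ₁ hle₁ h1).2, hsa⟩

variable {α : Type u} [Fintype α] [DecidableEq α]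

/-- a transitive imprimitive group has a nontrivial system of blocks -/
theorem exists_block_system {H : Subgroup (Perm α)} (htr : ∀ x y : α, ∃ g ∈ H, g x = y)
    (hnp : ¬ MulAction.IsPreprimitive ↥H α) (hnt : Nontrivial α) :
    ∃ (ι : Type u) (_ : Fintype ι) (_ : DecidableEq ι) (f : α → ι) (θ : ↥H →* Perm ι) (a : ℕ),
      (∀ (h : ↥H) (x : α), f (h.1 x) = θ h (f x)) ∧ 2 ≤ a ∧ 2 ≤ Fintype.card ι ∧
      (∀ i, Fintype.card {x // f x = i} = a) ∧ Fintype.card ι ∣ Nat.card H ∧
      (∀ i j : ι, ∃ g ∈ θ.range, g i = j) := by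
  classical
  haveI : MulAction.IsPretransitive ↥H α := (pretransitive_iff H).mpr htr
  obtain ⟨x₀⟩ := (inferInstance : Nonempty α)
  have hco : ¬ IsCoatom (MulAction.stabilizer ↥H x₀) := by
    rw [MulAction.isCoatom_stabilizer_iff_preprimitive]; exact hnp
  have hne_top : MulAction.stabilizer ↥H x₀ ≠ ⊤ := by
    intro e
    obtain ⟨y, hy⟩ := exists_ne x₀
    obtain ⟨g, hg, e'⟩ := htr x₀ y
    have : (⟨g, hg⟩ : ↥H) ∈ MulAction.stabilizer ↥H x₀ := by rw [e]; trivial
    rw [MulAction.mem_stabilizer_iff] at this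
    exact hy (e'.symm.trans this)
  obtain ⟨L, hlt, hLtop⟩ : ∃ L, MulAction.stabilizer ↥H x₀ < L ∧ L ≠ ⊤ := by
    by_contra hno
    push Not at hno
    exact hco ⟨hne_top, fun b hb => hno b hb⟩
  have htr' : ∀ x : α, ∃ g : ↥H, g.1 x₀ = x := fun x => by
    obtain ⟨g, hg, e⟩ := htr x₀ x
    exact ⟨⟨g, hg⟩, e⟩
  choose γ hγ using htr'
  let f : α → ↥H ⧸ L := fun x => (QuotientGroup.mk (γ x) : ↥H ⧸ L)
  have hf : ∀ g : ↥H, f (g.1 x₀) = QuotientGroup.mk g := by
    intro g
    show (QuotientGroup.mk (γ (g.1 x₀)) : ↥H ⧸ L) = QuotientGroup.mk g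
    rw [QuotientGroup.eq]
    apply hlt.le
    rw [MulAction.mem_stabilizer_iff]
    show ((γ (g.1 x₀))⁻¹ * g).1 x₀ = x₀
    have := hγ (g.1 x₀)
    show (γ (g.1 x₀)).1⁻¹ (g.1 x₀) = x₀
    rw [Perm.inv_eq_iff_eq]
    exact this.symm
  let θ : ↥H →* Perm (↥H ⧸ L) := MulAction.toPermHom ↥H (↥H ⧸ L)
  have hθmk : ∀ g g' : ↥H, θ g (QuotientGroup.mk g') = QuotientGroup.mk (g * g') :=
    fun _ _ => rfl
  have hθ : ∀ (h : ↥H) (x : α), f (h.1 x) = θ h (f x) := by
    intro h x
    have e := hγ x
    calc f (h.1 x) = f ((h * γ x).1 x₀) := by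
          show f (h.1 x) = f (h.1 ((γ x).1 x₀))
          rw [e]
      _ = QuotientGroup.mk (h * γ x) := hf _
      _ = θ h (f x) := (hθmk _ _).symm
  letI : Fintype (↥H ⧸ L) := Fintype.ofFinite _
  refine ⟨↥H ⧸ L, inferInstance, inferInstance, f, θ,
    Fintype.card {x // f x = (QuotientGroup.mk 1 : ↥H ⧸ L)}, hθ, ?_, ?_, ?_, ?_, ?_⟩
  · -- a ≥ 2
    obtain ⟨l, hlL, hlS⟩ := SetLike.exists_of_lt hlt
    have h1 : f x₀ = QuotientGroup.mk 1 := hf 1
    have h2 : f (l.1 x₀) = QuotientGroup.mk 1 := by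
      rw [hf l, QuotientGroup.eq]
      simpa using hlL
    have hne : l.1 x₀ ≠ x₀ := fun e => hlS (MulAction.mem_stabilizer_iff.mpr e)
    have : 1 < Fintype.card {x // f x = (QuotientGroup.mk 1 : ↥H ⧸ L)} := by
      rw [Fintype.one_lt_card_iff]
      exact ⟨⟨l.1 x₀, h2⟩, ⟨x₀, h1⟩, fun e => hne (congrArg Subtype.val e)⟩
    omega
  · -- b ≥ 2
    obtain ⟨h, hh⟩ : ∃ h : ↥H, h ∉ L := by
      by_contra hall
      push Not at hall
      exact hLtop ((Subgroup.eq_top_iff' L).mpr hall)
    have : 1 < Fintype.card (↥H ⧸ L) := by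
      rw [Fintype.one_lt_card_iff]
      refine ⟨QuotientGroup.mk 1, QuotientGroup.mk h, fun e => hh ?_⟩
      rw [QuotientGroup.eq] at e
      simpa using e
    omega
  · -- equal fibres
    intro i
    obtain ⟨g, rfl⟩ := QuotientGroup.mk_surjective i
    symm
    apply Fintype.card_congr
    refine Equiv.subtypeEquiv g.1 (fun x => ?_)
    rw [hθ]
    constructor
    · intro e
      rw [e, hθmk, mul_one]
    · intro e
      apply (θ g).injective
      rw [e, hθmk, mul_one]
  · rw [← Nat.card_eq_fintype_card, ← Subgroup.index_eq_card]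
    exact Subgroup.index_dvd_card L
  · intro i j
    obtain ⟨g, rfl⟩ := QuotientGroup.mk_surjective i
    obtain ⟨g', rfl⟩ := QuotientGroup.mk_surjective j
    refine ⟨θ (g' * g⁻¹), ⟨_, rfl⟩, ?_⟩
    rw [hθmk]
    simp

theorem fibS_le_stabS {ι : Type*} [Fintype ι] [DecidableEq ι] (f : α → ι) (i : ι) :
    fibS f ≤ stabS (Finset.univ.filter (fun x => f x = i)) := by
  intro g hg x
  simp only [Finset.mem_filter, Finset.mem_univ, true_and]
  rw [hg x]

theorem imprimitive_case {A : Prop} {π : Set ℕ} {X H : Subgroup (Perm α)} (hX : XOK A X)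
    (hH : Cfsg.IsPiHallOf π H X) (h2 : TwoPrimes π (Fintype.card α))
    (hN : NotAll π (Fintype.card α)) (IH : IHyp.{u} A π (Fintype.card α))
    (htr : ∀ x y : α, ∃ g ∈ H, g x = y) (hnp : ¬ MulAction.IsPreprimitive ↥H α) :
    Concl H π := by
  have hn5 := five_le_of h2 hN
  have hnt : Nontrivial α := Fintype.one_lt_card_iff_nontrivial.mp (by omega)
  obtain ⟨ι, hFι, hDι, f, θ, a, hθ, ha, hb, hfib, hbH, htrι⟩ := exists_block_system htr hnp hnt
  have hιne : Nonempty ι := Fintype.card_pos_iff.mp (by omega)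
  obtain ⟨hnum, hHbar, hK⟩ := wreath_facts hX hH f θ hθ a ha hιne hfib
  have hn : Fintype.card α = a * Fintype.card ι := card_eq_mul_of_fibres f a hfib
  obtain ⟨b, hbdef⟩ : ∃ b, Fintype.card ι = b := ⟨_, rfl⟩
  rw [hbdef] at hb hbH hn hnum
  have hbn : b < Fintype.card α := by rw [hn]; nlinarith
  have han : a < Fintype.card α := by rw [hn]; nlinarith
  by_cases h2b : TwoPrimes π b
  · exfalso
    have hb3 := three_le_of_twoPrimes h2b
    rcases allP_or_notAll π b with hAb | hNb
    · exact imprim_stepA ha hb3 hnum (hAb 2 Nat.prime_two (by omega)) (hAb 3 Nat.prime_three hb3)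
    · have hc := IH ι ⊤ θ.range (by rw [hbdef]; exact hbn) (Or.inl rfl) hHbar
        (by rw [hbdef]; exact h2b) (by rw [hbdef]; exact hNb)
      obtain ⟨h8, hp8⟩ := concl_trans hc htrι (by rw [hbdef]; exact hb3)
      exact imprim_stepA ha hb3 hnum ((hp8 2 Nat.prime_two (by norm_num)).mpr (Or.inl rfl))
        ((hp8 3 Nat.prime_three (by norm_num)).mpr (Or.inr rfl))
  · have hbπ : ∀ s : ℕ, s.Prime → s ∣ b → s ∈ π :=
      fun s hs hsb => hH.2.1 s hs (dvd_trans hsb hbH)
    rw [hn] at h2
    obtain ⟨s, j, k, hs, hsπ, hj1, hk1, hbs, has, hother, h2a⟩ :=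
      imprim_arith ha hb h2 hnum hbπ h2b
    -- restrict the kernel to a block
    obtain ⟨i₀⟩ := hιne
    set B : Finset α := Finset.univ.filter (fun x => f x = i₀) with hBdef
    have hBcard : B.card = a := by rw [← hfib i₀, Fintype.card_subtype]
    have hmem : ∀ x, x ∈ B ↔ f x = i₀ := fun x => by
      rw [hBdef, Finset.mem_filter]; simp
    have hcardB : Fintype.card {x // x ∈ B} = a := by rw [Fintype.card_coe, hBcard]
    have hZB : X ⊓ fibS f ≤ stabS B := inf_le_right.trans (fibS_le_stabS f i₀)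
    have hHhat := hallOf_resG B hK hZB
    have hXhat : XOK A (resG B (X ⊓ fibS f)) := by
      apply xok_resG B hX
      intro τ hτ
      refine Subgroup.mem_inf.mpr ⟨?_, ?_⟩
      · rcases hX with hX | ⟨_, hX⟩
        · rw [hX]; exact Subgroup.mem_top _
        · rcases hτ with hτ | hτ
          · rw [hτ]; exact Subgroup.mem_top _
          · rw [hX, Perm.mem_alternatingGroup, Perm.sign_ofSubtype]
            exact Perm.mem_alternatingGroup.mp hτ
      · intro x
        by_cases hx : x ∈ B
        · rw [Perm.ofSubtype_apply_of_mem τ hx]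
          have h1 := (τ ⟨x, hx⟩).2
          rw [(hmem _).mp h1, (hmem _).mp hx]
        · rw [Perm.ofSubtype_apply_of_not_mem τ hx]
    have hk0 : k ≠ 0 := by omega
    have hab2 : 4 ≤ a * b := by nlinarith
    rcases allP_or_notAll π a with hAa | hNa
    · -- s = 2, b = 2
      have ha3 := three_le_of_twoPrimes h2a
      have h2π := hAa 2 Nat.prime_two (by omega)
      have h3π := hAa 3 Nat.prime_three ha3
      have hs2 : s = 2 := by
        by_contra hne
        have := (hother 2 Nat.prime_two h2π (by omega) (Ne.symm hne)).1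
        omega
      subst hs2
      have hb2 : b = 2 := by
        have := (hother 3 Nat.prime_three h3π (by omega) (by norm_num)).1
        omega
      by_cases hk3 : 3 ≤ k
      · exfalso
        obtain ⟨r, hr, hr2, hrle, hrd⟩ := exists_odd_prime_dvd_two_pow hk3
        rw [← has] at hrle hrd
        have hrπ := hAa r hr hrle
        have h1 := hnum r hr hrπ
        have hr3 : 2 < r := by have := hr.two_le; omega
        rw [hb2, val_factorial_eq_zero hr hr3] at h1
        have := not_dvd_choose_of_val hr a a (by rw [show a + a = a * 2 by ring]; omega)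
        exact this hrd
      · have hk2 : k = 2 := by
          by_contra hne
          have : k = 1 := by omega
          rw [this] at has
          omega
        have ha4 : a = 4 := by rw [has, hk2]; norm_num
        right; right
        refine ⟨by rw [hn, ha4, hb2], ?_, B, by rw [hBcard, ha4], ?_⟩
        · intro r hr hr8
          constructor
          · intro hrπ
            by_cases hr2 : r = 2
            · exact Or.inl hr2
            · have := (hother r hr hrπ (by rw [ha4, hb2]; omega) hr2).2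
              exact prime_le_four hr (by omega)
          · rintro (rfl | rfl)
            · exact h2π
            · exact h3π
        · intro h hh
          have hfh : ∀ x, f (h x) = θ ⟨h, hh⟩ (f x) := fun x => hθ ⟨h, hh⟩ x
          by_cases hσ : θ ⟨h, hh⟩ i₀ = i₀
          · left
            intro x
            rw [hmem, hmem, hfh]
            constructor
            · intro e
              apply (θ ⟨h, hh⟩).injective
              rw [e, hσ]
            · intro e
              rw [e, hσ]
          · right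
            intro x
            rw [hmem, hmem, hfh]
            constructor
            · intro e e'
              rw [e'] at e
              exact hσ e
            · intro e
              by_contra e'
              have h3 : 2 < Fintype.card ι := by
                rw [Fintype.two_lt_card_iff]
                refine ⟨i₀, θ ⟨h, hh⟩ i₀, θ ⟨h, hh⟩ (f x), Ne.symm hσ, Ne.symm e', ?_⟩
                intro e''
                exact e ((θ ⟨h, hh⟩).injective e'').symm
              omega
    · exfalso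
      have hc := IH {x // x ∈ B} _ _ (by rw [hcardB]; exact han) hXhat hHhat
        (by rw [hcardB]; exact h2a) (by rw [hcardB]; exact hNa)
      have hsa : s ∣ a := by rw [has]; exact dvd_pow_self s hk0
      have hsle : s ≤ a := Nat.le_of_dvd (by omega) hsa
      rcases hc with ⟨hp, hiff, -⟩ | ⟨h7, hiff, -⟩ | ⟨h8, hiff, -⟩
      · rw [hcardB] at hp hiff
        rcases (Nat.dvd_prime hp).mp hsa with h1 | h1
        · exact hs.one_lt.ne' h1
        · have := (hiff s hs hsle).mp hsπ
          omega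
      · rw [hcardB] at h7
        have h7p : Nat.Prime 7 := by norm_num
        rw [h7] at hsa
        have hs7 := (Nat.prime_dvd_prime_iff_eq hs h7p).mp hsa
        have := (hiff s hs (by omega)).mp hsπ
        omega
      · rw [hcardB] at h8
        rw [h8] at hsa
        have hs2 : s = 2 := by
          have : s ∣ 2 ^ 3 := by norm_num; exact hsa
          exact (Nat.prime_dvd_prime_iff_eq hs Nat.prime_two).mp (hs.dvd_of_dvd_pow this)
        have h3π : 3 ∈ π := (hiff 3 Nat.prime_three (by norm_num)).mpr (Or.inr rfl)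
        obtain ⟨hb3, -⟩ := hother 3 Nat.prime_three h3π (by omega) (by omega)
        have hb2 : b = 2 := by omega
        have h1 := hnum 3 Nat.prime_three h3π
        rw [h8, hb2, val_factorial_eq_zero Nat.prime_three (by norm_num : 2 < 3)] at h1
        have := not_dvd_choose_of_val Nat.prime_three 8 8 (by
          show padicValNat 3 (8 * 2)! ≤ _
          omega)
        exact this (by decide)

end Cfsg.Agent.Lib.Helper12.HallSym
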