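import Mathlib
import Cfsg.Agent.S0713
import Cfsg.Agent.Lib.Helper12.HallSymImprim

/-!
# Hall subgroups of symmetric/alternating groups: the main induction (helper12)
-/

set_option autoImplicit false
set_option linter.style.haveILetI false
set_option linter.unusedSectionVars false

namespace Cfsg.Agent.Lib.Helper12.HallSym

open Equiv Equiv.Perm Nat
open Cfsg.Agent.Lib.Helper12.HallSymArith

universe u

/-- the primitive case, as a hypothesis -/
def PrimStmt (A : Prop) : Prop :=
  ∀ (β : Type u) [Fintype β] [DecidableEq β] (π : Set ℕ) (X H : Subgroup (Perm β)),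
    XOK A X → Cfsg.IsPiHallOf π H X → MulAction.IsPreprimitive ↥H β →
    TwoPrimes π (Fintype.card β) → AllP π (Fintype.card β)

theorem hall_main {A : Prop} (hP : PrimStmt.{u} A) (π : Set ℕ) :
    ∀ (n : ℕ) (α : Type u) [Fintype α] [DecidableEq α] (X H : Subgroup (Perm α)),
      Fintype.card α = n → XOK A X → Cfsg.IsPiHallOf π H X → TwoPrimes π n → NotAll π n →
      Concl H π := by
  intro n
  induction n using Nat.strong_induction_on with
  | _ n ih =>
    intro α _ _ X H hcard hX hH h2 hN
    subst hcard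
    have IH : IHyp.{u} A π (Fintype.card α) := by
      intro β _ _ X' H' hlt hX' hH' h2' hN'
      exact ih (Fintype.card β) hlt β X' H' rfl hX' hH' h2' hN'
    by_cases htr : ∀ x y : α, ∃ g ∈ H, g x = y
    · by_cases hp : MulAction.IsPreprimitive ↥H α
      · exfalso
        obtain ⟨r, hr, hrn, hrπ⟩ := hN
        exact hrπ (hP α π X H hX hH hp h2 r hr hrn)
      · exact imprimitive_case hX hH h2 hN IH htr hp
    · exact intransitive_case hX hH h2 hN IH htr

theorem piHall_map_equiv {G G' : Type*} [Group G] [Group G'] {π : Set ℕ} {H : Subgroup G}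
    (em : G ≃* G') (h : Cfsg.IsPiHall π H) : Cfsg.IsPiHall π (H.map em.toMonoidHom) := by
  have h1 := hallOf_map em.toMonoidHom (hallOf_top_iff.mpr h)
  rw [Subgroup.map_top_of_surjective _ em.surjective] at h1
  exact hallOf_top_iff.mp h1

/-- the primitive case for the symmetric group -/
theorem primStmt_sym : PrimStmt.{u} False := by
  intro β _ _ π X H hX hH hprim h2
  have hXtop : X = ⊤ := by
    rcases hX with h | ⟨h, _⟩
    · exact h
    · exact h.elim
  subst hXtop
  have hn3 := three_le_of_twoPrimes h2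
  by_cases h2π : 2 ∈ π
  · obtain ⟨g, hg, hcyc, hcard⟩ :=
      exists_cycle_mem hX hH Nat.prime_two h2π (by omega) (Or.inl rfl)
    have hsw : g.IsSwap := Perm.card_support_eq_two.mp hcard
    have hHtop := Perm.subgroup_eq_top_of_isPreprimitive_of_isSwap_mem hprim g hsw hg
    intro r hr hrn
    apply hH.2.1 r hr
    rw [hHtop, Subgroup.card_top, Nat.card_eq_fintype_card, Fintype.card_perm]
    exact hr.dvd_factorial.mpr hrn
  · exfalso
    have hbig : ∀ m : ℕ, m.Prime → m ∈ π → m ≤ Fintype.card β → Fintype.card β < m + 3 := by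
      intro m hm hmπ hmn
      by_contra hle
      push Not at hle
      have hm2 : m ≠ 2 := fun e => h2π (e ▸ hmπ)
      have hm3 : 3 ≤ m := by have := hm.two_le; omega
      obtain ⟨g, hg, hcyc, hcard⟩ := exists_cycle_mem hX hH hm hmπ hmn (Or.inl rfl)
      have hle' := Cfsg.Agent.S0713.result H hprim hm (by omega) hle hcyc hcard hg
      apply h2π
      apply hH.2.1 2 Nat.prime_two
      have h1 : 2 ∣ Nat.card (alternatingGroup β) :=
        prime_dvd_card_xok (A := True) (Or.inr ⟨trivial, rfl⟩) (by omega) Nat.prime_two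
          (by omega)
      exact dvd_trans h1 (Subgroup.card_dvd_of_le hle')
    have hodd : ∀ m : ℕ, m.Prime → m ∈ π → m % 2 = 1 := by
      intro m hm hmπ
      rcases hm.eq_two_or_odd with h | h
      · exact absurd (h ▸ hmπ) h2π
      · exact h
    obtain ⟨p, q, hp, hq, hpπ, hqπ, hpq, hqn, hpn⟩ : ∃ p q : ℕ, p.Prime ∧ q.Prime ∧ p ∈ π ∧
        q ∈ π ∧ p < q ∧ q = Fintype.card β ∧ p + 2 = Fintype.card β := by
      obtain ⟨r, s, hr, hs, hrs, hrπ, hsπ, hrn, hsn⟩ := h2
      have h1 := hbig r hr hrπ hrn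
      have h2' := hbig s hs hsπ hsn
      have h3 := hodd r hr hrπ
      have h4 := hodd s hs hsπ
      rcases lt_or_gt_of_ne hrs with h | h
      · exact ⟨r, s, hr, hs, hrπ, hsπ, h, by omega, by omega⟩
      · exact ⟨s, r, hs, hr, hsπ, hrπ, h, by omega, by omega⟩
    have hmin : ∀ m : ℕ, m.Prime → m ∈ π → m ≤ q → m = p ∨ m = q := by
      intro m hm hmπ hmq
      have h1 := hbig m hm hmπ (by omega)
      have h3 := hodd m hm hmπ
      have h4 := hodd p hp hpπ
      omega
    let e : β ≃ Fin q := Fintype.equivFinOfCardEq hqn.symm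
    have hH' := piHall_map_equiv e.permCongrHom (hallOf_top_iff.mp hH)
    exact Cfsg.Agent.Lib.Helper1.HallUniversal.no_hall_odd hp hq h2π hpπ hqπ hpq hmin _ hH'

/-- **Thompson's theorem for symmetric groups**: a Hall `π`-subgroup of `Sym(α)`, when `π`
contains two primes `≤ n` and misses a prime `≤ n`. -/
theorem hall_sym {α : Type u} [Fintype α] [DecidableEq α] {π : Set ℕ} {H : Subgroup (Perm α)}
    (hH : Cfsg.IsPiHall π H) (h2 : TwoPrimes π (Fintype.card α))
    (hN : NotAll π (Fintype.card α)) : Concl H π :=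
  hall_main primStmt_sym π _ α ⊤ H rfl (Or.inl rfl) (hallOf_top_iff.mpr hH) h2 hN

end Cfsg.Agent.Lib.Helper12.HallSym
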