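import Mathlib
import Cfsg.Agent.Lib.Helper12.HallSymMain

/-!
# Hall subgroups of symmetric/alternating groups: the explicit Hall subgroups (helper12)
-/

set_option autoImplicit false
set_option linter.style.haveILetI false
set_option linter.unusedSectionVars false

namespace Cfsg.Agent.Lib.Helper12.HallSym

open Equiv Equiv.Perm Nat
open Cfsg.Agent.Lib.Helper12.HallSymArith

universe u

variable {α : Type u} [Fintype α] [DecidableEq α]

theorem stabS_eq_fibS (S : Finset α) : stabS S = fibS (fun x => decide (x ∈ S)) := by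
  ext g
  rw [mem_stabS, mem_fibS]
  constructor
  · intro h x
    exact decide_eq_decide.mpr (h x)
  · intro h x
    exact decide_eq_decide.mp (h x)

/-- order of the setwise stabiliser -/
theorem card_stabS (S : Finset α) :
    Nat.card (stabS S) = S.card ! * (Fintype.card α - S.card)! := by
  rw [stabS_eq_fibS, card_fibS, Fintype.prod_bool]
  have h1 : Fintype.card {a // decide (a ∈ S) = true} = S.card := by
    rw [Fintype.card_subtype]
    congr 1
    ext x
    simp
  have h2 : Fintype.card {a // decide (a ∈ S) = false} = Fintype.card α - S.card := by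
    rw [Fintype.card_subtype, ← Finset.card_compl]
    congr 1
    ext x
    simp
  rw [h1, h2]

/-- the stabiliser of the partition `{S, Sᶜ}` -/
def stabP (S : Finset α) : Subgroup (Perm α) where
  carrier := {g | (∀ x, g x ∈ S ↔ x ∈ S) ∨ (∀ x, g x ∈ S ↔ x ∉ S)}
  one_mem' := Or.inl (fun x => by simp)
  mul_mem' := by
    rintro a b (ha | ha) (hb | hb)
    · left
      intro x
      rw [Perm.mul_apply, ha, hb]
    · right
      intro x
      rw [Perm.mul_apply, ha, hb]
    · right
      intro x
      rw [Perm.mul_apply, ha, hb]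
    · left
      intro x
      rw [Perm.mul_apply, ha, hb, not_not]
  inv_mem' := by
    rintro a (ha | ha)
    · left
      intro x
      have := ha (a⁻¹ x)
      rw [show a (a⁻¹ x) = x from by simp] at this
      exact this.symm
    · right
      intro x
      have := ha (a⁻¹ x)
      rw [show a (a⁻¹ x) = x from by simp] at this
      rw [this, not_not]

theorem mem_stabP {S : Finset α} {g : Perm α} :
    g ∈ stabP S ↔ (∀ x, g x ∈ S ↔ x ∈ S) ∨ (∀ x, g x ∈ S ↔ x ∉ S) := Iff.rfl

theorem stabS_le_stabP (S : Finset α) : stabS S ≤ stabP S := fun _ hg => Or.inl hg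

theorem card_stabP [Nonempty α] (S : Finset α) (t : Perm α) (ht : ∀ x, t x ∈ S ↔ x ∉ S) :
    Nat.card (stabP S) = 2 * Nat.card (stabS S) := by
  obtain ⟨x₀⟩ := (inferInstance : Nonempty α)
  have hnot : ∀ g : Perm α, (∀ x, g x ∈ S ↔ x ∉ S) → g ∉ stabS S := by
    intro g hg hg'
    have h1 := hg x₀
    have h2 := hg' x₀
    rw [h2] at h1
    exact (iff_not_self h1)
  have htP : t ∈ stabP S := Or.inr ht
  have hidx : (stabS S).relIndex (stabP S) = 2 := by
    rw [Subgroup.relIndex, Subgroup.index_eq_two_iff]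
    refine ⟨⟨t, htP⟩, fun b => ?_⟩
    rcases b with ⟨b, hb | hb⟩
    · refine Or.inr ⟨hb, ?_⟩
      apply hnot
      intro x
      show b (t x) ∈ S ↔ x ∉ S
      rw [hb, ht]
    · refine Or.inl ⟨?_, hnot b hb⟩
      show ∀ x, b (t x) ∈ S ↔ x ∈ S
      intro x
      rw [hb, ht, not_not]
  rw [card_eq_card_mul_relIndex (stabS_le_stabP S), hidx, mul_comm]

/-- a criterion for being a Hall subgroup of the symmetric group -/
theorem piHall_of_card {π : Set ℕ} {Y : Subgroup (Perm α)} (c m : ℕ) (hc : Nat.card Y = c)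
    (hm : c * m = (Fintype.card α)!) (hπ : ∀ p : ℕ, p.Prime → p ∣ c → p ∈ π)
    (hm' : ∀ p : ℕ, p.Prime → p ∈ π → ¬ p ∣ m) : Cfsg.IsPiHall π Y := by
  have h1 := index_mul_card_perm Y
  rw [hc, ← hm, mul_comm] at h1
  have hc0 : 0 < c := by rw [← hc]; exact Nat.card_pos
  have h2 : Y.index = m := Nat.eq_of_mul_eq_mul_left hc0 h1
  refine ⟨fun p hp hd => hπ p hp (hc ▸ hd), fun p hp hpπ hd => hm' p hp hpπ (h2 ▸ hd)⟩

/-! ### Conjugation -/

theorem perm_apply_inv (g : Perm α) (x : α) : g (g⁻¹ x) = x := by simp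

theorem perm_inv_apply (g : Perm α) (x : α) : g⁻¹ (g x) = x := by simp

theorem stabS_conj {S₁ S₂ : Finset α} (g : Perm α) (hg : ∀ x, g x ∈ S₂ ↔ x ∈ S₁) :
    stabS S₂ = (stabS S₁).map (MulAut.conj g).toMonoidHom := by
  ext h
  rw [Subgroup.mem_map_equiv, MulAut.conj_symm_apply, mem_stabS, mem_stabS]
  constructor
  · intro hh x
    simp only [Perm.mul_apply]
    rw [← hg, perm_apply_inv, hh, hg]
  · intro hh y
    have := hh (g⁻¹ y)
    simp only [Perm.mul_apply, perm_apply_inv] at this
    rw [← hg, ← hg, perm_apply_inv, perm_apply_inv] at this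
    exact this

theorem stabP_conj {S₁ S₂ : Finset α} (g : Perm α) (hg : ∀ x, g x ∈ S₂ ↔ x ∈ S₁) :
    stabP S₂ = (stabP S₁).map (MulAut.conj g).toMonoidHom := by
  have key : ∀ h : Perm α, ∀ y, (g⁻¹ * h * g) (g⁻¹ y) ∈ S₁ ↔ h y ∈ S₂ := by
    intro h y
    simp only [Perm.mul_apply, perm_apply_inv]
    rw [← hg, perm_apply_inv]
  have key2 : ∀ y, g⁻¹ y ∈ S₁ ↔ y ∈ S₂ := by
    intro y
    rw [← hg, perm_apply_inv]
  ext h
  rw [Subgroup.mem_map_equiv, MulAut.conj_symm_apply, mem_stabP, mem_stabP]
  constructor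
  · rintro (hh | hh)
    · left
      intro x
      have := key h (g x)
      rw [perm_inv_apply] at this
      rw [this, hh, hg]
    · right
      intro x
      have := key h (g x)
      rw [perm_inv_apply] at this
      rw [this, hh, hg]
  · rintro (hh | hh)
    · left
      intro y
      rw [← key h y, hh, key2]
    · right
      intro y
      rw [← key h y, hh, key2]

/-- a permutation carrying one finset to another of the same size -/
theorem exists_perm_maps {S₁ S₂ : Finset α} (h : S₁.card = S₂.card) :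
    ∃ g : Perm α, ∀ x, g x ∈ S₂ ↔ x ∈ S₁ := by
  have e : {x // x ∈ S₁} ≃ {x // x ∈ S₂} :=
    Fintype.equivOfCardEq (by rw [Fintype.card_coe, Fintype.card_coe, h])
  refine ⟨e.extendSubtype, fun x => ?_⟩
  by_cases hx : x ∈ S₁
  · exact ⟨fun _ => hx, fun _ => e.extendSubtype_mem x hx⟩
  · exact ⟨fun h' => absurd h' (e.extendSubtype_not_mem x hx), fun h' => absurd h' hx⟩

end Cfsg.Agent.Lib.Helper12.HallSym
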