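import Mathlib
import Cfsg.Agent.Lib.Helper12.HallSymExplicit

/-!
# Hall subgroups of symmetric groups: existence in the three exceptional cases (helper12)
-/

set_option autoImplicit false
set_option linter.style.haveILetI false
set_option linter.unusedSectionVars false

namespace Cfsg.Agent.Lib.Helper12.HallSym

open Equiv Equiv.Perm Nat
open Cfsg.Agent.Lib.Helper12.HallSymArith

universe u

variable {α : Type u} [Fintype α] [DecidableEq α]

theorem prime_dvd_144 {p : ℕ} (hp : p.Prime) (h : p ∣ 144) : p = 2 ∨ p = 3 := by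
  have h1 : p ∣ 2 ^ 4 * 3 ^ 2 := by norm_num; exact h
  rcases (Nat.Prime.dvd_mul hp).mp h1 with h2 | h2
  · exact Or.inl ((Nat.prime_dvd_prime_iff_eq hp Nat.prime_two).mp (hp.dvd_of_dvd_pow h2))
  · exact Or.inr ((Nat.prime_dvd_prime_iff_eq hp Nat.prime_three).mp (hp.dvd_of_dvd_pow h2))

theorem prime_dvd_1152 {p : ℕ} (hp : p.Prime) (h : p ∣ 1152) : p = 2 ∨ p = 3 := by
  have h1 : p ∣ 2 ^ 7 * 3 ^ 2 := by norm_num; exact h
  rcases (Nat.Prime.dvd_mul hp).mp h1 with h2 | h2
  · exact Or.inl ((Nat.prime_dvd_prime_iff_eq hp Nat.prime_two).mp (hp.dvd_of_dvd_pow h2))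
  · exact Or.inr ((Nat.prime_dvd_prime_iff_eq hp Nat.prime_three).mp (hp.dvd_of_dvd_pow h2))

theorem prime_dvd_35 {p : ℕ} (hp : p.Prime) (h : p ∣ 35) : p = 5 ∨ p = 7 := by
  have h1 : p ∣ 5 * 7 := by norm_num; exact h
  rcases (Nat.Prime.dvd_mul hp).mp h1 with h2 | h2
  · exact Or.inl ((Nat.prime_dvd_prime_iff_eq hp (by norm_num)).mp h2)
  · exact Or.inr ((Nat.prime_dvd_prime_iff_eq hp (by norm_num)).mp h2)

/-- point stabilisers in prime degree -/
theorem hall_point {π : Set ℕ} (hn : (Fintype.card α).Prime)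
    (hiff : ∀ r : ℕ, r.Prime → r ≤ Fintype.card α → (r ∈ π ↔ r < Fintype.card α))
    (S : Finset α) (hS : S.card = 1) : Cfsg.IsPiHall π (stabS S) := by
  have hpos : 0 < Fintype.card α := hn.pos
  apply piHall_of_card ((Fintype.card α - 1)!) (Fintype.card α)
  · rw [card_stabS, hS]; simp
  · rw [mul_comm]; exact Nat.mul_factorial_pred hpos.ne'
  · intro p hp hd
    have := hp.dvd_factorial.mp hd
    exact (hiff p hp (by omega)).mpr (by omega)
  · intro p hp hpπ hd
    have := (Nat.prime_dvd_prime_iff_eq hp hn).mp hd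
    have h2 := (hiff p hp (by omega)).mp hpπ
    omega

/-- stabilisers of `3`-sets in degree `7` -/
theorem hall_seven {π : Set ℕ} (hn : Fintype.card α = 7)
    (hiff : ∀ r : ℕ, r.Prime → r ≤ 7 → (r ∈ π ↔ (r = 2 ∨ r = 3)))
    (S : Finset α) (hS : S.card = 3) : Cfsg.IsPiHall π (stabS S) := by
  apply piHall_of_card 144 35
  · rw [card_stabS, hS, hn]; decide
  · rw [hn]; decide
  · intro p hp hd
    have h1 := prime_dvd_144 hp hd
    exact (hiff p hp (by omega)).mpr h1
  · intro p hp hpπ hd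
    have h1 := prime_dvd_35 hp hd
    have h2 := (hiff p hp (by omega)).mp hpπ
    omega

/-- stabilisers of `4|4`-partitions in degree `8` -/
theorem hall_eight {π : Set ℕ} (hn : Fintype.card α = 8)
    (hiff : ∀ r : ℕ, r.Prime → r ≤ 8 → (r ∈ π ↔ (r = 2 ∨ r = 3)))
    (S : Finset α) (hS : S.card = 4) : Cfsg.IsPiHall π (stabP S) := by
  haveI : Nonempty α := Fintype.card_pos_iff.mp (by omega)
  obtain ⟨t, ht⟩ : ∃ t : Perm α, ∀ x, t x ∈ S ↔ x ∉ S := by
    obtain ⟨g, hg⟩ := exists_perm_maps (S₁ := Sᶜ) (S₂ := S) (by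
      rw [Finset.card_compl, hn, hS])
    exact ⟨g, fun x => by rw [hg, Finset.mem_compl]⟩
  apply piHall_of_card 1152 35
  · rw [card_stabP S t ht, card_stabS, hS, hn]; decide
  · rw [hn]; decide
  · intro p hp hd
    have h1 := prime_dvd_1152 hp hd
    exact (hiff p hp (by omega)).mpr h1
  · intro p hp hpπ hd
    have h1 := prime_dvd_35 hp hd
    have h2 := (hiff p hp (by omega)).mp hpπ
    omega

theorem exists_finset_card (k : ℕ) (hk : k ≤ Fintype.card α) : ∃ S : Finset α, S.card = k := by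
  obtain ⟨s, -, hs⟩ := Finset.exists_subset_card_eq (s := (Finset.univ : Finset α)) (n := k)
    (by rw [Finset.card_univ]; exact hk)
  exact ⟨s, hs⟩

end Cfsg.Agent.Lib.Helper12.HallSym
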