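import Mathlib
import Cfsg.Agent.Lib.Helper12.HallSymExist

/-!
# Hall subgroups of alternating groups: the primitive case (helper12)
-/

set_option autoImplicit false
set_option linter.style.haveILetI false
set_option linter.unusedSectionVars false

namespace Cfsg.Agent.Lib.Helper12.HallSym

open Equiv Equiv.Perm Nat
open Cfsg.Agent.Lib.Helper12.HallSymArith

universe u

/-! ### Solvable groups of prime degree -/

theorem solvable_map {G G' : Type*} [Group G] [Group G'] (f : G →* G') (K : Subgroup G)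
    (hK : Group.IsSolvable K) : Group.IsSolvable (K.map f) := by
  haveI := hK
  exact Group.isSolvable_of_surjective (f.subgroupMap_surjective K)

theorem solvable_of_le {G : Type*} [Group G] {K L : Subgroup G} (h : K ≤ L)
    (hL : Group.IsSolvable L) : Group.IsSolvable K := by
  haveI := hL
  exact Group.isSolvable_of_isSolvable_injective (Subgroup.inclusion_injective h)

theorem solvable_subgroupOf {G : Type*} [Group G] (K L : Subgroup G)
    (hK : Group.IsSolvable K) : Group.IsSolvable (K.subgroupOf L) := by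
  haveI := hK
  let f : ↥(K.subgroupOf L) →* ↥K :=
    { toFun := fun x => ⟨x.1.1, x.2⟩
      map_one' := rfl
      map_mul' := fun _ _ => rfl }
  have hf : Function.Injective f := by
    intro a b hab
    apply Subtype.ext
    apply Subtype.ext
    exact congrArg (fun z : ↥K => (z : G)) hab
  exact Group.isSolvable_of_isSolvable_injective hf

theorem not_sq_dvd_factorial {q : ℕ} (hq : q.Prime) : ¬ q * q ∣ q ! := by
  intro h
  obtain ⟨k, rfl⟩ : ∃ k, q = k + 1 := ⟨q - 1, by have := hq.pos; omega⟩
  rw [Nat.factorial_succ] at h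
  have h1 := Nat.dvd_of_mul_dvd_mul_left (by omega) h
  have := hq.dvd_factorial.mp h1
  omega

/-- A solvable transitive group of prime degree has no non-identity element with two fixed
points (type-generic version of a lemma of helper1). -/
theorem solvable_prime_degree {γ : Type*} [Fintype γ] [DecidableEq γ]
    (hq : (Fintype.card γ).Prime) (K : Subgroup (Perm γ)) (hsolv : Group.IsSolvable K)
    (hqK : Fintype.card γ ∣ Nat.card K) (τ : Perm γ) (hτK : τ ∈ K) (hτ1 : τ ≠ 1) (x y : γ)
    (hxy : x ≠ y) (hx : τ x = x) (hy : τ y = y) : False := by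
  obtain ⟨q, hqdef⟩ : ∃ q, Fintype.card γ = q := ⟨_, rfl⟩
  rw [hqdef] at hq hqK
  let e : γ ≃ Fin q := Fintype.equivFinOfCardEq hqdef
  have hsolv' : Group.IsSolvable (K.map e.permCongrHom.toMonoidHom) := solvable_map _ K hsolv
  have hidx : ¬ q ∣ (K.map e.permCongrHom.toMonoidHom).index := by
    have h0 : (K.map e.permCongrHom.toMonoidHom).index = K.index :=
      Subgroup.index_map_equiv K e.permCongrHom
    rw [h0]
    intro hd
    have h1 : K.index * Nat.card K = q ! := by rw [← hqdef]; exact index_mul_card_perm K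
    have h2 : q * q ∣ q ! := h1 ▸ Nat.mul_dvd_mul hd hqK
    exact not_sq_dvd_factorial hq h2
  refine Cfsg.Agent.Lib.Helper1.HallUniversal.perm_prime_solvable_false hq _ hsolv' hidx
    (e.permCongrHom τ) (Subgroup.mem_map_of_mem _ hτK) ?_ (e x) (e y) (e.injective.ne hxy) ?_ ?_
  · intro h
    apply hτ1
    exact e.permCongrHom.injective (h.trans (map_one e.permCongrHom).symm)
  · show e (τ (e.symm (e x))) = e x
    rw [Equiv.symm_apply_apply, hx]
  · show e (τ (e.symm (e y))) = e y
    rw [Equiv.symm_apply_apply, hy]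

/-! ### Multiple transitivity from Jordan's theorem -/

section Jordan

open MulAction

variable {α : Type u} [Fintype α] [DecidableEq α]

theorem multiTrans' (G : Subgroup (Perm α)) (hG : IsPreprimitive G α) {p : ℕ} (hp : p.Prime)
    {m : ℕ} (hm : Fintype.card α = p + m + 1) {g : Perm α} (hgc : g.IsCycle)
    (hgp : g.support.card = p) (hg : g ∈ G) : IsMultiplyPretransitive G α (m + 2) := by
  classical
  have hsc : Set.ncard ((g.support)ᶜ : Set α) = m + 1 := by
    apply Nat.add_left_cancel
    rw [Set.ncard_add_ncard_compl, Set.ncard_coe_finset, hgp, Nat.card_eq_fintype_card, hm]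
    ring
  have hprim : IsPreprimitive (fixingSubgroup G ((g.support : Set α)ᶜ))
      (SubMulAction.ofFixingSubgroup G ((g.support : Set α)ᶜ)) := by
    have := Equiv.Perm.isPretransitive_of_isCycle_mem hgc hg
    apply IsPreprimitive.of_prime_card
    convert hp
    rw [Nat.card_eq_fintype_card, Fintype.card_subtype, ← hgp]
    congr 1
    ext x
    simp [SubMulAction.mem_ofFixingSubgroup_iff]
  have h1 : IsMultiplyPreprimitive G α (m + 2) := by
    apply hG.isMultiplyPreprimitive hsc _ hprim
    rw [Nat.card_eq_fintype_card, hm]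
    have := hp.two_le
    omega
  exact inferInstance

theorem three_dvd_orderOf {h : Perm α} {x y z : α} (hxy : x ≠ y) (hxz : x ≠ z)
    (h1 : h x = y) (h2 : h y = z) (h3 : h z = x) : 3 ∣ orderOf h := by
  have h3x : (h ^ 3) x = x := by
    simp [pow_succ, Perm.mul_apply, h1, h2, h3]
  have hq : ∀ q : ℕ, ((h ^ 3) ^ q) x = x := by
    intro q
    induction q with
    | zero => simp
    | succ q ih => rw [pow_succ, Perm.mul_apply, h3x, ih]
  have hone := pow_orderOf_eq_one h
  by_contra hnd
  have hk : orderOf h = orderOf h % 3 + 3 * (orderOf h / 3) := by omega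
  have hr : orderOf h % 3 = 1 ∨ orderOf h % 3 = 2 := by omega
  have e : (h ^ (orderOf h)) x = x := by rw [hone]; rfl
  rw [hk, pow_add, pow_mul, Perm.mul_apply, hq] at e
  rcases hr with hr | hr
  · rw [hr, pow_one, h1] at e
    exact hxy e.symm
  · rw [hr, pow_two, Perm.mul_apply, h1, h2] at e
    exact hxz e.symm

theorem three_dvd_card_of_three_trans (G : Subgroup (Perm α))
    (hmt : IsMultiplyPretransitive G α 3) (hn : 3 ≤ Fintype.card α) : 3 ∣ Nat.card G := by
  obtain ⟨Δ, hΔ⟩ := exists_finset_card (α := α) 3 hn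
  obtain ⟨x, y, z, hxy, hxz, hyz, rfl⟩ := Finset.card_eq_three.mp hΔ
  obtain ⟨h, hh, hag⟩ := Cfsg.Agent.S0713.induce G _ hΔ hmt (Equiv.swap x y * Equiv.swap y z)
  have e1 : h x = y := by
    rw [hag x (by simp), Perm.mul_apply, Equiv.swap_apply_of_ne_of_ne hxy hxz,
      Equiv.swap_apply_left]
  have e2 : h y = z := by
    rw [hag y (by simp), Perm.mul_apply, Equiv.swap_apply_left,
      Equiv.swap_apply_of_ne_of_ne hxz.symm hyz.symm]
  have e3 : h z = x := by
    rw [hag z (by simp), Perm.mul_apply, Equiv.swap_apply_right, Equiv.swap_apply_right]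
  have h3 := three_dvd_orderOf hxy hxz e1 e2 e3
  have h4 : orderOf (⟨h, hh⟩ : ↥G) = orderOf h := by
    rw [← Subgroup.orderOf_coe]
  exact dvd_trans (h4 ▸ h3) (orderOf_dvd_natCard _)

end Jordan

/-! ### A double transposition in a Hall subgroup -/

variable {α : Type u} [Fintype α] [DecidableEq α]

theorem exists_dbl_swap_mem {A : Prop} {π : Set ℕ} {X H : Subgroup (Perm α)} (hX : XOK A X)
    (hH : Cfsg.IsPiHallOf π H X) (h2π : 2 ∈ π) (hn : 4 ≤ Fintype.card α) :
    ∃ τ ∈ H, τ ≠ 1 ∧ τ.support.card = 4 := by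
  obtain ⟨Δ, hΔ⟩ := exists_finset_card (α := α) 4 hn
  obtain ⟨a, b, c, d, hab, hac, had, hbc, hbd, hcd, rfl⟩ := Finset.card_eq_four.mp hΔ
  set τ₀ : Perm α := Equiv.swap a b * Equiv.swap c d with hτ₀
  have hdisj : Perm.Disjoint (Equiv.swap a b) (Equiv.swap c d) := by
    rw [Perm.disjoint_iff_disjoint_support, Perm.support_swap hab, Perm.support_swap hcd]
    simp only [Finset.disjoint_insert_right, Finset.mem_insert, Finset.mem_singleton,
      Finset.disjoint_singleton_right, not_or]
    exact ⟨⟨hac.symm, hbc.symm⟩, had.symm, hbd.symm⟩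
  have hcard : τ₀.support.card = 4 := by
    rw [hτ₀, hdisj.card_support_mul, Perm.card_support_swap hab, Perm.card_support_swap hcd]
  have hsign : Perm.sign τ₀ = 1 := by
    rw [hτ₀, Perm.sign_mul, Perm.sign_swap hab, Perm.sign_swap hcd]
    simp
  have hX' : τ₀ ∈ X := by
    rcases hX with hX | ⟨_, hX⟩
    · rw [hX]; exact Subgroup.mem_top _
    · rw [hX, Perm.mem_alternatingGroup]; exact hsign
  have hpow : τ₀ ^ 2 ^ 1 = 1 := by
    rw [pow_one, pow_two, hτ₀]
    have hc := hdisj.commute.eq
    calc Equiv.swap a b * Equiv.swap c d * (Equiv.swap a b * Equiv.swap c d)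
        = Equiv.swap a b * (Equiv.swap c d * Equiv.swap a b) * Equiv.swap c d := by group
      _ = Equiv.swap a b * (Equiv.swap a b * Equiv.swap c d) * Equiv.swap c d := by rw [hc]
      _ = (Equiv.swap a b * Equiv.swap a b) * (Equiv.swap c d * Equiv.swap c d) := by group
      _ = 1 := by rw [Equiv.swap_mul_self, Equiv.swap_mul_self, one_mul]
  obtain ⟨x, _, hx⟩ := exists_conj_mem hH Nat.prime_two h2π τ₀ hX' 1 hpow
  refine ⟨x * τ₀ * x⁻¹, hx, ?_, by rw [Perm.card_support_conj, hcard]⟩
  intro h1
  have : (x * τ₀ * x⁻¹).support.card = 4 := by rw [Perm.card_support_conj, hcard]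
  rw [h1] at this
  simp at this

theorem resS_ne_one {S : Finset α} {x : α} (hS : S = {x}ᶜ) {g : Perm α} (hg : g ∈ stabS S)
    (hgx : g x = x) (hg1 : g ≠ 1) : resS S ⟨g, hg⟩ ≠ 1 := by
  intro e
  obtain ⟨y, hy⟩ : ∃ y, g y ≠ y := by
    by_contra hall
    push Not at hall
    exact hg1 (Perm.ext hall)
  have hyS : y ∈ S := by
    rw [hS, Finset.mem_compl, Finset.mem_singleton]
    rintro rfl
    exact hy hgx
  have := congrArg (fun p : Perm {y // y ∈ S} => (p ⟨y, hyS⟩ : α)) e
  exact hy this

theorem divisors_sixty : ∀ d ∈ Nat.divisors 60, ¬ 2 ∣ d → ¬ 5 ∣ d → d ≤ 3 := by decide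

/-- the primitive case for the symmetric and alternating groups -/
theorem primStmt_alt : PrimStmt.{u} True := by
  intro β _ _ π X H hX hH hprim h2
  have hn3 := three_le_of_twoPrimes h2
  rcases hX with hXtop | ⟨-, hXalt⟩
  · exact primStmt_sym β π X H (Or.inl hXtop) hH hprim h2
  subst hXalt
  have hX : XOK True (alternatingGroup β) := Or.inr ⟨trivial, rfl⟩
  haveI hnt : Nontrivial β := Fintype.one_lt_card_iff_nontrivial.mp (by omega)
  by_cases h2π : 2 ∈ π
  swap
  · have hH' : Cfsg.IsPiHallOf π H ⊤ := by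
      refine ⟨le_top, hH.2.1, fun p hp hpπ hd => ?_⟩
      rw [Subgroup.relIndex_top_right, ← Subgroup.relIndex_mul_index hH.1,
        alternatingGroup.index_eq_two] at hd
      rcases (Nat.Prime.dvd_mul hp).mp hd with h | h
      · exact hH.2.2 p hp hpπ h
      · exact h2π ((Nat.prime_dvd_prime_iff_eq hp Nat.prime_two).mp h ▸ hpπ)
    exact primStmt_sym β π ⊤ H (Or.inl rfl) hH' hprim h2
  by_cases h3π : 3 ∈ π
  · obtain ⟨g, hg, hcyc, hcard⟩ :=
      exists_cycle_mem hX hH Nat.prime_three h3π hn3 (Or.inr (by norm_num))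
    have h3c : g.IsThreeCycle := _root_.card_support_eq_three_iff.mp hcard
    have hle := Perm.alternatingGroup_le_of_isPreprimitive_of_isThreeCycle_mem hprim h3c hg
    intro r hr hrn
    by_cases hn4 : 4 ≤ Fintype.card β
    · apply hH.2.1 r hr
      exact dvd_trans (prime_dvd_card_xok hX hn4 hr hrn) (Subgroup.card_dvd_of_le hle)
    · rcases prime_le_four hr (by omega) with rfl | rfl
      · exact h2π
      · exact h3π
  exfalso
  have h3H : ¬ 3 ∣ Nat.card H := fun hd => h3π (hH.2.1 3 Nat.prime_three hd)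
  -- Claim A
  have hA : ∀ s : ℕ, s.Prime → s ∈ π → s ≠ 2 → s ≤ Fintype.card β →
      Fintype.card β < s + 3 := by
    intro s hs hsπ hs2 hsn
    by_contra hle
    push Not at hle
    have hs3 : 3 ≤ s := by have := hs.two_le; omega
    obtain ⟨g, hg, hcyc, hcard⟩ := exists_cycle_mem hX hH hs hsπ hsn (Or.inr hs2)
    have hle' := Cfsg.Agent.S0713.result H hprim hs (by omega) hle hcyc hcard hg
    apply h3H
    exact dvd_trans (prime_dvd_card_xok hX (by omega) Nat.prime_three (by omega))
      (Subgroup.card_dvd_of_le hle')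
  -- Claim B
  have hB : ∀ s : ℕ, s.Prime → s ∈ π → s ≠ 2 → s ≤ Fintype.card β →
      Fintype.card β ≠ s + 2 := by
    intro s hs hsπ hs2 hsn hn
    obtain ⟨g, hg, hcyc, hcard⟩ := exists_cycle_mem hX hH hs hsπ hsn (Or.inr hs2)
    have hmt := multiTrans' H hprim hs (m := 1) (by omega) hcyc hcard hg
    exact h3H (three_dvd_card_of_three_trans H hmt hn3)
  -- an odd prime of π
  obtain ⟨s, hs, hsπ, hs2, hsn⟩ : ∃ s : ℕ, s.Prime ∧ s ∈ π ∧ s ≠ 2 ∧ s ≤ Fintype.card β := by
    obtain ⟨r, s, hr, hs, hrs, hrπ, hsπ, hrn, hsn⟩ := h2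
    by_cases h : r = 2
    · exact ⟨s, hs, hsπ, fun e => hrs (h.trans e.symm), hsn⟩
    · exact ⟨r, hr, hrπ, h, hrn⟩
  have hs5 : 5 ≤ s := by
    have := hs.two_le
    have h3 : s ≠ 3 := fun e => h3π (e ▸ hsπ)
    have h4 : s ≠ 4 := fun e => (by decide : ¬ Nat.Prime 4) (e ▸ hs)
    omega
  have hsA := hA s hs hsπ hs2 hsn
  have hsB := hB s hs hsπ hs2 hsn
  have hP : ∀ r : ℕ, r.Prime → r ∈ π → r ≤ Fintype.card β → r = 2 ∨ r = s := by
    intro r hr hrπ hrn
    by_contra hne
    push Not at hne
    have h1 := hA r hr hrπ hne.1 hrn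
    have h2' := hB r hr hrπ hne.1 hrn
    have hro := hr.eq_two_or_odd
    have hso := hs.eq_two_or_odd
    omega
  have hsolv : Group.IsSolvable H := by
    obtain ⟨a, b, hab⟩ := Cfsg.Agent.Lib.Helper1.HallUniversal.exists_eq_pow_mul_pow 2 s
      (Nat.card H) Nat.card_pos.ne' (by
        intro ℓ hℓ hd
        have hℓπ := hH.2.1 ℓ hℓ hd
        have hle : ℓ ≤ Fintype.card β := by
          have : ℓ ∣ (Fintype.card β)! := by
            rw [← index_mul_card_perm H]; exact dvd_mul_of_dvd_right hd _
          exact hℓ.dvd_factorial.mp this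
        exact hP ℓ hℓ hℓπ hle)
    exact Cfsg.Agent.Lib.Helper2.isSolvable_of_card_eq_prime_pow_mul_prime_pow 2 s
      Nat.prime_two hs _ ↥H rfl ⟨a, b, hab⟩
  have hn4 : 4 ≤ Fintype.card β := by omega
  have hsH : s ∣ Nat.card H :=
    dvd_card_of_hallOf hH hs hsπ (prime_dvd_card_xok hX hn4 hs hsn)
  have htr : ∀ x y : β, ∃ g ∈ H, g x = y := (pretransitive_iff H).mp hprim.toIsPretransitive
  obtain ⟨τ, hτH, hτ1, hτc⟩ := exists_dbl_swap_mem hX hH h2π hn4
  have hfixc : (τ.supportᶜ).card = Fintype.card β - 4 := by rw [Finset.card_compl, hτc]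
  have hs6 : s ≠ 6 := fun e => (by decide : ¬ Nat.Prime 6) (e ▸ hs)
  rcases (by omega : Fintype.card β = s ∨ Fintype.card β = s + 1) with hns | hns
  · -- degree s
    by_cases hs5' : s = 5
    · subst hs5'
      haveI : IsSimpleGroup (alternatingGroup β) :=
        alternatingGroup.isSimpleGroup (by rw [Nat.card_eq_fintype_card, hns])
      have hne : H.subgroupOf (alternatingGroup β) ≠ ⊤ := by
        intro e
        rw [Subgroup.subgroupOf_eq_top] at e
        exact h3H (dvd_trans (prime_dvd_card_xok hX hn4 Nat.prime_three (by omega))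
          (Subgroup.card_dvd_of_le e))
      have hle :=
        Cfsg.Agent.Lib.Helper1.HallUniversal.card_le_factorial_index_of_simple _ hne
      have hcA : Nat.card (alternatingGroup β) = 60 := by
        have := index_mul_card_perm (alternatingGroup β)
        rw [alternatingGroup.index_eq_two, hns] at this
        have h5 : (5 : ℕ)! = 120 := by decide
        omega
      have hrel : H.relIndex (alternatingGroup β) ∣ 60 := by
        rw [← hcA]; exact Subgroup.relIndex_dvd_card H _
      have h3 := divisors_sixty _ (Nat.mem_divisors.mpr ⟨hrel, by norm_num⟩)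
        (hH.2.2 2 Nat.prime_two h2π) (hH.2.2 5 hs hsπ)
      have h4 : (H.relIndex (alternatingGroup β))! ≤ 3 ! := Nat.factorial_le h3
      have h6 : (3 : ℕ)! = 6 := by decide
      rw [hcA] at hle
      change 60 ≤ (H.relIndex (alternatingGroup β))! at hle
      omega
    · have hs7 : 7 ≤ s := by omega
      obtain ⟨x, y, hxy, hx, hy⟩ : ∃ x y : β, x ≠ y ∧ τ x = x ∧ τ y = y := by
        have h2c : 1 < (τ.supportᶜ).card := by rw [hfixc]; omega
        obtain ⟨x, hx, y, hy, hxy⟩ := Finset.one_lt_card.mp h2c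
        rw [Finset.mem_compl, Perm.notMem_support] at hx hy
        exact ⟨x, y, hxy, hx, hy⟩
      exact solvable_prime_degree (by rw [hns]; exact hs) H hsolv (by rw [hns]; exact hsH)
        τ hτH hτ1 x y hxy hx hy
  · -- degree s + 1
    haveI := hprim.toIsPretransitive
    have hnH : Fintype.card β ∣ Nat.card H := by
      obtain ⟨x⟩ := (inferInstance : Nonempty β)
      have := MulAction.index_stabilizer_of_transitive ↥H x
      rw [← Nat.card_eq_fintype_card, ← this]
      exact Subgroup.index_dvd_card _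
    by_cases hs5' : s = 5
    · apply h3H
      rw [hs5'] at hns
      rw [hns] at hnH
      exact dvd_trans (by norm_num : 3 ∣ 5 + 1) hnH
    · have hs7 : 7 ≤ s := by omega
      obtain ⟨σ, hσH, hσc, hσcard⟩ := exists_cycle_mem hX hH hs hsπ hsn (Or.inr hs2)
      obtain ⟨x, hx⟩ : ∃ x, σ x = x := by
        have : 0 < (σ.supportᶜ).card := by rw [Finset.card_compl, hσcard]; omega
        obtain ⟨x, hx⟩ := Finset.card_pos.mp this
        exact ⟨x, Perm.notMem_support.mp (Finset.mem_compl.mp hx)⟩
      obtain ⟨z, hz⟩ : ∃ z, τ z = z := by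
        have : 0 < (τ.supportᶜ).card := by rw [hfixc]; omega
        obtain ⟨x, hx⟩ := Finset.card_pos.mp this
        exact ⟨x, Perm.notMem_support.mp (Finset.mem_compl.mp hx)⟩
      obtain ⟨h, hh, hhz⟩ := htr z x
      obtain ⟨τ', hτ'⟩ : ∃ τ' : Perm β, τ' = h * τ * h⁻¹ := ⟨_, rfl⟩
      have hτ'H : τ' ∈ H := by
        rw [hτ']; exact H.mul_mem (H.mul_mem hh hτH) (H.inv_mem hh)
      have hτ'1 : τ' ≠ 1 := by
        intro e
        apply hτ1
        have : τ = h⁻¹ * τ' * h := by rw [hτ']; group
        rw [this, e]; group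
      have hτ'c : τ'.support.card = 4 := by rw [hτ', Perm.card_support_conj, hτc]
      have hτ'x : τ' x = x := by
        rw [hτ', Perm.mul_apply, Perm.mul_apply, ← hhz, perm_inv_apply, hz]
      obtain ⟨S, hS⟩ : ∃ S : Finset β, S = {x}ᶜ := ⟨_, rfl⟩
      have hScard : S.card = s := by
        rw [hS, Finset.card_compl, Finset.card_singleton]; omega
      have hstab : ∀ g : Perm β, g x = x → g ∈ stabS S := by
        intro g hg y
        rw [hS, Finset.mem_compl, Finset.mem_compl, Finset.mem_singleton, Finset.mem_singleton]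
        constructor
        · intro h1 h2; exact h1 (by rw [h2, hg])
        · intro h1 h2; apply h1; exact g.injective (h2.trans hg.symm)
      have hKsolv : Group.IsSolvable (resG S (H ⊓ stabS S)) :=
        solvable_map _ _ (solvable_subgroupOf _ _ (solvable_of_le inf_le_left hsolv))
      have hcardS : Fintype.card {y // y ∈ S} = s := by rw [Fintype.card_coe, hScard]
      have hσS := hstab σ hx
      have hσK : resS S ⟨σ, hσS⟩ ∈ resG S (H ⊓ stabS S) :=
        mem_resG.mpr ⟨σ, hσS, Subgroup.mem_inf.mpr ⟨hσH, hσS⟩, rfl⟩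
      have hsK : s ∣ Nat.card (resG S (H ⊓ stabS S)) := by
        have hpow : (resS S ⟨σ, hσS⟩) ^ s = 1 := by
          rw [← map_pow]
          have : (⟨σ, hσS⟩ : ↥(stabS S)) ^ s = 1 := by
            apply Subtype.ext
            show σ ^ s = 1
            rw [← hσcard, ← hσc.orderOf]; exact pow_orderOf_eq_one σ
          rw [this, map_one]
        have hne1 := resS_ne_one hS hσS hx hσc.ne_one
        have hord : orderOf (resS S ⟨σ, hσS⟩) = s := by
          rcases (Nat.dvd_prime hs).mp (orderOf_dvd_of_pow_eq_one hpow) with h1 | h1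
          · exact absurd (orderOf_eq_one_iff.mp h1) hne1
          · exact h1
        have h4 : orderOf (⟨_, hσK⟩ : ↥(resG S (H ⊓ stabS S))) = s := by
          rw [← Subgroup.orderOf_coe]; exact hord
        rw [← h4]; exact orderOf_dvd_natCard _
      have hτ'S := hstab τ' hτ'x
      have hτ'K : resS S ⟨τ', hτ'S⟩ ∈ resG S (H ⊓ stabS S) :=
        mem_resG.mpr ⟨τ', hτ'S, Subgroup.mem_inf.mpr ⟨hτ'H, hτ'S⟩, rfl⟩
      have hτ'ne := resS_ne_one hS hτ'S hτ'x hτ'1
      have h3c : 2 < (τ'.supportᶜ).card := by rw [Finset.card_compl, hτ'c]; omega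
      have h2c : 1 < ((τ'.supportᶜ).erase x).card := by
        rw [Finset.card_erase_of_mem (by
          rw [Finset.mem_compl, Perm.notMem_support]; exact hτ'x)]
        omega
      obtain ⟨u, hu, v, hv, huv⟩ := Finset.one_lt_card.mp h2c
      rw [Finset.mem_erase, Finset.mem_compl, Perm.notMem_support] at hu hv
      have huS : u ∈ S := by rw [hS, Finset.mem_compl, Finset.mem_singleton]; exact hu.1
      have hvS : v ∈ S := by rw [hS, Finset.mem_compl, Finset.mem_singleton]; exact hv.1
      exact solvable_prime_degree (γ := {y // y ∈ S}) (by rw [hcardS]; exact hs) _ hKsolv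
        (by rw [hcardS]; exact hsK) _ hτ'K hτ'ne ⟨u, huS⟩ ⟨v, hvS⟩
        (fun e => huv (congrArg Subtype.val e)) (Subtype.ext hu.2) (Subtype.ext hv.2)

/-- **Thompson's theorem**: Hall `π`-subgroups of symmetric and alternating groups. -/
theorem hall_alt {α : Type u} [Fintype α] [DecidableEq α] {π : Set ℕ}
    {X H : Subgroup (Perm α)} (hX : XOK True X) (hH : Cfsg.IsPiHallOf π H X)
    (h2 : TwoPrimes π (Fintype.card α)) (hN : NotAll π (Fintype.card α)) : Concl H π :=
  hall_main primStmt_alt π _ α X H rfl hX hH h2 hN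

end Cfsg.Agent.Lib.Helper12.HallSym
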