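import Cfsg.Agent.Lib.Helper12.E8CCT2Defs

set_option autoImplicit false
set_option Elab.async false

/-! S2107 farm, piece [E8-T2]: certificate rows 120..239 of `chevE8`
(kernel-checked, 30 rows per declaration). -/

namespace Cfsg.Agent.Lib.Helper10.E8CC.Helper12

open Cfsg.Lie Cfsg.Agent.Lib.Helper8.Chev Cfsg.Agent.Lib.Helper14.StCC.B.Helper13

set_option maxHeartbeats 0 in
/-- certificate rows 120..149 -/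
def cE8_4 : List (List (List ℤ)) :=
  [
  [[-2, -3, -4, -6, -5, -4, -2, -1], [-2, -2, -3, -4, -3, -2, -2, -1], [-1, -3, -3, -5, -4, -3, -2, -1], [-1, -1, -2, -3, -3, -2, -2, -1], [-1, -2, -3, -4, -3, -3, -2, -1], [-2, -3, -4, -6, -4, -3, -2, -1]],
  [[-2, -3, -4, -6, -5, -4, -3, -2], [-2, -2, -3, -4, -3, -2, -1, 0], [-1, -3, -3, -5, -4, -3, -2, -1], [-1, -1, -2, -3, -3, -2, -1, 0], [-1, -2, -3, -4, -3, -3, -2, -1], [-2, -3, -4, -6, -4, -3, -2, -1]],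
  [[-2, -3, -4, -6, -5, -4, -3, -1], [-2, -2, -3, -4, -3, -2, -1, -1], [-1, -3, -3, -5, -4, -3, -2, -1], [-1, -1, -2, -3, -3, -2, -1, -1], [-1, -2, -3, -4, -3, -3, -2, -1], [-2, -3, -4, -6, -4, -3, -2, -1]],
  [[-2, -3, -4, -6, -5, -4, -3, -2], [-2, -2, -3, -4, -3, -2, -1, 0], [-1, -3, -3, -5, -4, -3, -2, -1], [-1, -1, -2, -3, -3, -2, -1, 0], [-1, -2, -3, -4, -3, -2, -1, -1], [-2, -3, -4, -6, -4, -3, -2, -1]],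
  [[-2, -3, -4, -6, -5, -4, -3, -2], [-2, -2, -3, -4, -3, -2, -1, 0], [-1, -3, -3, -5, -4, -3, -2, -1], [-1, -1, -2, -3, -3, -2, -1, 0], [-1, -2, -3, -4, -3, -2, -2, -1], [-2, -3, -4, -6, -4, -3, -2, -1]],
  [[-2, -3, -4, -6, -5, -4, -3, -1], [-2, -2, -3, -4, -3, -2, -1, -1], [-1, -3, -3, -5, -4, -3, -2, -1], [-1, -1, -2, -3, -3, -2, -1, -1], [-1, -2, -3, -4, -3, -2, -2, -1], [-2, -3, -4, -6, -4, -3, -2, -1]],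
  [[-2, -3, -4, -6, -5, -4, -3, -2], [-2, -2, -3, -4, -3, -2, -1, 0], [-1, -3, -3, -5, -4, -3, -2, -1], [-1, -1, -2, -3, -2, -1, -1, 0], [-1, -2, -3, -4, -3, -2, -1, -1], [-2, -3, -4, -6, -5, -4, -2, -1]],
  [[-2, -3, -4, -6, -5, -4, -3, -2], [-2, -2, -3, -4, -3, -2, -1, 0], [-1, -3, -3, -5, -4, -3, -2, -1], [-1, -1, -2, -3, -2, -2, -1, 0], [-1, -2, -3, -4, -3, -2, -1, -1], [-2, -3, -4, -6, -5, -3, -2, -1]],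
  [[-2, -3, -4, -6, -5, -4, -3, -2], [-2, -2, -3, -4, -3, -2, -1, 0], [-1, -3, -3, -5, -4, -3, -2, -1], [-1, -1, -2, -3, -2, -2, -1, 0], [-1, -2, -3, -4, -3, -2, -2, -1], [-2, -3, -4, -6, -5, -3, -2, -1]],
  [[-2, -3, -4, -6, -5, -4, -3, -1], [-2, -2, -3, -4, -3, -2, -1, -1], [-1, -3, -3, -5, -4, -3, -2, -1], [-1, -1, -2, -3, -2, -2, -1, -1], [-1, -2, -3, -4, -3, -2, -2, -1], [-2, -3, -4, -6, -5, -3, -2, -1]],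
  [[-2, -3, -4, -6, -5, -4, -3, -2], [-2, -2, -3, -4, -3, -2, -1, 0], [-1, -3, -3, -5, -4, -3, -2, -1], [-1, -1, -2, -3, -3, -2, -1, 0], [-1, -2, -3, -4, -3, -3, -2, -1], [-2, -3, -4, -6, -5, -4, -3, -1]],
  [[-2, -3, -4, -6, -5, -4, -3, -2], [-2, -2, -3, -4, -3, -2, -1, 0], [-1, -3, -3, -5, -4, -3, -2, -1], [-1, -1, -2, -3, -2, -2, -1, 0], [-1, -2, -3, -4, -4, -3, -2, -1], [-2, -3, -4, -6, -5, -4, -3, -1]],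
  [[-2, -3, -4, -6, -5, -4, -3, -2], [-2, -2, -3, -4, -3, -2, -1, 0], [-1, -3, -3, -5, -4, -3, -2, -1], [-1, -1, -2, -3, -2, -1, -1, 0], [-1, -2, -3, -4, -4, -3, -2, -1], [-2, -3, -4, -6, -5, -4, -3, -1]],
  [[-2, -3, -4, -6, -5, -4, -3, -2], [-2, -2, -3, -4, -3, -2, -1, 0], [-1, -3, -3, -5, -4, -3, -2, -1], [-1, -1, -2, -3, -2, -1, 0, 0], [-1, -2, -3, -4, -4, -3, -2, -1], [-2, -3, -4, -6, -5, -4, -2, -1]],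
  [[-2, -3, -4, -6, -5, -4, -3, -1], [-2, -2, -3, -4, -3, -2, -1, -1], [-1, -3, -3, -5, -4, -3, -2, -1], [-1, -1, -2, -3, -2, -1, 0, 0], [-1, -2, -3, -4, -4, -3, -2, -1], [-2, -3, -4, -6, -5, -4, -2, -1]],
  [[-2, -3, -4, -6, -5, -4, -3, -2], [-2, -2, -3, -4, -3, -2, -1, 0], [-1, -3, -3, -5, -4, -3, -2, -1], [-1, -1, -2, -3, -3, -2, -1, 0], [-1, -2, -2, -3, -3, -3, -2, -1], [-2, -3, -4, -6, -5, -4, -3, -1]],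
  [[-2, -3, -4, -6, -5, -4, -3, -2], [-2, -2, -3, -4, -3, -2, -1, 0], [-1, -3, -3, -5, -4, -3, -2, -1], [-1, -1, -2, -3, -3, -2, -1, 0], [-1, -2, -2, -4, -3, -3, -2, -1], [-2, -3, -4, -6, -5, -4, -3, -1]],
  [[-2, -3, -4, -6, -5, -4, -3, -2], [-2, -2, -3, -4, -3, -2, -1, 0], [-1, -3, -3, -5, -4, -3, -2, -1], [-1, -1, -2, -3, -2, -2, -1, 0], [-1, -2, -2, -4, -4, -3, -2, -1], [-2, -3, -4, -6, -5, -4, -3, -1]],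
  [[-2, -3, -4, -6, -5, -4, -3, -2], [-2, -2, -3, -4, -3, -2, -1, 0], [-1, -3, -3, -5, -4, -3, -2, -1], [-1, -1, -2, -3, -2, -1, -1, 0], [-1, -2, -2, -4, -4, -3, -2, -1], [-2, -3, -4, -6, -5, -4, -3, -1]],
  [[-2, -3, -4, -6, -5, -4, -3, -2], [-2, -2, -3, -4, -3, -2, -1, 0], [-1, -3, -3, -5, -4, -3, -2, -1], [-1, -1, -2, -3, -2, -1, 0, 0], [-1, -2, -2, -4, -4, -3, -2, -1], [-2, -3, -4, -6, -5, -4, -2, -1]],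
  [[-2, -3, -4, -6, -5, -4, -3, -1], [-2, -2, -3, -4, -3, -2, -1, -1], [-1, -3, -3, -5, -4, -3, -2, -1], [-1, -1, -2, -3, -2, -1, 0, 0], [-1, -2, -2, -4, -4, -3, -2, -1], [-2, -3, -4, -6, -5, -4, -2, -1]],
  [[-2, -3, -4, -6, -5, -4, -3, -2], [-2, -2, -3, -4, -3, -2, -1, 0], [-1, -2, -3, -4, -4, -3, -2, -1], [-1, -2, -2, -4, -3, -2, -1, 0], [-1, -2, -3, -4, -3, -3, -2, -1], [-2, -3, -4, -6, -5, -4, -3, -1]],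
  [[-2, -3, -4, -6, -5, -4, -3, -2], [-2, -2, -3, -4, -3, -2, -1, 0], [-1, -2, -3, -5, -4, -3, -2, -1], [-1, -2, -2, -3, -3, -2, -1, 0], [-1, -2, -3, -4, -3, -3, -2, -1], [-2, -3, -4, -6, -5, -4, -3, -1]],
  [[-2, -3, -4, -6, -5, -4, -3, -2], [-2, -2, -3, -4, -3, -2, -1, 0], [-1, -2, -3, -5, -4, -3, -2, -1], [-1, -2, -2, -3, -2, -2, -1, 0], [-1, -2, -3, -4, -4, -3, -2, -1], [-2, -3, -4, -6, -5, -4, -3, -1]],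
  [[-2, -3, -4, -6, -5, -4, -3, -2], [-2, -2, -3, -4, -3, -2, -1, 0], [-1, -2, -3, -5, -4, -3, -2, -1], [-1, -2, -2, -3, -2, -1, -1, 0], [-1, -2, -3, -4, -4, -3, -2, -1], [-2, -3, -4, -6, -5, -4, -3, -1]],
  [[-2, -3, -4, -6, -5, -4, -3, -2], [-2, -2, -3, -4, -3, -2, -1, 0], [-1, -2, -3, -5, -4, -3, -2, -1], [-1, -2, -2, -3, -2, -1, 0, 0], [-1, -2, -3, -4, -4, -3, -2, -1], [-2, -3, -4, -6, -5, -4, -2, -1]],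
  [[-2, -3, -4, -6, -5, -4, -3, -1], [-2, -2, -3, -4, -3, -2, -1, -1], [-1, -2, -3, -5, -4, -3, -2, -1], [-1, -2, -2, -3, -2, -1, 0, 0], [-1, -2, -3, -4, -4, -3, -2, -1], [-2, -3, -4, -6, -5, -4, -2, -1]],
  [[-2, -3, -4, -6, -5, -4, -3, -2], [-2, -2, -3, -4, -3, -2, -1, 0], [-1, -2, -3, -5, -4, -3, -2, -1], [-1, -2, -2, -3, -3, -2, -1, 0], [-1, -2, -2, -4, -3, -3, -2, -1], [-2, -3, -4, -6, -5, -4, -3, -1]],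
  [[-2, -3, -4, -6, -5, -4, -3, -2], [-2, -2, -3, -4, -3, -2, -1, 0], [-1, -2, -3, -5, -4, -3, -2, -1], [-1, -2, -2, -3, -2, -2, -1, 0], [-1, -2, -2, -4, -4, -3, -2, -1], [-2, -3, -4, -6, -5, -4, -3, -1]],
  [[-2, -3, -4, -6, -5, -4, -3, -2], [-2, -2, -3, -4, -3, -2, -1, 0], [-1, -2, -3, -5, -4, -3, -2, -1], [-1, -2, -2, -3, -2, -1, -1, 0], [-1, -2, -2, -4, -4, -3, -2, -1], [-2, -3, -4, -6, -5, -4, -3, -1]]]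

theorem cE8_4_len : cE8_4.length = 30 := rfl

set_option maxRecDepth 1000000 in
theorem rowsE8_4 : checkRows1 chevE8.nroots tabE8 120 cE8_4 = true := by
  decide +kernel

set_option maxHeartbeats 0 in
/-- certificate rows 150..179 -/
def cE8_5 : List (List (List ℤ)) :=
  [
  [[-2, -3, -4, -6, -5, -4, -3, -2], [-2, -2, -3, -4, -3, -2, -1, 0], [-1, -2, -3, -5, -4, -3, -2, -1], [-1, -2, -2, -3, -2, -1, 0, 0], [-1, -2, -2, -4, -4, -3, -2, -1], [-2, -3, -4, -6, -5, -4, -2, -1]],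
  [[-2, -3, -4, -6, -5, -4, -3, -1], [-2, -2, -3, -4, -3, -2, -1, -1], [-1, -2, -3, -5, -4, -3, -2, -1], [-1, -2, -2, -3, -2, -1, 0, 0], [-1, -2, -2, -4, -4, -3, -2, -1], [-2, -3, -4, -6, -5, -4, -2, -1]],
  [[-2, -3, -4, -6, -5, -4, -3, -2], [-2, -2, -3, -4, -3, -2, -1, 0], [-1, -2, -3, -4, -4, -3, -2, -1], [-1, -2, -2, -3, -2, -2, -1, 0], [-1, -2, -2, -4, -4, -3, -2, -1], [-2, -3, -4, -6, -5, -4, -3, -1]],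
  [[-2, -3, -4, -6, -5, -4, -3, -2], [-2, -2, -3, -4, -3, -2, -1, 0], [-1, -2, -3, -4, -4, -3, -2, -1], [-1, -2, -2, -3, -2, -1, -1, 0], [-1, -2, -2, -4, -4, -3, -2, -1], [-2, -3, -4, -6, -5, -4, -3, -1]],
  [[-2, -3, -4, -6, -5, -4, -3, -2], [-2, -2, -3, -4, -3, -2, -1, 0], [-1, -2, -3, -4, -4, -3, -2, -1], [-1, -2, -2, -3, -2, -1, 0, 0], [-1, -2, -2, -4, -4, -3, -2, -1], [-2, -3, -4, -6, -5, -4, -2, -1]],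
  [[-2, -3, -4, -6, -5, -4, -3, -1], [-2, -2, -3, -4, -3, -2, -1, -1], [-1, -2, -3, -4, -4, -3, -2, -1], [-1, -2, -2, -3, -2, -1, 0, 0], [-1, -2, -2, -4, -4, -3, -2, -1], [-2, -3, -4, -6, -5, -4, -2, -1]],
  [[-2, -3, -4, -6, -5, -4, -3, -2], [-2, -2, -3, -4, -3, -2, -1, 0], [-1, -2, -3, -4, -3, -3, -2, -1], [-1, -2, -2, -3, -2, -1, -1, 0], [-1, -2, -2, -4, -3, -3, -2, -1], [-2, -3, -4, -6, -5, -4, -3, -1]],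
  [[-2, -3, -4, -6, -5, -4, -3, -2], [-2, -2, -3, -4, -3, -2, -1, 0], [-1, -2, -3, -4, -3, -3, -2, -1], [-1, -2, -2, -3, -2, -1, 0, 0], [-1, -2, -2, -4, -3, -3, -2, -1], [-2, -3, -4, -6, -5, -4, -2, -1]],
  [[-2, -3, -4, -6, -5, -4, -3, -1], [-2, -2, -3, -4, -3, -2, -1, -1], [-1, -2, -3, -4, -3, -3, -2, -1], [-1, -2, -2, -3, -2, -1, 0, 0], [-1, -2, -2, -4, -3, -3, -2, -1], [-2, -3, -4, -6, -5, -4, -2, -1]],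
  [[-2, -3, -4, -6, -5, -4, -3, -2], [-2, -2, -3, -4, -3, -2, -1, 0], [-1, -2, -3, -4, -3, -2, -2, -1], [-1, -2, -2, -3, -2, -1, 0, 0], [-1, -2, -2, -4, -3, -2, -2, -1], [-2, -3, -4, -6, -5, -3, -2, -1]],
  [[-2, -3, -4, -6, -5, -4, -3, -1], [-2, -2, -3, -4, -3, -2, -1, -1], [-1, -2, -3, -4, -3, -2, -2, -1], [-1, -2, -2, -3, -2, -1, 0, 0], [-1, -2, -2, -4, -3, -2, -2, -1], [-2, -3, -4, -6, -5, -3, -2, -1]],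
  [[-2, -3, -4, -6, -5, -4, -2, -1], [-2, -2, -3, -4, -3, -2, -2, -1], [-1, -2, -3, -4, -3, -2, -1, -1], [-1, -2, -2, -3, -2, -1, -1, 0], [-1, -2, -2, -4, -3, -2, -1, -1], [-2, -3, -4, -6, -5, -3, -2, -1]],
  [[-2, -3, -4, -6, -5, -4, -3, -2], [-1, -2, -2, -4, -3, -2, -1, 0], [-2, -3, -4, -5, -4, -3, -2, -1], [-1, -1, -2, -3, -3, -2, -1, 0], [-1, -2, -2, -3, -3, -3, -2, -1], [-2, -3, -4, -6, -5, -4, -3, -1]],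
  [[-2, -3, -4, -6, -5, -4, -3, -2], [-1, -2, -3, -4, -3, -2, -1, 0], [-2, -3, -3, -5, -4, -3, -2, -1], [-1, -1, -2, -3, -3, -2, -1, 0], [-1, -2, -2, -3, -3, -3, -2, -1], [-2, -3, -4, -6, -5, -4, -3, -1]],
  [[-2, -3, -4, -6, -5, -4, -3, -2], [-1, -2, -3, -4, -3, -2, -1, 0], [-2, -3, -3, -5, -4, -3, -2, -1], [-1, -1, -2, -3, -3, -2, -1, 0], [-1, -2, -2, -4, -3, -3, -2, -1], [-2, -3, -4, -6, -5, -4, -3, -1]],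
  [[-2, -3, -4, -6, -5, -4, -3, -2], [-1, -2, -3, -4, -3, -2, -1, 0], [-2, -3, -3, -5, -4, -3, -2, -1], [-1, -1, -2, -3, -2, -2, -1, 0], [-1, -2, -2, -4, -4, -3, -2, -1], [-2, -3, -4, -6, -5, -4, -3, -1]],
  [[-2, -3, -4, -6, -5, -4, -3, -2], [-1, -2, -3, -4, -3, -2, -1, 0], [-2, -3, -3, -5, -4, -3, -2, -1], [-1, -1, -2, -3, -2, -1, -1, 0], [-1, -2, -2, -4, -4, -3, -2, -1], [-2, -3, -4, -6, -5, -4, -3, -1]],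
  [[-2, -3, -4, -6, -5, -4, -3, -2], [-1, -2, -3, -4, -3, -2, -1, 0], [-2, -3, -3, -5, -4, -3, -2, -1], [-1, -1, -2, -3, -2, -1, 0, 0], [-1, -2, -2, -4, -4, -3, -2, -1], [-2, -3, -4, -6, -5, -4, -2, -1]],
  [[-2, -3, -4, -6, -5, -4, -3, -1], [-1, -2, -3, -4, -3, -2, -1, -1], [-2, -3, -3, -5, -4, -3, -2, -1], [-1, -1, -2, -3, -2, -1, 0, 0], [-1, -2, -2, -4, -4, -3, -2, -1], [-2, -3, -4, -6, -5, -4, -2, -1]],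
  [[-2, -3, -4, -6, -5, -4, -3, -2], [-1, -2, -3, -4, -3, -2, -1, 0], [-2, -2, -3, -5, -4, -3, -2, -1], [-1, -2, -2, -3, -3, -2, -1, 0], [-1, -2, -2, -4, -3, -3, -2, -1], [-2, -3, -4, -6, -5, -4, -3, -1]],
  [[-2, -3, -4, -6, -5, -4, -3, -2], [-1, -2, -3, -4, -3, -2, -1, 0], [-2, -2, -3, -5, -4, -3, -2, -1], [-1, -2, -2, -3, -2, -2, -1, 0], [-1, -2, -2, -4, -4, -3, -2, -1], [-2, -3, -4, -6, -5, -4, -3, -1]],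
  [[-2, -3, -4, -6, -5, -4, -3, -2], [-1, -2, -3, -4, -3, -2, -1, 0], [-2, -2, -3, -5, -4, -3, -2, -1], [-1, -2, -2, -3, -2, -1, -1, 0], [-1, -2, -2, -4, -4, -3, -2, -1], [-2, -3, -4, -6, -5, -4, -3, -1]],
  [[-2, -3, -4, -6, -5, -4, -3, -2], [-1, -2, -3, -4, -3, -2, -1, 0], [-2, -2, -3, -5, -4, -3, -2, -1], [-1, -2, -2, -3, -2, -1, 0, 0], [-1, -2, -2, -4, -4, -3, -2, -1], [-2, -3, -4, -6, -5, -4, -2, -1]],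
  [[-2, -3, -4, -6, -5, -4, -3, -1], [-1, -2, -3, -4, -3, -2, -1, -1], [-2, -2, -3, -5, -4, -3, -2, -1], [-1, -2, -2, -3, -2, -1, 0, 0], [-1, -2, -2, -4, -4, -3, -2, -1], [-2, -3, -4, -6, -5, -4, -2, -1]],
  [[-2, -3, -4, -6, -5, -4, -3, -2], [-1, -2, -3, -4, -3, -2, -1, 0], [-2, -2, -3, -4, -4, -3, -2, -1], [-1, -2, -2, -3, -2, -2, -1, 0], [-1, -2, -2, -4, -4, -3, -2, -1], [-2, -3, -4, -6, -5, -4, -3, -1]],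
  [[-2, -3, -4, -6, -5, -4, -3, -2], [-1, -2, -3, -4, -3, -2, -1, 0], [-2, -2, -3, -4, -4, -3, -2, -1], [-1, -2, -2, -3, -2, -1, -1, 0], [-1, -2, -2, -4, -4, -3, -2, -1], [-2, -3, -4, -6, -5, -4, -3, -1]],
  [[-2, -3, -4, -6, -5, -4, -3, -2], [-1, -2, -3, -4, -3, -2, -1, 0], [-2, -2, -3, -4, -4, -3, -2, -1], [-1, -2, -2, -3, -2, -1, 0, 0], [-1, -2, -2, -4, -4, -3, -2, -1], [-2, -3, -4, -6, -5, -4, -2, -1]],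
  [[-2, -3, -4, -6, -5, -4, -3, -1], [-1, -2, -3, -4, -3, -2, -1, -1], [-2, -2, -3, -4, -4, -3, -2, -1], [-1, -2, -2, -3, -2, -1, 0, 0], [-1, -2, -2, -4, -4, -3, -2, -1], [-2, -3, -4, -6, -5, -4, -2, -1]],
  [[-2, -3, -4, -6, -5, -4, -3, -2], [-1, -2, -3, -4, -3, -2, -1, 0], [-2, -2, -3, -4, -3, -3, -2, -1], [-1, -2, -2, -3, -2, -1, -1, 0], [-1, -2, -2, -4, -3, -3, -2, -1], [-2, -3, -4, -6, -5, -4, -3, -1]],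
  [[-2, -3, -4, -6, -5, -4, -3, -2], [-1, -2, -3, -4, -3, -2, -1, 0], [-2, -2, -3, -4, -3, -3, -2, -1], [-1, -2, -2, -3, -2, -1, 0, 0], [-1, -2, -2, -4, -3, -3, -2, -1], [-2, -3, -4, -6, -5, -4, -2, -1]]]

theorem cE8_5_len : cE8_5.length = 30 := rfl

set_option maxRecDepth 1000000 in
theorem rowsE8_5 : checkRows1 chevE8.nroots tabE8 150 cE8_5 = true := by
  decide +kernel

set_option maxHeartbeats 0 in
/-- certificate rows 180..209 -/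
def cE8_6 : List (List (List ℤ)) :=
  [
  [[-2, -3, -4, -6, -5, -4, -3, -1], [-1, -2, -3, -4, -3, -2, -1, -1], [-2, -2, -3, -4, -3, -3, -2, -1], [-1, -2, -2, -3, -2, -1, 0, 0], [-1, -2, -2, -4, -3, -3, -2, -1], [-2, -3, -4, -6, -5, -4, -2, -1]],
  [[-2, -3, -4, -6, -5, -4, -3, -2], [-1, -2, -3, -4, -3, -2, -1, 0], [-2, -2, -3, -4, -3, -2, -2, -1], [-1, -2, -2, -3, -2, -1, 0, 0], [-1, -2, -2, -4, -3, -2, -2, -1], [-2, -3, -4, -6, -5, -3, -2, -1]],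
  [[-2, -3, -4, -6, -5, -4, -3, -1], [-1, -2, -3, -4, -3, -2, -1, -1], [-2, -2, -3, -4, -3, -2, -2, -1], [-1, -2, -2, -3, -2, -1, 0, 0], [-1, -2, -2, -4, -3, -2, -2, -1], [-2, -3, -4, -6, -5, -3, -2, -1]],
  [[-2, -3, -4, -6, -5, -4, -2, -1], [-1, -2, -3, -4, -3, -2, -2, -1], [-2, -2, -3, -4, -3, -2, -1, -1], [-1, -2, -2, -3, -2, -1, -1, 0], [-1, -2, -2, -4, -3, -2, -1, -1], [-2, -3, -4, -6, -5, -3, -2, -1]],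
  [[-2, -3, -4, -6, -5, -4, -3, -2], [-1, -2, -2, -4, -3, -2, -1, 0], [-2, -2, -3, -4, -4, -3, -2, -1], [-1, -2, -2, -3, -2, -2, -1, 0], [-1, -2, -3, -4, -4, -3, -2, -1], [-2, -3, -4, -6, -5, -4, -3, -1]],
  [[-2, -3, -4, -6, -5, -4, -3, -2], [-1, -2, -2, -4, -3, -2, -1, 0], [-2, -2, -3, -4, -4, -3, -2, -1], [-1, -2, -2, -3, -2, -1, -1, 0], [-1, -2, -3, -4, -4, -3, -2, -1], [-2, -3, -4, -6, -5, -4, -3, -1]],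
  [[-2, -3, -4, -6, -5, -4, -3, -2], [-1, -2, -2, -4, -3, -2, -1, 0], [-2, -2, -3, -4, -4, -3, -2, -1], [-1, -2, -2, -3, -2, -1, 0, 0], [-1, -2, -3, -4, -4, -3, -2, -1], [-2, -3, -4, -6, -5, -4, -2, -1]],
  [[-2, -3, -4, -6, -5, -4, -3, -1], [-1, -2, -2, -4, -3, -2, -1, -1], [-2, -2, -3, -4, -4, -3, -2, -1], [-1, -2, -2, -3, -2, -1, 0, 0], [-1, -2, -3, -4, -4, -3, -2, -1], [-2, -3, -4, -6, -5, -4, -2, -1]],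
  [[-2, -3, -4, -6, -5, -4, -3, -2], [-1, -2, -2, -4, -3, -2, -1, 0], [-2, -2, -3, -4, -3, -3, -2, -1], [-1, -2, -2, -3, -2, -1, -1, 0], [-1, -2, -3, -4, -3, -3, -2, -1], [-2, -3, -4, -6, -5, -4, -3, -1]],
  [[-2, -3, -4, -6, -5, -4, -3, -2], [-1, -2, -2, -4, -3, -2, -1, 0], [-2, -2, -3, -4, -3, -3, -2, -1], [-1, -2, -2, -3, -2, -1, 0, 0], [-1, -2, -3, -4, -3, -3, -2, -1], [-2, -3, -4, -6, -5, -4, -2, -1]],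
  [[-2, -3, -4, -6, -5, -4, -3, -1], [-1, -2, -2, -4, -3, -2, -1, -1], [-2, -2, -3, -4, -3, -3, -2, -1], [-1, -2, -2, -3, -2, -1, 0, 0], [-1, -2, -3, -4, -3, -3, -2, -1], [-2, -3, -4, -6, -5, -4, -2, -1]],
  [[-2, -3, -4, -6, -5, -4, -3, -2], [-1, -2, -2, -4, -3, -2, -1, 0], [-2, -2, -3, -4, -3, -2, -2, -1], [-1, -2, -2, -3, -2, -1, 0, 0], [-1, -2, -3, -4, -3, -2, -2, -1], [-2, -3, -4, -6, -5, -3, -2, -1]],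
  [[-2, -3, -4, -6, -5, -4, -3, -1], [-1, -2, -2, -4, -3, -2, -1, -1], [-2, -2, -3, -4, -3, -2, -2, -1], [-1, -2, -2, -3, -2, -1, 0, 0], [-1, -2, -3, -4, -3, -2, -2, -1], [-2, -3, -4, -6, -5, -3, -2, -1]],
  [[-2, -3, -4, -6, -5, -4, -2, -1], [-1, -2, -2, -4, -3, -2, -2, -1], [-2, -2, -3, -4, -3, -2, -1, -1], [-1, -2, -2, -3, -2, -1, -1, 0], [-1, -2, -3, -4, -3, -2, -1, -1], [-2, -3, -4, -6, -5, -3, -2, -1]],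
  [[-2, -3, -4, -6, -5, -4, -3, -2], [-1, -2, -2, -3, -3, -2, -1, 0], [-2, -2, -3, -4, -3, -3, -2, -1], [-1, -2, -2, -3, -2, -1, -1, 0], [-1, -2, -3, -4, -3, -3, -2, -1], [-2, -3, -4, -6, -5, -4, -3, -1]],
  [[-2, -3, -4, -6, -5, -4, -3, -2], [-1, -2, -2, -3, -3, -2, -1, 0], [-2, -2, -3, -4, -3, -3, -2, -1], [-1, -2, -2, -3, -2, -1, 0, 0], [-1, -2, -3, -4, -3, -3, -2, -1], [-2, -3, -4, -6, -5, -4, -2, -1]],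
  [[-2, -3, -4, -6, -5, -4, -3, -1], [-1, -2, -2, -3, -3, -2, -1, -1], [-2, -2, -3, -4, -3, -3, -2, -1], [-1, -2, -2, -3, -2, -1, 0, 0], [-1, -2, -3, -4, -3, -3, -2, -1], [-2, -3, -4, -6, -5, -4, -2, -1]],
  [[-2, -3, -4, -6, -5, -4, -3, -2], [-1, -2, -2, -3, -3, -2, -1, 0], [-2, -2, -3, -4, -3, -2, -2, -1], [-1, -2, -2, -3, -2, -1, 0, 0], [-1, -2, -3, -4, -3, -2, -2, -1], [-2, -3, -4, -6, -5, -3, -2, -1]],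
  [[-2, -3, -4, -6, -5, -4, -3, -1], [-1, -2, -2, -3, -3, -2, -1, -1], [-2, -2, -3, -4, -3, -2, -2, -1], [-1, -2, -2, -3, -2, -1, 0, 0], [-1, -2, -3, -4, -3, -2, -2, -1], [-2, -3, -4, -6, -5, -3, -2, -1]],
  [[-2, -3, -4, -6, -5, -4, -2, -1], [-1, -2, -2, -3, -3, -2, -2, -1], [-2, -2, -3, -4, -3, -2, -1, -1], [-1, -2, -2, -3, -2, -1, -1, 0], [-1, -2, -3, -4, -3, -2, -1, -1], [-2, -3, -4, -6, -5, -3, -2, -1]],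
  [[-2, -3, -4, -6, -5, -4, -3, -2], [-1, -2, -2, -3, -2, -2, -1, 0], [-2, -2, -3, -4, -3, -2, -2, -1], [-1, -2, -2, -3, -2, -1, 0, 0], [-1, -2, -3, -4, -3, -2, -2, -1], [-2, -3, -4, -6, -4, -3, -2, -1]],
  [[-2, -3, -4, -6, -5, -4, -3, -1], [-1, -2, -2, -3, -2, -2, -1, -1], [-2, -2, -3, -4, -3, -2, -2, -1], [-1, -2, -2, -3, -2, -1, 0, 0], [-1, -2, -3, -4, -3, -2, -2, -1], [-2, -3, -4, -6, -4, -3, -2, -1]],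
  [[-2, -3, -4, -6, -5, -4, -2, -1], [-1, -2, -2, -3, -2, -2, -2, -1], [-2, -2, -3, -4, -3, -2, -1, -1], [-1, -2, -2, -3, -2, -1, -1, 0], [-1, -2, -3, -4, -3, -2, -1, -1], [-2, -3, -4, -6, -4, -3, -2, -1]],
  [[-2, -3, -4, -6, -5, -3, -2, -1], [-1, -2, -2, -3, -2, -2, -2, -1], [-2, -2, -3, -4, -3, -2, -1, -1], [-1, -2, -2, -3, -2, -2, -1, 0], [-1, -2, -3, -4, -3, -2, -1, -1], [-2, -3, -4, -6, -4, -3, -2, -1]],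
  [[-2, -3, -4, -6, -5, -4, -3, -2], [-1, -1, -2, -3, -3, -2, -1, 0], [-2, -2, -3, -4, -3, -3, -2, -1], [-1, -1, -2, -3, -2, -1, -1, 0], [-1, -2, -3, -4, -3, -3, -2, -1], [-2, -3, -4, -6, -5, -4, -3, -1]],
  [[-2, -3, -4, -6, -5, -4, -3, -2], [-1, -1, -2, -3, -3, -2, -1, 0], [-2, -2, -3, -4, -3, -3, -2, -1], [-1, -1, -2, -3, -2, -1, 0, 0], [-1, -2, -3, -4, -3, -3, -2, -1], [-2, -3, -4, -6, -5, -4, -2, -1]],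
  [[-2, -3, -4, -6, -5, -4, -3, -1], [-1, -1, -2, -3, -3, -2, -1, -1], [-2, -2, -3, -4, -3, -3, -2, -1], [-1, -1, -2, -3, -2, -1, 0, 0], [-1, -2, -3, -4, -3, -3, -2, -1], [-2, -3, -4, -6, -5, -4, -2, -1]],
  [[-2, -3, -4, -6, -5, -4, -3, -2], [-1, -1, -2, -3, -3, -2, -1, 0], [-2, -2, -3, -4, -3, -2, -2, -1], [-1, -1, -2, -3, -2, -1, 0, 0], [-1, -2, -3, -4, -3, -2, -2, -1], [-2, -3, -4, -6, -5, -3, -2, -1]],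
  [[-2, -3, -4, -6, -5, -4, -3, -1], [-1, -1, -2, -3, -3, -2, -1, -1], [-2, -2, -3, -4, -3, -2, -2, -1], [-1, -1, -2, -3, -2, -1, 0, 0], [-1, -2, -3, -4, -3, -2, -2, -1], [-2, -3, -4, -6, -5, -3, -2, -1]],
  [[-2, -3, -4, -6, -5, -4, -2, -1], [-1, -1, -2, -3, -3, -2, -2, -1], [-2, -2, -3, -4, -3, -2, -1, -1], [-1, -1, -2, -3, -2, -1, -1, 0], [-1, -2, -3, -4, -3, -2, -1, -1], [-2, -3, -4, -6, -5, -3, -2, -1]]]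

theorem cE8_6_len : cE8_6.length = 30 := rfl

set_option maxRecDepth 1000000 in
theorem rowsE8_6 : checkRows1 chevE8.nroots tabE8 180 cE8_6 = true := by
  decide +kernel

set_option maxHeartbeats 0 in
/-- certificate rows 210..239 -/
def cE8_7 : List (List (List ℤ)) :=
  [
  [[-2, -3, -4, -6, -5, -4, -3, -2], [-1, -1, -2, -3, -2, -2, -1, 0], [-2, -2, -3, -4, -3, -2, -2, -1], [-1, -1, -2, -3, -2, -1, 0, 0], [-1, -2, -3, -4, -3, -2, -2, -1], [-2, -3, -4, -6, -4, -3, -2, -1]],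
  [[-2, -3, -4, -6, -5, -4, -3, -1], [-1, -1, -2, -3, -2, -2, -1, -1], [-2, -2, -3, -4, -3, -2, -2, -1], [-1, -1, -2, -3, -2, -1, 0, 0], [-1, -2, -3, -4, -3, -2, -2, -1], [-2, -3, -4, -6, -4, -3, -2, -1]],
  [[-2, -3, -4, -6, -5, -4, -2, -1], [-1, -1, -2, -3, -2, -2, -2, -1], [-2, -2, -3, -4, -3, -2, -1, -1], [-1, -1, -2, -3, -2, -1, -1, 0], [-1, -2, -3, -4, -3, -2, -1, -1], [-2, -3, -4, -6, -4, -3, -2, -1]],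
  [[-2, -3, -4, -6, -5, -3, -2, -1], [-1, -1, -2, -3, -2, -2, -2, -1], [-2, -2, -3, -4, -3, -2, -1, -1], [-1, -1, -2, -3, -2, -2, -1, 0], [-1, -2, -3, -4, -3, -2, -1, -1], [-2, -3, -4, -6, -4, -3, -2, -1]],
  [[-2, -3, -4, -6, -5, -4, -3, -2], [-1, -1, -2, -2, -2, -2, -1, 0], [-2, -2, -3, -4, -3, -2, -2, -1], [-1, -1, -2, -2, -2, -1, 0, 0], [-1, -2, -3, -4, -3, -2, -2, -1], [-2, -3, -4, -5, -4, -3, -2, -1]],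
  [[-2, -3, -4, -6, -5, -4, -3, -1], [-1, -1, -2, -2, -2, -2, -1, -1], [-2, -2, -3, -4, -3, -2, -2, -1], [-1, -1, -2, -2, -2, -1, 0, 0], [-1, -2, -3, -4, -3, -2, -2, -1], [-2, -3, -4, -5, -4, -3, -2, -1]],
  [[-2, -3, -4, -6, -5, -4, -2, -1], [-1, -1, -2, -2, -2, -2, -2, -1], [-2, -2, -3, -4, -3, -2, -1, -1], [-1, -1, -2, -2, -2, -1, -1, 0], [-1, -2, -3, -4, -3, -2, -1, -1], [-2, -3, -4, -5, -4, -3, -2, -1]],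
  [[-2, -3, -4, -6, -5, -3, -2, -1], [-1, -1, -2, -2, -2, -2, -2, -1], [-2, -2, -3, -4, -3, -2, -1, -1], [-1, -1, -2, -2, -2, -2, -1, 0], [-1, -2, -3, -4, -3, -2, -1, -1], [-2, -3, -4, -5, -4, -3, -2, -1]],
  [[-2, -3, -4, -6, -4, -3, -2, -1], [-1, -1, -2, -2, -2, -2, -2, -1], [-2, -2, -3, -4, -3, -2, -1, -1], [-1, -1, -2, -2, -2, -2, -1, 0], [-1, -2, -3, -4, -3, -2, -1, -1], [-2, -3, -4, -5, -4, -3, -2, -1]],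
  [[-2, -3, -4, -6, -5, -4, -3, -2], [-1, -1, -1, -2, -2, -2, -1, 0], [-2, -2, -3, -4, -3, -2, -2, -1], [-1, -1, -1, -2, -2, -1, 0, 0], [-1, -2, -2, -4, -3, -2, -2, -1], [-2, -3, -3, -5, -4, -3, -2, -1]],
  [[-2, -3, -4, -6, -5, -4, -3, -1], [-1, -1, -1, -2, -2, -2, -1, -1], [-2, -2, -3, -4, -3, -2, -2, -1], [-1, -1, -1, -2, -2, -1, 0, 0], [-1, -2, -2, -4, -3, -2, -2, -1], [-2, -3, -3, -5, -4, -3, -2, -1]],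
  [[-2, -3, -4, -6, -5, -4, -2, -1], [-1, -1, -1, -2, -2, -2, -2, -1], [-2, -2, -3, -4, -3, -2, -1, -1], [-1, -1, -1, -2, -2, -1, -1, 0], [-1, -2, -2, -4, -3, -2, -1, -1], [-2, -3, -3, -5, -4, -3, -2, -1]],
  [[-2, -3, -4, -6, -5, -3, -2, -1], [-1, -1, -1, -2, -2, -2, -2, -1], [-2, -2, -3, -4, -3, -2, -1, -1], [-1, -1, -1, -2, -2, -2, -1, 0], [-1, -2, -2, -4, -3, -2, -1, -1], [-2, -3, -3, -5, -4, -3, -2, -1]],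
  [[-2, -3, -4, -6, -4, -3, -2, -1], [-1, -1, -1, -2, -2, -2, -2, -1], [-2, -2, -3, -4, -3, -2, -1, -1], [-1, -1, -1, -2, -2, -2, -1, 0], [-1, -2, -2, -4, -3, -2, -1, -1], [-2, -3, -3, -5, -4, -3, -2, -1]],
  [[-2, -3, -4, -5, -4, -3, -2, -1], [-1, -1, -1, -2, -2, -2, -2, -1], [-2, -2, -3, -4, -3, -2, -1, -1], [-1, -1, -1, -2, -2, -2, -1, 0], [-1, -2, -2, -3, -3, -2, -1, -1], [-2, -3, -3, -5, -4, -3, -2, -1]],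
  [[-2, -2, -4, -5, -4, -3, -2, -1], [-1, -1, -1, -2, -2, -2, -2, -1], [-2, -2, -3, -4, -3, -2, -1, -1], [-1, -1, -1, -2, -2, -2, -1, 0], [-1, -1, -2, -3, -3, -2, -1, -1], [-2, -2, -3, -5, -4, -3, -2, -1]],
  [[-2, -3, -4, -6, -5, -4, -3, -2], [0, -1, -1, -2, -2, -2, -1, 0], [-1, -2, -3, -4, -3, -2, -2, -1], [0, -1, -1, -2, -2, -1, 0, 0], [-1, -2, -2, -4, -3, -2, -2, -1], [-1, -3, -3, -5, -4, -3, -2, -1]],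
  [[-2, -3, -4, -6, -5, -4, -3, -1], [0, -1, -1, -2, -2, -2, -1, -1], [-1, -2, -3, -4, -3, -2, -2, -1], [0, -1, -1, -2, -2, -1, 0, 0], [-1, -2, -2, -4, -3, -2, -2, -1], [-1, -3, -3, -5, -4, -3, -2, -1]],
  [[-2, -3, -4, -6, -5, -4, -2, -1], [0, -1, -1, -2, -2, -2, -2, -1], [-1, -2, -3, -4, -3, -2, -1, -1], [0, -1, -1, -2, -2, -1, -1, 0], [-1, -2, -2, -4, -3, -2, -1, -1], [-1, -3, -3, -5, -4, -3, -2, -1]],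
  [[-2, -3, -4, -6, -5, -3, -2, -1], [0, -1, -1, -2, -2, -2, -2, -1], [-1, -2, -3, -4, -3, -2, -1, -1], [0, -1, -1, -2, -2, -2, -1, 0], [-1, -2, -2, -4, -3, -2, -1, -1], [-1, -3, -3, -5, -4, -3, -2, -1]],
  [[-2, -3, -4, -6, -4, -3, -2, -1], [0, -1, -1, -2, -2, -2, -2, -1], [-1, -2, -3, -4, -3, -2, -1, -1], [0, -1, -1, -2, -2, -2, -1, 0], [-1, -2, -2, -4, -3, -2, -1, -1], [-1, -3, -3, -5, -4, -3, -2, -1]],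
  [[-2, -3, -4, -5, -4, -3, -2, -1], [0, -1, -1, -2, -2, -2, -2, -1], [-1, -2, -3, -4, -3, -2, -1, -1], [0, -1, -1, -2, -2, -2, -1, 0], [-1, -2, -2, -3, -3, -2, -1, -1], [-1, -3, -3, -5, -4, -3, -2, -1]],
  [[-2, -3, -3, -5, -4, -3, -2, -1], [0, -1, -1, -2, -2, -2, -2, -1], [-1, -2, -2, -4, -3, -2, -1, -1], [0, -1, -1, -2, -2, -2, -1, 0], [-1, -2, -2, -3, -3, -2, -1, -1], [-1, -3, -3, -5, -4, -3, -2, -1]],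
  [[-2, -2, -4, -5, -4, -3, -2, -1], [0, -1, -1, -2, -2, -2, -2, -1], [-1, -2, -3, -4, -3, -2, -1, -1], [0, -1, -1, -2, -2, -2, -1, 0], [-1, -1, -2, -3, -3, -2, -1, -1], [-1, -2, -3, -5, -4, -3, -2, -1]],
  [[-2, -2, -3, -5, -4, -3, -2, -1], [0, -1, -1, -2, -2, -2, -2, -1], [-1, -2, -2, -4, -3, -2, -1, -1], [0, -1, -1, -2, -2, -2, -1, 0], [-1, -1, -2, -3, -3, -2, -1, -1], [-1, -2, -3, -5, -4, -3, -2, -1]],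
  [[-2, -2, -3, -4, -4, -3, -2, -1], [0, -1, -1, -2, -2, -2, -2, -1], [-1, -2, -2, -3, -3, -2, -1, -1], [0, -1, -1, -2, -2, -2, -1, 0], [-1, -1, -2, -3, -3, -2, -1, -1], [-1, -2, -3, -4, -4, -3, -2, -1]],
  [[-2, -2, -3, -4, -3, -3, -2, -1], [0, -1, -1, -2, -2, -2, -2, -1], [-1, -2, -2, -3, -2, -2, -1, -1], [0, -1, -1, -2, -2, -2, -1, 0], [-1, -1, -2, -3, -2, -2, -1, -1], [-1, -2, -3, -4, -3, -3, -2, -1]],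
  [[-2, -2, -3, -4, -3, -2, -2, -1], [0, -1, -1, -2, -2, -2, -2, -1], [-1, -2, -2, -3, -2, -1, -1, -1], [0, -1, -1, -2, -2, -1, -1, 0], [-1, -1, -2, -3, -2, -1, -1, -1], [-1, -2, -3, -4, -3, -2, -2, -1]],
  [[-2, -2, -3, -4, -3, -2, -1, -1], [0, -1, -1, -2, -2, -2, -1, -1], [-1, -2, -2, -3, -2, -1, -1, -1], [0, -1, -1, -2, -2, -1, 0, 0], [-1, -1, -2, -3, -2, -1, -1, -1], [-1, -2, -3, -4, -3, -2, -1, -1]],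
  [[-2, -2, -3, -4, -3, -2, -1, 0], [0, -1, -1, -2, -2, -2, -1, 0], [-1, -2, -2, -3, -2, -1, -1, 0], [0, -1, -1, -2, -2, -1, 0, 0], [-1, -1, -2, -3, -2, -1, -1, 0], [-1, -2, -3, -4, -3, -2, -1, 0]]]

theorem cE8_7_len : cE8_7.length = 30 := rfl

set_option maxRecDepth 1000000 in
theorem rowsE8_7 : checkRows1 chevE8.nroots tabE8 210 cE8_7 = true := by
  decide +kernel

end Cfsg.Agent.Lib.Helper10.E8CC.Helper12
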