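import Cfsg.Agent.Lib.Helper12.E8CCT2a
import Cfsg.Agent.Lib.Helper12.E8CCT2b

set_option autoImplicit false

/-! S2107 farm (architect helper10), piece [E8-T2]: for every admissible pair `(r, s)` of roots of
`chevE8` there is a coweight orthogonal to `r` with value `±1` on `s`. -/

namespace Cfsg.Agent.Lib.Helper10.E8CC

open Cfsg.Lie Cfsg.Agent.Lib.Helper8.Chev Cfsg.Agent.Lib.Helper14.StCC

/-- [E8-T2] table for Part B (`|K| ≥ 3`), type `E₈` (57120 pairs): a coweight orthogonal to `r`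
with value `±1` on `s` -/
theorem perp1_E8 {r s : ℕ} (hr : r < chevE8.nroots) (hs : s < chevE8.nroots) (h1 : s ≠ r)
    (h2 : s ≠ chevE8.neg r) :
    ∃ m : ℕ → ℤ, wt chevE8 m r = 0 ∧ (wt chevE8 m s = 1 ∨ wt chevE8 m s = -1) := by
  have V : Valid0 chevE8 := valid0_of_mem (by simp)
  have hn : chevE8.nroots = 240 := by decide
  have hcases : (0 ≤ r ∧ r < 30) ∨ (30 ≤ r ∧ r < 60) ∨ (60 ≤ r ∧ r < 90) ∨ (90 ≤ r ∧ r < 120) ∨ (120 ≤ r ∧ r < 150) ∨ (150 ≤ r ∧ r < 180) ∨ (180 ≤ r ∧ r < 210) ∨ (210 ≤ r ∧ r < 240) := by omega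
  rcases hcases with h | h | h | h | h | h | h | h
  · exact Helper12.perp1_of_rows V Helper12.checkTab_E8 Helper12.rowsE8_0 h.1
      (by rw [Helper12.cE8_0_len]; omega) hr hs h1 h2
  · exact Helper12.perp1_of_rows V Helper12.checkTab_E8 Helper12.rowsE8_1 h.1
      (by rw [Helper12.cE8_1_len]; omega) hr hs h1 h2
  · exact Helper12.perp1_of_rows V Helper12.checkTab_E8 Helper12.rowsE8_2 h.1
      (by rw [Helper12.cE8_2_len]; omega) hr hs h1 h2
  · exact Helper12.perp1_of_rows V Helper12.checkTab_E8 Helper12.rowsE8_3 h.1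
      (by rw [Helper12.cE8_3_len]; omega) hr hs h1 h2
  · exact Helper12.perp1_of_rows V Helper12.checkTab_E8 Helper12.rowsE8_4 h.1
      (by rw [Helper12.cE8_4_len]; omega) hr hs h1 h2
  · exact Helper12.perp1_of_rows V Helper12.checkTab_E8 Helper12.rowsE8_5 h.1
      (by rw [Helper12.cE8_5_len]; omega) hr hs h1 h2
  · exact Helper12.perp1_of_rows V Helper12.checkTab_E8 Helper12.rowsE8_6 h.1
      (by rw [Helper12.cE8_6_len]; omega) hr hs h1 h2
  · exact Helper12.perp1_of_rows V Helper12.checkTab_E8 Helper12.rowsE8_7 h.1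
      (by rw [Helper12.cE8_7_len]; omega) hr hs h1 h2

end Cfsg.Agent.Lib.Helper10.E8CC
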