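import Mathlib
import Cfsg.Agent.Lib.Helper20.Ord64A

/-!
# S2933 shared definitions (architect helper12)

`Hyp V τ σ`: the hypotheses of S2933 in automorphism form, for a group `T` (the `2`-group),
`V` the central four-group, `τ` the involutory automorphism (conjugation by `t`) and `σ` the
automorphism of order three (conjugation by `ρ`).  `Hyp.D` is the subgroup
`D = {x | x⁻¹ τ(x) ∈ V}` (the preimage of `C_{T/V}(τ)`), and `Hyp.τq`, `Hyp.σq` are the induced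
automorphisms of `T ⧸ V`.
-/

set_option autoImplicit false

namespace Cfsg.Agent.Lib.Helper12.S2933

open Subgroup

variable {T : Type*} [Group T]

/-- the hypotheses of S2933 in automorphism form -/
structure Hyp (V : Subgroup T) (τ σ : MulAut T) : Prop where
  fin : Finite T
  pg : IsPGroup 2 T
  Vcen : ∀ v ∈ V, ∀ x : T, v * x = x * v
  Vcard : Nat.card V = 4
  Vsq : ∀ v ∈ V, v * v = 1
  τ2 : ∀ x : T, τ (τ x) = x
  σ3 : ∀ x : T, σ (σ (σ x)) = x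
  comm : ∀ x : T, τ (σ x) = σ (τ x)
  τV : ∀ v ∈ V, τ v = v
  σV : ∀ v ∈ V, σ v ∈ V
  σVfpf : ∀ v ∈ V, σ v = v → v = 1
  fix : ∀ x : T, τ x = x → x ∈ V

namespace Hyp

variable {V : Subgroup T} {τ σ : MulAut T}

theorem normal (H : Hyp V τ σ) : V.Normal := by
  refine ⟨fun v hv g => ?_⟩
  have : g * v * g⁻¹ = v := by
    rw [← H.Vcen v hv g]; group
  rw [this]; exact hv

theorem σV' (H : Hyp V τ σ) : ∀ v ∈ V, σ.symm v ∈ V := by
  intro v hv
  have h1 : σ.symm v = σ (σ v) := by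
    apply σ.injective
    rw [MulEquiv.apply_symm_apply, H.σ3]
  rw [h1]
  exact H.σV _ (H.σV _ hv)

theorem mapτ (H : Hyp V τ σ) : V.map (τ : T →* T) = V := by
  ext x
  constructor
  · rintro ⟨v, hv, rfl⟩
    have : (τ : T →* T) v = v := H.τV v hv
    rw [this]; exact hv
  · intro hx
    exact ⟨x, hx, H.τV x hx⟩

theorem mapσ (H : Hyp V τ σ) : V.map (σ : T →* T) = V := by
  ext x
  constructor
  · rintro ⟨v, hv, rfl⟩
    exact H.σV v hv
  · intro hx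
    exact ⟨σ.symm x, H.σV' x hx, σ.apply_symm_apply x⟩

/-- `D = {x | x⁻¹ τ(x) ∈ V}`, the preimage in `T` of the fixed points of `τ` on `T ⧸ V` -/
def D (H : Hyp V τ σ) : Subgroup T where
  carrier := {x | x⁻¹ * τ x ∈ V}
  one_mem' := by
    show (1 : T)⁻¹ * τ 1 ∈ V
    rw [map_one, inv_one, one_mul]; exact V.one_mem
  mul_mem' := by
    intro x y hx hy
    show (x * y)⁻¹ * τ (x * y) ∈ V
    have hx' : x⁻¹ * τ x ∈ V := hx
    have hy' : y⁻¹ * τ y ∈ V := hy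
    have e : (x * y)⁻¹ * τ (x * y) = (x⁻¹ * τ x) * (y⁻¹ * τ y) := by
      rw [map_mul]
      calc (x * y)⁻¹ * (τ x * τ y) = y⁻¹ * ((x⁻¹ * τ x) * τ y) := by group
        _ = y⁻¹ * (τ y * (x⁻¹ * τ x)) := by rw [H.Vcen _ hx' (τ y)]
        _ = (y⁻¹ * τ y) * (x⁻¹ * τ x) := by group
        _ = (x⁻¹ * τ x) * (y⁻¹ * τ y) := (H.Vcen _ hx' _).symm
    rw [e]; exact V.mul_mem hx' hy'
  inv_mem' := by
    intro x hx
    show (x⁻¹)⁻¹ * τ x⁻¹ ∈ V
    have hx' : x⁻¹ * τ x ∈ V := hx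
    have e : (x⁻¹)⁻¹ * τ x⁻¹ = (x⁻¹ * τ x)⁻¹ := by
      rw [map_inv]
      calc (x⁻¹)⁻¹ * (τ x)⁻¹ = x * (x⁻¹ * τ x)⁻¹ * x⁻¹ := by group
        _ = (x⁻¹ * τ x)⁻¹ * x * x⁻¹ := by rw [H.Vcen _ (V.inv_mem hx') x]
        _ = (x⁻¹ * τ x)⁻¹ := by group
    rw [e]; exact V.inv_mem hx'

theorem mem_D (H : Hyp V τ σ) (x : T) : x ∈ H.D ↔ x⁻¹ * τ x ∈ V := Iff.rfl

/-- the automorphism of `T ⧸ V` induced by `τ` -/
def τq (H : Hyp V τ σ) [V.Normal] : MulAut (T ⧸ V) := QuotientGroup.congr V V τ H.mapτ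

/-- the automorphism of `T ⧸ V` induced by `σ` -/
def σq (H : Hyp V τ σ) [V.Normal] : MulAut (T ⧸ V) := QuotientGroup.congr V V σ H.mapσ

@[simp] theorem τq_mk (H : Hyp V τ σ) [V.Normal] (x : T) :
    H.τq (x : T ⧸ V) = ((τ x : T) : T ⧸ V) := rfl

@[simp] theorem σq_mk (H : Hyp V τ σ) [V.Normal] (x : T) :
    H.σq (x : T ⧸ V) = ((σ x : T) : T ⧸ V) := rfl

end Hyp

end Cfsg.Agent.Lib.Helper12.S2933
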