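import Mathlib
import Cfsg.Agent.Lib.Helper11.S3282Defs

/-!
S3282 farm-out piece G1a (helper12): structure of `H = C(t) = K⟨s⟩`.
-/

set_option autoImplicit false

namespace Cfsg.Agent.Lib.Helper12.S3282G1a

open Cfsg Cfsg.Agent.Lib.Helper11 Cfsg.Agent.Lib.Helper11.S3282

universe u

variable {G : Type u} [Group G] {t s : G} {K : Subgroup G}

theorem s_sq (h : Hyp t s K) : s * s = 1 := by
  have h1 := pow_orderOf_eq_one s
  rw [h.hs, pow_two] at h1
  exact h1

theorem s_inv (h : Hyp t s K) : s⁻¹ = s :=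
  inv_eq_of_mul_eq_one_right (s_sq h)

theorem t_sq (h : Hyp t s K) : t * t = 1 := by
  have h1 := pow_orderOf_eq_one t
  rw [h.ht, pow_two] at h1
  exact h1

theorem mem_zpowers_two {z w : G} (hw : orderOf w = 2) (hz : z ∈ Subgroup.zpowers w) :
    z = 1 ∨ z = w := by
  obtain ⟨i, hi'⟩ := hz
  have hi'' : w ^ i = z := hi'
  subst hi''
  have h1 : w ^ i = w ^ (i % (orderOf w : ℤ)) := (zpow_mod_orderOf w i).symm
  rw [hw] at h1
  rcases Int.emod_two_eq_zero_or_one i with hi | hi
  · left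
    rw [h1]
    norm_num [hi]
  · right
    rw [h1]
    norm_num [hi]

theorem s_mem_normalizer (h : Hyp t s K) : s ∈ Subgroup.normalizer (K : Set G) := by
  rw [Subgroup.mem_normalizer_iff]
  intro n
  constructor
  · intro hn
    rw [h.hinv n hn]
    exact K.inv_mem hn
  · intro hn
    have h1 := h.hinv _ hn
    have h2 : s * (s * n * s⁻¹) * s⁻¹ = n := by
      rw [s_inv h]
      calc s * (s * n * s) * s = (s * s) * n * (s * s) := by group
        _ = n := by rw [s_sq h]; group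
    rw [h2] at h1
    rw [h1]
    exact K.inv_mem hn

theorem G1_mem_H (h : Hyp t s K) {x : G} (hx : x ∈ Subgroup.centralizer ({t} : Set G)) :
    x ∈ K ∨ ∃ y ∈ K, x = y * s := by
  rw [← h.hH] at hx
  have hLE : Subgroup.zpowers s ≤ Subgroup.normalizer (K : Set G) :=
    Subgroup.zpowers_le.mpr (s_mem_normalizer h)
  have hx' : x ∈ ((K ⊔ Subgroup.zpowers s : Subgroup G) : Set G) := hx
  rw [Subgroup.coe_mul_of_right_le_normalizer_left K (Subgroup.zpowers s) hLE] at hx'
  obtain ⟨y, hy, z, hz, hyz⟩ := hx'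
  have hyz' : y * z = x := hyz
  subst hyz'
  rcases mem_zpowers_two h.hs hz with rfl | rfl
  · left
    rw [mul_one]
    exact hy
  · right
    exact ⟨y, hy, rfl⟩

theorem mul_s_mem_H (h : Hyp t s K) {y : G} (hy : y ∈ K) :
    y * s ∈ Subgroup.centralizer ({t} : Set G) :=
  Subgroup.mul_mem _ (h.hKH hy) h.hsH

theorem mul_s_not_mem (h : Hyp t s K) {y : G} (hy : y ∈ K) : y * s ∉ K := by
  intro hys
  apply h.hsK
  have := K.mul_mem (K.inv_mem hy) hys
  rwa [inv_mul_cancel_left] at this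

/-- `K` has index 2 in `H = K ⊔ ⟨s⟩` (`s ∉ K`, `s² = 1`, `s` normalizes `K`). -/
theorem G1_card_H [Finite G] (h : Hyp t s K) :
    Nat.card (Subgroup.centralizer ({t} : Set G)) = 2 * Nat.card K := by
  have hidx : (K.subgroupOf (Subgroup.centralizer ({t} : Set G))).index = 2 := by
    rw [Subgroup.index_eq_two_iff]
    refine ⟨⟨s, h.hsH⟩, ?_⟩
    rintro ⟨b, hb⟩
    rw [Subgroup.mem_subgroupOf, Subgroup.mem_subgroupOf]
    change Xor (b * s ∈ K) (b ∈ K)
    rcases G1_mem_H h hb with hbK | ⟨y, hy, rfl⟩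
    · right
      exact ⟨hbK, mul_s_not_mem h hbK⟩
    · left
      refine ⟨?_, mul_s_not_mem h hy⟩
      rw [mul_assoc, s_sq h, mul_one]
      exact hy
  have h1 := Subgroup.card_mul_index (K.subgroupOf (Subgroup.centralizer ({t} : Set G)))
  rw [hidx] at h1
  have h2 : Nat.card (K.subgroupOf (Subgroup.centralizer ({t} : Set G))) = Nat.card K :=
    Nat.card_congr (Subgroup.subgroupOfEquivOfLe h.hKH).toEquiv
  rw [h2] at h1
  omega

/-- `(ys)² = y (s y s⁻¹) s² = 1`, and `ys ≠ 1`. -/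
theorem G1_invol_of_not_mem (h : Hyp t s K) {x : G}
    (hx : x ∈ Subgroup.centralizer ({t} : Set G)) (hxK : x ∉ K) : orderOf x = 2 := by
  rcases G1_mem_H h hx with hxK' | ⟨y, hy, rfl⟩
  · exact absurd hxK' hxK
  · have : Fact (Nat.Prime 2) := ⟨Nat.prime_two⟩
    apply orderOf_eq_prime
    · have h1 := h.hinv y hy
      rw [s_inv h] at h1
      rw [pow_two]
      calc y * s * (y * s) = y * (s * y * s) := by group
        _ = 1 := by rw [h1, mul_inv_cancel]
    · intro h1
      apply hxK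
      rw [h1]
      exact K.one_mem

/-- every element of `H ∖ K` inverts `K`. -/
theorem G1_inverts (h : Hyp t s K) {x y : G}
    (hx : x ∈ Subgroup.centralizer ({t} : Set G)) (hxK : x ∉ K) (hy : y ∈ K) :
    x * y * x⁻¹ = y⁻¹ := by
  rcases G1_mem_H h hx with hxK' | ⟨k, hk, rfl⟩
  · exact absurd hxK' hxK
  · have h1 := h.hinv y hy
    have h2 := h.comm k hk y⁻¹ (K.inv_mem hy)
    calc k * s * y * (k * s)⁻¹ = k * (s * y * s⁻¹) * k⁻¹ := by group
      _ = k * y⁻¹ * k⁻¹ := by rw [h1]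
      _ = y⁻¹ * k * k⁻¹ := by rw [h2]
      _ = y⁻¹ := by group

/-- an involution `x ∈ K` is inverted and centralized by `s`, so lies in `K ⊓ C(s) = ⟨t⟩`. -/
theorem G1_invol_K (h : Hyp t s K) {x : G} (hx : x ∈ K) (hx2 : orderOf x = 2) : x = t := by
  have hxx : x * x = 1 := by
    have h1 := pow_orderOf_eq_one x
    rw [hx2, pow_two] at h1
    exact h1
  have hxinv : x⁻¹ = x := inv_eq_of_mul_eq_one_right hxx
  have h1 := h.hinv x hx
  rw [hxinv] at h1
  have hxs : x ∈ Subgroup.centralizer ({s} : Set G) := by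
    rw [Subgroup.mem_centralizer_iff]
    intro y hy
    rw [Set.mem_singleton_iff] at hy
    subst hy
    -- y * x = x * y
    have : y * x = x * y := by
      calc y * x = (y * x * y⁻¹) * y := by group
        _ = x * y := by rw [h1]
    exact this
  have hmem : x ∈ K ⊓ Subgroup.centralizer ({s} : Set G) := ⟨hx, hxs⟩
  rw [h.hCK] at hmem
  rcases mem_zpowers_two h.ht hmem with h0 | h0
  · exfalso
    rw [h0, orderOf_one] at hx2
    omega
  · exact h0

/-- fusion of `K#` is controlled by `H`: `g a g⁻¹ ∈ K ⊓ K^g`. -/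
theorem G1_fusion (h : Hyp t s K) {a g : G} (ha : a ∈ K) (ha1 : a ≠ 1) (hg : g * a * g⁻¹ ∈ K) :
    g ∈ Subgroup.centralizer ({t} : Set G) := by
  by_contra hgH
  have h1 := h.hTI g hgH
  have hmem : g * a * g⁻¹ ∈ K ⊓ K.map (MulAut.conj g).toMonoidHom := by
    refine ⟨hg, ?_⟩
    exact Subgroup.mem_map.mpr ⟨a, ha, by simp [MulAut.conj_apply]⟩
  rw [h1, Subgroup.mem_bot] at hmem
  apply ha1
  have : a = g⁻¹ * (g * a * g⁻¹) * g := by group
  rw [this, hmem]
  group

theorem G1_cent_le (h : Hyp t s K) {x : G} (hx : x ∈ K) (hx1 : x ≠ 1) :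
    Subgroup.centralizer ({x} : Set G) ≤ Subgroup.centralizer ({t} : Set G) := by
  intro g hg
  rw [Subgroup.mem_centralizer_iff] at hg
  have h1 := hg x (Set.mem_singleton x)
  -- x * g = g * x
  apply G1_fusion h hx hx1
  have : g * x * g⁻¹ = x := by
    rw [← h1]
    group
  rw [this]
  exact hx

theorem conj_mem_of_mem_H (h : Hyp t s K) {X : Subgroup G} (hX : X ≤ K) {g n : G}
    (hg : g ∈ Subgroup.centralizer ({t} : Set G)) (hn : n ∈ X) : g * n * g⁻¹ ∈ X := by
  by_cases hgK : g ∈ K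
  · have h1 := h.comm g hgK n (hX hn)
    have : g * n * g⁻¹ = n := by
      rw [h1]
      group
    rw [this]
    exact hn
  · rw [G1_inverts h hg hgK (hX hn)]
    exact X.inv_mem hn

theorem G1_normalizer (h : Hyp t s K) {X : Subgroup G} (hX : X ≤ K) (hX1 : X ≠ ⊥) :
    Subgroup.normalizer (X : Set G) = Subgroup.centralizer ({t} : Set G) := by
  apply le_antisymm
  · intro g hg
    rw [Subgroup.mem_normalizer_iff] at hg
    obtain ⟨a, haX, ha1⟩ : ∃ a : G, a ∈ X ∧ a ≠ 1 := by
      by_contra hcon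
      push Not at hcon
      apply hX1
      rw [Subgroup.eq_bot_iff_forall]
      exact hcon
    exact G1_fusion h (hX haX) ha1 (hX ((hg a).mp haX))
  · intro g hg
    rw [Subgroup.mem_normalizer_iff]
    intro n
    constructor
    · intro hn
      exact conj_mem_of_mem_H h hX hg hn
    · intro hn
      have h1 := conj_mem_of_mem_H h hX (Subgroup.inv_mem _ hg) hn
      have : g⁻¹ * (g * n * g⁻¹) * g⁻¹⁻¹ = n := by group
      rwa [this] at h1

theorem G1_even [Finite G] (h : Hyp t s K) : 2 ∣ Nat.card K := by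
  have h1 : orderOf (⟨t, h.htK⟩ : K) = 2 := by
    rw [← h.ht]
    exact Subgroup.orderOf_mk t h.htK
  rw [← h1]
  exact orderOf_dvd_natCard _

end Cfsg.Agent.Lib.Helper12.S3282G1a
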