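import Mathlib
import Cfsg.Prelude.Def_GeometricClasses
import Cfsg.Agent.Lib.Helper7.AschDefs
import Cfsg.Agent.Lib.Helper23.S5630CoreF1

/-!
# Galois descent for absolutely irreducible groups fixing two forms (helper12)

For the form hubs (S5662 Sp, S5663 SU, S5673 Ω): an absolutely irreducible group `R ≤ GL_n(F)` (`F` finite) which fixes a
non-degenerate bilinear form AND a unitary form for the involution `σ` is realisable over the fixed field of `σ`.

* `fixedField σ`, `mem_fixedField`, `finrank_fixedField` (`= 2`), `fixedField_ne_top`, `card_eq_sq`;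
* `exists_norm_eq` : the norm `μ ↦ μ σ(μ)` is onto the fixed field;
* `exists_basis_fixed` : (Hilbert 90 for `GL_n`, involutive case) `σ(A) A = 1 ⇒ ∃ C ∈ GL_n, σ(C) = A C`;
* `realisable_of_twist` : `σ(X) A₀ = A₀ X` on a set with scalar commutant ⇒ realisable over the fixed field;
* `realisable_of_bilinear_unitary` : the statement about forms.
-/

set_option autoImplicit false
set_option linter.unusedSectionVars false

namespace Cfsg.Agent.Lib.Helper12.AschDescent

open Matrix Module Cfsg.Geo Cfsg.Agent.Lib.Helper7.Asch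

/-! ### the fixed field of an involution of a finite field -/

section field

variable {F : Type*} [Field F] [Fintype F]

/-- the fixed field of a field automorphism -/
def fixedField (σ : F ≃+* F) : Subfield F := RingHom.eqLocusField (σ : F →+* F) (RingHom.id F)

theorem mem_fixedField (σ : F ≃+* F) (x : F) : x ∈ fixedField σ ↔ σ x = x := Iff.rfl

theorem fixedField_eq (σ : F ≃+* F) :
    fixedField σ = FixedPoints.subfield (Subgroup.zpowers (σ : RingAut F)) F := by
  ext x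
  rw [mem_fixedField]
  constructor
  · intro hx
    rintro ⟨g, hg⟩
    have h1 : Subgroup.zpowers (σ : RingAut F) ≤ MulAction.stabilizer (RingAut F) x := by
      rw [Subgroup.zpowers_le]
      exact hx
    exact h1 hg
  · intro hx
    exact hx ⟨σ, Subgroup.mem_zpowers _⟩

theorem finrank_fixedField (σ : F ≃+* F) (hne : σ ≠ RingEquiv.refl F) (hinv : ∀ a, σ (σ a) = a) :
    finrank (fixedField σ) F = 2 := by
  classical
  have hfin : Finite (RingAut F) := Finite.of_injective (fun e : F ≃+* F => (e : F → F)) DFunLike.coe_injective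
  have hfin2 : Fintype (Subgroup.zpowers (σ : RingAut F)) := Fintype.ofFinite _
  rw [fixedField_eq, FixedPoints.finrank_eq_card, Fintype.card_eq_nat_card, Nat.card_zpowers]
  have : Fact (Nat.Prime 2) := ⟨Nat.prime_two⟩
  apply orderOf_eq_prime
  · ext a
    rw [pow_two]
    exact hinv a
  · exact hne

theorem fixedField_ne_top (σ : F ≃+* F) (hne : σ ≠ RingEquiv.refl F) : fixedField σ ≠ ⊤ := by
  intro h
  apply hne
  ext x
  have : x ∈ fixedField σ := by rw [h]; exact Subfield.mem_top x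
  exact this

theorem card_eq_sq (σ : F ≃+* F) (hne : σ ≠ RingEquiv.refl F) (hinv : ∀ a, σ (σ a) = a) :
    Fintype.card F = Nat.card (fixedField σ) ^ 2 := by
  have h := Module.natCard_eq_pow_finrank (K := fixedField σ) (V := F)
  rw [finrank_fixedField σ hne hinv, Nat.card_eq_fintype_card] at h
  exact h

/-- the norm of a quadratic extension of finite fields is onto -/
theorem exists_norm_eq (σ : F ≃+* F) (hne : σ ≠ RingEquiv.refl F) (hinv : ∀ a, σ (σ a) = a) (c : F)
    (hc : σ c = c) : ∃ μ : F, μ * σ μ = c := by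
  classical
  let σ' : F ≃ₐ[fixedField σ] F := { σ with commutes' := fun k => k.2 }
  have hne' : (1 : F ≃ₐ[fixedField σ] F) ≠ σ' := by
    intro h
    apply hne
    ext x
    have := congrArg (fun τ : F ≃ₐ[fixedField σ] F => τ x) h
    exact this.symm
  have hcard : Fintype.card (F ≃ₐ[fixedField σ] F) = 2 := by
    rw [Fintype.card_eq_nat_card, IsGalois.card_aut_eq_finrank, finrank_fixedField σ hne hinv]
  have huniv : ({1, σ'} : Finset (F ≃ₐ[fixedField σ] F)) = Finset.univ := by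
    apply Finset.eq_of_subset_of_card_le (Finset.subset_univ _)
    rw [Finset.card_univ, hcard, Finset.card_pair hne']
  obtain ⟨μ, hμ⟩ := FiniteField.norm_surjective (fixedField σ) F ⟨c, hc⟩
  refine ⟨μ, ?_⟩
  have h1 := Algebra.norm_eq_prod_automorphisms (fixedField σ) μ
  rw [hμ, ← huniv, Finset.prod_pair hne'] at h1
  exact h1.symm

end field

/-! ### semilinear algebra -/

section semilinear

variable {F : Type*} [Field F] {n : ℕ}

/-- `σ` applied to the coordinates of a vector -/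
def sv (σ : F ≃+* F) (v : Fin n → F) : Fin n → F := fun i => σ (v i)

theorem sv_mulVec (σ : F ≃+* F) (M : Matrix (Fin n) (Fin n) F) (u : Fin n → F) :
    sv σ (M *ᵥ u) = M.map σ *ᵥ sv σ u := by
  funext i
  simp only [sv, Matrix.mulVec, dotProduct, map_sum, map_mul, Matrix.map_apply]

theorem sv_add (σ : F ≃+* F) (u v : Fin n → F) : sv σ (u + v) = sv σ u + sv σ v := by
  funext i
  simp [sv]

theorem sv_smul (σ : F ≃+* F) (c : F) (v : Fin n → F) : sv σ (c • v) = σ c • sv σ v := by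
  funext i
  simp [sv]

theorem sv_sv (σ : F ≃+* F) (hinv : ∀ a, σ (σ a) = a) (v : Fin n → F) : sv σ (sv σ v) = v := by
  funext i
  simp [sv, hinv]

theorem map_map_inv (σ : F ≃+* F) (hinv : ∀ a, σ (σ a) = a) (M : Matrix (Fin n) (Fin n) F) :
    (M.map σ).map σ = M := by
  ext i j
  simp [hinv]

theorem map_mul' (σ : F ≃+* F) (M N : Matrix (Fin n) (Fin n) F) : (M * N).map σ = M.map σ * N.map σ := by
  ext i j
  simp only [Matrix.map_apply, Matrix.mul_apply, map_sum, map_mul]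

theorem map_one' (σ : F ≃+* F) : (1 : Matrix (Fin n) (Fin n) F).map σ = 1 := by
  ext i j
  by_cases h : i = j
  · subst h
    simp
  · simp [Matrix.one_apply_ne h]

theorem map_smul' (σ : F ≃+* F) (c : F) (M : Matrix (Fin n) (Fin n) F) : (c • M).map σ = σ c • M.map σ := by
  ext i j
  simp

/-- **Hilbert 90 for `GL_n`**, involutive case: if `σ(A) A = 1` there is an invertible `C` with `σ(C) = A C` -/
theorem exists_basis_fixed (σ : F ≃+* F) (hne : σ ≠ RingEquiv.refl F) (hinv : ∀ a, σ (σ a) = a)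
    (A : Matrix (Fin n) (Fin n) F) (hA : A.map σ * A = 1) :
    ∃ C : GL (Fin n) F, (C : Matrix (Fin n) (Fin n) F).map σ = A * (C : Matrix (Fin n) (Fin n) F) := by
  classical
  have hA' : A * A.map σ = 1 := mul_eq_one_comm.mp hA
  obtain ⟨θ, hθ⟩ : ∃ θ : F, σ θ ≠ θ := by
    by_contra hcon
    push Not at hcon
    exact hne (RingEquiv.ext hcon)
  -- the fixed vectors
  let s : Set (Fin n → F) := {v | sv σ v = A *ᵥ v}
  have hw : ∀ (l : F) (v : Fin n → F), l • v + A.map σ *ᵥ sv σ (l • v) ∈ s := by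
    intro l v
    show sv σ (l • v + A.map σ *ᵥ sv σ (l • v)) = A *ᵥ (l • v + A.map σ *ᵥ sv σ (l • v))
    rw [sv_add, sv_mulVec, map_map_inv σ hinv, sv_sv σ hinv, Matrix.mulVec_add, Matrix.mulVec_mulVec, hA',
      Matrix.one_mulVec, add_comm]
  have hspan : Submodule.span F s = ⊤ := by
    rw [eq_top_iff]
    intro v _
    have h1 : (1 : F) • v + A.map σ *ᵥ sv σ ((1 : F) • v) ∈ Submodule.span F s := Submodule.subset_span (hw 1 v)
    have h2 : θ • v + A.map σ *ᵥ sv σ (θ • v) ∈ Submodule.span F s := Submodule.subset_span (hw θ v)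
    have h3 : (σ θ - θ)⁻¹ • (σ θ • ((1 : F) • v + A.map σ *ᵥ sv σ ((1 : F) • v)) -
        (θ • v + A.map σ *ᵥ sv σ (θ • v))) = v := by
      have hd : σ θ - θ ≠ 0 := sub_ne_zero.mpr hθ
      rw [one_smul, sv_smul, Matrix.mulVec_smul]
      have : σ θ • (v + A.map σ *ᵥ sv σ v) - (θ • v + σ θ • A.map σ *ᵥ sv σ v) = (σ θ - θ) • v := by
        rw [smul_add, sub_smul]
        abel
      rw [this, smul_smul, inv_mul_cancel₀ hd, one_smul]
    rw [← h3]
    exact Submodule.smul_mem _ _ (Submodule.sub_mem _ (Submodule.smul_mem _ _ h1) h2)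
  obtain ⟨f, hfs, -, hfli⟩ := Submodule.exists_fun_fin_finrank_span_eq F s
  have hfr : finrank F (Submodule.span F s) = n := by
    rw [hspan, finrank_top, Module.finrank_fintype_fun_eq_card, Fintype.card_fin]
  let f' : Fin n → Fin n → F := fun j => f (Fin.cast hfr.symm j)
  have hf'li : LinearIndependent F f' := hfli.comp _ (Fin.cast_injective _)
  have hf's : ∀ j, sv σ (f' j) = A *ᵥ f' j := fun j => hfs _
  let C0 : Matrix (Fin n) (Fin n) F := Matrix.of (fun i j => f' j i)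
  have hC0 : IsUnit C0 := by
    rw [← Matrix.linearIndependent_cols_iff_isUnit]
    exact hf'li
  refine ⟨hC0.unit, ?_⟩
  rw [IsUnit.unit_spec]
  ext i j
  have := congrFun (hf's j) i
  simp only [sv, Matrix.mulVec, dotProduct] at this
  simp only [Matrix.map_apply, Matrix.mul_apply, C0, Matrix.of_apply]
  exact this

end semilinear

/-! ### descent -/

section descent

variable {F : Type*} [Field F] [Fintype F] {n : ℕ}

/-- a set of matrices with scalar commutant which is twisted into itself by `σ` through `A₀` is realisable over the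
fixed field of `σ` -/
theorem realisable_of_twist (hn : 0 < n) (σ : F ≃+* F) (hne : σ ≠ RingEquiv.refl F) (hinv : ∀ a, σ (σ a) = a)
    (S : Set (Matrix (Fin n) (Fin n) F))
    (hcomm : ∀ M : Matrix (Fin n) (Fin n) F, (∀ s ∈ S, M * s = s * M) → ∃ c : F, M = c • (1 : Matrix (Fin n) (Fin n) F))
    (A₀ : GL (Fin n) F)
    (h : ∀ X ∈ S, X.map σ * (A₀ : Matrix (Fin n) (Fin n) F) = (A₀ : Matrix (Fin n) (Fin n) F) * X) :
    RealisableOver (fixedField σ) S := by
  have hA1 : (A₀ : Matrix (Fin n) (Fin n) F) * ((A₀⁻¹ : GL (Fin n) F) : Matrix (Fin n) (Fin n) F) = 1 := by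
    rw [← Units.val_mul, mul_inv_cancel, Units.val_one]
  have hA2 : ((A₀⁻¹ : GL (Fin n) F) : Matrix (Fin n) (Fin n) F) * (A₀ : Matrix (Fin n) (Fin n) F) = 1 := by
    rw [← Units.val_mul, inv_mul_cancel, Units.val_one]
  -- `σ(A₀) A₀` is a scalar `c`
  have h' : ∀ X ∈ S, X * (A₀ : Matrix (Fin n) (Fin n) F).map σ = (A₀ : Matrix (Fin n) (Fin n) F).map σ * X.map σ := by
    intro X hX
    have := congrArg (fun M : Matrix (Fin n) (Fin n) F => M.map σ) (h X hX)
    simp only [map_mul', map_map_inv σ hinv] at this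
    exact this
  obtain ⟨c, hc⟩ := hcomm ((A₀ : Matrix (Fin n) (Fin n) F).map σ * (A₀ : Matrix (Fin n) (Fin n) F)) (by
    intro X hX
    rw [Matrix.mul_assoc, ← h X hX, ← Matrix.mul_assoc, ← h' X hX, Matrix.mul_assoc])
  have hc0 : c ≠ 0 := by
    intro h0
    rw [h0, zero_smul] at hc
    have h1 : ((A₀ : Matrix (Fin n) (Fin n) F).map σ * (A₀ : Matrix (Fin n) (Fin n) F)) *
        (((A₀⁻¹ : GL (Fin n) F) : Matrix (Fin n) (Fin n) F) *
          (((A₀⁻¹ : GL (Fin n) F) : Matrix (Fin n) (Fin n) F)).map σ) = 1 := by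
      rw [Matrix.mul_assoc, ← Matrix.mul_assoc (A₀ : Matrix (Fin n) (Fin n) F), hA1, Matrix.one_mul, ← map_mul',
        hA1, map_one']
    rw [hc, Matrix.zero_mul] at h1
    have h2 := congrFun (congrFun h1 ⟨0, hn⟩) ⟨0, hn⟩
    simp at h2
  have hσc : σ c = c := by
    have h1 : (A₀ : Matrix (Fin n) (Fin n) F) * (A₀ : Matrix (Fin n) (Fin n) F).map σ = σ c • 1 := by
      have := congrArg (fun M : Matrix (Fin n) (Fin n) F => M.map σ) hc
      simp only [map_mul', map_map_inv σ hinv, map_smul', map_one'] at this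
      exact this
    have h2 : (A₀ : Matrix (Fin n) (Fin n) F) * (A₀ : Matrix (Fin n) (Fin n) F).map σ = c • 1 := by
      calc (A₀ : Matrix (Fin n) (Fin n) F) * (A₀ : Matrix (Fin n) (Fin n) F).map σ
          = (A₀ : Matrix (Fin n) (Fin n) F) * ((A₀ : Matrix (Fin n) (Fin n) F).map σ *
              (A₀ : Matrix (Fin n) (Fin n) F)) * ((A₀⁻¹ : GL (Fin n) F) : Matrix (Fin n) (Fin n) F) := by
            rw [Matrix.mul_assoc, Matrix.mul_assoc, hA1, Matrix.mul_one]
        _ = c • 1 := by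
            rw [hc, Matrix.mul_smul, Matrix.mul_one, Matrix.smul_mul, hA1]
    have h3 := congrFun (congrFun (h1.symm.trans h2) ⟨0, hn⟩) ⟨0, hn⟩
    simpa using h3
  -- normalise
  obtain ⟨μ, hμ⟩ := exists_norm_eq σ hne hinv c⁻¹ (by rw [map_inv₀, hσc])
  have hμ0 : μ ≠ 0 := by
    intro h0
    rw [h0, zero_mul] at hμ
    exact inv_ne_zero hc0 hμ.symm
  have hA : (μ • (A₀ : Matrix (Fin n) (Fin n) F)).map σ * (μ • (A₀ : Matrix (Fin n) (Fin n) F)) = 1 := by
    rw [map_smul', Matrix.smul_mul, Matrix.mul_smul, hc, smul_smul, smul_smul, mul_comm (σ μ), hμ,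
      inv_mul_cancel₀ hc0, one_smul]
  have hA' : (μ • (A₀ : Matrix (Fin n) (Fin n) F)) * (μ • (A₀ : Matrix (Fin n) (Fin n) F)).map σ = 1 :=
    mul_eq_one_comm.mp hA
  obtain ⟨C, hC⟩ := exists_basis_fixed σ hne hinv (μ • (A₀ : Matrix (Fin n) (Fin n) F)) hA
  have hC1 : (C : Matrix (Fin n) (Fin n) F) * ((C⁻¹ : GL (Fin n) F) : Matrix (Fin n) (Fin n) F) = 1 := by
    rw [← Units.val_mul, mul_inv_cancel, Units.val_one]
  have hC2 : ((C⁻¹ : GL (Fin n) F) : Matrix (Fin n) (Fin n) F) * (C : Matrix (Fin n) (Fin n) F) = 1 := by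
    rw [← Units.val_mul, inv_mul_cancel, Units.val_one]
  -- `σ(C⁻¹) = C⁻¹ σ(A)`
  have hCi : (((C⁻¹ : GL (Fin n) F) : Matrix (Fin n) (Fin n) F)).map σ =
      ((C⁻¹ : GL (Fin n) F) : Matrix (Fin n) (Fin n) F) * (μ • (A₀ : Matrix (Fin n) (Fin n) F)).map σ := by
    have h1 : (((C⁻¹ : GL (Fin n) F) : Matrix (Fin n) (Fin n) F)).map σ *
        ((μ • (A₀ : Matrix (Fin n) (Fin n) F)) * (C : Matrix (Fin n) (Fin n) F)) = 1 := by
      rw [← hC, ← map_mul', hC2, map_one']
    calc (((C⁻¹ : GL (Fin n) F) : Matrix (Fin n) (Fin n) F)).map σ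
        = (((C⁻¹ : GL (Fin n) F) : Matrix (Fin n) (Fin n) F)).map σ *
            ((μ • (A₀ : Matrix (Fin n) (Fin n) F)) * (C : Matrix (Fin n) (Fin n) F)) *
            (((C⁻¹ : GL (Fin n) F) : Matrix (Fin n) (Fin n) F) * (μ • (A₀ : Matrix (Fin n) (Fin n) F)).map σ) := by
          rw [Matrix.mul_assoc, Matrix.mul_assoc (μ • (A₀ : Matrix (Fin n) (Fin n) F)),
            ← Matrix.mul_assoc (C : Matrix (Fin n) (Fin n) F), hC1, Matrix.one_mul, hA', Matrix.mul_one]
      _ = _ := by rw [h1, Matrix.one_mul]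
  -- the twist for `μ A₀`
  have hX : ∀ X ∈ S, X.map σ * (μ • (A₀ : Matrix (Fin n) (Fin n) F)) = (μ • (A₀ : Matrix (Fin n) (Fin n) F)) * X := by
    intro X hX
    rw [Matrix.mul_smul, h X hX, Matrix.smul_mul]
  refine ⟨C⁻¹, ?_⟩
  intro X hXS i j
  rw [inv_inv, mem_fixedField]
  have h1 : (((C⁻¹ : GL (Fin n) F) : Matrix (Fin n) (Fin n) F) * X * (C : Matrix (Fin n) (Fin n) F)).map σ =
      ((C⁻¹ : GL (Fin n) F) : Matrix (Fin n) (Fin n) F) * X * (C : Matrix (Fin n) (Fin n) F) := by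
    rw [map_mul', map_mul', hCi, hC]
    calc ((C⁻¹ : GL (Fin n) F) : Matrix (Fin n) (Fin n) F) * (μ • (A₀ : Matrix (Fin n) (Fin n) F)).map σ * X.map σ *
          ((μ • (A₀ : Matrix (Fin n) (Fin n) F)) * (C : Matrix (Fin n) (Fin n) F))
        = ((C⁻¹ : GL (Fin n) F) : Matrix (Fin n) (Fin n) F) * (μ • (A₀ : Matrix (Fin n) (Fin n) F)).map σ *
            (X.map σ * (μ • (A₀ : Matrix (Fin n) (Fin n) F))) * (C : Matrix (Fin n) (Fin n) F) := by
          simp only [Matrix.mul_assoc]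
      _ = ((C⁻¹ : GL (Fin n) F) : Matrix (Fin n) (Fin n) F) * ((μ • (A₀ : Matrix (Fin n) (Fin n) F)).map σ *
            (μ • (A₀ : Matrix (Fin n) (Fin n) F))) * X * (C : Matrix (Fin n) (Fin n) F) := by
          rw [hX X hXS]
          simp only [Matrix.mul_assoc]
      _ = _ := by rw [hA, Matrix.mul_one]
  have h2 := congrFun (congrFun h1 i) j
  simpa only [Matrix.map_apply] using h2

end descent

/-! ### the statement about forms -/

section forms

open Cfsg.Agent.Lib.Helper23.S5630CoreF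

variable {F : Type*} [Field F] [Fintype F] {n : ℕ}

/-- the general twisting statement: a group fixing a non-degenerate bilinear form with Gram matrix `Gb` and a
non-degenerate `σ`-sesquilinear form with Gram matrix `Gh` is twisted into itself by `σ` through `Gh⁻¹ Gb` -/
theorem twist_of_grams (σ : F ≃+* F) (R : Subgroup (GL (Fin n) F)) (Gb Gh : GL (Fin n) F)
    (hb : ∀ x ∈ R, (x : Matrix (Fin n) (Fin n) F)ᵀ * (Gb : Matrix (Fin n) (Fin n) F) * (x : Matrix (Fin n) (Fin n) F) =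
      (Gb : Matrix (Fin n) (Fin n) F))
    (hh : ∀ x ∈ R, (x : Matrix (Fin n) (Fin n) F)ᵀ * (Gh : Matrix (Fin n) (Fin n) F) *
      (x : Matrix (Fin n) (Fin n) F).map σ = (Gh : Matrix (Fin n) (Fin n) F)) :
    ∀ X ∈ matrixSet R, X.map σ * ((Gh⁻¹ * Gb : GL (Fin n) F) : Matrix (Fin n) (Fin n) F) =
      ((Gh⁻¹ * Gb : GL (Fin n) F) : Matrix (Fin n) (Fin n) F) * X := by
  rintro _ ⟨y, hy, rfl⟩
  have hxy : ((y⁻¹ : GL (Fin n) F) : Matrix (Fin n) (Fin n) F) * (y : Matrix (Fin n) (Fin n) F) = 1 := by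
    rw [← Units.val_mul, inv_mul_cancel, Units.val_one]
  have hG1 : ((Gh⁻¹ : GL (Fin n) F) : Matrix (Fin n) (Fin n) F) * (Gh : Matrix (Fin n) (Fin n) F) = 1 := by
    rw [← Units.val_mul, inv_mul_cancel, Units.val_one]
  have hG2 : (Gh : Matrix (Fin n) (Fin n) F) * ((Gh⁻¹ : GL (Fin n) F) : Matrix (Fin n) (Fin n) F) = 1 := by
    rw [← Units.val_mul, mul_inv_cancel, Units.val_one]
  have e1 : ((y⁻¹ : GL (Fin n) F) : Matrix (Fin n) (Fin n) F)ᵀ * (Gb : Matrix (Fin n) (Fin n) F) =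
      (Gb : Matrix (Fin n) (Fin n) F) * (y : Matrix (Fin n) (Fin n) F) := by
    have h1 := hb y⁻¹ (R.inv_mem hy)
    calc ((y⁻¹ : GL (Fin n) F) : Matrix (Fin n) (Fin n) F)ᵀ * (Gb : Matrix (Fin n) (Fin n) F)
        = ((y⁻¹ : GL (Fin n) F) : Matrix (Fin n) (Fin n) F)ᵀ * (Gb : Matrix (Fin n) (Fin n) F) *
            (((y⁻¹ : GL (Fin n) F) : Matrix (Fin n) (Fin n) F) * (y : Matrix (Fin n) (Fin n) F)) := by
          rw [hxy, Matrix.mul_one]
      _ = (Gb : Matrix (Fin n) (Fin n) F) * (y : Matrix (Fin n) (Fin n) F) := by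
          rw [← Matrix.mul_assoc, h1]
  have e2 : ((y⁻¹ : GL (Fin n) F) : Matrix (Fin n) (Fin n) F)ᵀ * (Gh : Matrix (Fin n) (Fin n) F) =
      (Gh : Matrix (Fin n) (Fin n) F) * (y : Matrix (Fin n) (Fin n) F).map σ := by
    have h1 := hh y⁻¹ (R.inv_mem hy)
    have hσ : (((y⁻¹ : GL (Fin n) F) : Matrix (Fin n) (Fin n) F)).map σ * (y : Matrix (Fin n) (Fin n) F).map σ = 1 := by
      rw [← map_mul', hxy, map_one']
    calc ((y⁻¹ : GL (Fin n) F) : Matrix (Fin n) (Fin n) F)ᵀ * (Gh : Matrix (Fin n) (Fin n) F)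
        = ((y⁻¹ : GL (Fin n) F) : Matrix (Fin n) (Fin n) F)ᵀ * (Gh : Matrix (Fin n) (Fin n) F) *
            ((((y⁻¹ : GL (Fin n) F) : Matrix (Fin n) (Fin n) F)).map σ * (y : Matrix (Fin n) (Fin n) F).map σ) := by
          rw [hσ, Matrix.mul_one]
      _ = (Gh : Matrix (Fin n) (Fin n) F) * (y : Matrix (Fin n) (Fin n) F).map σ := by
          rw [← Matrix.mul_assoc, h1]
  -- `σ(Y) Gh⁻¹ = Gh⁻¹ Xᵀ`
  have e3 : (y : Matrix (Fin n) (Fin n) F).map σ * ((Gh⁻¹ : GL (Fin n) F) : Matrix (Fin n) (Fin n) F) =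
      ((Gh⁻¹ : GL (Fin n) F) : Matrix (Fin n) (Fin n) F) * ((y⁻¹ : GL (Fin n) F) : Matrix (Fin n) (Fin n) F)ᵀ := by
    calc (y : Matrix (Fin n) (Fin n) F).map σ * ((Gh⁻¹ : GL (Fin n) F) : Matrix (Fin n) (Fin n) F)
        = ((Gh⁻¹ : GL (Fin n) F) : Matrix (Fin n) (Fin n) F) * ((Gh : Matrix (Fin n) (Fin n) F) *
            (y : Matrix (Fin n) (Fin n) F).map σ) * ((Gh⁻¹ : GL (Fin n) F) : Matrix (Fin n) (Fin n) F) := by
          rw [← Matrix.mul_assoc, hG1, Matrix.one_mul]
      _ = ((Gh⁻¹ : GL (Fin n) F) : Matrix (Fin n) (Fin n) F) * ((y⁻¹ : GL (Fin n) F) : Matrix (Fin n) (Fin n) F)ᵀ := by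
          rw [← e2, Matrix.mul_assoc, Matrix.mul_assoc, hG2, Matrix.mul_one]
  rw [Units.val_mul, ← Matrix.mul_assoc, e3, Matrix.mul_assoc, e1, Matrix.mul_assoc]

/-- **descent**: an absolutely irreducible group fixing a non-degenerate bilinear form and a unitary form (for `σ`) is
realisable over the fixed field of `σ` -/
theorem realisable_of_bilinear_unitary (hn : 0 < n) (R : Subgroup (GL (Fin n) F)) (hR : AbsIrr R)
    (b : (Fin n → F) → (Fin n → F) → F) (hb : IsBilinearForm b) (hnd : IsNondegenerateForm b)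
    (hfixb : FixesForm (matrixSet R) b)
    (σ : F ≃+* F) (h : (Fin n → F) → (Fin n → F) → F) (hh : IsUnitaryForm σ h)
    (hfixh : FixesForm (matrixSet R) h) :
    RealisableOver (fixedField σ) (matrixSet R) := by
  have hsb := isSesq_of_isBilinearForm b hb
  have hsh := isSesq_of_isUnitaryForm σ h hh
  have hGb := gram_isUnit (RingEquiv.refl F) b hsb hnd
  have hGh := gram_isUnit σ h hsh hh.nondegenerate
  have hid : ∀ X : Matrix (Fin n) (Fin n) F, X.map (RingEquiv.refl F) = X := by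
    intro X
    ext i j
    rfl
  have key := twist_of_grams σ R hGb.unit hGh.unit
    (by
      intro x hx
      have := gram_fix (RingEquiv.refl F) b hsb (x : Matrix (Fin n) (Fin n) F)
        (fun u v => hfixb _ ⟨x, hx, rfl⟩ u v)
      rw [hid] at this
      exact this)
    (by
      intro x hx
      exact gram_fix σ h hsh (x : Matrix (Fin n) (Fin n) F) (fun u v => hfixh _ ⟨x, hx, rfl⟩ u v))
  exact realisable_of_twist hn σ hh.ne_refl hh.involutive (matrixSet R) hR.2 _ key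

end forms

end Cfsg.Agent.Lib.Helper12.AschDescent
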