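import Mathlib

/-!
# S3341 farm-out pieces FO-3a, FO-3b, FO-3c, FO-3d (architect: helper11)

Setting: `P : Sylow 3 G` elementary abelian of order 9 with `C_G(s) = P` for all `s ∈ P ∖ 1`.
-/

set_option autoImplicit false

namespace Cfsg.Agent.Lib.Helper12.S3341FO3

open scoped Pointwise

variable {G : Type*} [Group G] [Finite G]

/-- the order of a group acting freely divides the size of the set -/
theorem card_dvd_of_free {Γ X : Type*} [Group Γ] [MulAction Γ X]
    (h : ∀ (g : Γ) (x : X), g • x = x → g = 1) : Nat.card Γ ∣ Nat.card X := by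
  have hstab : ∀ b : X, MulAction.stabilizer Γ b = ⊥ := by
    intro b
    rw [eq_bot_iff]
    intro g hg
    rw [Subgroup.mem_bot]
    exact h g b (MulAction.mem_stabilizer_iff.mp hg)
  have e := MulAction.selfEquivOrbitsQuotientProd hstab
  rw [Nat.card_congr e, Nat.card_prod]
  exact dvd_mul_left _ _

/-- FO-3a (fusion / TI): an element carrying some `s ∈ P ∖ 1` into `P` normalizes `P`. -/
theorem fusion (P : Sylow 3 G)
    (hcomm : ∀ a ∈ (P : Subgroup G), ∀ b ∈ (P : Subgroup G), a * b = b * a)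
    (hcard : Nat.card (P : Subgroup G) = 9)
    (hcent : ∀ s ∈ (P : Subgroup G), s ≠ 1 → Subgroup.centralizer ({s} : Set G) = (P : Subgroup G))
    (s : G) (hs : s ∈ (P : Subgroup G)) (hs1 : s ≠ 1) (g : G)
    (hg : g * s * g⁻¹ ∈ (P : Subgroup G)) :
    g ∈ Subgroup.normalizer ((P : Subgroup G) : Set G) := by
  have ht1 : g * s * g⁻¹ ≠ 1 := by
    intro h
    apply hs1
    have h2 : s = g⁻¹ * (g * s * g⁻¹) * g := by group
    rw [h2, h]
    group
  have hCs := hcent s hs hs1
  have hCt := hcent _ hg ht1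
  rw [Subgroup.mem_normalizer_iff]
  intro h
  constructor
  · intro hh
    have hh' : h ∈ (P : Subgroup G) := hh
    show g * h * g⁻¹ ∈ (P : Subgroup G)
    rw [← hCt, Subgroup.mem_centralizer_iff]
    intro x hx
    rw [Set.mem_singleton_iff] at hx
    rw [hx]
    rw [← hCs, Subgroup.mem_centralizer_iff] at hh'
    have h1 := hh' s (Set.mem_singleton s)
    calc g * s * g⁻¹ * (g * h * g⁻¹) = g * (s * h) * g⁻¹ := by group
      _ = g * (h * s) * g⁻¹ := by rw [h1]
      _ = g * h * g⁻¹ * (g * s * g⁻¹) := by group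
  · intro hh
    have hh' : g * h * g⁻¹ ∈ (P : Subgroup G) := hh
    show h ∈ (P : Subgroup G)
    rw [← hCt, Subgroup.mem_centralizer_iff] at hh'
    have h1 := hh' _ (Set.mem_singleton _)
    rw [← hCs, Subgroup.mem_centralizer_iff]
    intro x hx
    rw [Set.mem_singleton_iff] at hx
    rw [hx]
    have h2 : g * (s * h) * g⁻¹ = g * (h * s) * g⁻¹ := by
      calc g * (s * h) * g⁻¹ = g * s * g⁻¹ * (g * h * g⁻¹) := by group
        _ = g * h * g⁻¹ * (g * s * g⁻¹) := h1
        _ = g * (h * s) * g⁻¹ := by group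
    exact mul_left_cancel (mul_right_cancel h2)

/-- Sylow: an element of order `3` is conjugate into `P`. -/
theorem exists_conj_mem (P : Sylow 3 G) (c : G) (hc : orderOf c = 3) :
    ∃ g : G, g * c * g⁻¹ ∈ (P : Subgroup G) := by
  have : Fact (Nat.Prime 3) := ⟨Nat.prime_three⟩
  have hp : IsPGroup 3 (Subgroup.zpowers c) := by
    apply IsPGroup.of_card (n := 1)
    rw [pow_one, Nat.card_zpowers, hc]
  obtain ⟨Q, hQ⟩ := hp.exists_le_sylow
  obtain ⟨g, hg⟩ := MulAction.exists_smul_eq G Q P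
  refine ⟨g, ?_⟩
  have hcQ : c ∈ (Q : Subgroup G) := hQ (Subgroup.mem_zpowers c)
  have h1 : MulAut.conj g • c ∈ MulAut.conj g • (Q : Subgroup G) :=
    Subgroup.smul_mem_pointwise_smul _ _ _ hcQ
  rw [← Sylow.coe_subgroup_smul, hg] at h1
  exact h1

/-- FO-3c: two non-conjugate elements of `P ∖ 1`. -/
theorem exists_nonconj (P : Sylow 3 G)
    (hcard : Nat.card (P : Subgroup G) = 9)
    (hclasses : ∃ a b : G, orderOf a = 3 ∧ orderOf b = 3 ∧ ∀ g : G, g * a * g⁻¹ ≠ b) :
    ∃ x y : G, x ∈ (P : Subgroup G) ∧ y ∈ (P : Subgroup G) ∧ x ≠ 1 ∧ y ≠ 1 ∧ ¬ IsConj x y := by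
  obtain ⟨a, b, ha, hb, hab⟩ := hclasses
  obtain ⟨g₁, hg₁⟩ := exists_conj_mem P a ha
  obtain ⟨g₂, hg₂⟩ := exists_conj_mem P b hb
  have hne : ∀ (g c : G), orderOf c = 3 → g * c * g⁻¹ ≠ 1 := by
    intro g c hc h
    have h2 : c = g⁻¹ * (g * c * g⁻¹) * g := by group
    rw [h] at h2
    have h3 : c = 1 := by rw [h2]; group
    rw [h3, orderOf_one] at hc
    omega
  refine ⟨g₁ * a * g₁⁻¹, g₂ * b * g₂⁻¹, hg₁, hg₂, hne g₁ a ha, hne g₂ b hb, ?_⟩
  intro hconj
  obtain ⟨c, hc⟩ := isConj_iff.mp hconj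
  apply hab (g₂⁻¹ * c * g₁)
  have h2 : b = g₂⁻¹ * (g₂ * b * g₂⁻¹) * g₂ := by group
  rw [h2, ← hc]
  group

/-- FO-3d: if the index of `P` in its normalizer is even, every element of `P` is conjugate to its
inverse (an involution of the normalizer inverts `P`). -/
theorem isConj_inv (P : Sylow 3 G)
    (hcomm : ∀ a ∈ (P : Subgroup G), ∀ b ∈ (P : Subgroup G), a * b = b * a)
    (hcard : Nat.card (P : Subgroup G) = 9)
    (hcent : ∀ s ∈ (P : Subgroup G), s ≠ 1 → Subgroup.centralizer ({s} : Set G) = (P : Subgroup G))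
    (heven : Even ((P : Subgroup G).subgroupOf
      (Subgroup.normalizer ((P : Subgroup G) : Set G))).index)
    (s : G) (hs : s ∈ (P : Subgroup G)) : IsConj s s⁻¹ := by
  have : Fact (Nat.Prime 2) := ⟨Nat.prime_two⟩
  have hPN : (P : Subgroup G) ≤ Subgroup.normalizer ((P : Subgroup G) : Set G) :=
    Subgroup.le_normalizer
  have hcardH : Nat.card ((P : Subgroup G).subgroupOf
      (Subgroup.normalizer ((P : Subgroup G) : Set G))) = 9 := by
    rw [Nat.card_congr (Subgroup.subgroupOfEquivOfLe hPN).toEquiv, hcard]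
  have h2N : 2 ∣ Nat.card (Subgroup.normalizer ((P : Subgroup G) : Set G)) := by
    rw [← Subgroup.index_mul_card ((P : Subgroup G).subgroupOf
      (Subgroup.normalizer ((P : Subgroup G) : Set G)))]
    exact Dvd.dvd.mul_right (even_iff_two_dvd.mp heven) _
  obtain ⟨u, hu⟩ := exists_prime_orderOf_dvd_card' 2 h2N
  have hu2 : (u : G) * (u : G) = 1 := by
    have h1 : u ^ 2 = 1 := by rw [← hu]; exact pow_orderOf_eq_one u
    have h2 := congrArg Subtype.val h1
    rw [pow_two] at h2
    exact h2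
  have huinv : (u : G)⁻¹ = u := inv_eq_of_mul_eq_one_left hu2
  have huP : (u : G) ∉ (P : Subgroup G) := by
    intro hmem
    have h1 : orderOf (⟨u, hmem⟩ : (P : Subgroup G)) ∣ 9 := by
      rw [← hcard]
      exact orderOf_dvd_natCard _
    have h3 : orderOf (⟨u, hmem⟩ : (P : Subgroup G)) = 2 := by
      rw [← hu, ← Subgroup.orderOf_coe u, ← Subgroup.orderOf_coe (⟨(u : G), hmem⟩ : (P : Subgroup G))]
    rw [h3] at h1
    omega
  have hnorm : ∀ x ∈ (P : Subgroup G), (u : G) * x * (u : G)⁻¹ ∈ (P : Subgroup G) := by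
    intro x hx
    exact (Subgroup.mem_normalizer_iff.mp u.2 x).mp hx
  have hw : s * ((u : G) * s * (u : G)⁻¹) = 1 := by
    by_contra hne
    have hwP : s * ((u : G) * s * (u : G)⁻¹) ∈ (P : Subgroup G) :=
      Subgroup.mul_mem _ hs (hnorm s hs)
    have hC := hcent _ hwP hne
    apply huP
    have hmem : (u : G) ∈ Subgroup.centralizer ({s * ((u : G) * s * (u : G)⁻¹)} : Set G) := by
      rw [Subgroup.mem_centralizer_iff]
      intro x hx
      rw [Set.mem_singleton_iff] at hx
      rw [hx, huinv]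
      have h1 : s * ((u : G) * s * u) = ((u : G) * s * u) * s := by
        have := hcomm s hs _ (hnorm s hs)
        rwa [huinv] at this
      calc s * ((u : G) * s * u) * u = (u : G) * s * u * s * u := by rw [h1]
        _ = (u : G) * (s * ((u : G) * s * u)) := by simp only [mul_assoc]
    rw [hC] at hmem
    exact hmem
  rw [isConj_iff]
  refine ⟨(u : G), ?_⟩
  exact (eq_inv_of_mul_eq_one_right hw)

/-- FO-3b: the index of `P` in its normalizer is `2` or `4`. -/
theorem index_two_or_four [IsSimpleGroup G] (P : Sylow 3 G)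
    (hcomm : ∀ a ∈ (P : Subgroup G), ∀ b ∈ (P : Subgroup G), a * b = b * a)
    (hexp : ∀ a ∈ (P : Subgroup G), a ^ 3 = 1)
    (hcard : Nat.card (P : Subgroup G) = 9)
    (hcent : ∀ s ∈ (P : Subgroup G), s ≠ 1 → Subgroup.centralizer ({s} : Set G) = (P : Subgroup G))
    (hclasses : ∃ a b : G, orderOf a = 3 ∧ orderOf b = 3 ∧ ∀ g : G, g * a * g⁻¹ ≠ b) :
    ((P : Subgroup G).subgroupOf (Subgroup.normalizer ((P : Subgroup G) : Set G))).index = 2 ∨
    ((P : Subgroup G).subgroupOf (Subgroup.normalizer ((P : Subgroup G) : Set G))).index = 4 := by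
  classical
  have : Fact (Nat.Prime 3) := ⟨Nat.prime_three⟩
  obtain ⟨N, hNdef⟩ : ∃ N : Subgroup G, N = Subgroup.normalizer ((P : Subgroup G) : Set G) :=
    ⟨_, rfl⟩
  rw [← hNdef]
  have hPN : (P : Subgroup G) ≤ N := hNdef ▸ Subgroup.le_normalizer
  obtain ⟨H, hHdef⟩ : ∃ H : Subgroup N, H = (P : Subgroup G).subgroupOf N := ⟨_, rfl⟩
  rw [← hHdef]
  have hHn : H.Normal := by
    rw [hHdef, hNdef]
    exact Subgroup.normal_in_normalizer
  have hmemH : ∀ n : N, n ∈ H ↔ (n : G) ∈ (P : Subgroup G) := by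
    intro n
    rw [hHdef, Subgroup.mem_subgroupOf]
  have hcardH : Nat.card H = 9 := by
    rw [hHdef, Nat.card_congr (Subgroup.subgroupOfEquivOfLe hPN).toEquiv, hcard]
  -- a nonidentity element of `P`
  obtain ⟨s₀, hs₀, hs₀1⟩ : ∃ s₀ : G, s₀ ∈ (P : Subgroup G) ∧ s₀ ≠ 1 := by
    by_contra hcon
    push Not at hcon
    have h1 : (P : Subgroup G) = ⊥ := by
      rw [eq_bot_iff]
      intro x hx
      rw [Subgroup.mem_bot]
      exact hcon x hx
    rw [h1, Subgroup.card_bot] at hcard
    omega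
  let φ : N →* MulAut H := MulAut.conjNormal
  have hφ : ∀ (n : N) (h : H), (((φ n h : H) : N) : G) = (n : G) * ((h : N) : G) * (n : G)⁻¹ := by
    intro n h
    rfl
  have hker : φ.ker = H := by
    ext n
    rw [MonoidHom.mem_ker, hmemH]
    constructor
    · intro h1
      have h2 := hφ n ⟨⟨s₀, hPN hs₀⟩, (hmemH _).mpr hs₀⟩
      rw [h1, MulAut.one_apply] at h2
      -- h2 : s₀ = n * s₀ * n⁻¹
      rw [← hcent s₀ hs₀ hs₀1, Subgroup.mem_centralizer_iff]
      intro x hx
      rw [Set.mem_singleton_iff] at hx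
      rw [hx]
      have h3 : s₀ = (n : G) * s₀ * (n : G)⁻¹ := h2
      calc s₀ * (n : G) = (n : G) * s₀ * (n : G)⁻¹ * n := by rw [← h3]
        _ = n * s₀ := by group
    · intro h1
      apply MulEquiv.ext
      intro h
      apply Subtype.ext
      apply Subtype.ext
      rw [hφ, MulAut.one_apply]
      have h2 : ((h : N) : G) ∈ (P : Subgroup G) := (hmemH _).mp h.2
      rw [hcomm _ h1 _ h2]
      group
  have hidx : H.index = Nat.card φ.range := by
    have h1 := Subgroup.index_ker φ
    rw [hker] at h1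
    exact h1
  -- the free action of `φ.range` on the nonidentity elements of `H`
  let Y : SubMulAction φ.range H :=
    { carrier := {h | h ≠ 1}
      smul_mem' := by
        intro γ h hh h1
        apply hh
        have h2 : (γ : MulAut H) h = 1 := h1
        exact (MulEquiv.map_eq_one_iff (γ : MulAut H)).mp h2 }
  have hfree : ∀ (γ : φ.range) (y : Y), γ • y = y → γ = 1 := by
    intro γ y hy
    obtain ⟨γ, n, rfl⟩ := γ
    have h1 : φ n (y : H) = (y : H) := congrArg Subtype.val hy
    have h2 := hφ n (y : H)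
    rw [h1] at h2
    have hyP : (((y : H) : N) : G) ∈ (P : Subgroup G) := (hmemH _).mp (y : H).2
    have hy1 : (((y : H) : N) : G) ≠ 1 := by
      intro h3
      apply y.2
      apply Subtype.ext
      apply Subtype.ext
      exact h3
    have hnP : (n : G) ∈ (P : Subgroup G) := by
      rw [← hcent _ hyP hy1, Subgroup.mem_centralizer_iff]
      intro x hx
      rw [Set.mem_singleton_iff] at hx
      rw [hx]
      calc (((y : H) : N) : G) * (n : G)
          = (n : G) * (((y : H) : N) : G) * (n : G)⁻¹ * n := by rw [← h2]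
        _ = n * (((y : H) : N) : G) := by group
    have hnker : n ∈ φ.ker := by
      rw [hker, hmemH]
      exact hnP
    apply Subtype.ext
    exact MonoidHom.mem_ker.mp hnker
  have hcardY : Nat.card Y = 8 := by
    have e1 : Nat.card Y = ({h | h ≠ 1} : Set H).ncard := Nat.card_coe_set_eq _
    have e2 : ({h | h ≠ 1} : Set H) = (Set.univ : Set H) \ {1} := by
      ext h
      simp
    rw [e1, e2, Set.ncard_sdiff_singleton_of_mem (Set.mem_univ _), Set.ncard_univ, hcardH]
  have hdvd : H.index ∣ 8 := by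
    rw [hidx, ← hcardY]
    exact card_dvd_of_free hfree
  obtain ⟨k, hk, hek⟩ := (Nat.dvd_prime_pow Nat.prime_two).1 (show H.index ∣ 2 ^ 3 from hdvd)
  have hk0 : k ≠ 0 := by
    -- `e ≠ 1`: Burnside transfer
    intro h0
    rw [h0, pow_zero] at hek
    have hHtop : H = ⊤ := Subgroup.index_eq_one.mp hek
    have hNP : N ≤ (P : Subgroup G) := by
      intro n hn
      have h1 : (⟨n, hn⟩ : N) ∈ H := by rw [hHtop]; exact Subgroup.mem_top _
      exact (hmemH _).mp h1
    have hNC : Subgroup.normalizer ((P : Subgroup G) : Set G)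
        ≤ Subgroup.centralizer ((P : Subgroup G) : Set G) := by
      intro n hn
      rw [Subgroup.mem_centralizer_iff]
      intro x hx
      exact hcomm x hx n (hNP (hNdef ▸ hn))
    have hcompl := MonoidHom.ker_transferSylow_isComplement' P hNC
    have hmul := hcompl.card_mul_card
    have hKn : (MonoidHom.transferSylow P hNC).ker.Normal := inferInstance
    rcases hKn.eq_bot_or_eq_top with hK | hK
    · rw [hK, Subgroup.card_bot, one_mul, hcard] at hmul
      -- `|G| = 9`, `P = ⊤`, `G` abelian: a subgroup of order `3` is normal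
      have hPtop : (P : Subgroup G) = ⊤ := by
        apply Subgroup.eq_top_of_card_eq
        rw [hcard, hmul]
      have hcommG : ∀ a b : G, a * b = b * a := by
        intro a b
        exact hcomm a (by rw [hPtop]; exact Subgroup.mem_top a) b
          (by rw [hPtop]; exact Subgroup.mem_top b)
      have h3G : 3 ∣ Nat.card G := by rw [← hmul]; norm_num
      obtain ⟨c, hc⟩ := exists_prime_orderOf_dvd_card' 3 h3G
      have hZn : (Subgroup.zpowers c).Normal := by
        constructor
        intro x hx g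
        have h1 : g * x * g⁻¹ = x := by
          rw [hcommG g x]
          group
        rw [h1]
        exact hx
      have hZcard : Nat.card (Subgroup.zpowers c) = 3 := by rw [Nat.card_zpowers, hc]
      rcases hZn.eq_bot_or_eq_top with hZ | hZ
      · rw [hZ, Subgroup.card_bot] at hZcard
        omega
      · rw [hZ, Subgroup.card_top, ← hmul] at hZcard
        omega
    · rw [hK, Subgroup.card_top, hcard] at hmul
      have hpos : 0 < Nat.card G := Nat.card_pos
      nlinarith
  have hk3 : k ≠ 3 := by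
    -- `e ≠ 8`: then `N` is transitive on `P ∖ 1`
    intro h3
    rw [h3] at hek
    have hcardR : Nat.card φ.range = 8 := by rw [← hidx, hek]; norm_num
    obtain ⟨a, b, ha, hb, hab⟩ := hclasses
    obtain ⟨g₁, hg₁⟩ := exists_conj_mem P a ha
    obtain ⟨g₂, hg₂⟩ := exists_conj_mem P b hb
    have hne : ∀ (g c : G), orderOf c = 3 → g * c * g⁻¹ ≠ 1 := by
      intro g c hc h
      have h2 : c = g⁻¹ * (g * c * g⁻¹) * g := by group
      rw [h] at h2
      have h3 : c = 1 := by rw [h2]; group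
      rw [h3, orderOf_one] at hc
      omega
    let x' : Y := ⟨⟨⟨g₁ * a * g₁⁻¹, hPN hg₁⟩, (hmemH _).mpr hg₁⟩, by
      intro h1
      apply hne g₁ a ha
      have h2 := congrArg (fun z : H => ((z : N) : G)) h1
      exact h2⟩
    let y' : Y := ⟨⟨⟨g₂ * b * g₂⁻¹, hPN hg₂⟩, (hmemH _).mpr hg₂⟩, by
      intro h1
      apply hne g₂ b hb
      have h2 := congrArg (fun z : H => ((z : N) : G)) h1
      exact h2⟩
    have hinj : Function.Injective (fun γ : φ.range => γ • x') := by
      intro γ₁ γ₂ h12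
      have h1 : (γ₂⁻¹ * γ₁) • x' = x' := by
        rw [mul_smul]
        have h2 : γ₁ • x' = γ₂ • x' := h12
        rw [h2, inv_smul_smul]
      have h2 := hfree _ _ h1
      exact (inv_mul_eq_one.mp h2).symm
    have hbij := hinj.bijective_of_nat_card_le (by rw [hcardR, hcardY])
    obtain ⟨γ, hγ⟩ := hbij.2 y'
    obtain ⟨γ, n, rfl⟩ := γ
    have h1 : φ n (x' : H) = (y' : H) := congrArg Subtype.val hγ
    have h2 := hφ n (x' : H)
    rw [h1] at h2
    -- h2 : g₂ b g₂⁻¹ = n (g₁ a g₁⁻¹) n⁻¹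
    have h3 : g₂ * b * g₂⁻¹ = (n : G) * (g₁ * a * g₁⁻¹) * (n : G)⁻¹ := h2
    apply hab (g₂⁻¹ * (n : G) * g₁)
    have h4 : b = g₂⁻¹ * (g₂ * b * g₂⁻¹) * g₂ := by group
    rw [h4, h3]
    group
  have hk12 : k = 1 ∨ k = 2 := by omega
  rcases hk12 with h | h
  · left
    rw [hek, h]
    norm_num
  · right
    rw [hek, h]
    norm_num

end Cfsg.Agent.Lib.Helper12.S3341FO3
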