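import Mathlib
import Cfsg.Prelude.Def_GeometricClasses
import Cfsg.Agent.Lib.Helper13.DecompCoords

/-!
# S5781 FO-TR (helper12): transport of class-6 data along a change of coordinates `psi e P`
-/

set_option autoImplicit false
set_option linter.unusedSectionVars false

namespace Cfsg.Agent.Lib.Helper12.S5781TR

open Cfsg Cfsg.Geo Cfsg.Agent.Lib.Helper13.TNM
open scoped MatrixGroups Matrix

variable {ι κ : Type} [Fintype ι] [DecidableEq ι] [Fintype κ] [DecidableEq κ] {F : Type*} [Field F]

/-! ### the matrix-level transport -/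

/-- the algebra-level version of `psi` -/
def Psi (e : ι ≃ κ) (P : GL ι F) (N : Matrix κ κ F) : Matrix ι ι F :=
  (P : Matrix ι ι F) * N.submatrix e e * ((P⁻¹ : GL ι F) : Matrix ι ι F)

theorem psi_val' (e : ι ≃ κ) (P : GL ι F) (M : GL κ F) :
    ((psi e P M : GL ι F) : Matrix ι ι F) = Psi e P (M : Matrix κ κ F) := psi_val e P M

theorem Psi_mul (e : ι ≃ κ) (P : GL ι F) (A B : Matrix κ κ F) : Psi e P (A * B) = Psi e P A * Psi e P B := by
  unfold Psi
  have h : ((P⁻¹ : GL ι F) : Matrix ι ι F) * (P : Matrix ι ι F) = 1 := by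
    rw [← Units.val_mul, inv_mul_cancel, Units.val_one]
  have h2 : (A * B).submatrix e e = A.submatrix e e * B.submatrix e e :=
    (Matrix.submatrix_mul_equiv A B e e e).symm
  rw [h2]
  calc (P : Matrix ι ι F) * (A.submatrix e e * B.submatrix e e) * ((P⁻¹ : GL ι F) : Matrix ι ι F)
      = (P : Matrix ι ι F) * A.submatrix e e * (((P⁻¹ : GL ι F) : Matrix ι ι F) * (P : Matrix ι ι F)) *
          B.submatrix e e * ((P⁻¹ : GL ι F) : Matrix ι ι F) := by
        rw [h, Matrix.mul_one]
        simp only [Matrix.mul_assoc]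
    _ = _ := by simp only [Matrix.mul_assoc]

theorem Psi_smul_one (e : ι ≃ κ) (P : GL ι F) (c : F) : Psi e P (c • (1 : Matrix κ κ F)) = c • 1 := by
  unfold Psi
  have h1 : (c • (1 : Matrix κ κ F)).submatrix e e = c • (1 : Matrix ι ι F) := by
    ext i j
    simp [Matrix.one_apply]
  rw [h1, Matrix.mul_smul, Matrix.mul_one, Matrix.smul_mul,
    ← Units.val_mul, mul_inv_cancel, Units.val_one]

/-- the inverse of `Psi` -/
def PsiInv (e : ι ≃ κ) (P : GL ι F) (X : Matrix ι ι F) : Matrix κ κ F :=
  (((P⁻¹ : GL ι F) : Matrix ι ι F) * X * (P : Matrix ι ι F)).submatrix e.symm e.symm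

theorem Psi_PsiInv (e : ι ≃ κ) (P : GL ι F) (X : Matrix ι ι F) : Psi e P (PsiInv e P X) = X := by
  unfold Psi PsiInv
  have h1 : (P : Matrix ι ι F) * ((P⁻¹ : GL ι F) : Matrix ι ι F) = 1 := by
    rw [← Units.val_mul, mul_inv_cancel, Units.val_one]
  rw [Matrix.submatrix_submatrix, Equiv.symm_comp_self, Matrix.submatrix_id_id]
  calc (P : Matrix ι ι F) * (((P⁻¹ : GL ι F) : Matrix ι ι F) * X * (P : Matrix ι ι F)) *
        ((P⁻¹ : GL ι F) : Matrix ι ι F)
      = ((P : Matrix ι ι F) * ((P⁻¹ : GL ι F) : Matrix ι ι F)) * X *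
          ((P : Matrix ι ι F) * ((P⁻¹ : GL ι F) : Matrix ι ι F)) := by simp only [Matrix.mul_assoc]
    _ = X := by rw [h1, Matrix.one_mul, Matrix.mul_one]

theorem PsiInv_Psi (e : ι ≃ κ) (P : GL ι F) (N : Matrix κ κ F) : PsiInv e P (Psi e P N) = N := by
  unfold Psi PsiInv
  have h2 : ((P⁻¹ : GL ι F) : Matrix ι ι F) * (P : Matrix ι ι F) = 1 := by
    rw [← Units.val_mul, inv_mul_cancel, Units.val_one]
  have : ((P⁻¹ : GL ι F) : Matrix ι ι F) * ((P : Matrix ι ι F) * N.submatrix e e *
      ((P⁻¹ : GL ι F) : Matrix ι ι F)) * (P : Matrix ι ι F) = N.submatrix e e := by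
    calc ((P⁻¹ : GL ι F) : Matrix ι ι F) * ((P : Matrix ι ι F) * N.submatrix e e *
          ((P⁻¹ : GL ι F) : Matrix ι ι F)) * (P : Matrix ι ι F)
        = (((P⁻¹ : GL ι F) : Matrix ι ι F) * (P : Matrix ι ι F)) * N.submatrix e e *
            (((P⁻¹ : GL ι F) : Matrix ι ι F) * (P : Matrix ι ι F)) := by simp only [Matrix.mul_assoc]
      _ = N.submatrix e e := by rw [h2, Matrix.one_mul, Matrix.mul_one]
  rw [this, Matrix.submatrix_submatrix, Equiv.self_comp_symm, Matrix.submatrix_id_id]

theorem Psi_injective (e : ι ≃ κ) (P : GL ι F) : Function.Injective (Psi (F := F) e P) := by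
  intro A B h
  rw [← PsiInv_Psi e P A, ← PsiInv_Psi e P B, h]

theorem TT_zero (e : ι ≃ κ) (P : GL ι F) : TT e P (0 : κ → F) = 0 := by
  have := TT_smul e P (0 : F) (0 : κ → F)
  rw [zero_smul, zero_smul] at this
  exact this

/-! ### absolute irreducibility -/

theorem absIrred_map (e : ι ≃ κ) (P : GL ι F) (R₀ : Subgroup (GL κ F))
    (h : ActsAbsolutelyIrreducibly (matrixSet R₀)) :
    ActsAbsolutelyIrreducibly (matrixSet (R₀.map (psi e P))) := by
  constructor
  · intro W hW
    let W₀ : Submodule F (κ → F) :=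
      { carrier := {x | TT e P x ∈ W}
        add_mem' := by
          intro x y hx hy
          show TT e P (x + y) ∈ W
          rw [TT_add]
          exact W.add_mem hx hy
        zero_mem' := by
          show TT e P 0 ∈ W
          rw [TT_zero]
          exact W.zero_mem
        smul_mem' := by
          intro c x hx
          show TT e P (c • x) ∈ W
          rw [TT_smul]
          exact W.smul_mem c hx }
    have hW₀ : ∀ s ∈ matrixSet R₀, W₀.map (Matrix.toLin' s) ≤ W₀ := by
      rintro _ ⟨M, hM, rfl⟩ _ ⟨x, hx, rfl⟩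
      show TT e P (Matrix.toLin' (M : Matrix κ κ F) x) ∈ W
      rw [Matrix.toLin'_apply, ← psi_mulVec]
      apply hW ((psi e P M : GL ι F) : Matrix ι ι F) ⟨psi e P M, ⟨M, hM, rfl⟩, rfl⟩
      exact ⟨TT e P x, hx, by rw [Matrix.toLin'_apply]⟩
    rcases h.1 W₀ hW₀ with h0 | h0
    · left
      rw [eq_bot_iff]
      intro w hw
      obtain ⟨x, rfl⟩ := TT_surj e P w
      have hx : x ∈ W₀ := hw
      rw [h0, Submodule.mem_bot] at hx
      rw [hx, TT_zero]
      exact Submodule.zero_mem _
    · right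
      rw [eq_top_iff]
      intro v _
      obtain ⟨x, rfl⟩ := TT_surj e P v
      have hx : x ∈ W₀ := by rw [h0]; exact Submodule.mem_top
      exact hx
  · intro X hX
    obtain ⟨c, hc⟩ := h.2 (PsiInv e P X) (by
      rintro _ ⟨M, hM, rfl⟩
      apply Psi_injective e P
      rw [Psi_mul, Psi_mul, Psi_PsiInv, ← psi_val']
      exact hX _ ⟨psi e P M, ⟨M, hM, rfl⟩, rfl⟩)
    refine ⟨c, ?_⟩
    rw [← Psi_PsiInv e P X, hc, Psi_smul_one]

/-! ### group-level transport -/

section grp

variable {G G' : Type*} [Group G] [Group G']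

theorem characteristic_comap (E : G ≃* G') (A : Subgroup G') (hA : A.Characteristic) :
    (A.comap E.toMonoidHom).Characteristic := by
  rw [Subgroup.characteristic_iff_comap_eq]
  intro α
  ext x
  have hβ := hA.fixed (E.symm.trans (α.trans E))
  constructor
  · intro hx
    have h1 : E (α x) ∈ A := hx
    have h2 : E x ∈ A.comap (E.symm.trans (α.trans E)).toMonoidHom := by
      show (E.symm.trans (α.trans E)) (E x) ∈ A
      simpa using h1
    rw [hβ] at h2
    exact h2
  · intro hx
    have h1 : E x ∈ A := hx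
    rw [← hβ] at h1
    have h2 : (E.symm.trans (α.trans E)) (E x) ∈ A := h1
    show E (α x) ∈ A
    simpa using h2

theorem isCyclic_of_comap (E : G ≃* G') (A : Subgroup G') (h : IsCyclic (A.comap E.toMonoidHom)) : IsCyclic A := by
  let f : (A.comap E.toMonoidHom) →* A :=
    { toFun := fun x => ⟨E x, x.2⟩
      map_one' := by
        apply Subtype.ext
        simp
      map_mul' := by
        intro x y
        apply Subtype.ext
        show E ((x * y : A.comap E.toMonoidHom) : G) = E x * E y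
        rw [Subgroup.coe_mul, map_mul] }
  have hf : Function.Surjective f := by
    intro y
    refine ⟨⟨E.symm y, ?_⟩, ?_⟩
    · show E (E.symm y) ∈ A
      rw [MulEquiv.apply_symm_apply]
      exact y.2
    · apply Subtype.ext
      show E (E.symm y) = y
      rw [MulEquiv.apply_symm_apply]
  exact isCyclic_of_surjective f hf

theorem isMulCommutative_comap (E : G ≃* G') (A : Subgroup G') (h : IsMulCommutative A) :
    IsMulCommutative (A.comap E.toMonoidHom) := by
  refine ⟨⟨fun x y => ?_⟩⟩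
  apply Subtype.ext
  apply E.injective
  have h1 := h.is_comm.comm (⟨E x, x.2⟩ : A) ⟨E y, y.2⟩
  have h2 : E x * E y = E y * E x := congrArg (fun z : A => (z : G')) h1
  show E ((x * y : A.comap E.toMonoidHom) : G) = E ((y * x : A.comap E.toMonoidHom) : G)
  rw [Subgroup.coe_mul, Subgroup.coe_mul, map_mul, map_mul]
  exact h2

end grp

/-- transport of `IsSymplecticTypeGroup` along a group isomorphism -/
theorem symplecticTypeGroup_of_mulEquiv {r : ℕ} {R₀ : Subgroup (GL κ F)} {R : Subgroup (GL ι F)} (E : R₀ ≃* R)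
    (h : IsSymplecticTypeGroup r R₀) : IsSymplecticTypeGroup r R := by
  refine ⟨h.prime, h.pGroup.of_equiv E, ?_, ?_⟩
  · intro A hA hAc
    exact isCyclic_of_comap E A
      (h.cyclic_of_characteristic _ (characteristic_comap E A hA) (isMulCommutative_comap E A hAc))
  · rw [← Monoid.exponent_eq_of_mulEquiv E]
    exact h.exponent_eq

/-- FO-TR (a) -/
theorem symplecticTypeData_map [Fintype F] (e : ι ≃ κ) (P : GL ι F) (r : ℕ) (R₀ : Subgroup (GL κ F))
    (h : IsLinearSymplecticTypeData r R₀) :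
    IsLinearSymplecticTypeData r (R₀.map (psi e P)) := by
  let E : R₀ ≃* (R₀.map (psi e P)) := R₀.equivMapOfInjective (psi e P) (psi_injective e P)
  have hcardR : Nat.card (R₀.map (psi e P)) = Nat.card R₀ := (Nat.card_congr E.toEquiv).symm
  have hcardZ : Nat.card (Subgroup.center (R₀.map (psi e P))) = Nat.card (Subgroup.center R₀) :=
    (Nat.card_congr (Subgroup.centerCongr E).toEquiv).symm
  have hcardι : Fintype.card ι = Fintype.card κ := Fintype.card_congr e
  refine ⟨symplecticTypeGroup_of_mulEquiv E h.symplecticType, absIrred_map e P R₀ h.absIrred, ?_⟩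
  obtain ⟨p, k, hrp, hmin, hcases⟩ := h.field
  refine ⟨p, k, hrp, ?_, ?_⟩
  · rw [hcardZ]
    exact hmin
  · rw [hcardZ, hcardR, hcardι]
    rcases hcases with h1 | h1 | h1
    · exact Or.inl h1
    · exact Or.inr (Or.inl h1)
    · right
      right
      obtain ⟨hr2, hk1, hκ, hR8, hZ2, x, hx, huniq⟩ := h1
      refine ⟨hr2, hk1, hκ, hR8, hZ2, E x, ?_, ?_⟩
      · show orderOf (E x) = 2
        rw [MulEquiv.orderOf_eq]
        exact hx
      · intro y hy
        have h3 : orderOf (E.symm y) = 2 := by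
          rw [MulEquiv.orderOf_eq]
          exact hy
        have h4 := huniq (E.symm y) h3
        rw [← h4, MulEquiv.apply_symm_apply]

/-- FO-TR (b) -/
theorem psi_mem_subgroupNormalizer (e : ι ≃ κ) (P : GL ι F) (R₀ : Subgroup (GL κ F)) (M : GL κ F)
    (hM : M ∈ subgroupNormalizer R₀) :
    psi e P M ∈ subgroupNormalizer (R₀.map (psi e P)) := by
  unfold subgroupNormalizer at hM ⊢
  exact Subgroup.le_normalizer_map (psi e P) ⟨M, hM, rfl⟩

end Cfsg.Agent.Lib.Helper12.S5781TR
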