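import Mathlib
import Cfsg.Prelude.Def_GeometricClasses

/-!
# General lemma G2 for Aschbacher's theorem (S5630): Skolem–Noether for matrix algebras, matrix form (helper12)

Every `K`-algebra automorphism of `Matrix ι ι K` is conjugation by an invertible matrix
(Mathlib: `AlgEquiv.eq_linearEquivConjAlgEquiv` for `End K V`).
-/

set_option autoImplicit false

namespace Cfsg.Agent.Lib.Helper12.AschG2

open Matrix

variable {ι : Type} [Fintype ι] [DecidableEq ι] {K : Type*} [Field K]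

/-- **Skolem–Noether** for `Matrix ι ι K` -/
theorem exists_conj_of_algEquiv (φ : Matrix ι ι K ≃ₐ[K] Matrix ι ι K) :
    ∃ g : GL ι K, ∀ x : Matrix ι ι K, φ x = (g : Matrix ι ι K) * x * ((g⁻¹ : GL ι K) : Matrix ι ι K) := by
  let e : Matrix ι ι K ≃ₐ[K] Module.End K (ι → K) := Matrix.toLinAlgEquiv'
  let f : Module.End K (ι → K) ≃ₐ[K] Module.End K (ι → K) := (e.symm.trans φ).trans e
  obtain ⟨T, hT⟩ := f.eq_linearEquivConjAlgEquiv
  have h1 : LinearMap.toMatrix' (T : (ι → K) →ₗ[K] (ι → K)) * LinearMap.toMatrix' (T.symm : (ι → K) →ₗ[K] (ι → K)) = 1 := by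
    rw [← LinearMap.toMatrix'_comp, LinearEquiv.comp_coe, LinearEquiv.symm_trans_self, LinearEquiv.refl_toLinearMap,
      LinearMap.toMatrix'_id]
  have h2 : LinearMap.toMatrix' (T.symm : (ι → K) →ₗ[K] (ι → K)) * LinearMap.toMatrix' (T : (ι → K) →ₗ[K] (ι → K)) = 1 := by
    rw [← LinearMap.toMatrix'_comp, LinearEquiv.comp_coe, LinearEquiv.self_trans_symm, LinearEquiv.refl_toLinearMap,
      LinearMap.toMatrix'_id]
  refine ⟨⟨LinearMap.toMatrix' (T : (ι → K) →ₗ[K] (ι → K)), LinearMap.toMatrix' (T.symm : (ι → K) →ₗ[K] (ι → K)), h1, h2⟩, ?_⟩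
  intro x
  have h3 : f (e x) = e (φ x) := by
    simp [f]
  have h4 : f (e x) = (T : (ι → K) →ₗ[K] (ι → K)) ∘ₗ (e x) ∘ₗ (T.symm : (ι → K) →ₗ[K] (ι → K)) := by
    rw [hT]
    rfl
  have h5 : φ x = e.symm ((T : (ι → K) →ₗ[K] (ι → K)) ∘ₗ (e x) ∘ₗ (T.symm : (ι → K) →ₗ[K] (ι → K))) := by
    rw [← h4, h3, AlgEquiv.symm_apply_apply]
  rw [h5]
  show LinearMap.toMatrix' ((T : (ι → K) →ₗ[K] (ι → K)) ∘ₗ (e x) ∘ₗ (T.symm : (ι → K) →ₗ[K] (ι → K))) = _
  rw [LinearMap.toMatrix'_comp, LinearMap.toMatrix'_comp]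
  have h6 : LinearMap.toMatrix' (e x) = x := by
    show LinearMap.toMatrix' (Matrix.toLin' x) = x
    exact LinearMap.toMatrix'_toLin' x
  rw [h6, Matrix.mul_assoc]
  rfl

end Cfsg.Agent.Lib.Helper12.AschG2
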