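import Cfsg.Agent.Lib.Helper10.E8CC.Defs
import Cfsg.Agent.Lib.Helper13.StCCBBMDefs

set_option autoImplicit false

/-! S2107 farm (architect helper10), piece [E8-T2] `perp1_E8`: checker and soundness lemma.
For every root `r` the certificate lists a few coweights `m` (coroot vectors of roots orthogonal
to `r`) with `wt D m r = 0` such that every root `s ≠ ±r` has `wt D m s = ±1` for one of them.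
Built on helper13's `dotF` / `checkTab` / `tab_spec` (Lib/Helper13/StCCBBMDefs.lean). -/

namespace Cfsg.Agent.Lib.Helper10.E8CC.Helper12

open Cfsg.Lie Cfsg.Agent.Lib.Helper8.Chev Cfsg.Agent.Lib.Helper14.StCC
open Cfsg.Agent.Lib.Helper14.StCC.B.Helper13

/-- `w ∈ {1, -1}` -/
noncomputable def okVal1 (w : ℤ) : Bool :=
  withNat (Int.natAbs w) fun k => Nat.beq k 1

theorem okVal1_spec {w : ℤ} (h : okVal1 w = true) : w = 1 ∨ w = -1 := by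
  unfold okVal1 at h
  rw [withNat_eq, Nat.beq_eq] at h
  omega

/-- the certificate check for the rows `lo, lo + 1, …` : pure list data -/
noncomputable def checkRows1 (n : ℕ) (tab : List (List ℤ)) (lo : ℕ)
    (cert : List (List (List ℤ))) : Bool :=
  allIdxF (fun r ms =>
    allF (fun m => decide (B.Helper13.dotF m (tab.getD r []) = 0)) ms &&
    allIdxF (fun s row => Nat.beq s r || Nat.beq (s + r + 1) n ||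
      anyF (fun m => okVal1 (B.Helper13.dotF m row)) ms) tab 0) cert lo

theorem perp1_of_rows {D : ChevalleyDatum} (V : Valid0 D) {tab : List (List ℤ)}
    {cert : List (List (List ℤ))} {lo : ℕ}
    (htab : checkTab D tab = true) (hcert : checkRows1 D.nroots tab lo cert = true)
    {r s : ℕ} (hlo : lo ≤ r) (hhi : r < lo + cert.length) (hr : r < D.nroots)
    (hs : s < D.nroots) (h1 : s ≠ r) (h2 : s ≠ D.neg r) :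
    ∃ m : ℕ → ℤ, wt D m r = 0 ∧ (wt D m s = 1 ∨ wt D m s = -1) := by
  have hlen : tab.length = D.nroots := by
    unfold checkTab at htab
    rw [Bool.and_eq_true, Nat.beq_eq] at htab
    exact htab.1
  unfold checkRows1 at hcert
  rw [allIdxF_eq_true] at hcert
  have hr' : r - lo < cert.length := by omega
  have hget : cert[r - lo]? = some (cert.getD (r - lo) []) :=
    getElem?_getD_of_lt cert (r - lo) [] hr'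
  have hrr := hcert (r - lo) _ hget
  rw [show lo + (r - lo) = r by omega, Bool.and_eq_true, allF_eq_true, allIdxF_eq_true] at hrr
  obtain ⟨hzero, hss⟩ := hrr
  have hs' : s < tab.length := by omega
  have hgs : tab[s]? = some (tab.getD s []) := getElem?_getD_of_lt tab s [] hs'
  have hsr := hss s _ hgs
  rw [zero_add, Bool.or_eq_true, Bool.or_eq_true, Nat.beq_eq, Nat.beq_eq, anyF_eq_true] at hsr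
  rcases hsr with (hsr | hsr) | hsr
  · exact absurd hsr h1
  · exfalso
    apply h2
    rw [V.neg_eq r hr]
    omega
  · obtain ⟨m, hm, hok⟩ := hsr
    refine ⟨fun i => m.getD i 0, ?_, ?_⟩
    · rw [tab_spec htab hr]
      have := hzero m hm
      rwa [decide_eq_true_eq] at this
    · rw [tab_spec htab hs]
      exact okVal1_spec hok

set_option maxHeartbeats 0 in
/-- the vectors `(aco D (D.simple i) s)_i` for `chevE8` (own copy, so that helper13's certificate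
file is not in the import closure) -/
def tabE8 : List (List ℤ) :=
  [[0, 0, 0, 0, 0, 0, 0, -1], [0, 0, 0, 0, 0, 0, -1, 1], [0, 0, 0, 0, 0, -1, 1, 0],
  [0, 0, 0, 0, -1, 1, 0, 0], [0, 0, 0, -1, 1, 0, 0, 0], [0, -1, -1, 1, 0, 0, 0, 0],
  [-1, -1, 1, 0, 0, 0, 0, 0], [0, 1, -1, 0, 0, 0, 0, 0], [-1, 1, 1, -1, 0, 0, 0, 0],
  [-1, 0, 0, 1, -1, 0, 0, 0], [-1, 0, 0, 0, 1, -1, 0, 0], [-1, 0, 0, 0, 0, 1, -1, 0],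
  [-1, 0, 0, 0, 0, 0, 1, -1], [-1, 0, 0, 0, 0, 0, 0, 1], [1, -1, 0, 0, 0, 0, 0, 0],
  [1, 1, 0, -1, 0, 0, 0, 0], [1, 0, -1, 1, -1, 0, 0, 0], [1, 0, -1, 0, 1, -1, 0, 0],
  [1, 0, -1, 0, 0, 1, -1, 0], [1, 0, -1, 0, 0, 0, 1, -1], [1, 0, -1, 0, 0, 0, 0, 1],
  [0, 0, 1, 0, -1, 0, 0, 0], [0, 0, 1, -1, 1, -1, 0, 0], [0, 0, 1, -1, 0, 1, -1, 0],
  [0, 0, 1, -1, 0, 0, 1, -1], [0, 0, 1, -1, 0, 0, 0, 1], [0, -1, 0, 1, 0, -1, 0, 0],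
  [0, -1, 0, 1, -1, 1, -1, 0], [0, -1, 0, 1, -1, 0, 1, -1], [0, -1, 0, 1, -1, 0, 0, 1],
  [0, -1, 0, 0, 1, 0, -1, 0], [0, -1, 0, 0, 1, -1, 1, -1], [0, -1, 0, 0, 1, -1, 0, 1],
  [0, -1, 0, 0, 0, 1, 0, -1], [0, -1, 0, 0, 0, 1, -1, 1], [0, -1, 0, 0, 0, 0, 1, 0],
  [0, 1, 0, 0, 0, -1, 0, 0], [0, 1, 0, 0, -1, 1, -1, 0], [0, 1, 0, 0, -1, 0, 1, -1],
  [0, 1, 0, 0, -1, 0, 0, 1], [0, 1, 0, -1, 1, 0, -1, 0], [0, 1, 0, -1, 1, -1, 1, -1],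
  [0, 1, 0, -1, 1, -1, 0, 1], [0, 1, 0, -1, 0, 1, 0, -1], [0, 1, 0, -1, 0, 1, -1, 1],
  [0, 1, 0, -1, 0, 0, 1, 0], [0, 0, -1, 1, 0, 0, -1, 0], [0, 0, -1, 1, 0, -1, 1, -1],
  [0, 0, -1, 1, 0, -1, 0, 1], [0, 0, -1, 1, -1, 1, 0, -1], [0, 0, -1, 1, -1, 1, -1, 1],
  [0, 0, -1, 1, -1, 0, 1, 0], [0, 0, -1, 0, 1, 0, 0, -1], [0, 0, -1, 0, 1, 0, -1, 1],
  [0, 0, -1, 0, 1, -1, 1, 0], [0, 0, -1, 0, 0, 1, 0, 0], [-1, 0, 1, 0, 0, 0, -1, 0],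
  [-1, 0, 1, 0, 0, -1, 1, -1], [-1, 0, 1, 0, 0, -1, 0, 1], [-1, 0, 1, 0, -1, 1, 0, -1],
  [-1, 0, 1, 0, -1, 1, -1, 1], [-1, 0, 1, 0, -1, 0, 1, 0], [-1, 0, 1, -1, 1, 0, 0, -1],
  [-1, 0, 1, -1, 1, 0, -1, 1], [-1, 0, 1, -1, 1, -1, 1, 0], [-1, 0, 1, -1, 0, 1, 0, 0],
  [-1, -1, 0, 1, 0, 0, 0, -1], [-1, -1, 0, 1, 0, 0, -1, 1], [-1, -1, 0, 1, 0, -1, 1, 0],
  [-1, -1, 0, 1, -1, 1, 0, 0], [-1, -1, 0, 0, 1, 0, 0, 0], [-1, 1, 0, 0, 0, 0, 0, -1],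
  [-1, 1, 0, 0, 0, 0, -1, 1], [-1, 1, 0, 0, 0, -1, 1, 0], [-1, 1, 0, 0, -1, 1, 0, 0],
  [-1, 1, 0, -1, 1, 0, 0, 0], [-1, 0, -1, 1, 0, 0, 0, 0], [-2, 0, 1, 0, 0, 0, 0, 0],
  [1, 0, 0, 0, 0, 0, -1, 0], [1, 0, 0, 0, 0, -1, 1, -1], [1, 0, 0, 0, 0, -1, 0, 1],
  [1, 0, 0, 0, -1, 1, 0, -1], [1, 0, 0, 0, -1, 1, -1, 1], [1, 0, 0, 0, -1, 0, 1, 0],
  [1, 0, 0, -1, 1, 0, 0, -1], [1, 0, 0, -1, 1, 0, -1, 1], [1, 0, 0, -1, 1, -1, 1, 0],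
  [1, 0, 0, -1, 0, 1, 0, 0], [1, -1, -1, 1, 0, 0, 0, -1], [1, -1, -1, 1, 0, 0, -1, 1],
  [1, -1, -1, 1, 0, -1, 1, 0], [1, -1, -1, 1, -1, 1, 0, 0], [1, -1, -1, 0, 1, 0, 0, 0],
  [0, -1, 1, 0, 0, 0, 0, -1], [0, -1, 1, 0, 0, 0, -1, 1], [0, -1, 1, 0, 0, -1, 1, 0],
  [0, -1, 1, 0, -1, 1, 0, 0], [0, -1, 1, -1, 1, 0, 0, 0], [0, -2, 0, 1, 0, 0, 0, 0],
  [1, 1, -1, 0, 0, 0, 0, -1], [1, 1, -1, 0, 0, 0, -1, 1], [1, 1, -1, 0, 0, -1, 1, 0],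
  [1, 1, -1, 0, -1, 1, 0, 0], [1, 1, -1, -1, 1, 0, 0, 0], [1, 0, -2, 1, 0, 0, 0, 0],
  [0, 1, 1, -1, 0, 0, 0, -1], [0, 1, 1, -1, 0, 0, -1, 1], [0, 1, 1, -1, 0, -1, 1, 0],
  [0, 1, 1, -1, -1, 1, 0, 0], [0, 1, 1, -2, 1, 0, 0, 0], [0, 0, 0, 1, -1, 0, 0, -1],
  [0, 0, 0, 1, -1, 0, -1, 1], [0, 0, 0, 1, -1, -1, 1, 0], [0, 0, 0, 1, -2, 1, 0, 0],
  [0, 0, 0, 0, 1, -1, 0, -1], [0, 0, 0, 0, 1, -1, -1, 1], [0, 0, 0, 0, 1, -2, 1, 0],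
  [0, 0, 0, 0, 0, 1, -1, -1], [0, 0, 0, 0, 0, 1, -2, 1], [0, 0, 0, 0, 0, 0, 1, -2],
  [0, 0, 0, 0, 0, 0, -1, 2], [0, 0, 0, 0, 0, -1, 2, -1], [0, 0, 0, 0, 0, -1, 1, 1],
  [0, 0, 0, 0, -1, 2, -1, 0], [0, 0, 0, 0, -1, 1, 1, -1], [0, 0, 0, 0, -1, 1, 0, 1],
  [0, 0, 0, -1, 2, -1, 0, 0], [0, 0, 0, -1, 1, 1, -1, 0], [0, 0, 0, -1, 1, 0, 1, -1],
  [0, 0, 0, -1, 1, 0, 0, 1], [0, -1, -1, 2, -1, 0, 0, 0], [0, -1, -1, 1, 1, -1, 0, 0],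
  [0, -1, -1, 1, 0, 1, -1, 0], [0, -1, -1, 1, 0, 0, 1, -1], [0, -1, -1, 1, 0, 0, 0, 1],
  [-1, 0, 2, -1, 0, 0, 0, 0], [-1, -1, 1, 1, -1, 0, 0, 0], [-1, -1, 1, 0, 1, -1, 0, 0],
  [-1, -1, 1, 0, 0, 1, -1, 0], [-1, -1, 1, 0, 0, 0, 1, -1], [-1, -1, 1, 0, 0, 0, 0, 1],
  [0, 2, 0, -1, 0, 0, 0, 0], [0, 1, -1, 1, -1, 0, 0, 0], [0, 1, -1, 0, 1, -1, 0, 0],
  [0, 1, -1, 0, 0, 1, -1, 0], [0, 1, -1, 0, 0, 0, 1, -1], [0, 1, -1, 0, 0, 0, 0, 1],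
  [-1, 1, 1, 0, -1, 0, 0, 0], [-1, 1, 1, -1, 1, -1, 0, 0], [-1, 1, 1, -1, 0, 1, -1, 0],
  [-1, 1, 1, -1, 0, 0, 1, -1], [-1, 1, 1, -1, 0, 0, 0, 1], [-1, 0, 0, 1, 0, -1, 0, 0],
  [-1, 0, 0, 1, -1, 1, -1, 0], [-1, 0, 0, 1, -1, 0, 1, -1], [-1, 0, 0, 1, -1, 0, 0, 1],
  [-1, 0, 0, 0, 1, 0, -1, 0], [-1, 0, 0, 0, 1, -1, 1, -1], [-1, 0, 0, 0, 1, -1, 0, 1],
  [-1, 0, 0, 0, 0, 1, 0, -1], [-1, 0, 0, 0, 0, 1, -1, 1], [-1, 0, 0, 0, 0, 0, 1, 0],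
  [2, 0, -1, 0, 0, 0, 0, 0], [1, 0, 1, -1, 0, 0, 0, 0], [1, -1, 0, 1, -1, 0, 0, 0],
  [1, -1, 0, 0, 1, -1, 0, 0], [1, -1, 0, 0, 0, 1, -1, 0], [1, -1, 0, 0, 0, 0, 1, -1],
  [1, -1, 0, 0, 0, 0, 0, 1], [1, 1, 0, 0, -1, 0, 0, 0], [1, 1, 0, -1, 1, -1, 0, 0],
  [1, 1, 0, -1, 0, 1, -1, 0], [1, 1, 0, -1, 0, 0, 1, -1], [1, 1, 0, -1, 0, 0, 0, 1],
  [1, 0, -1, 1, 0, -1, 0, 0], [1, 0, -1, 1, -1, 1, -1, 0], [1, 0, -1, 1, -1, 0, 1, -1],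
  [1, 0, -1, 1, -1, 0, 0, 1], [1, 0, -1, 0, 1, 0, -1, 0], [1, 0, -1, 0, 1, -1, 1, -1],
  [1, 0, -1, 0, 1, -1, 0, 1], [1, 0, -1, 0, 0, 1, 0, -1], [1, 0, -1, 0, 0, 1, -1, 1],
  [1, 0, -1, 0, 0, 0, 1, 0], [0, 0, 1, 0, 0, -1, 0, 0], [0, 0, 1, 0, -1, 1, -1, 0],
  [0, 0, 1, 0, -1, 0, 1, -1], [0, 0, 1, 0, -1, 0, 0, 1], [0, 0, 1, -1, 1, 0, -1, 0],
  [0, 0, 1, -1, 1, -1, 1, -1], [0, 0, 1, -1, 1, -1, 0, 1], [0, 0, 1, -1, 0, 1, 0, -1],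
  [0, 0, 1, -1, 0, 1, -1, 1], [0, 0, 1, -1, 0, 0, 1, 0], [0, -1, 0, 1, 0, 0, -1, 0],
  [0, -1, 0, 1, 0, -1, 1, -1], [0, -1, 0, 1, 0, -1, 0, 1], [0, -1, 0, 1, -1, 1, 0, -1],
  [0, -1, 0, 1, -1, 1, -1, 1], [0, -1, 0, 1, -1, 0, 1, 0], [0, -1, 0, 0, 1, 0, 0, -1],
  [0, -1, 0, 0, 1, 0, -1, 1], [0, -1, 0, 0, 1, -1, 1, 0], [0, -1, 0, 0, 0, 1, 0, 0],
  [0, 1, 0, 0, 0, 0, -1, 0], [0, 1, 0, 0, 0, -1, 1, -1], [0, 1, 0, 0, 0, -1, 0, 1],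
  [0, 1, 0, 0, -1, 1, 0, -1], [0, 1, 0, 0, -1, 1, -1, 1], [0, 1, 0, 0, -1, 0, 1, 0],
  [0, 1, 0, -1, 1, 0, 0, -1], [0, 1, 0, -1, 1, 0, -1, 1], [0, 1, 0, -1, 1, -1, 1, 0],
  [0, 1, 0, -1, 0, 1, 0, 0], [0, 0, -1, 1, 0, 0, 0, -1], [0, 0, -1, 1, 0, 0, -1, 1],
  [0, 0, -1, 1, 0, -1, 1, 0], [0, 0, -1, 1, -1, 1, 0, 0], [0, 0, -1, 0, 1, 0, 0, 0],
  [-1, 0, 1, 0, 0, 0, 0, -1], [-1, 0, 1, 0, 0, 0, -1, 1], [-1, 0, 1, 0, 0, -1, 1, 0],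
  [-1, 0, 1, 0, -1, 1, 0, 0], [-1, 0, 1, -1, 1, 0, 0, 0], [-1, -1, 0, 1, 0, 0, 0, 0],
  [-1, 1, 0, 0, 0, 0, 0, 0], [1, 0, 0, 0, 0, 0, 0, -1], [1, 0, 0, 0, 0, 0, -1, 1],
  [1, 0, 0, 0, 0, -1, 1, 0], [1, 0, 0, 0, -1, 1, 0, 0], [1, 0, 0, -1, 1, 0, 0, 0],
  [1, -1, -1, 1, 0, 0, 0, 0], [0, -1, 1, 0, 0, 0, 0, 0], [1, 1, -1, 0, 0, 0, 0, 0],
  [0, 1, 1, -1, 0, 0, 0, 0], [0, 0, 0, 1, -1, 0, 0, 0], [0, 0, 0, 0, 1, -1, 0, 0],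
  [0, 0, 0, 0, 0, 1, -1, 0], [0, 0, 0, 0, 0, 0, 1, -1], [0, 0, 0, 0, 0, 0, 0, 1]]

set_option maxRecDepth 1000000 in
theorem checkTab_E8 : checkTab chevE8 tabE8 = true := by decide +kernel

end Cfsg.Agent.Lib.Helper10.E8CC.Helper12
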