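import Cfsg.Agent.Lib.Helper12.E8CCT2Defs

set_option autoImplicit false
set_option Elab.async false

/-! S2107 farm, piece [E8-T2]: certificate rows 0..119 of `chevE8`
(kernel-checked, 30 rows per declaration). -/

namespace Cfsg.Agent.Lib.Helper10.E8CC.Helper12

open Cfsg.Lie Cfsg.Agent.Lib.Helper8.Chev Cfsg.Agent.Lib.Helper14.StCC.B.Helper13

set_option maxHeartbeats 0 in
/-- certificate rows 0..29 -/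
def cE8_0 : List (List (List ℤ)) :=
  [
  [[-2, -2, -3, -4, -3, -2, -1, 0], [0, -1, -1, -2, -2, -2, -1, 0], [-1, -2, -2, -3, -2, -1, -1, 0], [0, -1, -1, -2, -2, -1, 0, 0], [-1, -1, -2, -3, -2, -1, -1, 0], [-1, -2, -3, -4, -3, -2, -1, 0]],
  [[-2, -2, -3, -4, -3, -2, -1, -1], [0, -1, -1, -2, -2, -2, -1, -1], [-1, -2, -2, -3, -2, -1, -1, -1], [0, -1, -1, -2, -2, -1, 0, 0], [-1, -1, -2, -3, -2, -1, -1, -1], [-1, -2, -3, -4, -3, -2, -1, -1]],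
  [[-2, -2, -3, -4, -3, -2, -2, -1], [0, -1, -1, -2, -2, -2, -2, -1], [-1, -2, -2, -3, -2, -1, -1, -1], [0, -1, -1, -2, -2, -1, -1, 0], [-1, -1, -2, -3, -2, -1, -1, -1], [-1, -2, -3, -4, -3, -2, -2, -1]],
  [[-2, -2, -3, -4, -3, -3, -2, -1], [0, -1, -1, -2, -2, -2, -2, -1], [-1, -2, -2, -3, -2, -2, -1, -1], [0, -1, -1, -2, -2, -2, -1, 0], [-1, -1, -2, -3, -2, -2, -1, -1], [-1, -2, -3, -4, -3, -3, -2, -1]],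
  [[-2, -2, -3, -4, -4, -3, -2, -1], [0, -1, -1, -2, -2, -2, -2, -1], [-1, -2, -2, -3, -3, -2, -1, -1], [0, -1, -1, -2, -2, -2, -1, 0], [-1, -1, -2, -3, -3, -2, -1, -1], [-1, -2, -3, -4, -4, -3, -2, -1]],
  [[-2, -2, -3, -5, -4, -3, -2, -1], [0, -1, -1, -2, -2, -2, -2, -1], [-1, -2, -2, -4, -3, -2, -1, -1], [0, -1, -1, -2, -2, -2, -1, 0], [-1, -1, -2, -3, -3, -2, -1, -1], [-1, -2, -3, -5, -4, -3, -2, -1]],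
  [[-2, -2, -4, -5, -4, -3, -2, -1], [0, -1, -1, -2, -2, -2, -2, -1], [-1, -2, -3, -4, -3, -2, -1, -1], [0, -1, -1, -2, -2, -2, -1, 0], [-1, -1, -2, -3, -3, -2, -1, -1], [-1, -2, -3, -5, -4, -3, -2, -1]],
  [[-2, -3, -3, -5, -4, -3, -2, -1], [0, -1, -1, -2, -2, -2, -2, -1], [-1, -2, -2, -4, -3, -2, -1, -1], [0, -1, -1, -2, -2, -2, -1, 0], [-1, -2, -2, -3, -3, -2, -1, -1], [-1, -3, -3, -5, -4, -3, -2, -1]],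
  [[-2, -3, -4, -5, -4, -3, -2, -1], [0, -1, -1, -2, -2, -2, -2, -1], [-1, -2, -3, -4, -3, -2, -1, -1], [0, -1, -1, -2, -2, -2, -1, 0], [-1, -2, -2, -3, -3, -2, -1, -1], [-1, -3, -3, -5, -4, -3, -2, -1]],
  [[-2, -3, -4, -6, -4, -3, -2, -1], [0, -1, -1, -2, -2, -2, -2, -1], [-1, -2, -3, -4, -3, -2, -1, -1], [0, -1, -1, -2, -2, -2, -1, 0], [-1, -2, -2, -4, -3, -2, -1, -1], [-1, -3, -3, -5, -4, -3, -2, -1]],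
  [[-2, -3, -4, -6, -5, -3, -2, -1], [0, -1, -1, -2, -2, -2, -2, -1], [-1, -2, -3, -4, -3, -2, -1, -1], [0, -1, -1, -2, -2, -2, -1, 0], [-1, -2, -2, -4, -3, -2, -1, -1], [-1, -3, -3, -5, -4, -3, -2, -1]],
  [[-2, -3, -4, -6, -5, -4, -2, -1], [0, -1, -1, -2, -2, -2, -2, -1], [-1, -2, -3, -4, -3, -2, -1, -1], [0, -1, -1, -2, -2, -1, -1, 0], [-1, -2, -2, -4, -3, -2, -1, -1], [-1, -3, -3, -5, -4, -3, -2, -1]],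
  [[-2, -3, -4, -6, -5, -4, -3, -1], [0, -1, -1, -2, -2, -2, -1, -1], [-1, -2, -3, -4, -3, -2, -2, -1], [0, -1, -1, -2, -2, -1, 0, 0], [-1, -2, -2, -4, -3, -2, -2, -1], [-1, -3, -3, -5, -4, -3, -2, -1]],
  [[-2, -3, -4, -6, -5, -4, -3, -2], [0, -1, -1, -2, -2, -2, -1, 0], [-1, -2, -3, -4, -3, -2, -2, -1], [0, -1, -1, -2, -2, -1, 0, 0], [-1, -2, -2, -4, -3, -2, -2, -1], [-1, -3, -3, -5, -4, -3, -2, -1]],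
  [[-2, -2, -4, -5, -4, -3, -2, -1], [-1, -1, -1, -2, -2, -2, -2, -1], [-2, -2, -3, -4, -3, -2, -1, -1], [-1, -1, -1, -2, -2, -2, -1, 0], [-1, -1, -2, -3, -3, -2, -1, -1], [-2, -2, -3, -5, -4, -3, -2, -1]],
  [[-2, -3, -4, -5, -4, -3, -2, -1], [-1, -1, -1, -2, -2, -2, -2, -1], [-2, -2, -3, -4, -3, -2, -1, -1], [-1, -1, -1, -2, -2, -2, -1, 0], [-1, -2, -2, -3, -3, -2, -1, -1], [-2, -3, -3, -5, -4, -3, -2, -1]],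
  [[-2, -3, -4, -6, -4, -3, -2, -1], [-1, -1, -1, -2, -2, -2, -2, -1], [-2, -2, -3, -4, -3, -2, -1, -1], [-1, -1, -1, -2, -2, -2, -1, 0], [-1, -2, -2, -4, -3, -2, -1, -1], [-2, -3, -3, -5, -4, -3, -2, -1]],
  [[-2, -3, -4, -6, -5, -3, -2, -1], [-1, -1, -1, -2, -2, -2, -2, -1], [-2, -2, -3, -4, -3, -2, -1, -1], [-1, -1, -1, -2, -2, -2, -1, 0], [-1, -2, -2, -4, -3, -2, -1, -1], [-2, -3, -3, -5, -4, -3, -2, -1]],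
  [[-2, -3, -4, -6, -5, -4, -2, -1], [-1, -1, -1, -2, -2, -2, -2, -1], [-2, -2, -3, -4, -3, -2, -1, -1], [-1, -1, -1, -2, -2, -1, -1, 0], [-1, -2, -2, -4, -3, -2, -1, -1], [-2, -3, -3, -5, -4, -3, -2, -1]],
  [[-2, -3, -4, -6, -5, -4, -3, -1], [-1, -1, -1, -2, -2, -2, -1, -1], [-2, -2, -3, -4, -3, -2, -2, -1], [-1, -1, -1, -2, -2, -1, 0, 0], [-1, -2, -2, -4, -3, -2, -2, -1], [-2, -3, -3, -5, -4, -3, -2, -1]],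
  [[-2, -3, -4, -6, -5, -4, -3, -2], [-1, -1, -1, -2, -2, -2, -1, 0], [-2, -2, -3, -4, -3, -2, -2, -1], [-1, -1, -1, -2, -2, -1, 0, 0], [-1, -2, -2, -4, -3, -2, -2, -1], [-2, -3, -3, -5, -4, -3, -2, -1]],
  [[-2, -3, -4, -6, -4, -3, -2, -1], [-1, -1, -2, -2, -2, -2, -2, -1], [-2, -2, -3, -4, -3, -2, -1, -1], [-1, -1, -2, -2, -2, -2, -1, 0], [-1, -2, -3, -4, -3, -2, -1, -1], [-2, -3, -4, -5, -4, -3, -2, -1]],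
  [[-2, -3, -4, -6, -5, -3, -2, -1], [-1, -1, -2, -2, -2, -2, -2, -1], [-2, -2, -3, -4, -3, -2, -1, -1], [-1, -1, -2, -2, -2, -2, -1, 0], [-1, -2, -3, -4, -3, -2, -1, -1], [-2, -3, -4, -5, -4, -3, -2, -1]],
  [[-2, -3, -4, -6, -5, -4, -2, -1], [-1, -1, -2, -2, -2, -2, -2, -1], [-2, -2, -3, -4, -3, -2, -1, -1], [-1, -1, -2, -2, -2, -1, -1, 0], [-1, -2, -3, -4, -3, -2, -1, -1], [-2, -3, -4, -5, -4, -3, -2, -1]],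
  [[-2, -3, -4, -6, -5, -4, -3, -1], [-1, -1, -2, -2, -2, -2, -1, -1], [-2, -2, -3, -4, -3, -2, -2, -1], [-1, -1, -2, -2, -2, -1, 0, 0], [-1, -2, -3, -4, -3, -2, -2, -1], [-2, -3, -4, -5, -4, -3, -2, -1]],
  [[-2, -3, -4, -6, -5, -4, -3, -2], [-1, -1, -2, -2, -2, -2, -1, 0], [-2, -2, -3, -4, -3, -2, -2, -1], [-1, -1, -2, -2, -2, -1, 0, 0], [-1, -2, -3, -4, -3, -2, -2, -1], [-2, -3, -4, -5, -4, -3, -2, -1]],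
  [[-2, -3, -4, -6, -5, -3, -2, -1], [-1, -1, -2, -3, -2, -2, -2, -1], [-2, -2, -3, -4, -3, -2, -1, -1], [-1, -1, -2, -3, -2, -2, -1, 0], [-1, -2, -3, -4, -3, -2, -1, -1], [-2, -3, -4, -6, -4, -3, -2, -1]],
  [[-2, -3, -4, -6, -5, -4, -2, -1], [-1, -1, -2, -3, -2, -2, -2, -1], [-2, -2, -3, -4, -3, -2, -1, -1], [-1, -1, -2, -3, -2, -1, -1, 0], [-1, -2, -3, -4, -3, -2, -1, -1], [-2, -3, -4, -6, -4, -3, -2, -1]],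
  [[-2, -3, -4, -6, -5, -4, -3, -1], [-1, -1, -2, -3, -2, -2, -1, -1], [-2, -2, -3, -4, -3, -2, -2, -1], [-1, -1, -2, -3, -2, -1, 0, 0], [-1, -2, -3, -4, -3, -2, -2, -1], [-2, -3, -4, -6, -4, -3, -2, -1]],
  [[-2, -3, -4, -6, -5, -4, -3, -2], [-1, -1, -2, -3, -2, -2, -1, 0], [-2, -2, -3, -4, -3, -2, -2, -1], [-1, -1, -2, -3, -2, -1, 0, 0], [-1, -2, -3, -4, -3, -2, -2, -1], [-2, -3, -4, -6, -4, -3, -2, -1]]]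

theorem cE8_0_len : cE8_0.length = 30 := rfl

set_option maxRecDepth 1000000 in
theorem rowsE8_0 : checkRows1 chevE8.nroots tabE8 0 cE8_0 = true := by
  decide +kernel

set_option maxHeartbeats 0 in
/-- certificate rows 30..59 -/
def cE8_1 : List (List (List ℤ)) :=
  [
  [[-2, -3, -4, -6, -5, -4, -2, -1], [-1, -1, -2, -3, -3, -2, -2, -1], [-2, -2, -3, -4, -3, -2, -1, -1], [-1, -1, -2, -3, -2, -1, -1, 0], [-1, -2, -3, -4, -3, -2, -1, -1], [-2, -3, -4, -6, -5, -3, -2, -1]],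
  [[-2, -3, -4, -6, -5, -4, -3, -1], [-1, -1, -2, -3, -3, -2, -1, -1], [-2, -2, -3, -4, -3, -2, -2, -1], [-1, -1, -2, -3, -2, -1, 0, 0], [-1, -2, -3, -4, -3, -2, -2, -1], [-2, -3, -4, -6, -5, -3, -2, -1]],
  [[-2, -3, -4, -6, -5, -4, -3, -2], [-1, -1, -2, -3, -3, -2, -1, 0], [-2, -2, -3, -4, -3, -2, -2, -1], [-1, -1, -2, -3, -2, -1, 0, 0], [-1, -2, -3, -4, -3, -2, -2, -1], [-2, -3, -4, -6, -5, -3, -2, -1]],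
  [[-2, -3, -4, -6, -5, -4, -3, -1], [-1, -1, -2, -3, -3, -2, -1, -1], [-2, -2, -3, -4, -3, -3, -2, -1], [-1, -1, -2, -3, -2, -1, 0, 0], [-1, -2, -3, -4, -3, -3, -2, -1], [-2, -3, -4, -6, -5, -4, -2, -1]],
  [[-2, -3, -4, -6, -5, -4, -3, -2], [-1, -1, -2, -3, -3, -2, -1, 0], [-2, -2, -3, -4, -3, -3, -2, -1], [-1, -1, -2, -3, -2, -1, 0, 0], [-1, -2, -3, -4, -3, -3, -2, -1], [-2, -3, -4, -6, -5, -4, -2, -1]],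
  [[-2, -3, -4, -6, -5, -4, -3, -2], [-1, -1, -2, -3, -3, -2, -1, 0], [-2, -2, -3, -4, -3, -3, -2, -1], [-1, -1, -2, -3, -2, -1, -1, 0], [-1, -2, -3, -4, -3, -3, -2, -1], [-2, -3, -4, -6, -5, -4, -3, -1]],
  [[-2, -3, -4, -6, -5, -3, -2, -1], [-1, -2, -2, -3, -2, -2, -2, -1], [-2, -2, -3, -4, -3, -2, -1, -1], [-1, -2, -2, -3, -2, -2, -1, 0], [-1, -2, -3, -4, -3, -2, -1, -1], [-2, -3, -4, -6, -4, -3, -2, -1]],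
  [[-2, -3, -4, -6, -5, -4, -2, -1], [-1, -2, -2, -3, -2, -2, -2, -1], [-2, -2, -3, -4, -3, -2, -1, -1], [-1, -2, -2, -3, -2, -1, -1, 0], [-1, -2, -3, -4, -3, -2, -1, -1], [-2, -3, -4, -6, -4, -3, -2, -1]],
  [[-2, -3, -4, -6, -5, -4, -3, -1], [-1, -2, -2, -3, -2, -2, -1, -1], [-2, -2, -3, -4, -3, -2, -2, -1], [-1, -2, -2, -3, -2, -1, 0, 0], [-1, -2, -3, -4, -3, -2, -2, -1], [-2, -3, -4, -6, -4, -3, -2, -1]],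
  [[-2, -3, -4, -6, -5, -4, -3, -2], [-1, -2, -2, -3, -2, -2, -1, 0], [-2, -2, -3, -4, -3, -2, -2, -1], [-1, -2, -2, -3, -2, -1, 0, 0], [-1, -2, -3, -4, -3, -2, -2, -1], [-2, -3, -4, -6, -4, -3, -2, -1]],
  [[-2, -3, -4, -6, -5, -4, -2, -1], [-1, -2, -2, -3, -3, -2, -2, -1], [-2, -2, -3, -4, -3, -2, -1, -1], [-1, -2, -2, -3, -2, -1, -1, 0], [-1, -2, -3, -4, -3, -2, -1, -1], [-2, -3, -4, -6, -5, -3, -2, -1]],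
  [[-2, -3, -4, -6, -5, -4, -3, -1], [-1, -2, -2, -3, -3, -2, -1, -1], [-2, -2, -3, -4, -3, -2, -2, -1], [-1, -2, -2, -3, -2, -1, 0, 0], [-1, -2, -3, -4, -3, -2, -2, -1], [-2, -3, -4, -6, -5, -3, -2, -1]],
  [[-2, -3, -4, -6, -5, -4, -3, -2], [-1, -2, -2, -3, -3, -2, -1, 0], [-2, -2, -3, -4, -3, -2, -2, -1], [-1, -2, -2, -3, -2, -1, 0, 0], [-1, -2, -3, -4, -3, -2, -2, -1], [-2, -3, -4, -6, -5, -3, -2, -1]],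
  [[-2, -3, -4, -6, -5, -4, -3, -1], [-1, -2, -2, -3, -3, -2, -1, -1], [-2, -2, -3, -4, -3, -3, -2, -1], [-1, -2, -2, -3, -2, -1, 0, 0], [-1, -2, -3, -4, -3, -3, -2, -1], [-2, -3, -4, -6, -5, -4, -2, -1]],
  [[-2, -3, -4, -6, -5, -4, -3, -2], [-1, -2, -2, -3, -3, -2, -1, 0], [-2, -2, -3, -4, -3, -3, -2, -1], [-1, -2, -2, -3, -2, -1, 0, 0], [-1, -2, -3, -4, -3, -3, -2, -1], [-2, -3, -4, -6, -5, -4, -2, -1]],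
  [[-2, -3, -4, -6, -5, -4, -3, -2], [-1, -2, -2, -3, -3, -2, -1, 0], [-2, -2, -3, -4, -3, -3, -2, -1], [-1, -2, -2, -3, -2, -1, -1, 0], [-1, -2, -3, -4, -3, -3, -2, -1], [-2, -3, -4, -6, -5, -4, -3, -1]],
  [[-2, -3, -4, -6, -5, -4, -2, -1], [-1, -2, -2, -4, -3, -2, -2, -1], [-2, -2, -3, -4, -3, -2, -1, -1], [-1, -2, -2, -3, -2, -1, -1, 0], [-1, -2, -3, -4, -3, -2, -1, -1], [-2, -3, -4, -6, -5, -3, -2, -1]],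
  [[-2, -3, -4, -6, -5, -4, -3, -1], [-1, -2, -2, -4, -3, -2, -1, -1], [-2, -2, -3, -4, -3, -2, -2, -1], [-1, -2, -2, -3, -2, -1, 0, 0], [-1, -2, -3, -4, -3, -2, -2, -1], [-2, -3, -4, -6, -5, -3, -2, -1]],
  [[-2, -3, -4, -6, -5, -4, -3, -2], [-1, -2, -2, -4, -3, -2, -1, 0], [-2, -2, -3, -4, -3, -2, -2, -1], [-1, -2, -2, -3, -2, -1, 0, 0], [-1, -2, -3, -4, -3, -2, -2, -1], [-2, -3, -4, -6, -5, -3, -2, -1]],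
  [[-2, -3, -4, -6, -5, -4, -3, -1], [-1, -2, -2, -4, -3, -2, -1, -1], [-2, -2, -3, -4, -3, -3, -2, -1], [-1, -2, -2, -3, -2, -1, 0, 0], [-1, -2, -3, -4, -3, -3, -2, -1], [-2, -3, -4, -6, -5, -4, -2, -1]],
  [[-2, -3, -4, -6, -5, -4, -3, -2], [-1, -2, -2, -4, -3, -2, -1, 0], [-2, -2, -3, -4, -3, -3, -2, -1], [-1, -2, -2, -3, -2, -1, 0, 0], [-1, -2, -3, -4, -3, -3, -2, -1], [-2, -3, -4, -6, -5, -4, -2, -1]],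
  [[-2, -3, -4, -6, -5, -4, -3, -2], [-1, -2, -2, -4, -3, -2, -1, 0], [-2, -2, -3, -4, -3, -3, -2, -1], [-1, -2, -2, -3, -2, -1, -1, 0], [-1, -2, -3, -4, -3, -3, -2, -1], [-2, -3, -4, -6, -5, -4, -3, -1]],
  [[-2, -3, -4, -6, -5, -4, -3, -1], [-1, -2, -2, -4, -3, -2, -1, -1], [-2, -2, -3, -4, -4, -3, -2, -1], [-1, -2, -2, -3, -2, -1, 0, 0], [-1, -2, -3, -4, -4, -3, -2, -1], [-2, -3, -4, -6, -5, -4, -2, -1]],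
  [[-2, -3, -4, -6, -5, -4, -3, -2], [-1, -2, -2, -4, -3, -2, -1, 0], [-2, -2, -3, -4, -4, -3, -2, -1], [-1, -2, -2, -3, -2, -1, 0, 0], [-1, -2, -3, -4, -4, -3, -2, -1], [-2, -3, -4, -6, -5, -4, -2, -1]],
  [[-2, -3, -4, -6, -5, -4, -3, -2], [-1, -2, -2, -4, -3, -2, -1, 0], [-2, -2, -3, -4, -4, -3, -2, -1], [-1, -2, -2, -3, -2, -1, -1, 0], [-1, -2, -3, -4, -4, -3, -2, -1], [-2, -3, -4, -6, -5, -4, -3, -1]],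
  [[-2, -3, -4, -6, -5, -4, -3, -2], [-1, -2, -2, -4, -3, -2, -1, 0], [-2, -2, -3, -4, -4, -3, -2, -1], [-1, -2, -2, -3, -2, -2, -1, 0], [-1, -2, -3, -4, -4, -3, -2, -1], [-2, -3, -4, -6, -5, -4, -3, -1]],
  [[-2, -3, -4, -6, -5, -4, -2, -1], [-1, -2, -3, -4, -3, -2, -2, -1], [-2, -2, -3, -4, -3, -2, -1, -1], [-1, -2, -2, -3, -2, -1, -1, 0], [-1, -2, -2, -4, -3, -2, -1, -1], [-2, -3, -4, -6, -5, -3, -2, -1]],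
  [[-2, -3, -4, -6, -5, -4, -3, -1], [-1, -2, -3, -4, -3, -2, -1, -1], [-2, -2, -3, -4, -3, -2, -2, -1], [-1, -2, -2, -3, -2, -1, 0, 0], [-1, -2, -2, -4, -3, -2, -2, -1], [-2, -3, -4, -6, -5, -3, -2, -1]],
  [[-2, -3, -4, -6, -5, -4, -3, -2], [-1, -2, -3, -4, -3, -2, -1, 0], [-2, -2, -3, -4, -3, -2, -2, -1], [-1, -2, -2, -3, -2, -1, 0, 0], [-1, -2, -2, -4, -3, -2, -2, -1], [-2, -3, -4, -6, -5, -3, -2, -1]],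
  [[-2, -3, -4, -6, -5, -4, -3, -1], [-1, -2, -3, -4, -3, -2, -1, -1], [-2, -2, -3, -4, -3, -3, -2, -1], [-1, -2, -2, -3, -2, -1, 0, 0], [-1, -2, -2, -4, -3, -3, -2, -1], [-2, -3, -4, -6, -5, -4, -2, -1]]]

theorem cE8_1_len : cE8_1.length = 30 := rfl

set_option maxRecDepth 1000000 in
theorem rowsE8_1 : checkRows1 chevE8.nroots tabE8 30 cE8_1 = true := by
  decide +kernel

set_option maxHeartbeats 0 in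
/-- certificate rows 60..89 -/
def cE8_2 : List (List (List ℤ)) :=
  [
  [[-2, -3, -4, -6, -5, -4, -3, -2], [-1, -2, -3, -4, -3, -2, -1, 0], [-2, -2, -3, -4, -3, -3, -2, -1], [-1, -2, -2, -3, -2, -1, 0, 0], [-1, -2, -2, -4, -3, -3, -2, -1], [-2, -3, -4, -6, -5, -4, -2, -1]],
  [[-2, -3, -4, -6, -5, -4, -3, -2], [-1, -2, -3, -4, -3, -2, -1, 0], [-2, -2, -3, -4, -3, -3, -2, -1], [-1, -2, -2, -3, -2, -1, -1, 0], [-1, -2, -2, -4, -3, -3, -2, -1], [-2, -3, -4, -6, -5, -4, -3, -1]],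
  [[-2, -3, -4, -6, -5, -4, -3, -1], [-1, -2, -3, -4, -3, -2, -1, -1], [-2, -2, -3, -4, -4, -3, -2, -1], [-1, -2, -2, -3, -2, -1, 0, 0], [-1, -2, -2, -4, -4, -3, -2, -1], [-2, -3, -4, -6, -5, -4, -2, -1]],
  [[-2, -3, -4, -6, -5, -4, -3, -2], [-1, -2, -3, -4, -3, -2, -1, 0], [-2, -2, -3, -4, -4, -3, -2, -1], [-1, -2, -2, -3, -2, -1, 0, 0], [-1, -2, -2, -4, -4, -3, -2, -1], [-2, -3, -4, -6, -5, -4, -2, -1]],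
  [[-2, -3, -4, -6, -5, -4, -3, -2], [-1, -2, -3, -4, -3, -2, -1, 0], [-2, -2, -3, -4, -4, -3, -2, -1], [-1, -2, -2, -3, -2, -1, -1, 0], [-1, -2, -2, -4, -4, -3, -2, -1], [-2, -3, -4, -6, -5, -4, -3, -1]],
  [[-2, -3, -4, -6, -5, -4, -3, -2], [-1, -2, -3, -4, -3, -2, -1, 0], [-2, -2, -3, -4, -4, -3, -2, -1], [-1, -2, -2, -3, -2, -2, -1, 0], [-1, -2, -2, -4, -4, -3, -2, -1], [-2, -3, -4, -6, -5, -4, -3, -1]],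
  [[-2, -3, -4, -6, -5, -4, -3, -1], [-1, -2, -3, -4, -3, -2, -1, -1], [-2, -2, -3, -5, -4, -3, -2, -1], [-1, -2, -2, -3, -2, -1, 0, 0], [-1, -2, -2, -4, -4, -3, -2, -1], [-2, -3, -4, -6, -5, -4, -2, -1]],
  [[-2, -3, -4, -6, -5, -4, -3, -2], [-1, -2, -3, -4, -3, -2, -1, 0], [-2, -2, -3, -5, -4, -3, -2, -1], [-1, -2, -2, -3, -2, -1, 0, 0], [-1, -2, -2, -4, -4, -3, -2, -1], [-2, -3, -4, -6, -5, -4, -2, -1]],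
  [[-2, -3, -4, -6, -5, -4, -3, -2], [-1, -2, -3, -4, -3, -2, -1, 0], [-2, -2, -3, -5, -4, -3, -2, -1], [-1, -2, -2, -3, -2, -1, -1, 0], [-1, -2, -2, -4, -4, -3, -2, -1], [-2, -3, -4, -6, -5, -4, -3, -1]],
  [[-2, -3, -4, -6, -5, -4, -3, -2], [-1, -2, -3, -4, -3, -2, -1, 0], [-2, -2, -3, -5, -4, -3, -2, -1], [-1, -2, -2, -3, -2, -2, -1, 0], [-1, -2, -2, -4, -4, -3, -2, -1], [-2, -3, -4, -6, -5, -4, -3, -1]],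
  [[-2, -3, -4, -6, -5, -4, -3, -2], [-1, -2, -3, -4, -3, -2, -1, 0], [-2, -2, -3, -5, -4, -3, -2, -1], [-1, -2, -2, -3, -3, -2, -1, 0], [-1, -2, -2, -4, -3, -3, -2, -1], [-2, -3, -4, -6, -5, -4, -3, -1]],
  [[-2, -3, -4, -6, -5, -4, -3, -1], [-1, -2, -3, -4, -3, -2, -1, -1], [-2, -3, -3, -5, -4, -3, -2, -1], [-1, -1, -2, -3, -2, -1, 0, 0], [-1, -2, -2, -4, -4, -3, -2, -1], [-2, -3, -4, -6, -5, -4, -2, -1]],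
  [[-2, -3, -4, -6, -5, -4, -3, -2], [-1, -2, -3, -4, -3, -2, -1, 0], [-2, -3, -3, -5, -4, -3, -2, -1], [-1, -1, -2, -3, -2, -1, 0, 0], [-1, -2, -2, -4, -4, -3, -2, -1], [-2, -3, -4, -6, -5, -4, -2, -1]],
  [[-2, -3, -4, -6, -5, -4, -3, -2], [-1, -2, -3, -4, -3, -2, -1, 0], [-2, -3, -3, -5, -4, -3, -2, -1], [-1, -1, -2, -3, -2, -1, -1, 0], [-1, -2, -2, -4, -4, -3, -2, -1], [-2, -3, -4, -6, -5, -4, -3, -1]],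
  [[-2, -3, -4, -6, -5, -4, -3, -2], [-1, -2, -3, -4, -3, -2, -1, 0], [-2, -3, -3, -5, -4, -3, -2, -1], [-1, -1, -2, -3, -2, -2, -1, 0], [-1, -2, -2, -4, -4, -3, -2, -1], [-2, -3, -4, -6, -5, -4, -3, -1]],
  [[-2, -3, -4, -6, -5, -4, -3, -2], [-1, -2, -3, -4, -3, -2, -1, 0], [-2, -3, -3, -5, -4, -3, -2, -1], [-1, -1, -2, -3, -3, -2, -1, 0], [-1, -2, -2, -4, -3, -3, -2, -1], [-2, -3, -4, -6, -5, -4, -3, -1]],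
  [[-2, -3, -4, -6, -5, -4, -3, -2], [-1, -2, -3, -4, -3, -2, -1, 0], [-2, -3, -3, -5, -4, -3, -2, -1], [-1, -1, -2, -3, -3, -2, -1, 0], [-1, -2, -2, -3, -3, -3, -2, -1], [-2, -3, -4, -6, -5, -4, -3, -1]],
  [[-2, -3, -4, -6, -5, -4, -3, -2], [-1, -2, -2, -4, -3, -2, -1, 0], [-2, -3, -4, -5, -4, -3, -2, -1], [-1, -1, -2, -3, -3, -2, -1, 0], [-1, -2, -2, -3, -3, -3, -2, -1], [-2, -3, -4, -6, -5, -4, -3, -1]],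
  [[-2, -3, -4, -6, -5, -4, -2, -1], [-2, -2, -3, -4, -3, -2, -2, -1], [-1, -2, -3, -4, -3, -2, -1, -1], [-1, -2, -2, -3, -2, -1, -1, 0], [-1, -2, -2, -4, -3, -2, -1, -1], [-2, -3, -4, -6, -5, -3, -2, -1]],
  [[-2, -3, -4, -6, -5, -4, -3, -1], [-2, -2, -3, -4, -3, -2, -1, -1], [-1, -2, -3, -4, -3, -2, -2, -1], [-1, -2, -2, -3, -2, -1, 0, 0], [-1, -2, -2, -4, -3, -2, -2, -1], [-2, -3, -4, -6, -5, -3, -2, -1]],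
  [[-2, -3, -4, -6, -5, -4, -3, -2], [-2, -2, -3, -4, -3, -2, -1, 0], [-1, -2, -3, -4, -3, -2, -2, -1], [-1, -2, -2, -3, -2, -1, 0, 0], [-1, -2, -2, -4, -3, -2, -2, -1], [-2, -3, -4, -6, -5, -3, -2, -1]],
  [[-2, -3, -4, -6, -5, -4, -3, -1], [-2, -2, -3, -4, -3, -2, -1, -1], [-1, -2, -3, -4, -3, -3, -2, -1], [-1, -2, -2, -3, -2, -1, 0, 0], [-1, -2, -2, -4, -3, -3, -2, -1], [-2, -3, -4, -6, -5, -4, -2, -1]],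
  [[-2, -3, -4, -6, -5, -4, -3, -2], [-2, -2, -3, -4, -3, -2, -1, 0], [-1, -2, -3, -4, -3, -3, -2, -1], [-1, -2, -2, -3, -2, -1, 0, 0], [-1, -2, -2, -4, -3, -3, -2, -1], [-2, -3, -4, -6, -5, -4, -2, -1]],
  [[-2, -3, -4, -6, -5, -4, -3, -2], [-2, -2, -3, -4, -3, -2, -1, 0], [-1, -2, -3, -4, -3, -3, -2, -1], [-1, -2, -2, -3, -2, -1, -1, 0], [-1, -2, -2, -4, -3, -3, -2, -1], [-2, -3, -4, -6, -5, -4, -3, -1]],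
  [[-2, -3, -4, -6, -5, -4, -3, -1], [-2, -2, -3, -4, -3, -2, -1, -1], [-1, -2, -3, -4, -4, -3, -2, -1], [-1, -2, -2, -3, -2, -1, 0, 0], [-1, -2, -2, -4, -4, -3, -2, -1], [-2, -3, -4, -6, -5, -4, -2, -1]],
  [[-2, -3, -4, -6, -5, -4, -3, -2], [-2, -2, -3, -4, -3, -2, -1, 0], [-1, -2, -3, -4, -4, -3, -2, -1], [-1, -2, -2, -3, -2, -1, 0, 0], [-1, -2, -2, -4, -4, -3, -2, -1], [-2, -3, -4, -6, -5, -4, -2, -1]],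
  [[-2, -3, -4, -6, -5, -4, -3, -2], [-2, -2, -3, -4, -3, -2, -1, 0], [-1, -2, -3, -4, -4, -3, -2, -1], [-1, -2, -2, -3, -2, -1, -1, 0], [-1, -2, -2, -4, -4, -3, -2, -1], [-2, -3, -4, -6, -5, -4, -3, -1]],
  [[-2, -3, -4, -6, -5, -4, -3, -2], [-2, -2, -3, -4, -3, -2, -1, 0], [-1, -2, -3, -4, -4, -3, -2, -1], [-1, -2, -2, -3, -2, -2, -1, 0], [-1, -2, -2, -4, -4, -3, -2, -1], [-2, -3, -4, -6, -5, -4, -3, -1]],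
  [[-2, -3, -4, -6, -5, -4, -3, -1], [-2, -2, -3, -4, -3, -2, -1, -1], [-1, -2, -3, -5, -4, -3, -2, -1], [-1, -2, -2, -3, -2, -1, 0, 0], [-1, -2, -2, -4, -4, -3, -2, -1], [-2, -3, -4, -6, -5, -4, -2, -1]],
  [[-2, -3, -4, -6, -5, -4, -3, -2], [-2, -2, -3, -4, -3, -2, -1, 0], [-1, -2, -3, -5, -4, -3, -2, -1], [-1, -2, -2, -3, -2, -1, 0, 0], [-1, -2, -2, -4, -4, -3, -2, -1], [-2, -3, -4, -6, -5, -4, -2, -1]]]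

theorem cE8_2_len : cE8_2.length = 30 := rfl

set_option maxRecDepth 1000000 in
theorem rowsE8_2 : checkRows1 chevE8.nroots tabE8 60 cE8_2 = true := by
  decide +kernel

set_option maxHeartbeats 0 in
/-- certificate rows 90..119 -/
def cE8_3 : List (List (List ℤ)) :=
  [
  [[-2, -3, -4, -6, -5, -4, -3, -2], [-2, -2, -3, -4, -3, -2, -1, 0], [-1, -2, -3, -5, -4, -3, -2, -1], [-1, -2, -2, -3, -2, -1, -1, 0], [-1, -2, -2, -4, -4, -3, -2, -1], [-2, -3, -4, -6, -5, -4, -3, -1]],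
  [[-2, -3, -4, -6, -5, -4, -3, -2], [-2, -2, -3, -4, -3, -2, -1, 0], [-1, -2, -3, -5, -4, -3, -2, -1], [-1, -2, -2, -3, -2, -2, -1, 0], [-1, -2, -2, -4, -4, -3, -2, -1], [-2, -3, -4, -6, -5, -4, -3, -1]],
  [[-2, -3, -4, -6, -5, -4, -3, -2], [-2, -2, -3, -4, -3, -2, -1, 0], [-1, -2, -3, -5, -4, -3, -2, -1], [-1, -2, -2, -3, -3, -2, -1, 0], [-1, -2, -2, -4, -3, -3, -2, -1], [-2, -3, -4, -6, -5, -4, -3, -1]],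
  [[-2, -3, -4, -6, -5, -4, -3, -1], [-2, -2, -3, -4, -3, -2, -1, -1], [-1, -2, -3, -5, -4, -3, -2, -1], [-1, -2, -2, -3, -2, -1, 0, 0], [-1, -2, -3, -4, -4, -3, -2, -1], [-2, -3, -4, -6, -5, -4, -2, -1]],
  [[-2, -3, -4, -6, -5, -4, -3, -2], [-2, -2, -3, -4, -3, -2, -1, 0], [-1, -2, -3, -5, -4, -3, -2, -1], [-1, -2, -2, -3, -2, -1, 0, 0], [-1, -2, -3, -4, -4, -3, -2, -1], [-2, -3, -4, -6, -5, -4, -2, -1]],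
  [[-2, -3, -4, -6, -5, -4, -3, -2], [-2, -2, -3, -4, -3, -2, -1, 0], [-1, -2, -3, -5, -4, -3, -2, -1], [-1, -2, -2, -3, -2, -1, -1, 0], [-1, -2, -3, -4, -4, -3, -2, -1], [-2, -3, -4, -6, -5, -4, -3, -1]],
  [[-2, -3, -4, -6, -5, -4, -3, -2], [-2, -2, -3, -4, -3, -2, -1, 0], [-1, -2, -3, -5, -4, -3, -2, -1], [-1, -2, -2, -3, -2, -2, -1, 0], [-1, -2, -3, -4, -4, -3, -2, -1], [-2, -3, -4, -6, -5, -4, -3, -1]],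
  [[-2, -3, -4, -6, -5, -4, -3, -2], [-2, -2, -3, -4, -3, -2, -1, 0], [-1, -2, -3, -5, -4, -3, -2, -1], [-1, -2, -2, -3, -3, -2, -1, 0], [-1, -2, -3, -4, -3, -3, -2, -1], [-2, -3, -4, -6, -5, -4, -3, -1]],
  [[-2, -3, -4, -6, -5, -4, -3, -2], [-2, -2, -3, -4, -3, -2, -1, 0], [-1, -2, -3, -4, -4, -3, -2, -1], [-1, -2, -2, -4, -3, -2, -1, 0], [-1, -2, -3, -4, -3, -3, -2, -1], [-2, -3, -4, -6, -5, -4, -3, -1]],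
  [[-2, -3, -4, -6, -5, -4, -3, -1], [-2, -2, -3, -4, -3, -2, -1, -1], [-1, -3, -3, -5, -4, -3, -2, -1], [-1, -1, -2, -3, -2, -1, 0, 0], [-1, -2, -2, -4, -4, -3, -2, -1], [-2, -3, -4, -6, -5, -4, -2, -1]],
  [[-2, -3, -4, -6, -5, -4, -3, -2], [-2, -2, -3, -4, -3, -2, -1, 0], [-1, -3, -3, -5, -4, -3, -2, -1], [-1, -1, -2, -3, -2, -1, 0, 0], [-1, -2, -2, -4, -4, -3, -2, -1], [-2, -3, -4, -6, -5, -4, -2, -1]],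
  [[-2, -3, -4, -6, -5, -4, -3, -2], [-2, -2, -3, -4, -3, -2, -1, 0], [-1, -3, -3, -5, -4, -3, -2, -1], [-1, -1, -2, -3, -2, -1, -1, 0], [-1, -2, -2, -4, -4, -3, -2, -1], [-2, -3, -4, -6, -5, -4, -3, -1]],
  [[-2, -3, -4, -6, -5, -4, -3, -2], [-2, -2, -3, -4, -3, -2, -1, 0], [-1, -3, -3, -5, -4, -3, -2, -1], [-1, -1, -2, -3, -2, -2, -1, 0], [-1, -2, -2, -4, -4, -3, -2, -1], [-2, -3, -4, -6, -5, -4, -3, -1]],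
  [[-2, -3, -4, -6, -5, -4, -3, -2], [-2, -2, -3, -4, -3, -2, -1, 0], [-1, -3, -3, -5, -4, -3, -2, -1], [-1, -1, -2, -3, -3, -2, -1, 0], [-1, -2, -2, -4, -3, -3, -2, -1], [-2, -3, -4, -6, -5, -4, -3, -1]],
  [[-2, -3, -4, -6, -5, -4, -3, -2], [-2, -2, -3, -4, -3, -2, -1, 0], [-1, -3, -3, -5, -4, -3, -2, -1], [-1, -1, -2, -3, -3, -2, -1, 0], [-1, -2, -2, -3, -3, -3, -2, -1], [-2, -3, -4, -6, -5, -4, -3, -1]],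
  [[-2, -3, -4, -6, -5, -4, -3, -1], [-2, -2, -3, -4, -3, -2, -1, -1], [-1, -3, -3, -5, -4, -3, -2, -1], [-1, -1, -2, -3, -2, -1, 0, 0], [-1, -2, -3, -4, -4, -3, -2, -1], [-2, -3, -4, -6, -5, -4, -2, -1]],
  [[-2, -3, -4, -6, -5, -4, -3, -2], [-2, -2, -3, -4, -3, -2, -1, 0], [-1, -3, -3, -5, -4, -3, -2, -1], [-1, -1, -2, -3, -2, -1, 0, 0], [-1, -2, -3, -4, -4, -3, -2, -1], [-2, -3, -4, -6, -5, -4, -2, -1]],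
  [[-2, -3, -4, -6, -5, -4, -3, -2], [-2, -2, -3, -4, -3, -2, -1, 0], [-1, -3, -3, -5, -4, -3, -2, -1], [-1, -1, -2, -3, -2, -1, -1, 0], [-1, -2, -3, -4, -4, -3, -2, -1], [-2, -3, -4, -6, -5, -4, -3, -1]],
  [[-2, -3, -4, -6, -5, -4, -3, -2], [-2, -2, -3, -4, -3, -2, -1, 0], [-1, -3, -3, -5, -4, -3, -2, -1], [-1, -1, -2, -3, -2, -2, -1, 0], [-1, -2, -3, -4, -4, -3, -2, -1], [-2, -3, -4, -6, -5, -4, -3, -1]],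
  [[-2, -3, -4, -6, -5, -4, -3, -2], [-2, -2, -3, -4, -3, -2, -1, 0], [-1, -3, -3, -5, -4, -3, -2, -1], [-1, -1, -2, -3, -3, -2, -1, 0], [-1, -2, -3, -4, -3, -3, -2, -1], [-2, -3, -4, -6, -5, -4, -3, -1]],
  [[-2, -3, -4, -6, -5, -4, -3, -1], [-2, -2, -3, -4, -3, -2, -1, -1], [-1, -3, -3, -5, -4, -3, -2, -1], [-1, -1, -2, -3, -2, -2, -1, -1], [-1, -2, -3, -4, -3, -2, -2, -1], [-2, -3, -4, -6, -5, -3, -2, -1]],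
  [[-2, -3, -4, -6, -5, -4, -3, -2], [-2, -2, -3, -4, -3, -2, -1, 0], [-1, -3, -3, -5, -4, -3, -2, -1], [-1, -1, -2, -3, -2, -2, -1, 0], [-1, -2, -3, -4, -3, -2, -2, -1], [-2, -3, -4, -6, -5, -3, -2, -1]],
  [[-2, -3, -4, -6, -5, -4, -3, -2], [-2, -2, -3, -4, -3, -2, -1, 0], [-1, -3, -3, -5, -4, -3, -2, -1], [-1, -1, -2, -3, -2, -2, -1, 0], [-1, -2, -3, -4, -3, -2, -1, -1], [-2, -3, -4, -6, -5, -3, -2, -1]],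
  [[-2, -3, -4, -6, -5, -4, -3, -2], [-2, -2, -3, -4, -3, -2, -1, 0], [-1, -3, -3, -5, -4, -3, -2, -1], [-1, -1, -2, -3, -2, -1, -1, 0], [-1, -2, -3, -4, -3, -2, -1, -1], [-2, -3, -4, -6, -5, -4, -2, -1]],
  [[-2, -3, -4, -6, -5, -4, -3, -1], [-2, -2, -3, -4, -3, -2, -1, -1], [-1, -3, -3, -5, -4, -3, -2, -1], [-1, -1, -2, -3, -3, -2, -1, -1], [-1, -2, -3, -4, -3, -2, -2, -1], [-2, -3, -4, -6, -4, -3, -2, -1]],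
  [[-2, -3, -4, -6, -5, -4, -3, -2], [-2, -2, -3, -4, -3, -2, -1, 0], [-1, -3, -3, -5, -4, -3, -2, -1], [-1, -1, -2, -3, -3, -2, -1, 0], [-1, -2, -3, -4, -3, -2, -2, -1], [-2, -3, -4, -6, -4, -3, -2, -1]],
  [[-2, -3, -4, -6, -5, -4, -3, -2], [-2, -2, -3, -4, -3, -2, -1, 0], [-1, -3, -3, -5, -4, -3, -2, -1], [-1, -1, -2, -3, -3, -2, -1, 0], [-1, -2, -3, -4, -3, -2, -1, -1], [-2, -3, -4, -6, -4, -3, -2, -1]],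
  [[-2, -3, -4, -6, -5, -4, -3, -1], [-2, -2, -3, -4, -3, -2, -1, -1], [-1, -3, -3, -5, -4, -3, -2, -1], [-1, -1, -2, -3, -3, -2, -1, -1], [-1, -2, -3, -4, -3, -3, -2, -1], [-2, -3, -4, -6, -4, -3, -2, -1]],
  [[-2, -3, -4, -6, -5, -4, -3, -2], [-2, -2, -3, -4, -3, -2, -1, 0], [-1, -3, -3, -5, -4, -3, -2, -1], [-1, -1, -2, -3, -3, -2, -1, 0], [-1, -2, -3, -4, -3, -3, -2, -1], [-2, -3, -4, -6, -4, -3, -2, -1]],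
  [[-2, -3, -4, -6, -5, -4, -2, -1], [-2, -2, -3, -4, -3, -2, -2, -1], [-1, -3, -3, -5, -4, -3, -2, -1], [-1, -1, -2, -3, -3, -2, -2, -1], [-1, -2, -3, -4, -3, -3, -2, -1], [-2, -3, -4, -6, -4, -3, -2, -1]]]

theorem cE8_3_len : cE8_3.length = 30 := rfl

set_option maxRecDepth 1000000 in
theorem rowsE8_3 : checkRows1 chevE8.nroots tabE8 90 cE8_3 = true := by
  decide +kernel

end Cfsg.Agent.Lib.Helper10.E8CC.Helper12
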