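import Cfsg.Agent.Lib.Helper25.FB.L01
import Cfsg.Agent.Lib.Helper25.FB.L04

/-!
# S3819 farm (helper25), SPARE of leaf L06 by helper12: Goldschmidt inside a solvable subgroup `L` of `G`

Official statement verbatim, under the namespace `Cfsg.Agent.Lib.Helper12.FBL06`.
-/

set_option autoImplicit false

namespace Cfsg.Agent.Lib.Helper12.FBL06

open Cfsg Cfsg.Agent.Lib.Helper25.FB

variable {G : Type*} [Group G]

theorem inf_le_oq_of_solvable [Finite G] {q : ℕ} [Fact q.Prime] (L : Subgroup G) (hL : Group.IsSolvable ↥L)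
    (z : G) (hzL : z ∈ L) (hz : IsPGroup q (Subgroup.zpowers z)) (Y : Subgroup G)
    (hYz : Y ≤ Subgroup.centralizer {z})
    (hYn : ∀ c ∈ L, c ∈ Subgroup.centralizer {z} → c ∈ Subgroup.normalizer (Y : Set G))
    (hYq : (Nat.card Y).Coprime q) : Y ⊓ L ≤ oq q L := by
  have := hL
  have hx : IsPGroup q (Subgroup.zpowers (⟨z, hzL⟩ : ↥L)) := by
    intro g
    obtain ⟨n, hn⟩ := Subgroup.mem_zpowers_iff.mp g.2
    obtain ⟨k, hk⟩ := hz ⟨z ^ n, Subgroup.zpow_mem_zpowers z n⟩
    refine ⟨k, ?_⟩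
    have hk' : (z ^ n) ^ (q ^ k) = 1 := by
      have := congrArg Subtype.val hk
      simpa using this
    apply Subtype.ext
    apply Subtype.ext
    have h1 : (((g ^ (q ^ k) : ↥(Subgroup.zpowers (⟨z, hzL⟩ : ↥L))) : ↥L) : G)
        = (((g : ↥L) : G)) ^ (q ^ k) := by
      simp
    rw [h1, ← hn]
    simpa using hk'
  have hDc : Y.subgroupOf L ≤ Subgroup.centralizer {(⟨z, hzL⟩ : ↥L)} := by
    intro y hy
    have h1 : (y : G) ∈ Subgroup.centralizer {z} := hYz (Subgroup.mem_subgroupOf.mp hy)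
    rw [Subgroup.mem_centralizer_iff] at h1 ⊢
    intro h hh
    rw [Set.mem_singleton_iff] at hh
    subst hh
    apply Subtype.ext
    simpa using h1 z (Set.mem_singleton z)
  have hDn : Subgroup.centralizer {(⟨z, hzL⟩ : ↥L)} ≤
      Subgroup.normalizer ((Y.subgroupOf L : Subgroup ↥L) : Set ↥L) := by
    intro c hc
    have h1 : (c : G) ∈ Subgroup.centralizer {z} := by
      rw [Subgroup.mem_centralizer_iff] at hc ⊢
      intro h hh
      rw [Set.mem_singleton_iff] at hh
      subst hh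
      have := hc ⟨h, hzL⟩ (Set.mem_singleton _)
      simpa using congrArg Subtype.val this
    have h2 : (c : G) ∈ Subgroup.normalizer (Y : Set G) := hYn c c.2 h1
    rw [Subgroup.mem_normalizer_iff] at h2 ⊢
    intro h
    rw [Subgroup.mem_subgroupOf, Subgroup.mem_subgroupOf]
    simpa using h2 (h : G)
  have hDp : (Nat.card (Y.subgroupOf L)).Coprime q := by
    refine Nat.Coprime.coprime_dvd_left ?_ hYq
    let f : ↥(Y.subgroupOf L) →* ↥Y :=
      (L.subtype.comp (Y.subgroupOf L).subtype).codRestrict Y (fun y => Subgroup.mem_subgroupOf.mp y.2)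
    apply Subgroup.card_dvd_of_injective f
    intro a b hab
    have h3 : ((f a : ↥Y) : G) = ((f b : ↥Y) : G) := congrArg Subtype.val hab
    apply Subtype.ext
    apply Subtype.ext
    exact h3
  have hmain := goldschmidt_pElement (⟨z, hzL⟩ : ↥L) hx (Y.subgroupOf L) hDc hDn hDp
  intro g hg
  have hgL : g ∈ L := hg.2
  have h1 : (⟨g, hgL⟩ : ↥L) ∈ Y.subgroupOf L := Subgroup.mem_subgroupOf.mpr hg.1
  exact Subgroup.mem_map.mpr ⟨⟨g, hgL⟩, hmain h1, rfl⟩

end Cfsg.Agent.Lib.Helper12.FBL06
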