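import Mathlib
import Cfsg.Agent.S2119
import Cfsg.Agent.S0253
import Cfsg.Agent.Lib.Helper16.SL25

/-!
# Non-solvable Frobenius complements, part 1: automorphisms of `SL(2,5)`

* `autQuot`: for `π : T →* A` surjective with kernel `Z(T)`, the induced hom `Aut T →* Aut A`,
  injective if `T` is perfect.
* `index_sup_centralizer_dvd`: a normal perfect subgroup `S` of `G` with `S / Z(S) ≅ A₅` satisfies
  `[G : S C_G(S)] ∣ 2` (uses `Aut A₅ ≅ S₅`, landed S2119).
* `exists_hom_A5`: `SL(2,5) → A₅` with kernel the centre.
-/

set_option autoImplicit false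

namespace Cfsg.Agent.Lib.Helper12.FC

section AutQuot

variable {T A : Type*} [Group T] [Group A] (π : T →* A) (hπ : Function.Surjective π)
  (hker : π.ker = Subgroup.center T)

include hker in
theorem ker_le_ker_comp (α : MulAut T) : π.ker ≤ (π.comp α.toMonoidHom).ker := by
  intro t ht
  rw [hker] at ht
  rw [MonoidHom.mem_ker, MonoidHom.comp_apply, ← MonoidHom.mem_ker, hker]
  exact (Subgroup.characteristic_iff_map_le.mp Subgroup.centerCharacteristic α) ⟨t, ht, rfl⟩

/-- the endomorphism of `A` induced by an automorphism of `T` -/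
noncomputable def autQuotHom (α : MulAut T) : A →* A :=
  π.liftOfSurjective hπ ⟨π.comp α.toMonoidHom, ker_le_ker_comp π hker α⟩

theorem autQuotHom_apply (α : MulAut T) (t : T) : autQuotHom π hπ hker α (π t) = π (α t) := by
  unfold autQuotHom
  exact MonoidHom.liftOfRightInverse_comp_apply _ _ _ _ t

/-- the induced homomorphism `Aut T →* Aut A` -/
noncomputable def autQuot : MulAut T →* MulAut A where
  toFun α :=
    { toFun := autQuotHom π hπ hker α
      invFun := autQuotHom π hπ hker α⁻¹
      left_inv := by
        intro y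
        obtain ⟨t, rfl⟩ := hπ y
        rw [autQuotHom_apply, autQuotHom_apply, MulAut.inv_apply_self]
      right_inv := by
        intro y
        obtain ⟨t, rfl⟩ := hπ y
        rw [autQuotHom_apply, autQuotHom_apply, MulAut.apply_inv_self]
      map_mul' := map_mul _ }
  map_one' := by
    ext y
    obtain ⟨t, rfl⟩ := hπ y
    show autQuotHom π hπ hker 1 (π t) = π t
    rw [autQuotHom_apply, MulAut.one_apply]
  map_mul' α β := by
    ext y
    obtain ⟨t, rfl⟩ := hπ y
    show autQuotHom π hπ hker (α * β) (π t) = autQuotHom π hπ hker α (autQuotHom π hπ hker β (π t))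
    rw [autQuotHom_apply, autQuotHom_apply, autQuotHom_apply, MulAut.mul_apply]

theorem autQuot_apply (α : MulAut T) (t : T) : autQuot π hπ hker α (π t) = π (α t) :=
  autQuotHom_apply π hπ hker α t

/-- an automorphism of a perfect group which is trivial modulo the centre is trivial -/
theorem eq_one_of_forall_mem_center (hperf : commutator T = ⊤) (α : MulAut T)
    (h : ∀ t : T, t⁻¹ * α t ∈ Subgroup.center T) : α = 1 := by
  obtain ⟨ζ, hζ⟩ : ∃ ζ : T →* Subgroup.center T, ∀ t, (ζ t : T) = t⁻¹ * α t := by
   refine ⟨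
    { toFun := fun t => ⟨t⁻¹ * α t, h t⟩
      map_one' := by
        apply Subtype.ext
        show (1 : T)⁻¹ * α 1 = 1
        rw [map_one, inv_one, one_mul]
      map_mul' := by
        intro s t
        apply Subtype.ext
        show (s * t)⁻¹ * α (s * t) = (s⁻¹ * α s) * (t⁻¹ * α t)
        have hc := Subgroup.mem_center_iff.mp (h s) t⁻¹
        -- hc : t⁻¹ * (s⁻¹ * α s) = (s⁻¹ * α s) * t⁻¹
        rw [map_mul, mul_inv_rev]
        calc t⁻¹ * s⁻¹ * (α s * α t) = (t⁻¹ * (s⁻¹ * α s)) * α t := by group
          _ = (s⁻¹ * α s) * t⁻¹ * α t := by rw [hc]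
          _ = (s⁻¹ * α s) * (t⁻¹ * α t) := by group }, fun t => rfl⟩
  have hk : commutator T ≤ ζ.ker := by
    rw [commutator_eq_closure, Subgroup.closure_le]
    rintro _ ⟨s, t, rfl⟩
    rw [SetLike.mem_coe, MonoidHom.mem_ker, map_commutatorElement,
      commutatorElement_eq_one_iff_mul_comm]
    apply Subtype.ext
    exact (Subgroup.mem_center_iff.mp (ζ t).2) (ζ s : T)
  rw [hperf, top_le_iff] at hk
  ext t
  have h1 : ζ t = 1 := by
    rw [← MonoidHom.mem_ker, hk]; exact Subgroup.mem_top t
  have h2 : t⁻¹ * α t = 1 := by rw [← hζ, h1]; rfl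
  rw [MulAut.one_apply]
  exact (inv_mul_eq_one.mp h2).symm

theorem autQuot_injective (hperf : commutator T = ⊤) :
    Function.Injective (autQuot π hπ hker) := by
  rw [injective_iff_map_eq_one]
  intro α hα
  apply eq_one_of_forall_mem_center hperf
  intro t
  rw [← hker, MonoidHom.mem_ker, map_mul, map_inv, ← autQuot_apply π hπ hker, hα,
    MulAut.one_apply, inv_mul_cancel]

end AutQuot

theorem card_mulAut_A5 : Nat.card (MulAut (alternatingGroup (Fin 5))) = 120 := by
  have hb := Cfsg.Agent.S2119.result 5 (by norm_num) (by norm_num)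
  rw [← Nat.card_congr (Equiv.ofBijective _ hb), Nat.card_eq_fintype_card, Fintype.card_perm,
    Fintype.card_fin]
  rfl

theorem card_A5 : Nat.card (alternatingGroup (Fin 5)) = 60 := by
  rw [Nat.card_eq_fintype_card]
  have h := two_mul_card_alternatingGroup (α := Fin 5)
  rw [Fintype.card_perm, Fintype.card_fin] at h
  have : Nat.factorial 5 = 120 := rfl
  omega

section Index

variable {G : Type*} [Group G] [Finite G] (S : Subgroup G) [S.Normal]
  (π : S →* alternatingGroup (Fin 5)) (hπ : Function.Surjective π)
  (hker : π.ker = Subgroup.center S) (hperf : commutator S = ⊤)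

omit [Finite G] in
include hπ hker hperf in
theorem index_centralizer_dvd : (Subgroup.centralizer (S : Set G)).index ∣ 120 := by
  let Ψ : G →* MulAut (alternatingGroup (Fin 5)) := (autQuot π hπ hker).comp MulAut.conjNormal
  have hk : Ψ.ker = Subgroup.centralizer (S : Set G) := by
    ext g
    rw [MonoidHom.mem_ker, MonoidHom.comp_apply, Subgroup.mem_centralizer_iff]
    constructor
    · intro h s hs
      have h0 : (MulAut.conjNormal g : MulAut S) = 1 :=
        autQuot_injective π hπ hker hperf (h.trans (map_one _).symm)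
      have h1 := DFunLike.congr_fun h0 ⟨s, hs⟩
      rw [MulAut.one_apply] at h1
      have h2 := congrArg Subtype.val h1
      rw [MulAut.conjNormal_apply] at h2
      have h3 : g * s * g⁻¹ = s := h2
      calc s * g = (g * s * g⁻¹) * g := by rw [h3]
        _ = g * s := by group
    · intro h
      have h0 : (MulAut.conjNormal g : MulAut S) = 1 := by
        ext s
        rw [MulAut.one_apply, MulAut.conjNormal_apply]
        have h1 := h s s.2
        show g * (s : G) * g⁻¹ = s
        rw [← h1]; group
      rw [h0, map_one]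
  rw [← hk, Subgroup.index_ker, ← card_mulAut_A5]
  exact Subgroup.card_subgroup_dvd_card _

omit [Finite G] [S.Normal] in
include hπ hker in
theorem relIndex_centralizer :
    (Subgroup.centralizer (S : Set G)).relIndex S = 60 := by
  have h1 : (Subgroup.centralizer (S : Set G)).subgroupOf S = Subgroup.center S := by
    ext x
    rw [Subgroup.mem_subgroupOf, Subgroup.mem_centralizer_iff, Subgroup.mem_center_iff]
    constructor
    · intro h y
      apply Subtype.ext
      exact h y y.2
    · intro h y hy
      exact congrArg Subtype.val (h ⟨y, hy⟩)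
  rw [Subgroup.relIndex, h1, ← hker, Subgroup.index_ker, MonoidHom.range_eq_top.mpr hπ,
    Subgroup.card_top, card_A5]

omit [Finite G] in
include hπ hker hperf in
/-- `[G : S C_G(S)]` divides `2` -/
theorem index_sup_centralizer_dvd : (S ⊔ Subgroup.centralizer (S : Set G)).index ∣ 2 := by
  have h1 := index_centralizer_dvd S π hπ hker hperf
  have h2 := relIndex_centralizer S π hπ hker
  have h3 : (Subgroup.centralizer (S : Set G)).relIndex (S ⊔ Subgroup.centralizer (S : Set G))
      = 60 := by
    rw [Subgroup.relIndex_sup_right, h2]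
  have h4 := Subgroup.relIndex_mul_index
    (le_sup_right : Subgroup.centralizer (S : Set G) ≤ S ⊔ Subgroup.centralizer (S : Set G))
  rw [h3] at h4
  rw [← h4] at h1
  have : (120 : ℕ) = 60 * 2 := by norm_num
  rw [this] at h1
  exact (Nat.mul_dvd_mul_iff_left (by norm_num)).mp h1

end Index

/-- the projection `SL(2,5) → A₅` -/
theorem exists_hom_A5 : ∃ π : Matrix.SpecialLinearGroup (Fin 2) (ZMod 5) →* alternatingGroup (Fin 5),
    Function.Surjective π ∧
      π.ker = Subgroup.center (Matrix.SpecialLinearGroup (Fin 2) (ZMod 5)) := by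
  obtain ⟨e⟩ := Cfsg.Agent.S0253.psl5
  refine ⟨e.toMonoidHom.comp
    (QuotientGroup.mk' (Subgroup.center (Matrix.SpecialLinearGroup (Fin 2) (ZMod 5)))), ?_, ?_⟩
  · exact e.surjective.comp (QuotientGroup.mk'_surjective _)
  · ext x
    rw [MonoidHom.mem_ker, MonoidHom.comp_apply]
    show e _ = 1 ↔ _
    rw [map_eq_one_iff e e.injective, ← MonoidHom.mem_ker, QuotientGroup.ker_mk']

/-- transport along an isomorphism `T ≃* SL(2,5)` -/
theorem exists_hom_A5_of_equiv {T : Type*} [Group T]
    (e : T ≃* Matrix.SpecialLinearGroup (Fin 2) (ZMod 5)) :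
    ∃ π : T →* alternatingGroup (Fin 5), Function.Surjective π ∧ π.ker = Subgroup.center T := by
  obtain ⟨π₀, hs, hk⟩ := exists_hom_A5
  refine ⟨π₀.comp e.toMonoidHom, hs.comp e.surjective, ?_⟩
  ext x
  rw [MonoidHom.mem_ker, MonoidHom.comp_apply, ← MonoidHom.mem_ker, hk, Subgroup.mem_center_iff,
    Subgroup.mem_center_iff]
  constructor
  · intro h y
    apply e.injective
    rw [map_mul, map_mul]
    exact h (e y)
  · intro h y
    have := congrArg e (h (e.symm y))
    rw [map_mul, map_mul, e.apply_symm_apply] at this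
    exact this

theorem card_of_equiv_SL25 {T : Type*} [Group T]
    (e : T ≃* Matrix.SpecialLinearGroup (Fin 2) (ZMod 5)) : Nat.card T = 120 := by
  rw [Nat.card_congr e.toEquiv]
  exact Cfsg.Agent.Lib.Helper16.SL25.card_SL25

end Cfsg.Agent.Lib.Helper12.FC
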