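import Mathlib
import Cfsg.Agent.Lib.Helper12.FC1
import Cfsg.Agent.Lib.Helper24.ZFrobMain
import Cfsg.Agent.Lib.Helper10.FrobComplement

/-!
# Non-solvable Frobenius complements, part 2: the structure theorem

A finite group `G` in which all subgroups of order `pq` are cyclic and which has a normal perfect
subgroup `S ≅ SL(2,5)` has a normal subgroup `G₀ = S × M` of index at most `2`, where `M` has
cyclic Sylow subgroups and order prime to `30`.
-/

set_option autoImplicit false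

namespace Cfsg.Agent.Lib.Helper12.FC

open Cfsg.Agent.Lib.Helper24.ZFrob (PQ)
open Cfsg.Agent.Lib

theorem exists_noncomm_SL25 : ∃ a b : Matrix.SpecialLinearGroup (Fin 2) (ZMod 5),
    a ^ 4 = 1 ∧ b ^ 4 = 1 ∧ a * b ≠ b * a := by
  refine ⟨⟨!![0, -1; 1, 0], by decide⟩, ⟨!![2, 0; 0, 3], by decide⟩, ?_, ?_, ?_⟩ <;> decide

theorem isCyclic_of_card_le_two {H : Type*} [Group H] [Finite H] (h : Nat.card H ≤ 2) :
    IsCyclic H := by
  have hpos : 0 < Nat.card H := Nat.card_pos
  have h12 : Nat.card H = 1 ∨ Nat.card H = 2 := by omega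
  rcases h12 with h1 | h2
  · have : Subsingleton H := (Nat.card_eq_one_iff_unique.mp h1).1
    exact isCyclic_of_subsingleton
  · have : Fact (Nat.Prime 2) := ⟨Nat.prime_two⟩
    exact isCyclic_of_prime_card h2

variable {G : Type*} [Group G] [Finite G]

/-- two commuting `2`-elements: one is a power of the other -/
theorem mem_zpowers_or_of_commute (hpq : PQ G) {c q : G} {k l : ℕ} (hc : c ^ (2 ^ k) = 1)
    (hq : q ^ (2 ^ l) = 1) (hcq : c * q = q * c) :
    c ∈ Subgroup.zpowers q ∨ q ∈ Subgroup.zpowers c := by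
  have : Fact (Nat.Prime 2) := ⟨Nat.prime_two⟩
  have hc' : c ^ (2 ^ (k + l)) = 1 := by rw [pow_add, pow_mul, hc, one_pow]
  have hq' : q ^ (2 ^ (k + l)) = 1 := by rw [pow_add, mul_comm, pow_mul, hq, one_pow]
  obtain ⟨hcomm, hexp⟩ := Helper10.closure_pair_props hcq hc' hq'
  obtain ⟨D, hD⟩ : ∃ D : Subgroup G, D = Subgroup.closure ({c, q} : Set G) := ⟨_, rfl⟩
  rw [← hD] at hcomm hexp
  have hcD : c ∈ D := by rw [hD]; exact Subgroup.subset_closure (by simp)
  have hqD : q ∈ D := by rw [hD]; exact Subgroup.subset_closure (by simp)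
  have hDp : IsPGroup 2 D := by
    intro x
    refine ⟨k + l, ?_⟩
    apply Subtype.ext
    rw [Subgroup.coe_pow]
    exact hexp x x.2
  have hu := (hpq.subgroup D).uniqueOrderP hDp
  have hcyc : IsCyclic D := Helper10.isCyclic_of_comm_of_uniqueOrderP hDp
    (fun a b => Subtype.ext (hcomm a a.2 b b.2)) hu
  obtain ⟨g, hg⟩ := hcyc.exists_generator
  rcases Helper10.mem_zpowers_or_mem_zpowers hDp g ⟨c, hcD⟩ ⟨q, hqD⟩ (hg _) (hg _) with h | h
  · left
    obtain ⟨n, hn⟩ := Subgroup.mem_zpowers_iff.mp h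
    refine Subgroup.mem_zpowers_iff.mpr ⟨n, ?_⟩
    have := congrArg Subtype.val hn
    rwa [Subgroup.coe_zpow] at this
  · right
    obtain ⟨n, hn⟩ := Subgroup.mem_zpowers_iff.mp h
    refine Subgroup.mem_zpowers_iff.mpr ⟨n, ?_⟩
    have := congrArg Subtype.val hn
    rwa [Subgroup.coe_zpow] at this

/-- no prime dividing `|S|` divides the order of a subgroup centralising `S` and meeting it
trivially -/
theorem not_dvd_card_of_commute (hpq : PQ G) (S M : Subgroup G) (hSM : S ⊓ M = ⊥)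
    (hcomm : ∀ s ∈ S, ∀ x ∈ M, s * x = x * s) (p : ℕ) [Fact p.Prime] (hpS : p ∣ Nat.card S) :
    ¬ p ∣ Nat.card M := by
  intro hpM
  obtain ⟨m, hm⟩ := exists_prime_orderOf_dvd_card' p hpM
  obtain ⟨s, hs⟩ := exists_prime_orderOf_dvd_card' p hpS
  have hp : p.Prime := Fact.out
  have hm' : orderOf (m : G) = p := by rw [Subgroup.orderOf_coe]; exact hm
  have hs' : orderOf (s : G) = p := by rw [Subgroup.orderOf_coe]; exact hs
  have hm1 : (m : G) ≠ 1 := by
    intro h
    rw [h, orderOf_one] at hm'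
    exact hp.one_lt.ne hm'
  have h1 := hpq.mem_zpowers_of_commute (p := p) (x := (m : G)) (y := (s : G))
    (hcomm s s.2 m m.2).symm (by rw [← hm', pow_orderOf_eq_one]) hm1
    (by rw [← hs', pow_orderOf_eq_one])
  have h2 : (s : G) ∈ M := (Subgroup.zpowers_le.mpr m.2) h1
  have h3 : (s : G) ∈ S ⊓ M := ⟨s.2, h2⟩
  rw [hSM, Subgroup.mem_bot] at h3
  rw [h3, orderOf_one] at hs'
  exact hp.one_lt.ne hs'

theorem structure_of_normal_SL25 (hpq : PQ G) (S : Subgroup G) [S.Normal]
    (hperf : commutator S = ⊤) (e : S ≃* Matrix.SpecialLinearGroup (Fin 2) (ZMod 5)) :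
    ∃ G₀ : Subgroup G, G₀.Normal ∧ (G₀.index = 1 ∨ G₀.index = 2) ∧
      ∃ M : Subgroup G, S ⊔ M = G₀ ∧ S ⊓ M = ⊥ ∧ (∀ s ∈ S, ∀ x ∈ M, s * x = x * s) ∧
        (∀ (p : ℕ) [Fact p.Prime] (P : Sylow p M), IsCyclic P) ∧ (Nat.card M).Coprime 30 := by
  have : Fact (Nat.Prime 2) := ⟨Nat.prime_two⟩
  have hS120 : Nat.card S = 120 := card_of_equiv_SL25 e
  obtain ⟨π, hπ, hker⟩ := exists_hom_A5_of_equiv e
  obtain ⟨C, hC⟩ : ∃ C : Subgroup G, C = Subgroup.centralizer (S : Set G) := ⟨_, rfl⟩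
  have hCn : C.Normal := by rw [hC]; infer_instance
  have hidx := index_sup_centralizer_dvd S π hπ hker hperf
  rw [← hC] at hidx
  -- the centre of `S`, inside `G`
  obtain ⟨Zc, hZc⟩ : ∃ Zc : Subgroup G, Zc = (Subgroup.center S).map S.subtype := ⟨_, rfl⟩
  have hZcard : Nat.card Zc = 2 := by
    rw [hZc, Subgroup.card_subtype]
    have h1 := Subgroup.card_mul_index (Subgroup.center S)
    have hi : (Subgroup.center S).index = 60 := by
      rw [← hker, Subgroup.index_ker, MonoidHom.range_eq_top.mpr hπ, Subgroup.card_top, card_A5]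
    rw [hi, hS120] at h1
    omega
  have hmemZc : ∀ x : G, x ∈ S → x ∈ C → x ∈ Zc := by
    intro x hxS hxC
    rw [hZc]
    refine ⟨⟨x, hxS⟩, ?_, rfl⟩
    rw [SetLike.mem_coe, Subgroup.mem_center_iff]
    intro y
    apply Subtype.ext
    rw [hC, Subgroup.mem_centralizer_iff] at hxC
    exact hxC y y.2
  have hZcC : Zc ≤ C := by
    rw [hZc, hC]
    rintro _ ⟨x, hx, rfl⟩
    rw [Subgroup.mem_centralizer_iff]
    intro y hy
    rw [SetLike.mem_coe, Subgroup.mem_center_iff] at hx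
    exact congrArg Subtype.val (hx ⟨y, hy⟩)
  have hZcS : Zc ≤ S := by
    rw [hZc]; exact Subgroup.map_subtype_le _
  -- `2`-elements of `C` lie in `S`
  have h2el : ∀ c ∈ C, ∀ k : ℕ, c ^ (2 ^ k) = 1 → c ∈ S := by
    intro c hc k hck
    obtain ⟨a, b, ha, hb, hab⟩ := exists_noncomm_SL25
    obtain ⟨q₁, hq₁⟩ : ∃ q₁ : S, q₁ = e.symm a := ⟨_, rfl⟩
    obtain ⟨q₂, hq₂⟩ : ∃ q₂ : S, q₂ = e.symm b := ⟨_, rfl⟩
    have hq₁4 : (q₁ : G) ^ (2 ^ 2) = 1 := by
      have : q₁ ^ 4 = 1 := by rw [hq₁, ← map_pow, ha, map_one]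
      have := congrArg Subtype.val this
      rwa [Subgroup.coe_pow] at this
    have hq₂4 : (q₂ : G) ^ (2 ^ 2) = 1 := by
      have : q₂ ^ 4 = 1 := by rw [hq₂, ← map_pow, hb, map_one]
      have := congrArg Subtype.val this
      rwa [Subgroup.coe_pow] at this
    rw [hC, Subgroup.mem_centralizer_iff] at hc
    rcases mem_zpowers_or_of_commute hpq hck hq₁4 (hc q₁ q₁.2).symm with h | h
    · exact (Subgroup.zpowers_le.mpr q₁.2) h
    · rcases mem_zpowers_or_of_commute hpq hck hq₂4 (hc q₂ q₂.2).symm with h' | h'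
      · exact (Subgroup.zpowers_le.mpr q₂.2) h'
      · exfalso
        have hcm := Helper10.commute_of_mem_zpowers h h'
        have h1 : q₁ * q₂ = q₂ * q₁ := Subtype.ext hcm.eq
        apply hab
        have h2 := congrArg e h1
        rwa [map_mul, map_mul, hq₁, hq₂, e.apply_symm_apply, e.apply_symm_apply] at h2
  -- the Sylow `2`-subgroup of `C`
  obtain ⟨P⟩ : Nonempty (Sylow 2 C) := inferInstance
  have hPS : ∀ x : C, x ∈ P → (x : G) ∈ S := by
    intro x hx
    obtain ⟨k, hk⟩ := P.isPGroup' ⟨x, hx⟩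
    apply h2el x x.2 k
    have h1 := congrArg Subtype.val hk
    rw [Subgroup.coe_pow] at h1
    have h2 := congrArg Subtype.val h1
    rwa [Subgroup.coe_pow] at h2
  have hPmap : (P : Subgroup C).map C.subtype ≤ Zc := by
    rintro _ ⟨x, hx, rfl⟩
    exact hmemZc _ (hPS x hx) x.2
  have hPcard : Nat.card P ≤ 2 := by
    have h1 := Subgroup.card_le_of_le hPmap
    rw [Subgroup.card_subtype, hZcard] at h1
    exact h1
  have hPcyc : IsCyclic P := isCyclic_of_card_le_two hPcard
  have h2C : 2 ∣ Nat.card C := hZcard ▸ Subgroup.card_dvd_of_le hZcC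
  have hmin : (Nat.card C).minFac = 2 := (Nat.minFac_eq_two_iff _).mpr h2C
  obtain ⟨K, hK⟩ : ∃ K : Subgroup C,
      K = (MonoidHom.transferSylow P (hPcyc.normalizer_le_centralizer hmin)).ker := ⟨_, rfl⟩
  have hcompl : K.IsComplement' P := by rw [hK]; exact hPcyc.isComplement' hmin
  have hKodd : ¬ 2 ∣ Nat.card K := by
    rw [hK]; exact MonoidHom.not_dvd_card_ker_transferSylow P _
  obtain ⟨M, hM⟩ : ∃ M : Subgroup G, M = K.map C.subtype := ⟨_, rfl⟩
  have hMC : M ≤ C := by rw [hM]; exact Subgroup.map_subtype_le _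
  have hMcard : Nat.card M = Nat.card K := by rw [hM, Subgroup.card_subtype]
  have hMS : ∀ s ∈ S, ∀ x ∈ M, s * x = x * s := by
    intro s hs x hx
    have := hMC hx
    rw [hC, Subgroup.mem_centralizer_iff] at this
    exact this s hs
  have hSM : S ⊓ M = ⊥ := by
    rw [eq_bot_iff]
    intro x hx
    rw [Subgroup.mem_bot]
    have hxZ : x ∈ Zc := hmemZc x hx.1 (hMC hx.2)
    have h1 : orderOf x ∣ 2 := by
      have := orderOf_dvd_natCard (⟨x, hxZ⟩ : Zc)
      rwa [Subgroup.orderOf_mk, hZcard] at this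
    have h2 : orderOf x ∣ Nat.card M := by
      have := orderOf_dvd_natCard (⟨x, hx.2⟩ : M)
      rwa [Subgroup.orderOf_mk] at this
    rw [hMcard] at h2
    have h3 : orderOf x = 1 := by
      rcases (Nat.dvd_prime Nat.prime_two).mp h1 with h | h
      · exact h
      · exfalso; rw [h] at h2; exact hKodd h2
    exact orderOf_eq_one_iff.mp h3
  have hsup : S ⊔ M = S ⊔ C := by
    apply le_antisymm (sup_le_sup_left hMC S)
    apply sup_le le_sup_left
    have h1 : C = (⊤ : Subgroup C).map C.subtype := by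
      rw [← MonoidHom.range_eq_map, Subgroup.range_subtype]
    rw [h1, ← hcompl.sup_eq_top, Subgroup.map_sup, ← hM]
    apply sup_le le_sup_right
    exact le_trans (hPmap.trans hZcS) le_sup_left
  refine ⟨S ⊔ C, inferInstance, (Nat.dvd_prime Nat.prime_two).mp hidx, M, hsup, hSM, hMS, ?_, ?_⟩
  · intro p _ Q
    apply Cfsg.Agent.Lib.Helper24.ZFrob.sylow_isCyclic_of_pq hpq M
    intro P' hP' hP'M a ha b hb
    have hP'1 : Nat.card P' = 1 := by
      obtain ⟨n, hn⟩ := IsPGroup.iff_card.mp hP'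
      have h1 : Nat.card P' ∣ Nat.card M := Subgroup.card_dvd_of_le hP'M
      rw [hMcard, hn] at h1
      rcases n with _ | n
      · rw [hn, pow_zero]
      · exfalso
        apply hKodd
        exact dvd_trans (dvd_pow_self 2 (Nat.succ_ne_zero n)) h1
    have hbot := Subgroup.card_eq_one.mp hP'1
    rw [hbot, Subgroup.mem_bot] at ha hb
    rw [ha, hb]
  · have c2 : Nat.Coprime (Nat.card M) 2 := by
      rw [hMcard]
      exact ((Nat.Prime.coprime_iff_not_dvd Nat.prime_two).mpr hKodd).symm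
    have c3 : Nat.Coprime (Nat.card M) 3 := by
      have : Fact (Nat.Prime 3) := ⟨Nat.prime_three⟩
      have := not_dvd_card_of_commute hpq S M hSM hMS 3 (by rw [hS120]; norm_num)
      exact ((Nat.Prime.coprime_iff_not_dvd Nat.prime_three).mpr this).symm
    have c5 : Nat.Coprime (Nat.card M) 5 := by
      have : Fact (Nat.Prime 5) := ⟨by norm_num⟩
      have := not_dvd_card_of_commute hpq S M hSM hMS 5 (by rw [hS120]; norm_num)
      exact ((Nat.Prime.coprime_iff_not_dvd (by norm_num : Nat.Prime 5)).mpr this).symm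
    have : (30 : ℕ) = 2 * (3 * 5) := by norm_num
    rw [this]
    exact Nat.Coprime.mul_right c2 (Nat.Coprime.mul_right c3 c5)

end Cfsg.Agent.Lib.Helper12.FC
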