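import Mathlib
import Cfsg.Agent.Lib.Helper12.FC2
import Cfsg.Agent.Lib.Helper1.FrobConj
import Cfsg.Agent.Lib.Helper1.FpfCyclic

/-!
# Non-solvable Frobenius complements, part 3: reduction to Zassenhaus' theorem

`ZassHyp` is the statement "a perfect nontrivial group of fixed-point-free automorphisms of a finite
group is `SL(2,5)`" (for groups in `Type`).  Under `ZassHyp`, every non-solvable Frobenius
complement has the structure `(SL(2,5) × M).(≤ 2)`.
-/

set_option autoImplicit false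

namespace Cfsg.Agent.Lib.Helper12.FC

open Cfsg.Agent.Lib.Helper24.ZFrob (PQ)
open Cfsg.Agent.Lib

/-- Zassenhaus' theorem on perfect fixed-point-free automorphism groups, as a hypothesis. -/
def ZassHyp : Prop :=
  ∀ {K : Type} [Group K] [Finite K] (A : Subgroup (MulAut K)),
    (∀ φ ∈ A, φ ≠ 1 → ∀ k : K, φ k = k → k = 1) → commutator A = ⊤ → A ≠ ⊥ →
      Nonempty (A ≃* Matrix.SpecialLinearGroup (Fin 2) (ZMod 5))

theorem commutator_self_le {G : Type*} [Group G] (H : Subgroup G) : ⁅H, H⁆ ≤ H :=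
  Subgroup.commutator_le.mpr fun _ h₁ _ h₂ =>
    H.mul_mem (H.mul_mem (H.mul_mem h₁ h₂) (H.inv_mem h₁)) (H.inv_mem h₂)

theorem commutator_eq_top_of_surjective {G G' : Type*} [Group G] [Group G'] (f : G →* G')
    (hf : Function.Surjective f) (h : commutator G = ⊤) : commutator G' = ⊤ := by
  rw [commutator_def] at h ⊢
  have h1 : (⊤ : Subgroup G') = Subgroup.map f ⊤ := (Subgroup.map_top_of_surjective f hf).symm
  rw [h1, ← Subgroup.map_commutator, h]

/-- A perfect nontrivial group embedding into a Frobenius complement is `SL(2,5)`. -/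
theorem perfect_iso_SL25 (hZ : ZassHyp) {L : Type} [Group L] [Finite L] {H : Subgroup L}
    (hH : Cfsg.IsFrobeniusComplement H) {P : Type*} [Group P] (f : P →* H)
    (hf : Function.Injective f) (hperf : commutator P = ⊤) [Nontrivial P] :
    Nonempty (P ≃* Matrix.SpecialLinearGroup (Fin 2) (ZMod 5)) := by
  obtain ⟨N, hN⟩ := Helper1.FrobData.exists_of_isFrobeniusComplement hH
  have hNn : N.Normal := hN.normal
  have hHN : H ≤ Subgroup.normalizer (N : Set L) := by
    rw [Subgroup.normalizer_eq_top]; exact le_top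
  have hNbot : N ≠ ⊥ := by
    intro hb
    have h1 := hN.card_mul
    rw [hb, Subgroup.card_bot, one_mul] at h1
    exact hH.2.1 ((Subgroup.card_eq_iff_eq_top H).mp h1)
  obtain ⟨⟨v₀, hv₀N⟩, hv₀1'⟩ := (Subgroup.ne_bot_iff_exists_ne_one.mp hNbot)
  have hv₀1 : v₀ ≠ 1 := fun h => hv₀1' (Subtype.ext h)
  obtain ⟨ρ, hρ⟩ : ∃ ρ : H →* MulAut N, ∀ (a : H) (v : N), ((ρ a) v : L) = a * v * (a : L)⁻¹ :=
    ⟨Helper1.conjHomOn H N hHN, fun a v => Helper1.conjHomOn_apply H N hHN a v⟩
  -- fixed points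
  have hfix : ∀ a : H, a ≠ 1 → ∀ v : N, ρ a v = v → v = 1 := by
    intro a ha v hv
    have h1 : (a : L) * v * (a : L)⁻¹ = v := by rw [← hρ a v, hv]
    have h2 : (a : L) * v = v * a := by
      calc (a : L) * v = (a : L) * v * (a : L)⁻¹ * a := by group
        _ = v * a := by rw [h1]
    have h3 := hN.fpf a.2 (fun h => ha (Subtype.ext h)) v.2 h2
    exact Subtype.ext h3
  have hρinj : Function.Injective ρ := by
    rw [injective_iff_map_eq_one]
    intro a ha
    by_contra ha1
    have := hfix a ha1 ⟨v₀, hv₀N⟩ (by rw [ha]; rfl)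
    exact hv₀1 (Subtype.ext_iff.mp this)
  obtain ⟨g, hg⟩ : ∃ g : P →* MulAut N, g = ρ.comp f := ⟨_, rfl⟩
  have hginj : Function.Injective g := by
    rw [hg]; exact hρinj.comp hf
  have e : P ≃* g.range := MonoidHom.ofInjective hginj
  have hAfpf : ∀ φ ∈ g.range, φ ≠ 1 → ∀ k : N, φ k = k → k = 1 := by
    rintro φ ⟨p, rfl⟩ hφ k hk
    have hp : f p ≠ 1 := by
      intro h
      apply hφ
      rw [hg, MonoidHom.comp_apply, h, map_one]
    rw [hg, MonoidHom.comp_apply] at hk
    exact hfix (f p) hp k hk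
  have hAperf : commutator g.range = ⊤ :=
    commutator_eq_top_of_surjective e.toMonoidHom e.surjective hperf
  have hAne : g.range ≠ ⊥ := by
    intro hb
    obtain ⟨x, hx⟩ := exists_ne (1 : P)
    have : g x ∈ g.range := ⟨x, rfl⟩
    rw [hb, Subgroup.mem_bot] at this
    exact hx (hginj (this.trans (map_one g).symm))
  obtain ⟨e'⟩ := hZ g.range hAfpf hAperf hAne
  exact ⟨e.trans e'⟩

/-- The perfect core of a finite non-solvable group: a nontrivial perfect normal subgroup. -/
theorem exists_perfect_normal {G : Type*} [Group G] [Finite G] (hns : ¬ Group.IsSolvable G) :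
    ∃ S : Subgroup G, S.Normal ∧ S ≠ ⊥ ∧ commutator S = ⊤ := by
  rw [Group.isSolvable_iff_commutator_lt] at hns
  push Not at hns
  obtain ⟨H₀, hH₀, hlt⟩ := hns
  have hH₀' : ⁅H₀, H₀⁆ = H₀ := by
    by_contra hne
    exact hlt (lt_of_le_of_ne (commutator_self_le H₀) hne)
  obtain ⟨S, hS⟩ : ∃ S : Subgroup G, S = sSup {L : Subgroup G | ⁅L, L⁆ = L} := ⟨_, rfl⟩
  have hSperf : ⁅S, S⁆ = S := by
    apply le_antisymm (commutator_self_le S)
    conv_lhs => rw [hS]
    apply sSup_le
    intro L hL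
    have hLS : L ≤ S := by rw [hS]; exact le_sSup hL
    calc L = ⁅L, L⁆ := hL.symm
      _ ≤ ⁅S, S⁆ := Subgroup.commutator_mono hLS hLS
  have hSn : S.Normal := by
    constructor
    intro n hn g
    have hle : S ≤ Subgroup.comap (MulAut.conj g).toMonoidHom S := by
      conv_lhs => rw [hS]
      apply sSup_le
      intro L hL
      rw [← Subgroup.map_le_iff_le_comap, hS]
      apply le_sSup
      show ⁅Subgroup.map _ L, Subgroup.map _ L⁆ = Subgroup.map _ L
      rw [← Subgroup.map_commutator, hL]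
    have := hle hn
    simpa using this
  refine ⟨S, hSn, ?_, ?_⟩
  · intro hb
    apply hH₀
    rw [eq_bot_iff, ← hb, hS]
    exact le_sSup hH₀'
  · apply Subgroup.map_injective S.subtype_injective
    rw [Subgroup.map_subtype_commutator, hSperf, ← MonoidHom.range_eq_map, Subgroup.range_subtype]

/-- Structure of non-solvable Frobenius complements, given Zassenhaus' theorem. -/
theorem nonsolvable_fc_structure (hZ : ZassHyp) {G : Type*} [Group G] [Finite G]
    (hns : ¬ Group.IsSolvable G)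
    (hFC : ∃ (L : Type) (_ : Group L) (_ : Finite L) (H : Subgroup L),
      Cfsg.IsFrobeniusComplement H ∧ Nonempty (G ≃* H)) :
    ∃ G₀ : Subgroup G, G₀.Normal ∧ (G₀.index = 1 ∨ G₀.index = 2) ∧
      ∃ S M : Subgroup G, S ⊔ M = G₀ ∧ S ⊓ M = ⊥ ∧ (∀ s ∈ S, ∀ x ∈ M, s * x = x * s) ∧
        Nonempty (S ≃* Matrix.SpecialLinearGroup (Fin 2) (ZMod 5)) ∧
        (∀ (p : ℕ) [Fact p.Prime] (P : Sylow p M), IsCyclic P) ∧ (Nat.card M).Coprime 30 := by
  obtain ⟨L, _, _, H, hH, ⟨φ⟩⟩ := hFC
  have hpq : PQ G := Helper24.ZFrob.pq_of_frobenius_complement hH φ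
  obtain ⟨S, hSn, hSne, hSperf⟩ := exists_perfect_normal hns
  have : Nontrivial S := (Subgroup.nontrivial_iff_ne_bot S).mpr hSne
  obtain ⟨e⟩ := perfect_iso_SL25 hZ hH (φ.toMonoidHom.comp S.subtype)
    (φ.injective.comp S.subtype_injective) hSperf
  obtain ⟨G₀, hn, hidx, M, h1, h2, h3, h4, h5⟩ := structure_of_normal_SL25 hpq S hSperf e
  exact ⟨G₀, hn, hidx, S, M, h1, h2, h3, ⟨e⟩, h4, h5⟩

end Cfsg.Agent.Lib.Helper12.FC
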