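import Mathlib
import Cfsg.Agent.Lib.Helper10.UniqueOrderP
import Cfsg.Agent.Lib.Helper19.FpfAbelian

/-!
# Groups of automorphisms of an abelian group whose nonidentity elements all have the same
fixed-point subgroup `Z`

Part A: basic lemmas, the "no normalized coprime subgroup" principle, no involutions.
-/

set_option autoImplicit false
set_option linter.style.haveILetI false

namespace Cfsg.Agent.Lib.Helper12.FixZ

variable {Φ E : Type*} [Group Φ] [CommGroup E] (φ : Φ →* MulAut E) (Z : Subgroup E)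

/-- every nonidentity element of `Φ` has fixed-point subgroup exactly `Z` -/
def FixHyp : Prop := ∀ f : Φ, f ≠ 1 → ∀ e : E, φ f e = e ↔ e ∈ Z

variable {φ Z}

theorem FixHyp.apply_eq (h : FixHyp φ Z) (f : Φ) {z : E} (hz : z ∈ Z) : φ f z = z := by
  by_cases hf : f = 1
  · rw [hf, map_one]; rfl
  · exact (h f hf z).mpr hz

theorem apply_mul' (f g : Φ) (e : E) : φ (f * g) e = φ f (φ g e) := by
  rw [map_mul]; rfl

theorem apply_one' (e : E) : φ 1 e = e := by
  rw [map_one]; rfl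

theorem apply_pow_of_div_mem (h : FixHyp φ Z) {f : Φ} {e z : E} (hz : z ∈ Z)
    (hfe : φ f e = z * e) (n : ℕ) : φ (f ^ n) e = z ^ n * e := by
  induction n with
  | zero => rw [pow_zero, pow_zero, apply_one', one_mul]
  | succ n ih =>
    rw [pow_succ', apply_mul', ih, map_mul, h.apply_eq f (Z.pow_mem hz n), hfe, ← mul_assoc,
      ← pow_succ]

/-- lifting fixed points modulo `Z` in the coprime situation -/
theorem mem_of_coprime (h : FixHyp φ Z) {f : Φ} (hf : f ≠ 1) {e : E}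
    (hcop : (orderOf f).Coprime (orderOf e)) (hfe : φ f e * e⁻¹ ∈ Z) : e ∈ Z := by
  have hfe' : φ f e = (φ f e * e⁻¹) * e := by rw [inv_mul_cancel_right]
  have h1 : (φ f e * e⁻¹) ^ orderOf f = 1 := by
    have h2 := apply_pow_of_div_mem h hfe hfe' (orderOf f)
    rw [pow_orderOf_eq_one, apply_one'] at h2
    have h3 : (φ f e * e⁻¹) ^ orderOf f * e = 1 * e := by rw [one_mul]; exact h2.symm
    exact mul_right_cancel h3
  have h3 : (φ f e * e⁻¹) ^ orderOf e = 1 := by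
    rw [mul_pow, ← map_pow, inv_pow, pow_orderOf_eq_one, map_one, inv_one, mul_one]
  have hz1 : φ f e * e⁻¹ = 1 := by
    rw [← orderOf_eq_one_iff]
    exact Nat.eq_one_of_dvd_coprimes hcop (orderOf_dvd_of_pow_eq_one h1)
      (orderOf_dvd_of_pow_eq_one h3)
  exact (h f hf e).mp (mul_inv_eq_one.mp hz1)

/-- an element acting trivially modulo `Z` on a `p`-element and a `q`-element outside `Z` is `1` -/
theorem eq_one_of_trivial [Finite Φ] (h : FixHyp φ Z) {p q : ℕ} (hp : p.Prime) (hq : q.Prime)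
    (hpq : p ≠ q) {ap aq : E} (hapZ : ap ∉ Z) (hap : ∃ k : ℕ, ap ^ p ^ k = 1) (haqZ : aq ∉ Z)
    (haq : ∃ k : ℕ, aq ^ q ^ k = 1) {f : Φ} (hfp : φ f ap * ap⁻¹ ∈ Z)
    (hfq : φ f aq * aq⁻¹ ∈ Z) : f = 1 := by
  by_contra hf
  have ho1 : orderOf f ≠ 1 := fun h1 => hf (orderOf_eq_one_iff.mp h1)
  have hlp : (orderOf f).minFac.Prime := Nat.minFac_prime ho1
  have hld : (orderOf f).minFac ∣ orderOf f := Nat.minFac_dvd _
  have hog : orderOf (f ^ (orderOf f / (orderOf f).minFac)) = (orderOf f).minFac :=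
    orderOf_pow_orderOf_div (orderOf_pos f).ne' hld
  have hg1 : f ^ (orderOf f / (orderOf f).minFac) ≠ 1 := by
    intro h1
    rw [h1, orderOf_one] at hog
    exact hlp.one_lt.ne' hog.symm
  have key : ∀ a : E, φ f a * a⁻¹ ∈ Z →
      φ (f ^ (orderOf f / (orderOf f).minFac)) a * a⁻¹ ∈ Z := by
    intro a ha
    have h1 : φ f a = (φ f a * a⁻¹) * a := by rw [inv_mul_cancel_right]
    rw [apply_pow_of_div_mem h ha h1, mul_inv_cancel_right]
    exact Z.pow_mem ha _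
  have coprime_aux : ∀ (s : ℕ), s.Prime → (orderOf f).minFac ≠ s → ∀ a : E,
      (∃ k : ℕ, a ^ s ^ k = 1) →
      (orderOf (f ^ (orderOf f / (orderOf f).minFac))).Coprime (orderOf a) := by
    rintro s hs hls a ⟨k, hk⟩
    rw [hog]
    have hd : orderOf a ∣ s ^ k := orderOf_dvd_of_pow_eq_one hk
    exact Nat.Coprime.coprime_dvd_right hd
      (Nat.Coprime.pow_right k ((Nat.coprime_primes hlp hs).mpr hls))
  by_cases hls : (orderOf f).minFac = p
  · have hlq : (orderOf f).minFac ≠ q := fun h1 => hpq (hls.symm.trans h1)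
    exact haqZ (mem_of_coprime h hg1 (coprime_aux q hq hlq aq haq) (key aq hfq))
  · exact hapZ (mem_of_coprime h hg1 (coprime_aux p hp hls ap hap) (key ap hfp))

/-- the `s`-primary part of an abelian group -/
def sPart (E : Type*) [CommGroup E] (s : ℕ) : Subgroup E where
  carrier := {e | ∃ k : ℕ, e ^ s ^ k = 1}
  one_mem' := ⟨0, one_pow _⟩
  mul_mem' := by
    rintro a b ⟨k, hk⟩ ⟨l, hl⟩
    refine ⟨k + l, ?_⟩
    rw [mul_pow, pow_add, pow_mul, hk, one_pow, mul_comm (s ^ k), pow_mul, hl, one_pow, one_mul]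
  inv_mem' := by
    rintro a ⟨k, hk⟩
    exact ⟨k, by rw [inv_pow, hk, inv_one]⟩

theorem mem_sPart {s : ℕ} {e : E} : e ∈ sPart E s ↔ ∃ k : ℕ, e ^ s ^ k = 1 := Iff.rfl

theorem apply_mem_sPart (φ : Φ →* MulAut E) (f : Φ) {s : ℕ} {e : E} (he : e ∈ sPart E s) :
    φ f e ∈ sPart E s := by
  obtain ⟨k, hk⟩ := he
  exact ⟨k, by rw [← map_pow, hk, map_one]⟩

/-- **Key principle**: a nontrivial `s`-element cannot normalize a nontrivial `s'`-subgroup,
when there is an `s`-element of `E` outside `Z`. -/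
theorem no_normalized [Finite Φ] [Finite E] (h : FixHyp φ Z) {s : ℕ} [hs : Fact s.Prime] {a : E}
    (haZ : a ∉ Z) (has : ∃ k : ℕ, a ^ s ^ k = 1) {t : Φ} (ht1 : t ≠ 1)
    (hts : ∃ k : ℕ, t ^ s ^ k = 1) (X : Subgroup Φ) (hX : X ≠ ⊥) (hsX : ¬ s ∣ Nat.card X)
    (hnorm : ∀ x ∈ X, t * x * t⁻¹ ∈ X) : False := by
  classical
  haveI : Fintype ↥X := Fintype.ofFinite _
  let W : Subgroup E := Subgroup.closure {w | ∃ x ∈ X, ∃ e ∈ sPart E s, w = φ x e * e⁻¹}
  let θ : E →* E :=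
    { toFun := fun e => ∏ x : ↥X, φ (x : Φ) e
      map_one' := by simp
      map_mul' := fun a b => by simp [Finset.prod_mul_distrib] }
  have hθ : ∀ e, θ e = ∏ x : ↥X, φ (x : Φ) e := fun e => rfl
  have hθX : ∀ x₀ ∈ X, ∀ e, θ (φ x₀ e) = θ e := by
    intro x₀ hx₀ e
    rw [hθ, hθ]
    have h1 : ∀ x : ↥X, φ (x : Φ) (φ x₀ e) = φ ((x * ⟨x₀, hx₀⟩ : ↥X) : Φ) e := by
      intro x
      rw [Subgroup.coe_mul, apply_mul']
    rw [Finset.prod_congr rfl (fun x _ => h1 x)]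
    exact Equiv.prod_comp (Equiv.mulRight (⟨x₀, hx₀⟩ : ↥X)) (fun x : ↥X => φ (x : Φ) e)
  have hθW : ∀ w ∈ W, θ w = 1 := by
    have hle : W ≤ θ.ker := by
      rw [Subgroup.closure_le]
      rintro w ⟨x, hx, e, he, rfl⟩
      rw [SetLike.mem_coe, MonoidHom.mem_ker, map_mul, map_inv, hθX x hx, mul_inv_cancel]
    intro w hw
    exact MonoidHom.mem_ker.mp (hle hw)
  have hθZ : ∀ z ∈ Z, θ z = z ^ Nat.card X := by
    intro z hz
    have h1 : ∀ x ∈ (Finset.univ : Finset ↥X), φ (x : Φ) z = z := fun x _ => h.apply_eq _ hz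
    rw [hθ, Finset.prod_eq_pow_card h1, Finset.card_univ, Nat.card_eq_fintype_card]
  have hWs : W ≤ sPart E s := by
    rw [Subgroup.closure_le]
    rintro w ⟨x, hx, e, he, rfl⟩
    exact (sPart E s).mul_mem (apply_mem_sPart φ x he) ((sPart E s).inv_mem he)
  have hWZ : ∀ w ∈ W, w ∈ Z → w = 1 := by
    intro w hw hz
    have h1 : w ^ Nat.card X = 1 := by rw [← hθZ w hz]; exact hθW w hw
    obtain ⟨k, hk⟩ := hWs hw
    have hd1 : orderOf w ∣ Nat.card X := orderOf_dvd_of_pow_eq_one h1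
    have hd2 : orderOf w ∣ s ^ k := orderOf_dvd_of_pow_eq_one hk
    obtain ⟨i, -, hi⟩ := (Nat.dvd_prime_pow hs.out).mp hd2
    rcases Nat.eq_zero_or_pos i with h0 | hpos
    · rw [h0, pow_zero] at hi
      exact orderOf_eq_one_iff.mp hi
    · exfalso
      apply hsX
      exact dvd_trans (by rw [hi]; exact dvd_pow_self s hpos.ne') hd1
  obtain ⟨x₀, hx₀, hx₀1⟩ : ∃ x ∈ X, x ≠ 1 := by
    by_contra hcon
    push Not at hcon
    exact hX ((Subgroup.eq_bot_iff_forall _).mpr hcon)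
  have hw₀ : φ x₀ a * a⁻¹ ∈ W := Subgroup.subset_closure ⟨x₀, hx₀, a, has, rfl⟩
  have hw₀1 : φ x₀ a * a⁻¹ ≠ 1 := by
    intro h1
    exact haZ ((h x₀ hx₀1 a).mp (mul_inv_eq_one.mp h1))
  have htW : ∀ w ∈ W, φ t w ∈ W := by
    intro w hw
    induction hw using Subgroup.closure_induction with
    | mem w hw =>
      obtain ⟨x, hx, e, he, rfl⟩ := hw
      apply Subgroup.subset_closure
      refine ⟨t * x * t⁻¹, hnorm x hx, φ t e, apply_mem_sPart φ t he, ?_⟩
      have e1 : φ (t * x * t⁻¹) (φ t e) = φ t (φ x e) := by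
        rw [← apply_mul', inv_mul_cancel_right, apply_mul']
      rw [map_mul, map_inv, e1]
    | one => rw [map_one]; exact W.one_mem
    | mul a b _ _ iha ihb => rw [map_mul]; exact W.mul_mem iha ihb
    | inv a _ ih => rw [map_inv]; exact W.inv_mem ih
  have hpowW : ∀ n : ℕ, ∀ w ∈ W, φ (t ^ n) w ∈ W := by
    intro n
    induction n with
    | zero => intro w hw; rw [pow_zero, apply_one']; exact hw
    | succ n ih => intro w hw; rw [pow_succ', apply_mul']; exact htW _ (ih w hw)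
  have hTW : ∀ c ∈ Subgroup.zpowers t, ∀ w ∈ W, φ c w ∈ W := by
    intro c hc w hw
    obtain ⟨n, rfl⟩ := (Submonoid.mem_powers_iff _ _).mp (mem_powers_iff_mem_zpowers.mpr hc)
    exact hpowW n w hw
  have hT : IsPGroup s ↥(Subgroup.zpowers t) := by
    obtain ⟨k, hk⟩ := hts
    obtain ⟨j, -, hj⟩ := (Nat.dvd_prime_pow hs.out).mp (orderOf_dvd_of_pow_eq_one hk)
    exact IsPGroup.of_card (n := j) (by rw [Nat.card_zpowers, hj])
  letI act : MulAction ↥(Subgroup.zpowers t) ↥W :=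
    { smul := fun c w => ⟨φ (c : Φ) (w : E), hTW c c.2 w w.2⟩
      one_smul := fun w => Subtype.ext (by
        show φ ((1 : ↥(Subgroup.zpowers t)) : Φ) (w : E) = w
        rw [Subgroup.coe_one, apply_one'])
      mul_smul := fun c d w => Subtype.ext (by
        show φ ((c * d : ↥(Subgroup.zpowers t)) : Φ) (w : E) = φ c (φ d w)
        rw [Subgroup.coe_mul, apply_mul']) }
  have hWp : IsPGroup s ↥W := by
    intro w
    obtain ⟨k, hk⟩ := hWs w.2
    exact ⟨k, Subtype.ext (by rw [Subgroup.coe_pow, hk]; rfl)⟩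
  have hdvd : s ∣ Nat.card ↥W := by
    obtain ⟨n, hn⟩ := IsPGroup.iff_card.mp hWp
    have hWbot : W ≠ ⊥ := by
      intro hb
      apply hw₀1
      have := hw₀
      rw [hb, Subgroup.mem_bot] at this
      exact this
    have h1 : 1 < Nat.card ↥W := (Subgroup.one_lt_card_iff_ne_bot W).mpr hWbot
    rw [hn] at h1 ⊢
    have hn0 : n ≠ 0 := by
      rintro rfl
      simp at h1
    exact dvd_pow_self s hn0
  have hfix1 : (1 : ↥W) ∈ MulAction.fixedPoints ↥(Subgroup.zpowers t) ↥W := by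
    intro c
    apply Subtype.ext
    show φ (c : Φ) ((1 : ↥W) : E) = ((1 : ↥W) : E)
    rw [Subgroup.coe_one, map_one]
  obtain ⟨b, hb, hb1⟩ := hT.exists_fixed_point_of_prime_dvd_card_of_fixed_point ↥W hdvd hfix1
  have hbt : φ t (b : E) = (b : E) :=
    congrArg Subtype.val (hb ⟨t, Subgroup.mem_zpowers t⟩)
  have hbZ : (b : E) ∈ Z := (h t ht1 b).mp hbt
  apply hb1
  apply Subtype.ext
  rw [Subgroup.coe_one]
  exact (hWZ b b.2 hbZ).symm

/-- `Φ` contains no involution. -/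
theorem no_involution [Finite Φ] [Finite E] (h : FixHyp φ Z) {p q : ℕ} [hp : Fact p.Prime]
    [hq : Fact q.Prime] (hpq : p ≠ q) {ap aq : E} (hapZ : ap ∉ Z) (hap : ∃ k : ℕ, ap ^ p ^ k = 1)
    (haqZ : aq ∉ Z) (haq : ∃ k : ℕ, aq ^ q ^ k = 1) {tp tq : Φ} (htp1 : tp ≠ 1)
    (htp : ∃ k : ℕ, tp ^ p ^ k = 1) (htq1 : tq ≠ 1) (htq : ∃ k : ℕ, tq ^ q ^ k = 1)
    (τ : Φ) (hτ2 : τ ^ 2 = 1) : τ = 1 := by
  by_contra hτ1
  have inv_modZ : ∀ σ : Φ, σ ^ 2 = 1 → σ ≠ 1 → ∀ e : E, φ σ e * e ∈ Z := by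
    intro σ hσ2 hσ1 e
    apply (h σ hσ1 _).mp
    rw [map_mul, ← apply_mul', ← pow_two, hσ2, apply_one', mul_comm]
  have uniq : ∀ σ : Φ, σ ^ 2 = 1 → σ ≠ 1 → σ = τ := by
    intro σ hσ2 hσ1
    have triv : ∀ e : E, φ (τ * σ) e * e⁻¹ ∈ Z := by
      intro e
      have h1 : φ σ e = (φ σ e * e) * e⁻¹ := (mul_inv_cancel_right _ _).symm
      have hz' := inv_modZ σ hσ2 hσ1 e
      have hz := inv_modZ τ hτ2 hτ1 e
      rw [apply_mul', h1, map_mul, h.apply_eq τ hz', map_inv, mul_assoc, ← mul_inv]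
      exact Z.mul_mem hz' (Z.inv_mem hz)
    have hg : τ * σ = 1 :=
      eq_one_of_trivial h hp.out hq.out hpq hapZ hap haqZ haq (triv ap) (triv aq)
    have hτinv : τ⁻¹ = τ := by
      rw [inv_eq_iff_mul_eq_one, ← pow_two]
      exact hτ2
    rw [← hτinv]
    exact eq_inv_of_mul_eq_one_right hg
  have central : ∀ f : Φ, f * τ * f⁻¹ = τ := by
    intro f
    apply uniq
    · rw [conj_pow, hτ2, mul_one, mul_inv_cancel]
    · intro h1
      apply hτ1
      have : τ = f⁻¹ * (f * τ * f⁻¹) * f := by group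
      rw [this, h1, mul_one, inv_mul_cancel]
  have hoτ : orderOf τ = 2 := orderOf_eq_prime hτ2 hτ1
  have hXcard : Nat.card ↥(Subgroup.zpowers τ) = 2 := by rw [Nat.card_zpowers, hoτ]
  have hXbot : Subgroup.zpowers τ ≠ ⊥ := by
    intro hb
    apply hτ1
    have := Subgroup.mem_zpowers τ
    rw [hb, Subgroup.mem_bot] at this
    exact this
  have hnorm : ∀ t : Φ, ∀ x ∈ Subgroup.zpowers τ, t * x * t⁻¹ ∈ Subgroup.zpowers τ := by
    intro t x hx
    obtain ⟨k, rfl⟩ := Subgroup.mem_zpowers_iff.mp hx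
    rw [← conj_zpow, central t]
    exact Subgroup.zpow_mem_zpowers τ k
  by_cases hp2 : p = 2
  · have hq2 : ¬ q ∣ Nat.card ↥(Subgroup.zpowers τ) := by
      rw [hXcard]
      intro hd
      exact hpq (hp2.trans ((Nat.prime_dvd_prime_iff_eq hq.out Nat.prime_two).mp hd).symm)
    exact no_normalized h haqZ haq htq1 htq _ hXbot hq2 (hnorm tq)
  · have hp2' : ¬ p ∣ Nat.card ↥(Subgroup.zpowers τ) := by
      rw [hXcard]
      intro hd
      exact hp2 ((Nat.prime_dvd_prime_iff_eq hp.out Nat.prime_two).mp hd)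
    exact no_normalized h hapZ hap htp1 htp _ hXbot hp2' (hnorm tp)

end Cfsg.Agent.Lib.Helper12.FixZ
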