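import Mathlib
import Cfsg.Agent.Lib.Helper12.FixZA

/-!
# Groups of automorphisms of an abelian group whose nonidentity elements all have the same
fixed-point subgroup `Z`

Part B: Sylow subgroups are cyclic; two primes cannot both occur in `E/Z` and in `Φ`.
-/

set_option autoImplicit false
set_option linter.style.haveILetI false

namespace Cfsg.Agent.Lib.Helper12.FixZ

open Cfsg.Agent.Lib.Helper10 Cfsg.Agent.Lib.Helper19
open scoped commutatorElement

variable {Φ E : Type*} [Group Φ] [CommGroup E] {φ : Φ →* MulAut E} {Z : Subgroup E}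

/-- averaging lemma modulo `Z`: commuting elements of order `s` generate a cyclic group -/
theorem mem_zpowers_of_commute (h : FixHyp φ Z) {s s₁ : ℕ} [hs : Fact s.Prime] (hs₁ : s₁.Prime)
    (hne : s ≠ s₁) {e : E} (heZ : e ∉ Z) (hes : ∃ k : ℕ, e ^ s₁ ^ k = 1) (a b : Φ)
    (hab : a * b = b * a) (haq : a ^ s = 1) (hbq : b ^ s = 1) (ha : a ≠ 1) :
    b ∈ Subgroup.zpowers a := by
  by_contra hb
  have hb1 : b ≠ 1 := by
    rintro rfl
    exact hb (one_mem _)
  have hcomm : Commute a b := hab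
  have hne' : ∀ j : ZMod s, a * b ^ j.val ≠ 1 := by
    intro j hj
    have h1 : b ^ j.val = a⁻¹ := by
      rw [eq_inv_iff_mul_eq_one, ← (hcomm.pow_right _).eq]
      exact hj
    have hjq : j.val < s := ZMod.val_lt j
    have hcop : Nat.Coprime j.val s := by
      rw [Nat.coprime_comm]
      apply (Nat.Prime.coprime_iff_not_dvd hs.out).mpr
      intro hd
      rcases Nat.eq_zero_or_pos j.val with h0 | hpos
      · rw [h0, pow_zero] at h1
        apply ha
        rw [← inv_inv a, ← h1, inv_one]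
      · exact absurd (Nat.le_of_dvd hpos hd) (by omega)
    have hbez := Int.gcd_eq_gcd_ab (j.val : ℤ) (s : ℤ)
    rw [Int.gcd_natCast_natCast, hcop.gcd_eq_one] at hbez
    apply hb
    have h2 : b = (b ^ j.val) ^ (Int.gcdA j.val s) * (b ^ s) ^ (Int.gcdB j.val s) := by
      rw [← zpow_natCast, ← zpow_natCast, ← zpow_mul, ← zpow_mul, ← zpow_add, ← hbez]
      simp
    rw [h2, hbq, one_zpow, mul_one, h1, inv_zpow']
    exact Subgroup.zpow_mem_zpowers a _
  have hpowq : ∀ j : ZMod s, (a * b ^ j.val) ^ s = 1 := by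
    intro j
    rw [(hcomm.pow_right _).mul_pow, haq, ← pow_mul, mul_comm, pow_mul, hbq, one_pow, one_mul]
  have hZn : ∀ c : Φ, c ^ s = 1 → c ≠ 1 → ∀ v : E, normAlong φ s c v ∈ Z :=
    fun c hc hc1 v => (h c hc1 _).mp (normAlong_fixed φ s hc v)
  have h1 : ∏ j : ZMod s, normAlong φ s (a * b ^ j.val) e ∈ Z :=
    Subgroup.prod_mem Z (fun j _ => hZn _ (hpowq j) (hne' j) e)
  unfold normAlong at h1
  rw [Finset.prod_comm, Fintype.prod_eq_mul_prod_compl (0 : ZMod s)] at h1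
  have h0 : ∏ j : ZMod s, φ ((a * b ^ j.val) ^ (0 : ZMod s).val) e = e ^ s := by
    simp [ZMod.val_zero, ZMod.card]
  have hrest : ∏ i ∈ ({0}ᶜ : Finset (ZMod s)), ∏ j : ZMod s, φ ((a * b ^ j.val) ^ i.val) e ∈ Z := by
    apply Subgroup.prod_mem
    intro i hi
    have hi0 : i ≠ 0 := by simpa using hi
    have h2 : ∀ j : ZMod s, φ ((a * b ^ j.val) ^ i.val) e =
        φ (a ^ i.val) (φ (b ^ (j * i).val) e) := by
      intro j
      rw [(hcomm.pow_right _).mul_pow, ← pow_mul, pow_val_mul s hbq, map_mul]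
      rfl
    rw [Finset.prod_congr rfl (fun j _ => h2 j), ← map_prod]
    have h3 : ∏ j : ZMod s, φ (b ^ (j * i).val) e = normAlong φ s b e := by
      unfold normAlong
      exact Fintype.prod_equiv (Equiv.mulRight₀ i hi0) _ _ (fun j => rfl)
    rw [h3, h.apply_eq _ (hZn b hbq hb1 e)]
    exact hZn b hbq hb1 e
  rw [h0] at h1
  have hes' : e ^ s ∈ Z := (Subgroup.mul_mem_cancel_right Z hrest).mp h1
  obtain ⟨k, hk⟩ := hes
  have hcop : Nat.Coprime s (orderOf e) :=
    Nat.Coprime.coprime_dvd_right (orderOf_dvd_of_pow_eq_one hk)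
      (Nat.Coprime.pow_right k ((Nat.coprime_primes hs.out hs₁).mpr hne))
  obtain ⟨m, hm⟩ := exists_pow_eq_self_of_coprime hcop
  apply heZ
  rw [← hm]
  exact Z.pow_mem hes' m

/-- the data of the two-primes situation -/
structure Setup (φ : Φ →* MulAut E) (Z : Subgroup E) (p q : ℕ) : Prop where
  fix : FixHyp φ Z
  hp : p.Prime
  hq : q.Prime
  hpq : p ≠ q
  ex_ap : ∃ ap : E, ap ∉ Z ∧ ∃ k : ℕ, ap ^ p ^ k = 1
  ex_aq : ∃ aq : E, aq ∉ Z ∧ ∃ k : ℕ, aq ^ q ^ k = 1
  ex_tp : ∃ tp : Φ, tp ≠ 1 ∧ ∃ k : ℕ, tp ^ p ^ k = 1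
  ex_tq : ∃ tq : Φ, tq ≠ 1 ∧ ∃ k : ℕ, tq ^ q ^ k = 1

theorem Setup.no_invol [Finite Φ] [Finite E] {p q : ℕ} (S : Setup φ Z p q) (τ : Φ)
    (hτ : τ ^ 2 = 1) : τ = 1 := by
  haveI : Fact p.Prime := ⟨S.hp⟩
  haveI : Fact q.Prime := ⟨S.hq⟩
  obtain ⟨ap, hapZ, hap⟩ := S.ex_ap
  obtain ⟨aq, haqZ, haq⟩ := S.ex_aq
  obtain ⟨tp, htp1, htp⟩ := S.ex_tp
  obtain ⟨tq, htq1, htq⟩ := S.ex_tq
  exact no_involution S.fix S.hpq hapZ hap haqZ haq htp1 htp htq1 htq τ hτ

theorem Setup.no_two_elt [Finite Φ] [Finite E] {p q : ℕ} (S : Setup φ Z p q) (k : ℕ) :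
    ∀ g : Φ, g ^ 2 ^ k = 1 → g = 1 := by
  induction k with
  | zero => intro g hg; simpa using hg
  | succ k ih =>
    intro g hg
    apply S.no_invol
    apply ih
    rw [← pow_mul, ← pow_succ']
    exact hg

theorem Setup.sylow_isCyclic [Finite Φ] [Finite E] {p q : ℕ} (S : Setup φ Z p q) (s : ℕ)
    [hs : Fact s.Prime] (P : Sylow s Φ) : IsCyclic ↥(P : Subgroup Φ) := by
  by_cases hs2 : s = 2
  · have hsub : Subsingleton ↥(P : Subgroup Φ) := by
      refine ⟨fun x y => ?_⟩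
      have key : ∀ w : ↥(P : Subgroup Φ), w = 1 := by
        intro w
        obtain ⟨k, hk⟩ := P.2 w
        apply Subtype.ext
        rw [Subgroup.coe_one]
        apply S.no_two_elt k
        have h1 := congrArg Subtype.val hk
        rw [Subgroup.coe_pow, Subgroup.coe_one] at h1
        have h2 : (w : Φ) ^ 2 ^ k = (w : Φ) ^ s ^ k :=
          congrArg (fun n : ℕ => (w : Φ) ^ n ^ k) hs2.symm
        rw [h2]
        exact h1
      rw [key x, key y]
    exact isCyclic_of_subsingleton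
  · -- choose a prime `s₁ ≠ s` among `p, q` together with an `s₁`-element outside `Z`
    obtain ⟨s₁, hs₁, hne, e, heZ, hes⟩ : ∃ s₁ : ℕ, s₁.Prime ∧ s ≠ s₁ ∧ ∃ e : E, e ∉ Z ∧
        ∃ k : ℕ, e ^ s₁ ^ k = 1 := by
      by_cases hsp : s = p
      · obtain ⟨aq, haqZ, haq⟩ := S.ex_aq
        exact ⟨q, S.hq, fun h1 => S.hpq (hsp.symm.trans h1), aq, haqZ, haq⟩
      · obtain ⟨ap, hapZ, hap⟩ := S.ex_ap
        exact ⟨p, S.hp, hsp, ap, hapZ, hap⟩
    have hu : UniqueOrderP s ↥(P : Subgroup Φ) := by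
      intro x y hx hx1 hy
      haveI hnt : Nontrivial ↥(P : Subgroup Φ) := ⟨⟨x, 1, hx1⟩⟩
      have hcn : Nontrivial ↥(Subgroup.center ↥(P : Subgroup Φ)) := P.2.center_nontrivial
      obtain ⟨⟨z0, hz0⟩, hz01⟩ := exists_ne (1 : ↥(Subgroup.center ↥(P : Subgroup Φ)))
      have hz01' : z0 ≠ 1 := fun h0 => hz01 (Subtype.ext h0)
      obtain ⟨z, hzz0, hzs, hz1⟩ := exists_orderOf_eq_prime_zpowers P.2 z0 hz01'
      have hzc : z ∈ Subgroup.center ↥(P : Subgroup Φ) := (Subgroup.zpowers_le.mpr hz0) hzz0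
      have cz : ∀ w : ↥(P : Subgroup Φ), (z : Φ) * (w : Φ) = (w : Φ) * (z : Φ) := fun w => by
        have := (Subgroup.mem_center_iff.mp hzc) w
        exact (congrArg Subtype.val this).symm
      have pw : ∀ w : ↥(P : Subgroup Φ), w ^ s = 1 → (w : Φ) ^ s = 1 := fun w hw => by
        have := congrArg Subtype.val hw
        simpa using this
      have ne1 : ∀ w : ↥(P : Subgroup Φ), w ≠ 1 → (w : Φ) ≠ 1 := fun w hw h0 =>
        hw (Subtype.ext h0)
      have h1 : (z : Φ) ∈ Subgroup.zpowers (x : Φ) :=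
        mem_zpowers_of_commute S.fix hs₁ hne heZ hes (x : Φ) (z : Φ) (cz x).symm (pw x hx)
          (pw z hzs) (ne1 x hx1)
      have h2 : (y : Φ) ∈ Subgroup.zpowers (z : Φ) :=
        mem_zpowers_of_commute S.fix hs₁ hne heZ hes (z : Φ) (y : Φ) (cz y) (pw z hzs)
          (pw y hy) (ne1 z hz1)
      have h3 : (y : Φ) ∈ Subgroup.zpowers (x : Φ) := (Subgroup.zpowers_le.mpr h1) h2
      obtain ⟨k, hk⟩ := Subgroup.mem_zpowers_iff.mp h3
      refine Subgroup.mem_zpowers_iff.mpr ⟨k, ?_⟩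
      apply Subtype.ext
      rw [Subgroup.coe_zpow]
      exact hk
    rcases isCyclic_or_quaternion_of_uniqueOrderP P.2 hu with hc | ⟨h2, -⟩
    · exact hc
    · exact absurd h2 hs2

/-- **Main theorem**: the two-primes situation is impossible. -/
theorem Setup.false [Finite Φ] [Finite E] {p q : ℕ} (S : Setup φ Z p q) : False := by
  haveI : Fact p.Prime := ⟨S.hp⟩
  haveI : Fact q.Prime := ⟨S.hq⟩
  obtain ⟨ap, hapZ, hap⟩ := S.ex_ap
  obtain ⟨aq, haqZ, haq⟩ := S.ex_aq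
  obtain ⟨tp, htp1, htp⟩ := S.ex_tp
  obtain ⟨tq, htq1, htq⟩ := S.ex_tq
  haveI : IsZGroup Φ := ⟨fun s hs P => by
    haveI : Fact s.Prime := ⟨hs⟩
    exact S.sylow_isCyclic s P⟩
  obtain ⟨A, hAn, hAbot, hAcomm⟩ : ∃ A : Subgroup Φ, A.Normal ∧ A ≠ ⊥ ∧
      ∀ a ∈ A, ∀ b ∈ A, a * b = b * a := by
    by_cases hc : commutator Φ = ⊥
    · refine ⟨⊤, inferInstance, ?_, ?_⟩
      · intro htop
        apply htp1
        have h1 : tp ∈ (⊤ : Subgroup Φ) := Subgroup.mem_top _
        rw [htop, Subgroup.mem_bot] at h1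
        exact h1
      · intro a _ b _
        have h1 : ⁅a, b⁆ ∈ commutator Φ := by
          rw [commutator_def]
          exact Subgroup.commutator_mem_commutator (Subgroup.mem_top a) (Subgroup.mem_top b)
        rw [hc, Subgroup.mem_bot] at h1
        exact commutatorElement_eq_one_iff_mul_comm.mp h1
    · refine ⟨commutator Φ, inferInstance, hc, ?_⟩
      haveI hcyc : IsCyclic ↥(commutator Φ) := IsZGroup.isCyclic_commutator Φ
      intro a ha b hb
      have h1 := (IsCyclic.isMulCommutative (α := ↥(commutator Φ))).is_comm.comm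
        (⟨a, ha⟩ : ↥(commutator Φ)) ⟨b, hb⟩
      exact congrArg Subtype.val h1
  by_cases hpA : p ∣ Nat.card ↥A
  · let X : Subgroup Φ :=
      { carrier := {a | a ∈ A ∧ a ^ p = 1}
        one_mem' := ⟨A.one_mem, one_pow _⟩
        mul_mem' := by
          rintro a b ⟨ha, hap⟩ ⟨hb, hbp⟩
          refine ⟨A.mul_mem ha hb, ?_⟩
          rw [(show Commute a b from hAcomm a ha b hb).mul_pow, hap, hbp, one_mul]
        inv_mem' := by
          rintro a ⟨ha, hap⟩
          exact ⟨A.inv_mem ha, by rw [inv_pow, hap, inv_one]⟩ }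
    have hXmem : ∀ a : Φ, a ∈ X ↔ a ∈ A ∧ a ^ p = 1 := fun a => Iff.rfl
    have hXbot : X ≠ ⊥ := by
      obtain ⟨a, ha⟩ := exists_prime_orderOf_dvd_card' p hpA
      intro hb
      have h1 : (a : Φ) ∈ X := by
        rw [hXmem]
        refine ⟨a.2, ?_⟩
        have h2 := pow_orderOf_eq_one a
        rw [ha] at h2
        have h3 := congrArg Subtype.val h2
        rw [Subgroup.coe_pow, Subgroup.coe_one] at h3
        exact h3
      rw [hb, Subgroup.mem_bot] at h1
      have h2 : a = 1 := Subtype.ext h1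
      rw [h2, orderOf_one] at ha
      exact S.hp.one_lt.ne' ha.symm
    have hqX : ¬ q ∣ Nat.card ↥X := by
      have hXp : IsPGroup p ↥X := fun x => ⟨1, Subtype.ext (by
        rw [pow_one, Subgroup.coe_pow, Subgroup.coe_one]
        exact ((hXmem _).mp x.2).2)⟩
      obtain ⟨n, hn⟩ := IsPGroup.iff_card.mp hXp
      rw [hn]
      intro hd
      exact S.hpq ((Nat.prime_dvd_prime_iff_eq S.hq S.hp).mp (S.hq.dvd_of_dvd_pow hd)).symm
    have hnorm : ∀ x ∈ X, tq * x * tq⁻¹ ∈ X := by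
      intro x hx
      obtain ⟨hxA, hxp⟩ := (hXmem x).mp hx
      rw [hXmem]
      exact ⟨hAn.conj_mem x hxA tq, by rw [conj_pow, hxp, mul_one, mul_inv_cancel]⟩
    exact no_normalized S.fix haqZ haq htq1 htq X hXbot hqX hnorm
  · exact no_normalized S.fix hapZ hap htp1 htp A hAbot hpA (fun x hx => hAn.conj_mem x hx tp)

end Cfsg.Agent.Lib.Helper12.FixZ
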