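import Mathlib
import Cfsg.Prelude.Def_GeometricClasses
import Cfsg.Agent.Lib.Helper7.AschDefs
import Cfsg.Agent.Lib.Helper12.AschG3
import Cfsg.Agent.Lib.Helper23.S5630CoreF1

/-!
# Descent of a form to a subfield (class-5 exits of the form hubs S5662 / S5663 / S5673)   (helper12)

GENERIC in the field automorphism `σ` (`σ = refl` for bilinear forms, `σ = Frobenius` for unitary forms):

* `comm_of_semifix` : `comm_of_fix` of helper23 with a multiplier;
* `gram_rational`   : the matrix core.  `S` a set of matrices with entries in the subfield `F₁` whose commutant is the scalars, `G`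
  an invertible matrix with `sᵀ G σ(s) = c_s G`, `c_s ∈ F₁` for all `s ∈ S` (and `σ F₁ ⊆ F₁`)  ⟹  `ζ G` has entries in `F₁` for
  some `ζ ≠ 0` (coefficient comparison with respect to an `F₁`-basis of `F`, + Schur);
* `gram_semifix`    : `f (X u) (X v) = c f u v` ⟹ `Xᵀ G σ(X) = c G`;
* `exists_formRational` : the form version.  `R` absolutely irreducible, `B R B⁻¹` has entries in `F₁`, every `g ∈ R` multiplies the
  non-degenerate `σ`-sesquilinear form `f` by some `c_g ∈ F₁`  ⟹  `∃ ζ ≠ 0, IsFormRationalStructure f F₁ ζ B⁻¹`, together with the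
  entrywise statement for the Gram matrix.
-/

set_option autoImplicit false
set_option linter.unusedSectionVars false

namespace Cfsg.Agent.Lib.Helper12.FormDescent

open Matrix Cfsg.Geo Cfsg.Agent.Lib.Helper7.Asch Cfsg.Agent.Lib.Helper23.S5630CoreF

variable {F : Type*} [Field F] {n : ℕ}

/-- `comm_of_fix` with a multiplier -/
theorem comm_of_semifix (σ : F ≃+* F) (c : F) (G G' Gi X Y : Matrix (Fin n) (Fin n) F) (hXY : X * Y = 1)
    (hG1 : G * Gi = 1) (hG2 : Gi * G = 1)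
    (h1 : Xᵀ * G * X.map σ = c • G) (h2 : Xᵀ * G' * X.map σ = c • G') :
    (G' * Gi) * Xᵀ = Xᵀ * (G' * Gi) := by
  have hσ : X.map σ * Y.map σ = 1 := by
    have : (X * Y).map σ = (1 : Matrix (Fin n) (Fin n) F).map σ := by rw [hXY]
    rw [Matrix.map_mul] at this
    rw [this]
    exact Matrix.map_one σ (map_zero σ) (map_one σ)
  have e1 : Xᵀ * G = c • (G * Y.map σ) := by
    calc Xᵀ * G = Xᵀ * G * (X.map σ * Y.map σ) := by rw [hσ, mul_one]
      _ = (Xᵀ * G * X.map σ) * Y.map σ := by simp only [mul_assoc]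
      _ = c • (G * Y.map σ) := by rw [h1, Matrix.smul_mul]
  have e2 : Xᵀ * G' = c • (G' * Y.map σ) := by
    calc Xᵀ * G' = Xᵀ * G' * (X.map σ * Y.map σ) := by rw [hσ, mul_one]
      _ = (Xᵀ * G' * X.map σ) * Y.map σ := by simp only [mul_assoc]
      _ = c • (G' * Y.map σ) := by rw [h2, Matrix.smul_mul]
  have e3 : Gi * Xᵀ = c • (Y.map σ * Gi) := by
    calc Gi * Xᵀ = Gi * Xᵀ * (G * Gi) := by rw [hG1, mul_one]
      _ = Gi * (Xᵀ * G) * Gi := by simp only [mul_assoc]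
      _ = Gi * (c • (G * Y.map σ)) * Gi := by rw [e1]
      _ = c • ((Gi * G) * Y.map σ * Gi) := by
          rw [Matrix.mul_smul, Matrix.smul_mul]; simp only [mul_assoc]
      _ = c • (Y.map σ * Gi) := by rw [hG2, one_mul]
  calc G' * Gi * Xᵀ = G' * (Gi * Xᵀ) := by rw [mul_assoc]
    _ = G' * (c • (Y.map σ * Gi)) := by rw [e3]
    _ = (c • (G' * Y.map σ)) * Gi := by rw [Matrix.mul_smul, Matrix.smul_mul, mul_assoc]
    _ = (Xᵀ * G') * Gi := by rw [e2]
    _ = Xᵀ * (G' * Gi) := by rw [mul_assoc]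

/-- `coord` of a scalar multiple, the scalar in the subfield -/
theorem coord_smul (F₁ : Subfield F) {κ : Type*} [Fintype κ] (b : Module.Basis κ F₁ F) (k : κ) (c : F) (hc : c ∈ F₁)
    (M : Matrix (Fin n) (Fin n) F) :
    AschG3.coord F₁ b k (c • M) = c • AschG3.coord F₁ b k M := by
  have h1 : c • M = (c • (1 : Matrix (Fin n) (Fin n) F)) * M := by
    rw [Matrix.smul_mul, one_mul]
  rw [h1, AschG3.coord_mul_left F₁ b k M (c • (1 : Matrix (Fin n) (Fin n) F)), Matrix.smul_mul, one_mul]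
  intro i j
  rw [Matrix.smul_apply, Matrix.one_apply]
  split_ifs
  · rw [smul_eq_mul, mul_one]; exact hc
  · rw [smul_zero]; exact F₁.zero_mem

/-- **the matrix core**: an invertible solution `G` of the system `sᵀ G σ(s) = c_s G` (`s ∈ S`), whose coefficients lie in the subfield
`F₁` and whose group `S` has only scalar commutant, is a scalar multiple of a matrix over `F₁` -/
theorem gram_rational [Finite F] (F₁ : Subfield F) (σ : F ≃+* F) (hσ : ∀ x ∈ F₁, σ x ∈ F₁)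
    (S : Set (Matrix (Fin n) (Fin n) F)) (hent : ∀ s ∈ S, ∀ i j, s i j ∈ F₁)
    (hcomm : ∀ M : Matrix (Fin n) (Fin n) F, (∀ s ∈ S, M * s = s * M) → ∃ c : F, M = c • (1 : Matrix (Fin n) (Fin n) F))
    (hinv : ∀ s ∈ S, ∃ Y : Matrix (Fin n) (Fin n) F, s * Y = 1)
    (G : Matrix (Fin n) (Fin n) F) (hG : IsUnit G)
    (hfix : ∀ s ∈ S, ∃ c : F, c ∈ F₁ ∧ sᵀ * G * s.map σ = c • G) :
    ∃ ζ : F, ζ ≠ 0 ∧ ∀ i j, (ζ • G) i j ∈ F₁ := by
  classical
  rcases Nat.eq_zero_or_pos n with hn | hn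
  · subst hn
    exact ⟨1, one_ne_zero, fun i => i.elim0⟩
  have hdet : IsUnit G.det := (Matrix.isUnit_iff_isUnit_det _).mp hG
  have hG1 : G * G⁻¹ = 1 := Matrix.mul_nonsing_inv _ hdet
  have hG2 : G⁻¹ * G = 1 := Matrix.nonsing_inv_mul _ hdet
  have : Nonempty (Fin n) := ⟨⟨0, hn⟩⟩
  have hGne : G ≠ 0 := by
    intro h0
    rw [h0, zero_mul] at hG1
    exact zero_ne_one hG1
  have : Module.Finite F₁ F := Module.Finite.of_finite
  obtain ⟨b⟩ : Nonempty (Module.Basis (Module.Free.ChooseBasisIndex F₁ F) F₁ F) := ⟨Module.Free.chooseBasis F₁ F⟩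
  -- some coordinate matrix is non-zero
  have hex : ∃ k, AschG3.coord F₁ b k G ≠ 0 := by
    by_contra hne
    push Not at hne
    apply hGne
    rw [AschG3.eq_sum_coord F₁ b G]
    apply Finset.sum_eq_zero
    intro k _
    rw [hne k, smul_zero]
  obtain ⟨k, hk⟩ := hex
  obtain ⟨Gk, hGk⟩ : ∃ Gk : Matrix (Fin n) (Fin n) F, Gk = AschG3.coord F₁ b k G := ⟨_, rfl⟩
  have hGkent : ∀ i j, Gk i j ∈ F₁ := by
    intro i j
    rw [hGk]
    exact AschG3.coord_mem F₁ b k G i j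
  -- each coordinate matrix solves the same system
  have hfixk : ∀ s ∈ S, ∀ c : F, c ∈ F₁ → sᵀ * G * s.map σ = c • G → sᵀ * Gk * s.map σ = c • Gk := by
    intro s hs c hc h
    have h1 := congrArg (AschG3.coord F₁ b k) h
    rw [coord_smul F₁ b k c hc, AschG3.coord_mul_right F₁ b k (sᵀ * G) (s.map σ) (fun i j => hσ _ (hent s hs i j)),
      AschG3.coord_mul_left F₁ b k G sᵀ (fun i j => hent s hs j i)] at h1
    rw [hGk]
    exact h1
  -- Schur
  obtain ⟨M, hM⟩ : ∃ M : Matrix (Fin n) (Fin n) F, M = Gk * G⁻¹ := ⟨_, rfl⟩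
  have hcommM : ∀ s ∈ S, Mᵀ * s = s * Mᵀ := by
    intro s hs
    obtain ⟨Y, hY⟩ := hinv s hs
    obtain ⟨c, hc, h1⟩ := hfix s hs
    have h2 := hfixk s hs c hc h1
    have h3 : M * sᵀ = sᵀ * M := by
      rw [hM]; exact comm_of_semifix σ c _ _ _ _ _ hY hG1 hG2 h1 h2
    have h4 := congrArg Matrix.transpose h3
    rw [Matrix.transpose_mul, Matrix.transpose_mul, Matrix.transpose_transpose] at h4
    exact h4.symm
  obtain ⟨l, hl⟩ := hcomm Mᵀ hcommM
  have hMl : M = l • (1 : Matrix (Fin n) (Fin n) F) := by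
    have := congrArg Matrix.transpose hl
    rw [Matrix.transpose_transpose, Matrix.transpose_smul, Matrix.transpose_one] at this
    exact this
  have hGk' : Gk = l • G := by
    calc Gk = Gk * (G⁻¹ * G) := by rw [hG2, mul_one]
      _ = M * G := by rw [hM, mul_assoc]
      _ = l • G := by rw [hMl, Matrix.smul_mul, one_mul]
  refine ⟨l, ?_, ?_⟩
  · intro h0
    apply hk
    rw [← hGk, hGk', h0, zero_smul]
  · intro i j
    rw [← hGk']
    exact hGkent i j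

/-- `f (X u) (X v) = c f u v` in terms of Gram matrices -/
theorem gram_semifix (σ : F ≃+* F) (f : (Fin n → F) → (Fin n → F) → F) (hf : IsSesq σ f) (c : F)
    (X : Matrix (Fin n) (Fin n) F) (hX : ∀ u v, f (X *ᵥ u) (X *ᵥ v) = c * f u v) :
    Xᵀ * gramMatrix f * X.map σ = c • gramMatrix f := by
  ext a b
  have h := hX (Pi.single a 1) (Pi.single b 1)
  rw [sesq_repr σ f hf] at h
  have hG : f (Pi.single a 1) (Pi.single b 1) = gramMatrix f a b := rfl
  rw [hG, Matrix.mulVec_single_one, Matrix.mulVec_single_one] at h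
  rw [Matrix.smul_apply, smul_eq_mul, ← h]
  simp only [Matrix.mul_apply, Matrix.transpose_apply, Matrix.map_apply, dotProduct, mulVec,
    Matrix.col_apply, Finset.sum_mul, Finset.mul_sum]
  rw [Finset.sum_comm]
  refine Finset.sum_congr rfl (fun i _ => Finset.sum_congr rfl (fun j _ => ?_))
  ring

/-- the form `(u, v) ↦ f (P u) (P v)` is non-degenerate if `f` is and `P` is invertible -/
theorem nondegenerate_comp (f : (Fin n → F) → (Fin n → F) → F) (hnd : IsNondegenerateForm f) (P : GL (Fin n) F) :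
    IsNondegenerateForm (fun u v => f ((P : Matrix (Fin n) (Fin n) F) *ᵥ u) ((P : Matrix (Fin n) (Fin n) F) *ᵥ v)) := by
  intro v hv
  have hP2 : ((P⁻¹ : GL (Fin n) F) : Matrix (Fin n) (Fin n) F) * (P : Matrix (Fin n) (Fin n) F) = 1 := by
    rw [← Units.val_mul, inv_mul_cancel, Units.val_one]
  have hP1 : (P : Matrix (Fin n) (Fin n) F) * ((P⁻¹ : GL (Fin n) F) : Matrix (Fin n) (Fin n) F) = 1 := by
    rw [← Units.val_mul, mul_inv_cancel, Units.val_one]
  have hPv : (P : Matrix (Fin n) (Fin n) F) *ᵥ v ≠ 0 := by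
    intro h0
    apply hv
    have := congrArg (fun w => ((P⁻¹ : GL (Fin n) F) : Matrix (Fin n) (Fin n) F) *ᵥ w) h0
    simp only [Matrix.mulVec_mulVec, hP2, Matrix.one_mulVec, Matrix.mulVec_zero] at this
    exact this
  obtain ⟨⟨x, hx⟩, ⟨y, hy⟩⟩ := hnd _ hPv
  refine ⟨⟨((P⁻¹ : GL (Fin n) F) : Matrix (Fin n) (Fin n) F) *ᵥ x, ?_⟩,
    ⟨((P⁻¹ : GL (Fin n) F) : Matrix (Fin n) (Fin n) F) *ᵥ y, ?_⟩⟩
  · show f ((P : Matrix (Fin n) (Fin n) F) *ᵥ (((P⁻¹ : GL (Fin n) F) : Matrix (Fin n) (Fin n) F) *ᵥ x)) _ ≠ 0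
    rw [Matrix.mulVec_mulVec, hP1, Matrix.one_mulVec]
    exact hx
  · show f _ ((P : Matrix (Fin n) (Fin n) F) *ᵥ (((P⁻¹ : GL (Fin n) F) : Matrix (Fin n) (Fin n) F) *ᵥ y)) ≠ 0
    rw [Matrix.mulVec_mulVec, hP1, Matrix.one_mulVec]
    exact hy

/-- **descent of a form**: `R` absolutely irreducible with `B R B⁻¹` over `F₁`, every element of `R` multiplying the non-degenerate
`σ`-sesquilinear form `f` by a scalar of `F₁`; then the Gram matrix of `f` in the basis `B⁻¹` is `ζ⁻¹ ·` (a matrix over `F₁`) -/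
theorem exists_gram_rational [Finite F] (σ : F ≃+* F) (f : (Fin n → F) → (Fin n → F) → F) (hf : IsSesq σ f)
    (hnd : IsNondegenerateForm f) (F₁ : Subfield F) (hσ : ∀ x ∈ F₁, σ x ∈ F₁)
    (R : Subgroup (GL (Fin n) F)) (hR : AbsIrr R) (B : GL (Fin n) F)
    (hB : ∀ s ∈ matrixSet R, ∀ i j,
      ((B : Matrix (Fin n) (Fin n) F) * s * ((B⁻¹ : GL (Fin n) F) : Matrix (Fin n) (Fin n) F)) i j ∈ F₁)
    (hmult : ∀ g ∈ R, ∃ c : F, c ∈ F₁ ∧ ∀ u v, f ((g : Matrix (Fin n) (Fin n) F) *ᵥ u)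
      ((g : Matrix (Fin n) (Fin n) F) *ᵥ v) = c * f u v) :
    ∃ ζ : F, ζ ≠ 0 ∧ ∀ i j, (ζ • gramMatrix (fun u v => f (((B⁻¹ : GL (Fin n) F) : Matrix (Fin n) (Fin n) F) *ᵥ u)
      (((B⁻¹ : GL (Fin n) F) : Matrix (Fin n) (Fin n) F) *ᵥ v))) i j ∈ F₁ := by
  have hB1 : (B : Matrix (Fin n) (Fin n) F) * ((B⁻¹ : GL (Fin n) F) : Matrix (Fin n) (Fin n) F) = 1 := by
    rw [← Units.val_mul, mul_inv_cancel, Units.val_one]
  have hB2 : ((B⁻¹ : GL (Fin n) F) : Matrix (Fin n) (Fin n) F) * (B : Matrix (Fin n) (Fin n) F) = 1 := by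
    rw [← Units.val_mul, inv_mul_cancel, Units.val_one]
  have hf' := isSesq_comp σ f hf ((B⁻¹ : GL (Fin n) F) : Matrix (Fin n) (Fin n) F)
  have hnd' := nondegenerate_comp f hnd B⁻¹
  apply gram_rational F₁ σ hσ
    ((fun s : Matrix (Fin n) (Fin n) F => (B : Matrix (Fin n) (Fin n) F) * s *
      ((B⁻¹ : GL (Fin n) F) : Matrix (Fin n) (Fin n) F)) '' matrixSet R)
  · rintro _ ⟨s, hs, rfl⟩ i j
    exact hB s hs i j
  · intro M hM
    obtain ⟨c, hc⟩ := hR.2 (((B⁻¹ : GL (Fin n) F) : Matrix (Fin n) (Fin n) F) * M * (B : Matrix (Fin n) (Fin n) F)) (by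
      intro s hs
      have h1 := hM _ ⟨s, hs, rfl⟩
      calc ((B⁻¹ : GL (Fin n) F) : Matrix (Fin n) (Fin n) F) * M * (B : Matrix (Fin n) (Fin n) F) * s
          = ((B⁻¹ : GL (Fin n) F) : Matrix (Fin n) (Fin n) F) *
              (M * ((B : Matrix (Fin n) (Fin n) F) * s * ((B⁻¹ : GL (Fin n) F) : Matrix (Fin n) (Fin n) F))) *
              (B : Matrix (Fin n) (Fin n) F) := by
            simp only [Matrix.mul_assoc, hB2, Matrix.mul_one]
        _ = ((B⁻¹ : GL (Fin n) F) : Matrix (Fin n) (Fin n) F) *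
              ((B : Matrix (Fin n) (Fin n) F) * s * ((B⁻¹ : GL (Fin n) F) : Matrix (Fin n) (Fin n) F) * M) *
              (B : Matrix (Fin n) (Fin n) F) := by rw [h1]
        _ = s * (((B⁻¹ : GL (Fin n) F) : Matrix (Fin n) (Fin n) F) * M * (B : Matrix (Fin n) (Fin n) F)) := by
            simp only [Matrix.mul_assoc]
            rw [← Matrix.mul_assoc ((B⁻¹ : GL (Fin n) F) : Matrix (Fin n) (Fin n) F) (B : Matrix (Fin n) (Fin n) F),
              hB2, Matrix.one_mul])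
    refine ⟨c, ?_⟩
    calc M = (B : Matrix (Fin n) (Fin n) F) *
          (((B⁻¹ : GL (Fin n) F) : Matrix (Fin n) (Fin n) F) * M * (B : Matrix (Fin n) (Fin n) F)) *
          ((B⁻¹ : GL (Fin n) F) : Matrix (Fin n) (Fin n) F) := by
          simp only [Matrix.mul_assoc, hB1, Matrix.mul_one]
          rw [← Matrix.mul_assoc, hB1, Matrix.one_mul]
      _ = c • (1 : Matrix (Fin n) (Fin n) F) := by
          rw [hc, Matrix.mul_smul, Matrix.mul_one, Matrix.smul_mul, hB1]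
  · rintro _ ⟨s, ⟨x, hx, rfl⟩, rfl⟩
    refine ⟨(B : Matrix (Fin n) (Fin n) F) * ((x⁻¹ : GL (Fin n) F) : Matrix (Fin n) (Fin n) F) *
      ((B⁻¹ : GL (Fin n) F) : Matrix (Fin n) (Fin n) F), ?_⟩
    have hx1 : (x : Matrix (Fin n) (Fin n) F) * ((x⁻¹ : GL (Fin n) F) : Matrix (Fin n) (Fin n) F) = 1 := by
      rw [← Units.val_mul, mul_inv_cancel, Units.val_one]
    calc (B : Matrix (Fin n) (Fin n) F) * (x : Matrix (Fin n) (Fin n) F) *
          ((B⁻¹ : GL (Fin n) F) : Matrix (Fin n) (Fin n) F) *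
          ((B : Matrix (Fin n) (Fin n) F) * ((x⁻¹ : GL (Fin n) F) : Matrix (Fin n) (Fin n) F) *
          ((B⁻¹ : GL (Fin n) F) : Matrix (Fin n) (Fin n) F))
        = (B : Matrix (Fin n) (Fin n) F) * ((x : Matrix (Fin n) (Fin n) F) *
          (((B⁻¹ : GL (Fin n) F) : Matrix (Fin n) (Fin n) F) * (B : Matrix (Fin n) (Fin n) F)) *
          ((x⁻¹ : GL (Fin n) F) : Matrix (Fin n) (Fin n) F)) *
          ((B⁻¹ : GL (Fin n) F) : Matrix (Fin n) (Fin n) F) := by simp only [Matrix.mul_assoc]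
      _ = 1 := by rw [hB2, Matrix.mul_one, hx1, Matrix.mul_one, hB1]
  · exact gram_isUnit σ _ hf' hnd'
  · rintro _ ⟨s, ⟨x, hx, rfl⟩, rfl⟩
    obtain ⟨c, hc, hcf⟩ := hmult x hx
    refine ⟨c, hc, ?_⟩
    apply gram_semifix σ _ hf'
    intro u v
    show f (((B⁻¹ : GL (Fin n) F) : Matrix (Fin n) (Fin n) F) *ᵥ
        (((B : Matrix (Fin n) (Fin n) F) * (x : Matrix (Fin n) (Fin n) F) *
          ((B⁻¹ : GL (Fin n) F) : Matrix (Fin n) (Fin n) F)) *ᵥ u))
      (((B⁻¹ : GL (Fin n) F) : Matrix (Fin n) (Fin n) F) *ᵥ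
        (((B : Matrix (Fin n) (Fin n) F) * (x : Matrix (Fin n) (Fin n) F) *
          ((B⁻¹ : GL (Fin n) F) : Matrix (Fin n) (Fin n) F)) *ᵥ v)) = _
    have e : ∀ w : Fin n → F, ((B⁻¹ : GL (Fin n) F) : Matrix (Fin n) (Fin n) F) *ᵥ
        (((B : Matrix (Fin n) (Fin n) F) * (x : Matrix (Fin n) (Fin n) F) *
          ((B⁻¹ : GL (Fin n) F) : Matrix (Fin n) (Fin n) F)) *ᵥ w) =
        (x : Matrix (Fin n) (Fin n) F) *ᵥ (((B⁻¹ : GL (Fin n) F) : Matrix (Fin n) (Fin n) F) *ᵥ w) := by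
      intro w
      rw [Matrix.mulVec_mulVec, Matrix.mulVec_mulVec, ← Matrix.mul_assoc, ← Matrix.mul_assoc, hB2, Matrix.one_mul]
    rw [e, e, hcf]

/-- the same in the vocabulary of the frozen classes -/
theorem exists_formRational [Finite F] (σ : F ≃+* F) (f : (Fin n → F) → (Fin n → F) → F) (hf : IsSesq σ f)
    (hnd : IsNondegenerateForm f) (F₁ : Subfield F) (hσ : ∀ x ∈ F₁, σ x ∈ F₁)
    (R : Subgroup (GL (Fin n) F)) (hR : AbsIrr R) (B : GL (Fin n) F)
    (hB : ∀ s ∈ matrixSet R, ∀ i j,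
      ((B : Matrix (Fin n) (Fin n) F) * s * ((B⁻¹ : GL (Fin n) F) : Matrix (Fin n) (Fin n) F)) i j ∈ F₁)
    (hmult : ∀ g ∈ R, ∃ c : F, c ∈ F₁ ∧ ∀ u v, f ((g : Matrix (Fin n) (Fin n) F) *ᵥ u)
      ((g : Matrix (Fin n) (Fin n) F) *ᵥ v) = c * f u v) :
    ∃ ζ : F, ζ ≠ 0 ∧ IsFormRationalStructure f F₁ ζ B⁻¹ := by
  obtain ⟨ζ, hζ, hG⟩ := exists_gram_rational σ f hf hnd F₁ hσ R hR B hB hmult
  refine ⟨ζ, hζ, ?_⟩
  intro u v hu hv
  have hf' := isSesq_comp σ f hf ((B⁻¹ : GL (Fin n) F) : Matrix (Fin n) (Fin n) F)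
  have h1 := sesq_repr σ _ hf' u v
  rw [h1, ← smul_eq_mul, ← dotProduct_smul, ← Matrix.smul_mulVec]
  simp only [dotProduct, mulVec]
  apply F₁.sum_mem
  intro a _
  apply F₁.mul_mem (hu a)
  apply F₁.sum_mem
  intro b' _
  exact F₁.mul_mem (hG a b') (hσ _ (hv b'))

end Cfsg.Agent.Lib.Helper12.FormDescent
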