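import Mathlib

/-!
# Frobenius norm argument and nilpotent endomorphism counting

* `pow_card_eq_one_of_norm_trivial`: `L` acts on the commutative group `V` through
  `ρ : L →* Monoid.End V`; `M` a finite subgroup, `g` normalizing `M` with `g ^ p = 1` and no
  nonidentity element of `M` commuting with `g`; `C_V(M) = 1`.  If the norm `∏_{i<p} ρ (g^i)` is trivial
  then `v ^ |M| = 1` for all `v`.
* `card_eq_pow_of_nilpotent`: a finite additive group `A` of exponent `p` with an endomorphism `T`,
  `T ^ p = 0`, `T ^ (p - 1) ≠ 0` and `|ker T| ≤ p` has order `p ^ p`.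
-/

set_option autoImplicit false

namespace Cfsg.Agent.Lib.Helper12.FrobNorm

open scoped BigOperators

theorem pow_card_eq_one_of_norm_trivial {L V : Type*} [Group L] [CommGroup V] (ρ : L →* Monoid.End V)
    (M : Subgroup L) [Finite M] (g : L) {p : ℕ} (hp : p.Prime)
    (hgM : g ∈ Subgroup.normalizer (M : Set L)) (hgp : g ^ p = 1)
    (hfrob : ∀ m ∈ M, m * g = g * m → m = 1)
    (hM : ∀ v : V, (∀ m ∈ M, ρ m v = v) → v = 1)
    (hN : ∀ v : V, ∏ i ∈ Finset.range p, ρ (g ^ i) v = 1) (v : V) : v ^ Nat.card M = 1 := by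
  classical
  have : Fintype M := Fintype.ofFinite M
  have hmul : ∀ (a b : L) (w : V), ρ (a * b) w = ρ a (ρ b w) := by
    intro a b w
    rw [map_mul]; rfl
  have hone : ∀ w : V, ρ 1 w = w := by
    intro w
    rw [map_one]; rfl
  have hNM : ∀ w : V, ∏ m : M, ρ (m : L) w = 1 := by
    intro w
    apply hM
    intro m₀ hm₀
    rw [map_prod]
    refine Fintype.prod_equiv (Equiv.mulLeft (⟨m₀, hm₀⟩ : M)) _ _ ?_
    intro m
    simp
  -- powers of g
  have hfrob' : ∀ i : ℕ, 0 < i → i < p → ∀ m ∈ M, m * g ^ i = g ^ i * m → m = 1 := by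
    intro i hi0 hip m hm hc
    apply hfrob m hm
    have hcop : Nat.Coprime i p := ((Nat.Prime.coprime_iff_not_dvd hp).mpr
      (fun h => absurd (Nat.le_of_dvd hi0 h) (not_le.mpr hip))).symm
    -- g is a power of g^i
    have hord : orderOf g ∣ p := orderOf_dvd_of_pow_eq_one hgp
    have hcop' : Nat.Coprime i (orderOf g) := Nat.Coprime.coprime_dvd_right hord hcop
    obtain ⟨j, hj⟩ := exists_pow_eq_self_of_coprime hcop'
    have hc' : Commute m (g ^ i) := hc
    have := (hc'.pow_right j).eq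
    rwa [hj] at this
  have hgiM : ∀ i : ℕ, g ^ i ∈ Subgroup.normalizer (M : Set L) := fun i => pow_mem hgM i
  have h1 : ∏ m : M, ρ (m : L) (∏ i ∈ Finset.range p, ρ (g ^ i) (ρ ((m : L)⁻¹) v)) = 1 := by
    apply Finset.prod_eq_one
    intro m _
    rw [hN, map_one]
  have h2 : ∀ m : M, ρ (m : L) (∏ i ∈ Finset.range p, ρ (g ^ i) (ρ ((m : L)⁻¹) v)) =
      ∏ i ∈ Finset.range p, ρ ((m : L) * g ^ i * (m : L)⁻¹) v := by
    intro m
    rw [map_prod]
    apply Finset.prod_congr rfl
    intro i _
    rw [hmul, hmul]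
  rw [Finset.prod_congr rfl (fun m _ => h2 m), Finset.prod_comm] at h1
  have h3 : ∀ i ∈ Finset.range p, i ≠ 0 → ∏ m : M, ρ ((m : L) * g ^ i * (m : L)⁻¹) v = 1 := by
    intro i hi hi0
    have hip : i < p := Finset.mem_range.mp hi
    have hi0' : 0 < i := Nat.pos_of_ne_zero hi0
    have hmem : ∀ m : M, (g ^ i)⁻¹ * m * g ^ i * (m : L)⁻¹ ∈ M := by
      intro m
      apply M.mul_mem _ (M.inv_mem m.2)
      have := (Subgroup.mem_normalizer_iff.mp (Subgroup.inv_mem _ (hgiM i)) (m : L)).mp m.2
      simpa using this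
    let e : M → M := fun m => ⟨(g ^ i)⁻¹ * m * g ^ i * (m : L)⁻¹, hmem m⟩
    have he : Function.Injective e := by
      intro m m' hmm'
      have h4 : (g ^ i)⁻¹ * m * g ^ i * (m : L)⁻¹ = (g ^ i)⁻¹ * m' * g ^ i * (m' : L)⁻¹ :=
        congrArg Subtype.val hmm'
      have h5 : ((m' : L)⁻¹ * m) * g ^ i = g ^ i * ((m' : L)⁻¹ * m) := by
        have h6 : (m : L) * g ^ i * (m : L)⁻¹ = m' * g ^ i * (m' : L)⁻¹ := by
          have := congrArg (fun z => (g ^ i) * z) h4
          simpa [mul_assoc] using this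
        calc ((m' : L)⁻¹ * m) * g ^ i = (m' : L)⁻¹ * (m * g ^ i * (m : L)⁻¹) * m := by group
          _ = (m' : L)⁻¹ * (m' * g ^ i * (m' : L)⁻¹) * m := by rw [h6]
          _ = g ^ i * ((m' : L)⁻¹ * m) := by group
      have h7 := hfrob' i hi0' hip _ (M.mul_mem (M.inv_mem m'.2) m.2) h5
      apply Subtype.ext
      have : (m : L) = m' := by
        have := congrArg (fun z => (m' : L) * z) h7
        simpa using this
      exact this
    have hb := Finite.injective_iff_bijective.mp he
    have h8 : ∏ m : M, ρ ((m : L) * g ^ i * (m : L)⁻¹) v = ∏ m : M, ρ (g ^ i * (e m : L)) v := by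
      apply Finset.prod_congr rfl
      intro m _
      congr 2
      show (m : L) * g ^ i * (m : L)⁻¹ = g ^ i * ((g ^ i)⁻¹ * m * g ^ i * (m : L)⁻¹)
      group
    rw [h8, Fintype.prod_bijective e hb (fun m => ρ (g ^ i * (e m : L)) v)
      (fun m' => ρ (g ^ i * (m' : L)) v) (fun _ => rfl)]
    have h9 : ∏ m' : M, ρ (g ^ i * (m' : L)) v = ρ (g ^ i) (∏ m' : M, ρ (m' : L) v) := by
      rw [map_prod]
      apply Finset.prod_congr rfl
      intro m' _
      rw [hmul]
    rw [h9, hNM, map_one]
  have h0mem : 0 ∈ Finset.range p := Finset.mem_range.mpr hp.pos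
  rw [Finset.prod_eq_single_of_mem 0 h0mem (fun i hi hi0 => h3 i hi hi0)] at h1
  simpa [Finset.prod_const, Finset.card_univ, Nat.card_eq_fintype_card, hone] using h1


section Nilpotent

variable {A : Type*} [AddCommGroup A]

/-- kernel of `T ^ j` -/
def kerPow (T : AddMonoid.End A) (j : ℕ) : AddSubgroup A := AddMonoidHom.ker (T ^ j : A →+ A)

theorem mem_kerPow (T : AddMonoid.End A) (j : ℕ) (a : A) : a ∈ kerPow T j ↔ (T ^ j) a = 0 :=
  AddMonoidHom.mem_ker

theorem mem_kerPow_succ (T : AddMonoid.End A) (j : ℕ) (a : A) :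
    a ∈ kerPow T (j + 1) ↔ T a ∈ kerPow T j := by
  rw [mem_kerPow, mem_kerPow, pow_succ]
  rfl

theorem kerPow_mono (T : AddMonoid.End A) (j : ℕ) : kerPow T j ≤ kerPow T (j + 1) := by
  intro a ha
  rw [mem_kerPow] at ha
  rw [mem_kerPow, pow_succ']
  show T ((T ^ j) a) = 0
  rw [ha, map_zero]

theorem kerPow_zero (T : AddMonoid.End A) : kerPow T 0 = ⊥ := by
  ext a
  rw [mem_kerPow, pow_zero, AddSubgroup.mem_bot]
  rfl

theorem kerPow_stable (T : AddMonoid.End A) (j : ℕ) (h : kerPow T j = kerPow T (j + 1)) :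
    ∀ k, kerPow T (j + k) = kerPow T j := by
  intro k
  induction k with
  | zero => rfl
  | succ k ih =>
    apply le_antisymm
    · intro a ha
      rw [← add_assoc, mem_kerPow_succ] at ha
      -- T a ∈ kerPow (j+k) = kerPow j, so a ∈ kerPow (j+1) = kerPow j
      rw [ih] at ha
      rw [h, mem_kerPow_succ]
      exact ha
    · rw [← ih, ← add_assoc]
      exact kerPow_mono T (j + k)

variable [Finite A]

theorem card_kerPow_succ_le (T : AddMonoid.End A) (j : ℕ) :
    Nat.card (kerPow T (j + 1)) ≤ Nat.card (kerPow T 1) * Nat.card (kerPow T j) := by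
  let f : kerPow T (j + 1) →+ A := (T : A →+ A).comp (kerPow T (j + 1)).subtype
  have h1 : Nat.card f.ker * f.ker.index = Nat.card (kerPow T (j + 1)) := AddSubgroup.card_mul_index _
  have h2 : f.ker.index = Nat.card f.range := AddSubgroup.index_ker f
  have h3 : Nat.card f.range ≤ Nat.card (kerPow T j) := by
    apply AddSubgroup.card_le_of_le
    rintro _ ⟨x, rfl⟩
    exact (mem_kerPow_succ T j x.1).mp x.2
  have h4 : Nat.card f.ker ≤ Nat.card (kerPow T 1) := by
    apply Nat.card_le_card_of_injective (fun x : f.ker => (⟨x.1.1, by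
      have := x.2
      rw [AddMonoidHom.mem_ker] at this
      rw [mem_kerPow, pow_one]
      exact this⟩ : kerPow T 1))
    intro x y hxy
    have := congrArg Subtype.val hxy
    exact Subtype.ext (Subtype.ext this)
  rw [← h1, h2]
  exact Nat.mul_le_mul h4 h3

/-- A finite additive `p`-group `A` with an endomorphism `T`, `T ^ p = 0`, `T ^ (p-1) ≠ 0`,
`|ker T| ≤ p` has order `p ^ p`. -/
theorem card_eq_pow_of_nilpotent {p : ℕ} (hp : p.Prime) (hA : ∃ n, Nat.card A = p ^ n)
    (T : AddMonoid.End A) (hker : Nat.card (kerPow T 1) ≤ p)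
    (hTp : T ^ p = 0) (hTp1 : T ^ (p - 1) ≠ 0) : Nat.card A = p ^ p := by
  have htop : kerPow T p = ⊤ := by
    ext a
    rw [mem_kerPow, hTp]
    simp
  have hne : kerPow T (p - 1) ≠ ⊤ := by
    intro h
    apply hTp1
    ext a
    have : a ∈ kerPow T (p - 1) := by rw [h]; trivial
    rw [mem_kerPow] at this
    rw [this]; rfl
  -- upper bound
  have hup : ∀ j, Nat.card (kerPow T j) ≤ p ^ j := by
    intro j
    induction j with
    | zero => rw [kerPow_zero, AddSubgroup.card_bot, pow_zero]
    | succ j ih =>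
      calc Nat.card (kerPow T (j + 1)) ≤ Nat.card (kerPow T 1) * Nat.card (kerPow T j) :=
            card_kerPow_succ_le T j
        _ ≤ p * p ^ j := Nat.mul_le_mul hker ih
        _ = p ^ (j + 1) := by ring
  -- strictness
  have hstrict : ∀ j, j ≤ p - 1 → kerPow T j ≠ kerPow T (j + 1) := by
    intro j hj h
    have h1 := kerPow_stable T j h (p - j)
    have hpj : j + (p - j) = p := by have := hp.one_le; omega
    rw [hpj, htop] at h1
    -- kerPow j = ⊤ but kerPow j ≤ kerPow (p-1) ≠ ⊤
    have h2 : kerPow T j ≤ kerPow T (p - 1) := by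
      have hmono : ∀ k, kerPow T j ≤ kerPow T (j + k) := by
        intro k
        induction k with
        | zero => exact le_rfl
        | succ k ih => exact ih.trans (by rw [← add_assoc]; exact kerPow_mono T (j + k))
      have := hmono (p - 1 - j)
      rwa [show j + (p - 1 - j) = p - 1 by omega] at this
    rw [← h1] at h2
    exact hne (top_le_iff.mp h2)
  obtain ⟨n, hn⟩ := hA
  have hlow : ∀ j, j ≤ p → p ^ j ≤ Nat.card (kerPow T j) := by
    intro j
    induction j with
    | zero => intro _; rw [kerPow_zero, AddSubgroup.card_bot, pow_zero]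
    | succ j ih =>
      intro hj
      have ih' := ih (by omega)
      have hlt : kerPow T j < kerPow T (j + 1) :=
        lt_of_le_of_ne (kerPow_mono T j) (hstrict j (by omega))
      have hdvd : Nat.card (kerPow T j) ∣ Nat.card (kerPow T (j + 1)) :=
        AddSubgroup.card_dvd_of_le hlt.le
      obtain ⟨k, hk⟩ := hdvd
      have hk1 : k ≠ 1 := by
        intro hk1
        rw [hk1, mul_one] at hk
        exact hlt.ne (AddSubgroup.eq_of_le_of_card_ge hlt.le hk.le)
      have hkdvd : k ∣ p ^ n := by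
        rw [← hn]
        exact (Dvd.intro_left _ hk.symm).trans (AddSubgroup.card_addSubgroup_dvd_card _)
      obtain ⟨e, -, he⟩ := (Nat.dvd_prime_pow hp).mp hkdvd
      have he0 : e ≠ 0 := by
        intro h0; rw [h0, pow_zero] at he; exact hk1 he
      have hpk : p ≤ k := by
        rw [he]
        calc p = p ^ 1 := (pow_one p).symm
          _ ≤ p ^ e := Nat.pow_le_pow_right hp.pos (Nat.pos_of_ne_zero he0)
      rw [hk, pow_succ]
      exact Nat.mul_le_mul ih' hpk
  have h1 := hup p
  have h2 := hlow p le_rfl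
  rw [htop, AddSubgroup.card_top] at h1 h2
  exact le_antisymm h1 h2

end Nilpotent

end Cfsg.Agent.Lib.Helper12.FrobNorm
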