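import Mathlib

/-!
# Reflexive sesquilinear forms: totally isotropic and nondegenerate subspaces
-/

set_option autoImplicit false
set_option linter.unusedSectionVars false

namespace Cfsg.Agent.Lib.Helper12.HU

open Module Submodule

section basic

variable {F V : Type*} [Field F] [AddCommGroup V] [Module F V] {σ : F →+* F}
variable (B : V →ₛₗ[σ] V →ₗ[F] F)

/-- totally isotropic subspaces -/
def TI (W : Submodule F V) : Prop := ∀ u ∈ W, ∀ v ∈ W, B u v = 0

/-- the form is nondegenerate on the subspace -/
def NondegOn (S : Submodule F V) : Prop := ∀ u ∈ S, (∀ v ∈ S, B u v = 0) → u = 0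

/-- orthogonal subspaces -/
def Orth (S T : Submodule F V) : Prop := ∀ u ∈ S, ∀ v ∈ T, B u v = 0

/-- the (right) perpendicular space -/
def perp (S : Submodule F V) : Submodule F V where
  carrier := {v | ∀ u ∈ S, B u v = 0}
  add_mem' := by
    intro a b ha hb u hu
    rw [map_add, ha u hu, hb u hu, add_zero]
  zero_mem' := by
    intro u _
    rw [map_zero]
  smul_mem' := by
    intro c a ha u hu
    rw [map_smul, ha u hu, smul_zero]

set_option linter.unusedVariables false

/-- the perpendicular space inside a subspace -/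
def perpIn (V' S : Submodule F V) : Submodule F V := V' ⊓ perp B S

variable {B}

theorem mem_perp {S : Submodule F V} {v : V} : v ∈ perp B S ↔ ∀ u ∈ S, B u v = 0 := Iff.rfl

theorem mem_perpIn {V' S : Submodule F V} {v : V} :
    v ∈ perpIn B V' S ↔ v ∈ V' ∧ ∀ u ∈ S, B u v = 0 := Iff.rfl

theorem perpIn_le (V' S : Submodule F V) : perpIn B V' S ≤ V' := inf_le_left

theorem orth_perpIn (V' S : Submodule F V) : Orth B S (perpIn B V' S) :=
  fun u hu v hv => (mem_perpIn.mp hv).2 u hu

theorem Orth.symm (hR : B.IsRefl) {S T : Submodule F V} (h : Orth B S T) : Orth B T S :=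
  fun u hu v hv => hR _ _ (h v hv u hu)

theorem Orth.mono {S T S' T' : Submodule F V} (h : Orth B S T) (hS : S' ≤ S) (hT : T' ≤ T) :
    Orth B S' T' := fun u hu v hv => h u (hS hu) v (hT hv)

theorem Orth.sup_right {S T T' : Submodule F V} (h : Orth B S T) (h' : Orth B S T') :
    Orth B S (T ⊔ T') := by
  intro u hu v hv
  obtain ⟨t, ht, t', ht', rfl⟩ := mem_sup.mp hv
  rw [map_add, h u hu t ht, h' u hu t' ht', add_zero]

theorem Orth.sup_left {S S' T : Submodule F V} (h : Orth B S T) (h' : Orth B S' T) :
    Orth B (S ⊔ S') T := by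
  intro u hu v hv
  obtain ⟨s, hs, s', hs', rfl⟩ := mem_sup.mp hu
  rw [map_add, LinearMap.add_apply, h s hs v hv, h' s' hs' v hv, add_zero]

theorem Orth.disjoint (hR : B.IsRefl) {S T : Submodule F V} (h : Orth B S T)
    (hS : NondegOn B S) : S ⊓ T = ⊥ := by
  rw [eq_bot_iff]
  intro u hu
  rw [mem_bot]
  apply hS u hu.1
  intro v hv
  exact hR _ _ (h v hv u hu.2)

theorem TI.mono {W W' : Submodule F V} (h : TI B W) (hle : W' ≤ W) : TI B W' :=
  fun u hu v hv => h u (hle hu) v (hle hv)

theorem ti_bot : TI B (⊥ : Submodule F V) := by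
  intro u hu v _
  rw [(mem_bot F).mp hu, map_zero, LinearMap.zero_apply]

theorem TI.sup (hR : B.IsRefl) {W W' : Submodule F V} (h : TI B W) (h' : TI B W')
    (ho : Orth B W W') : TI B (W ⊔ W') := by
  intro u hu v hv
  obtain ⟨a, ha, a', ha', rfl⟩ := mem_sup.mp hu
  obtain ⟨b, hb, b', hb', rfl⟩ := mem_sup.mp hv
  simp only [map_add, LinearMap.add_apply, h a ha b hb, h' a' ha' b' hb', ho a ha b' hb',
    (ho.symm hR) a' ha' b hb, add_zero]

theorem nondegOn_sup (hR : B.IsRefl) {S T : Submodule F V} (h : Orth B S T)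
    (hS : NondegOn B S) (hT : NondegOn B T) : NondegOn B (S ⊔ T) := by
  intro z hz hz0
  obtain ⟨s, hs, t, ht, rfl⟩ := mem_sup.mp hz
  have hs0 : s = 0 := by
    apply hS s hs
    intro v hv
    have := hz0 v (mem_sup_left hv)
    rwa [map_add, LinearMap.add_apply, (h.symm hR) t ht v hv, add_zero] at this
  have ht0 : t = 0 := by
    apply hT t ht
    intro v hv
    have := hz0 v (mem_sup_right hv)
    rwa [map_add, LinearMap.add_apply, h s hs v hv, zero_add] at this
  rw [hs0, ht0, add_zero]

/-- a summand of an orthogonal decomposition of a nondegenerate space is nondegenerate -/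
theorem nondegOn_of_orth_sup (_hR : B.IsRefl) {S T V' : Submodule F V} (h : Orth B S T)
    (hsup : S ⊔ T = V') (hV' : NondegOn B V') : NondegOn B S := by
  intro u hu hu0
  apply hV' u (hsup ▸ mem_sup_left hu)
  intro v hv
  rw [← hsup] at hv
  obtain ⟨s, hs, t, ht, rfl⟩ := mem_sup.mp hv
  rw [map_add, hu0 s hs, h u hu t ht, add_zero]

variable [FiniteDimensional F V]

/-- rank–nullity bound for the perpendicular space -/
theorem finrank_le_add_perpIn (V' S : Submodule F V) :
    finrank F V' ≤ finrank F S + finrank F (perpIn B V' S) := by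
  classical
  let b := Module.finBasis F S
  let ψ : V' →ₗ[F] (Fin (finrank F S) → F) :=
    { toFun := fun v i => B (b i : V) (v : V)
      map_add' := by
        intro x y
        funext i
        simp only [Submodule.coe_add, map_add, Pi.add_apply]
      map_smul' := by
        intro c x
        funext i
        simp only [Submodule.coe_smul, map_smul, Pi.smul_apply, RingHom.id_apply] }
  have hψ : ∀ (v : V') i, ψ v i = B (b i : V) (v : V) := fun _ _ => rfl
  have hker : (LinearMap.ker ψ).map V'.subtype = perpIn B V' S := by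
    ext v
    rw [Submodule.mem_map, mem_perpIn]
    constructor
    · rintro ⟨w, hw, rfl⟩
      refine ⟨w.2, ?_⟩
      intro u hu
      rw [LinearMap.mem_ker] at hw
      have hu' := b.sum_repr ⟨u, hu⟩
      have hu2 : u = ∑ i, (b.repr ⟨u, hu⟩ i) • (b i : V) := by
        have h3 := congrArg Subtype.val hu'
        rw [Submodule.coe_sum] at h3
        simp only [Submodule.coe_smul] at h3
        exact h3.symm
      rw [hu2, map_sum, LinearMap.sum_apply]
      apply Finset.sum_eq_zero
      intro i _
      rw [map_smulₛₗ, LinearMap.smul_apply]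
      have : B (b i : V) (V'.subtype w) = 0 := by
        have := congrFun hw i
        rwa [hψ] at this
      rw [this, smul_zero]
    · rintro ⟨hv, hv0⟩
      refine ⟨⟨v, hv⟩, ?_, rfl⟩
      rw [LinearMap.mem_ker]
      funext i
      rw [hψ]
      exact hv0 _ (b i).2
  have h1 := LinearMap.finrank_range_add_finrank_ker ψ
  have h2 : finrank F (LinearMap.range ψ) ≤ finrank F S := by
    have := Submodule.finrank_le (LinearMap.range ψ)
    rwa [Module.finrank_fin_fun] at this
  have h3 : finrank F (LinearMap.ker ψ) = finrank F (perpIn B V' S) := by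
    rw [← hker]
    exact (finrank_map_subtype_eq V' (LinearMap.ker ψ)).symm
  omega

/-- dimension comparison through a pairing which is nondegenerate on one side -/
theorem finrank_le_of_pairing (S T : Submodule F V)
    (h : ∀ t ∈ T, (∀ s ∈ S, B s t = 0) → t = 0) : finrank F T ≤ finrank F S := by
  have h1 := finrank_le_add_perpIn (B := B) T S
  have h2 : perpIn B T S = ⊥ := by
    rw [eq_bot_iff]
    intro t ht
    rw [mem_bot]
    exact h t (mem_perpIn.mp ht).1 (mem_perpIn.mp ht).2
  rw [h2, finrank_bot, add_zero] at h1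
  exact h1

theorem sup_perpIn (hR : B.IsRefl) {V' S : Submodule F V} (hS : S ≤ V') (hSn : NondegOn B S) :
    S ⊔ perpIn B V' S = V' := by
  have hdis : S ⊓ perpIn B V' S = ⊥ := (orth_perpIn V' S).disjoint hR hSn
  have hle : S ⊔ perpIn B V' S ≤ V' := sup_le hS (perpIn_le V' S)
  apply Submodule.eq_of_le_of_finrank_le hle
  have h1 := Submodule.finrank_sup_add_finrank_inf_eq S (perpIn B V' S)
  rw [hdis, finrank_bot, add_zero] at h1
  rw [h1]
  exact finrank_le_add_perpIn V' S

theorem finrank_perpIn (hR : B.IsRefl) {V' S : Submodule F V} (hS : S ≤ V')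
    (hSn : NondegOn B S) : finrank F S + finrank F (perpIn B V' S) = finrank F V' := by
  have hdis : S ⊓ perpIn B V' S = ⊥ := (orth_perpIn V' S).disjoint hR hSn
  have h1 := Submodule.finrank_sup_add_finrank_inf_eq S (perpIn B V' S)
  rw [hdis, finrank_bot, add_zero, sup_perpIn hR hS hSn] at h1
  exact h1.symm

theorem nondegOn_perpIn (hR : B.IsRefl) {V' S : Submodule F V} (hS : S ≤ V')
    (hSn : NondegOn B S) (hV' : NondegOn B V') : NondegOn B (perpIn B V' S) := by
  have h := (orth_perpIn (B := B) V' S).symm hR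
  exact nondegOn_of_orth_sup hR h (by rw [sup_comm]; exact sup_perpIn hR hS hSn) hV'

/-- a totally isotropic subspace of a nondegenerate space has at most half the dimension -/
theorem ti_le_half (hR : B.IsRefl) {S U : Submodule F V} (hUS : U ≤ S) (hSn : NondegOn B S)
    (hU : TI B U) : 2 * finrank F U ≤ finrank F S := by
  -- a complement of `perpIn S U` inside `S`
  obtain ⟨C', hC'⟩ := Submodule.exists_isCompl (perpIn B S U)
  have hPS : perpIn B S U ≤ S := perpIn_le S U
  set C := S ⊓ C' with hC
  have hsup : perpIn B S U ⊔ C = S := by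
    rw [hC, inf_comm S C', ← sup_inf_assoc_of_le C' hPS, hC'.sup_eq_top, top_inf_eq]
  have hinf : perpIn B S U ⊓ C = ⊥ := by
    rw [eq_bot_iff]
    calc perpIn B S U ⊓ C ≤ perpIn B S U ⊓ C' := inf_le_inf_left _ inf_le_right
      _ = ⊥ := hC'.inf_eq_bot
  have h1 := Submodule.finrank_sup_add_finrank_inf_eq (perpIn B S U) C
  rw [hinf, hsup, finrank_bot, add_zero] at h1
  have h2 : finrank F U ≤ finrank F C := by
    apply finrank_le_of_pairing (B := B) C U
    intro u hu hu0
    apply hSn u (hUS hu)
    intro v hv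
    rw [← hsup] at hv
    obtain ⟨t, ht, c, hc, rfl⟩ := mem_sup.mp hv
    rw [map_add, (mem_perpIn.mp ht).2 u hu, hR _ _ (hu0 c hc), add_zero]
  have h3 : finrank F U ≤ finrank F (perpIn B S U) :=
    Submodule.finrank_mono (fun u hu => mem_perpIn.mpr ⟨hUS hu, fun u' hu' => hU u' hu' u hu⟩)
  omega

end basic

end Cfsg.Agent.Lib.Helper12.HU
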