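import Mathlib
import Cfsg.Agent.Lib.Helper12.HU1
import Cfsg.Agent.Lib.Helper15.PSpK2

/-!
# Isometries of reflexive sesquilinear forms: hyperbolic partners and the peeling engine
-/

set_option autoImplicit false
set_option linter.unusedSectionVars false
set_option linter.unusedVariables false

namespace Cfsg.Agent.Lib.Helper12.HU

open Module Submodule Polynomial Cfsg.Agent.Lib.Helper15.PSub Cfsg.Agent.Lib.Helper15.PDec

section iso

variable {F V : Type*} [Field F] [AddCommGroup V] [Module F V] {σ : F →+* F}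
variable {B : V →ₛₗ[σ] V →ₗ[F] F}

theorem iso_pow (y : V →ₗ[F] V) (hiso : ∀ u v, B (y u) (y v) = B u v) (n : ℕ) (u v : V) :
    B ((y ^ n) u) ((y ^ n) v) = B u v := by
  induction n with
  | zero => simp
  | succ n ih => rw [pow_succ', Module.End.mul_apply, Module.End.mul_apply, hiso, ih]

theorem perpIn_invt (y : V →ₗ[F] V) (hiso : ∀ u v, B (y u) (y v) = B u v)
    {V' S : Submodule F V} (hV' : V' ∈ Module.End.invtSubmodule y) (hS : S.map y = S) :
    perpIn B V' S ∈ Module.End.invtSubmodule y := by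
  rw [Module.End.mem_invtSubmodule_iff_map_le]
  rintro _ ⟨t, ht, rfl⟩
  have ht' := mem_perpIn.mp ht
  refine mem_perpIn.mpr ⟨hV' ht'.1, ?_⟩
  intro u hu
  rw [← hS] at hu
  obtain ⟨u', hu', rfl⟩ := hu
  rw [hiso]
  exact ht'.2 u' hu'

theorem map_perpIn_of_inj [FiniteDimensional F V] (y : V →ₗ[F] V) (hinj : Function.Injective y)
    (hiso : ∀ u v, B (y u) (y v) = B u v) {V' S : Submodule F V} (hV' : V'.map y = V')
    (hS : S.map y = S) : (perpIn B V' S).map y = perpIn B V' S := by
  apply map_eq_of_invt y hinj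
  apply perpIn_invt y hiso _ hS
  rw [Module.End.mem_invtSubmodule_iff_map_le, hV']

/-- an irreducible invariant subspace which is not totally isotropic is nondegenerate -/
theorem nondeg_of_irred (hR : B.IsRefl) (y : V →ₗ[F] V)
    (hiso : ∀ u v, B (y u) (y v) = B u v) (M : Submodule F V) (hMx : M.map y = M)
    (hirr : ∀ S : Submodule F V, S ≤ M → S ∈ Module.End.invtSubmodule y → S ≠ ⊥ → S = M)
    (hnti : ¬ TI B M) : NondegOn B M := by
  unfold TI at hnti
  push Not at hnti
  obtain ⟨u₀, hu₀, w₀, hw₀, huw⟩ := hnti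
  have hMinv : M ∈ Module.End.invtSubmodule y := by
    rw [Module.End.mem_invtSubmodule_iff_map_le, hMx]
  have hRinv : perpIn B M M ∈ Module.End.invtSubmodule y := perpIn_invt y hiso hMinv hMx
  have hRb : perpIn B M M = ⊥ := by
    by_contra hne
    have := hirr _ (perpIn_le M M) hRinv hne
    have hw : w₀ ∈ perpIn B M M := by rw [this]; exact hw₀
    exact huw ((mem_perpIn.mp hw).2 u₀ hu₀)
  intro u hu hu0
  have : u ∈ perpIn B M M := mem_perpIn.mpr ⟨hu, fun w hw => hR _ _ (hu0 w hw)⟩
  rw [hRb] at this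
  exact (mem_bot F).mp this

variable [FiniteDimensional F V]

/-- a totally isotropic invariant subspace of a nondegenerate invariant space has an invariant
partner of the same dimension making a nondegenerate sum -/
theorem pair_block (hR : B.IsRefl) (y : V →ₗ[F] V)
    (hiso : ∀ u v, B (y u) (y v) = B u v) (hss : Module.End.IsSemisimple y)
    (hinj : Function.Injective y) (N' : Submodule F V) (hN'x : N'.map y = N')
    (hN'n : NondegOn B N') (W : Submodule F V) (hWN : W ≤ N')
    (hWinv : W ∈ Module.End.invtSubmodule y) (hWti : TI B W) :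
    ∃ R' : Submodule F V, R' ≤ N' ∧ R' ∈ Module.End.invtSubmodule y ∧ W ⊓ R' = ⊥ ∧
      finrank F R' = finrank F W ∧ NondegOn B (W ⊔ R') := by
  have hWx : W.map y = W := map_eq_of_invt y hinj W hWinv
  have hN'inv : N' ∈ Module.End.invtSubmodule y := by
    rw [Module.End.mem_invtSubmodule_iff_map_le, hN'x]
  have hWpinv : perpIn B N' W ∈ Module.End.invtSubmodule y := perpIn_invt y hiso hN'inv hWx
  obtain ⟨R', hR'N, hR'inv, hinf, hsup, -⟩ :=
    exists_compl_in y hss N' (perpIn B N' W) hN'inv hWpinv (perpIn_le N' W)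
  have ha : ∀ w ∈ R', (∀ u ∈ W, B u w = 0) → w = 0 := by
    intro w hw h0
    have : w ∈ perpIn B N' W ⊓ R' := ⟨mem_perpIn.mpr ⟨hR'N hw, h0⟩, hw⟩
    rw [hinf] at this
    exact (mem_bot F).mp this
  have hb : ∀ u ∈ W, (∀ w ∈ R', B w u = 0) → u = 0 := by
    intro u hu h0
    apply hN'n u (hWN hu)
    intro v hv
    rw [← hsup] at hv
    obtain ⟨t, ht, w, hw, rfl⟩ := mem_sup.mp hv
    rw [map_add, (mem_perpIn.mp ht).2 u hu, zero_add]
    exact hR _ _ (h0 w hw)
  have hWWp : W ≤ perpIn B N' W :=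
    fun u hu => mem_perpIn.mpr ⟨hWN hu, fun u' hu' => hWti u' hu' u hu⟩
  refine ⟨R', hR'N, hR'inv, ?_, ?_, ?_⟩
  · rw [eq_bot_iff, ← hinf]
    exact inf_le_inf_right _ hWWp
  · exact le_antisymm (finrank_le_of_pairing W R' ha) (finrank_le_of_pairing R' W hb)
  · intro z hz hz0
    obtain ⟨u, hu, w, hw, rfl⟩ := mem_sup.mp hz
    have hw0 : w = 0 := by
      apply ha w hw
      intro u' hu'
      have := hz0 u' (mem_sup_left hu')
      rw [map_add, LinearMap.add_apply, hWti u hu u' hu', zero_add] at this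
      exact hR _ _ this
    have hu0 : u = 0 := by
      apply hb u hu
      intro w' hw'
      have := hz0 w' (mem_sup_right hw')
      rw [hw0, add_zero] at this
      exact hR _ _ this
    rw [hu0, hw0, add_zero]

/-- **Peeling engine**: a source of invariant totally isotropic `i`-spaces yields invariant totally
isotropic `i j`-spaces -/
theorem peel_engine (hR : B.IsRefl) (y : V →ₗ[F] V)
    (hiso : ∀ u v, B (y u) (y v) = B u v) (hss : Module.End.IsSemisimple y)
    (hinj : Function.Injective y) (i θ : ℕ) (S₀ : Submodule F V)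
    (hsrc : ∀ S : Submodule F V, S ≤ S₀ → S.map y = S → NondegOn B S → θ < finrank F S →
      ∃ U : Submodule F V, U ≤ S ∧ U ∈ Module.End.invtSubmodule y ∧ TI B U ∧ finrank F U = i) :
    ∀ (j : ℕ) (S : Submodule F V), S ≤ S₀ → S.map y = S → NondegOn B S →
      θ + 2 * i * j < finrank F S + 2 * i →
      ∃ W : Submodule F V, W ≤ S ∧ W ∈ Module.End.invtSubmodule y ∧ TI B W ∧
        finrank F W = i * j := by
  intro j
  induction j with
  | zero =>
    intro S _ _ _ _
    exact ⟨⊥, bot_le, Module.End.invtSubmodule.bot_mem y, ti_bot, by simp⟩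
  | succ j ih =>
    intro S hS₀ hSx hSn hlt
    have hlt' : θ + 2 * i * j < finrank F S := by
      have : 2 * i * (j + 1) = 2 * i * j + 2 * i := by ring
      omega
    obtain ⟨U, hUS, hUinv, hUti, hUdim⟩ := hsrc S hS₀ hSx hSn (by omega)
    obtain ⟨R', hR'S, hR'inv, hUR', hR'dim, hHn⟩ :=
      pair_block hR y hiso hss hinj S hSx hSn U hUS hUinv hUti
    have hHinv : U ⊔ R' ∈ Module.End.invtSubmodule y :=
      Module.End.invtSubmodule.sup_mem hUinv hR'inv
    have hHS : U ⊔ R' ≤ S := sup_le hUS hR'S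
    have hHx : (U ⊔ R').map y = U ⊔ R' := map_eq_of_invt y hinj _ hHinv
    have hHdim : finrank F ↥(U ⊔ R') = 2 * i := by
      have := Submodule.finrank_sup_add_finrank_inf_eq U R'
      rw [hUR', finrank_bot, add_zero, hR'dim, hUdim] at this
      omega
    have hS'x := map_perpIn_of_inj y hinj hiso hSx hHx
    have hS'n := nondegOn_perpIn hR hHS hHn hSn
    have hS'dim := finrank_perpIn hR (V' := S) hHS hHn
    obtain ⟨W', hW'S, hW'inv, hW'ti, hW'dim⟩ :=
      ih (perpIn B S (U ⊔ R')) ((perpIn_le S _).trans hS₀) hS'x hS'n (by omega)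
    have horth : Orth B U W' := fun u hu w hw =>
      (mem_perpIn.mp (hW'S hw)).2 u (mem_sup_left hu)
    refine ⟨U ⊔ W', sup_le hUS (hW'S.trans (perpIn_le S _)),
      Module.End.invtSubmodule.sup_mem hUinv hW'inv, hUti.sup hR hW'ti horth, ?_⟩
    have hdis : U ⊓ W' = ⊥ := by
      rw [eq_bot_iff]
      intro v hv
      have h1 : v ∈ U ⊔ R' := mem_sup_left hv.1
      have h2 := mem_perpIn.mp (hW'S hv.2)
      have := hHn v h1 (fun u hu => hR _ _ (h2.2 u hu))
      rw [this]
      exact zero_mem _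
    have := Submodule.finrank_sup_add_finrank_inf_eq U W'
    rw [hdis, finrank_bot, add_zero, hUdim, hW'dim] at this
    rw [this]
    ring

/-- dimensions of invariant nondegenerate subspaces, when every nonzero one contains an invariant
totally isotropic `i`-space -/
theorem two_mul_dvd_of_source (hR : B.IsRefl) (y : V →ₗ[F] V)
    (hiso : ∀ u v, B (y u) (y v) = B u v) (hss : Module.End.IsSemisimple y)
    (hinj : Function.Injective y) (i : ℕ) (hi : 0 < i) (S₀ : Submodule F V)
    (hsrc : ∀ S : Submodule F V, S ≤ S₀ → S.map y = S → NondegOn B S → 0 < finrank F S →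
      ∃ U : Submodule F V, U ≤ S ∧ U ∈ Module.End.invtSubmodule y ∧ TI B U ∧ finrank F U = i) :
    ∀ (d : ℕ) (S : Submodule F V), finrank F S = d → S ≤ S₀ → S.map y = S → NondegOn B S →
      2 * i ∣ d := by
  intro d
  induction d using Nat.strong_induction_on with
  | _ d ih =>
    intro S hd hS₀ hSx hSn
    by_cases h0 : d = 0
    · rw [h0]
      exact dvd_zero _
    obtain ⟨U, hUS, hUinv, hUti, hUdim⟩ := hsrc S hS₀ hSx hSn (by omega)
    obtain ⟨R', hR'S, hR'inv, hUR', hR'dim, hHn⟩ :=
      pair_block hR y hiso hss hinj S hSx hSn U hUS hUinv hUti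
    have hHinv : U ⊔ R' ∈ Module.End.invtSubmodule y :=
      Module.End.invtSubmodule.sup_mem hUinv hR'inv
    have hHS : U ⊔ R' ≤ S := sup_le hUS hR'S
    have hHx : (U ⊔ R').map y = U ⊔ R' := map_eq_of_invt y hinj _ hHinv
    have hHdim : finrank F ↥(U ⊔ R') = 2 * i := by
      have := Submodule.finrank_sup_add_finrank_inf_eq U R'
      rw [hUR', finrank_bot, add_zero, hR'dim, hUdim] at this
      omega
    have hS'x := map_perpIn_of_inj y hinj hiso hSx hHx
    have hS'n := nondegOn_perpIn hR hHS hHn hSn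
    have hS'dim := finrank_perpIn hR (V' := S) hHS hHn
    have hlt : finrank F ↥(perpIn B S (U ⊔ R')) < d := by omega
    have := ih _ hlt (perpIn B S (U ⊔ R')) rfl ((perpIn_le S _).trans hS₀) hS'x hS'n
    have h2 : d = 2 * i + finrank F ↥(perpIn B S (U ⊔ R')) := by omega
    rw [h2]
    exact Dvd.dvd.add (dvd_refl _) this

end iso

end Cfsg.Agent.Lib.Helper12.HU
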