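import Mathlib
import Cfsg.Agent.Lib.Helper12.HU2
import Cfsg.Agent.Lib.Helper16.UnitaryCount
import Cfsg.Agent.Lib.Helper6.Unitary

/-!
# Chevalley–Warning source of invariant totally isotropic subspaces for hermitian forms
-/

set_option autoImplicit false
set_option linter.unusedSectionVars false
set_option linter.unusedVariables false
set_option linter.style.haveILetI false

namespace Cfsg.Agent.Lib.Helper12.HU

open Module Submodule Polynomial Cfsg.Agent.Lib.Helper15.PSub Cfsg.Agent.Lib.Helper15.PDec
  Cfsg.Agent.Lib.Helper6 Cfsg.Agent.Lib.Helper16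

section cw

variable {F V : Type*} [Field F] [Fintype F] [AddCommGroup V] [Module F V]
  [FiniteDimensional F V] {q : ℕ}

/-- **Chevalley–Warning** for hermitian forms: there is a nonzero vector `v` of a subspace of
dimension at least `2 k + 2` with `B v v = 0` and `B (g j v) v = 0` for `k` given maps `g j` -/
theorem exists_common_isotropic_herm (hF : Fintype.card F = q ^ 2)
    (B : V →ₛₗ[conjQ hF] V →ₗ[F] F) (hS : B.IsSymm) {k : ℕ} (g : Fin k → (V →ₗ[F] V))
    (K : Submodule F V) (hK : 2 * k + 2 ≤ finrank F K) :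
    ∃ v ∈ K, v ≠ 0 ∧ B v v = 0 ∧ ∀ j, B (g j v) v = 0 := by
  classical
  have hq : 2 ≤ q := two_le_q hF
  obtain ⟨F₀, _, _, hF₀⟩ := exists_field_card_sqrt hF
  obtain ⟨ι⟩ := exists_ringHom_of_card_pow (n := 2) (by norm_num) hF₀ hF
  letI : Algebra F₀ F := ι.toAlgebra
  letI : Module F₀ V := Module.compHom V ι
  have hsmulV : ∀ (a : F₀) (v : V), a • v = ι a • v := fun _ _ => rfl
  have hsmulF : ∀ (a : F₀) (b : F), a • b = ι a * b := fun a b => by
    rw [Algebra.smul_def]; rfl
  haveI : IsScalarTower F₀ F V := ⟨fun a b v => by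
    rw [hsmulV, hsmulF, mul_smul]⟩
  have : Finite V := Module.finite_of_finite F
  haveI : FiniteDimensional F₀ V := Module.Finite.of_finite
  haveI : FiniteDimensional F₀ F := Module.Finite.of_finite
  have hfix : ∀ a : F₀, conjQ hF (ι a) = ι a := by
    intro a
    rw [conjQ_apply, ← map_pow, ← hF₀, FiniteField.pow_card]
  obtain ⟨p, hp⟩ := CharP.exists F₀
  haveI : Fact p.Prime := ⟨CharP.char_is_prime F₀ p⟩
  -- the dimension of `F` over `F₀`
  have hd2 : finrank F₀ F = 2 := by
    have h1 := Module.card_eq_pow_finrank (K := F₀) (V := F)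
    rw [hF, hF₀] at h1
    exact (Nat.pow_right_injective hq h1).symm
  -- the dimension of `K` over `F₀`
  have hdK : finrank F₀ ↥(K.restrictScalars F₀) = 2 * finrank F K := by
    have h1 : Nat.card ↥(K.restrictScalars F₀) = Nat.card ↥K :=
      Nat.card_congr (Equiv.subtypeEquivRight (fun x => Submodule.restrictScalars_mem F₀ K x))
    have h2 := Module.natCard_eq_pow_finrank (K := F₀) (V := ↥(K.restrictScalars F₀))
    have h3 := Module.natCard_eq_pow_finrank (K := F) (V := ↥K)
    rw [h1, h3, Nat.card_eq_fintype_card, Nat.card_eq_fintype_card, hF, hF₀, ← pow_mul] at h2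
    exact (Nat.pow_right_injective hq h2).symm
  -- coordinates of `F` over `F₀`
  let b := Module.finBasisOfFinrankEq F₀ F hd2
  obtain ⟨t₀, ht₀⟩ : ∃ t₀, b.coord t₀ (1 : F) ≠ 0 := by
    by_contra hcon
    push Not at hcon
    have : (1 : F) = 0 := (Basis.forall_coord_eq_zero_iff b).mp hcon
    exact one_ne_zero this
  -- the bilinear forms over `F₀`
  let mk : (F →ₗ[F₀] F₀) → (V →ₗ[F] V) → (V →ₗ[F₀] V →ₗ[F₀] F₀) := fun l f =>
    LinearMap.mk₂ F₀ (fun u v => l (B (f u) v))
      (fun u u' v => by
        simp only [map_add, LinearMap.add_apply])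
      (fun a u v => by
        rw [hsmulV, map_smul, map_smulₛₗ, LinearMap.smul_apply, hfix, smul_eq_mul, ← hsmulF,
          map_smul])
      (fun u v v' => by
        simp only [map_add])
      (fun a u v => by
        rw [hsmulV, map_smul, smul_eq_mul, ← hsmulF, map_smul])
  have hmk : ∀ l f u v, mk l f u v = l (B (f u) v) := fun _ _ _ _ => rfl
  let idx := Option (Fin k × Fin 2)
  have hcard : Fintype.card idx = 2 * k + 1 := by
    simp only [idx, Fintype.card_option, Fintype.card_prod, Fintype.card_fin]
    ring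
  let e : Fin (2 * k + 1) ≃ idx := (Fintype.equivFinOfCardEq hcard).symm
  let β : idx → (V →ₗ[F₀] V →ₗ[F₀] F₀) := fun o =>
    match o with
    | none => mk (b.coord t₀) LinearMap.id
    | some (j, t) => mk (b.coord t) (g j)
  obtain ⟨v, hvK, hv0, hv⟩ := Cfsg.Agent.Lib.Helper15.PSpK.exists_common_isotropic p
    (fun j => β (e j)) (K.restrictScalars F₀) (by rw [hdK]; omega)
  have hv' : ∀ o, β o v v = 0 := by
    intro o
    have := hv (e.symm o)
    rwa [Equiv.apply_symm_apply] at this
  refine ⟨v, (Submodule.restrictScalars_mem F₀ K v).mp hvK, hv0, ?_, ?_⟩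
  · have h1 := hv' none
    simp only [β, hmk, LinearMap.id_apply] at h1
    have h2 : (B v v) ^ q = B v v := by
      have := hS.eq v v
      rwa [conjQ_apply] at this
    obtain ⟨a, ha⟩ := mem_range_of_pow_card_eq ι (B v v) (by rw [hF₀]; exact h2)
    rw [← ha] at h1 ⊢
    have h3 : ι a = a • (1 : F) := by rw [hsmulF, mul_one]
    rw [h3, map_smul, smul_eq_mul] at h1
    rcases mul_eq_zero.mp h1 with h | h
    · rw [h, map_zero]
    · exact absurd h ht₀
  · intro j
    apply (Basis.forall_coord_eq_zero_iff b).mp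
    intro t
    have h1 := hv' (some (j, t))
    simpa only [β, hmk] using h1

end cw

section source

variable {F V : Type*} [Field F] [AddCommGroup V] [Module F V] {σ : F →+* F}
variable {B : V →ₛₗ[σ] V →ₗ[F] F}

/-- a vector with `B v (y^e v) = 0` for `e < deg P` and `P(y) v = 0` has `B v (y^e v) = 0`
for all `e` -/
theorem all_powers_isotropic (y : V →ₗ[F] V) (P : F[X]) (hP0 : P ≠ 0)
    (v : V) (hPv : aeval y P v = 0)
    (hsmall : ∀ e, e < P.natDegree → B v ((y ^ e) v) = 0) :
    ∀ e : ℕ, B v ((y ^ e) v) = 0 := by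
  intro e
  induction e using Nat.strong_induction_on with
  | _ e ih =>
    by_cases h1 : e < P.natDegree
    · exact hsmall e h1
    · push Not at h1
      have h2 : B v ((y ^ (e - P.natDegree)) (aeval y P v)) = 0 := by
        rw [hPv, map_zero, map_zero]
      rw [aeval_eq_sum_range, LinearMap.sum_apply, map_sum, map_sum,
        Finset.sum_range_succ] at h2
      have h3 : ∀ a ∈ Finset.range P.natDegree,
          B v ((y ^ (e - P.natDegree)) ((P.coeff a • y ^ a) v)) = 0 := by
        intro a ha
        rw [Finset.mem_range] at ha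
        rw [LinearMap.smul_apply, map_smul, map_smul, ← Module.End.mul_apply, ← pow_add,
          ih (e - P.natDegree + a) (by omega), smul_zero]
      rw [Finset.sum_eq_zero h3, zero_add, LinearMap.smul_apply, map_smul, map_smul,
        ← Module.End.mul_apply, ← pow_add, Nat.sub_add_cancel h1, smul_eq_mul] at h2
      rcases mul_eq_zero.mp h2 with h4 | h4
      · exact absurd h4 (by
          rw [coeff_natDegree]
          exact leadingCoeff_ne_zero.mpr hP0)
      · exact h4

/-- the span of the orbit of such a vector is invariant and totally isotropic -/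
theorem orbit_span_ti (hR : B.IsRefl) (y : V →ₗ[F] V)
    (hiso : ∀ u v, B (y u) (y v) = B u v) (v : V) (hall : ∀ e : ℕ, B v ((y ^ e) v) = 0) :
    span F (Set.range fun e : ℕ => (y ^ e) v) ∈ Module.End.invtSubmodule y ∧
      TI B (span F (Set.range fun e : ℕ => (y ^ e) v)) := by
  constructor
  · rw [Module.End.mem_invtSubmodule_iff_map_le, Submodule.map_span, span_le]
    rintro _ ⟨_, ⟨e, rfl⟩, rfl⟩
    apply subset_span
    refine ⟨e + 1, ?_⟩
    show (y ^ (e + 1)) v = y ((y ^ e) v)
    rw [pow_succ', Module.End.mul_apply]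
  · have key : ∀ a b : ℕ, B ((y ^ a) v) ((y ^ b) v) = 0 := by
      have key1 : ∀ a b : ℕ, a ≤ b → B ((y ^ a) v) ((y ^ b) v) = 0 := by
        intro a b hab
        have : (y ^ b) v = (y ^ a) ((y ^ (b - a)) v) := by
          rw [← Module.End.mul_apply, ← pow_add, Nat.add_sub_cancel' hab]
        rw [this, iso_pow y hiso]
        exact hall _
      intro a b
      rcases le_total a b with h | h
      · exact key1 a b h
      · exact hR _ _ (key1 b a h)
    intro u hu w hw
    induction hu using Submodule.span_induction with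
    | mem a ha =>
      obtain ⟨ea, rfl⟩ := ha
      induction hw using Submodule.span_induction with
      | mem b hb =>
        obtain ⟨eb, rfl⟩ := hb
        exact key ea eb
      | zero => simp
      | add b c _ _ hb hc => rw [map_add, hb, hc, add_zero]
      | smul t b _ hb => rw [map_smul, hb, smul_zero]
    | zero => simp
    | add a c _ _ ha hc => rw [map_add, LinearMap.add_apply, ha, hc, add_zero]
    | smul t a _ ha => rw [map_smulₛₗ, LinearMap.smul_apply, ha, smul_zero]

end source

section large

variable {F V : Type*} [Field F] [Fintype F] [AddCommGroup V] [Module F V]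
  [FiniteDimensional F V] {q : ℕ}

/-- in an invariant subspace killed by an irreducible `P`, of dimension at least `2 deg P`, there
is an invariant totally isotropic subspace of dimension `deg P` -/
theorem exists_ti_of_large (hF : Fintype.card F = q ^ 2)
    (B : V →ₛₗ[conjQ hF] V →ₗ[F] F) (hS : B.IsSymm)
    (y : V →ₗ[F] V) (hiso : ∀ u v, B (y u) (y v) = B u v) (P : F[X]) (hPirr : Irreducible P)
    (K : Submodule F V) (hKinv : K ∈ Module.End.invtSubmodule y)
    (hkill : ∀ w ∈ K, aeval y P w = 0) (hK : 2 * P.natDegree ≤ finrank F K) :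
    ∃ U : Submodule F V, U ≤ K ∧ U ∈ Module.End.invtSubmodule y ∧ TI B U ∧
      finrank F U = P.natDegree := by
  have hpos := hPirr.natDegree_pos
  have hR : B.IsRefl := hS.isRefl
  obtain ⟨v, hvK, hv0, hvv, hv⟩ := exists_common_isotropic_herm hF B hS
    (fun j : Fin (P.natDegree - 1) => y ^ ((j : ℕ) + 1)) K (by omega)
  have hall := all_powers_isotropic (B := B) y P hPirr.ne_zero v (hkill v hvK) (fun e he => by
    by_cases h0 : e = 0
    · rw [h0, pow_zero, Module.End.one_apply]
      exact hvv
    · have := hv ⟨e - 1, by omega⟩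
      simp only at this
      rw [Nat.sub_add_cancel (by omega)] at this
      exact hR _ _ this)
  obtain ⟨hLinv, hLti⟩ := orbit_span_ti hR y hiso v hall
  obtain ⟨U, hUinv, hvU, hUdim, hUmin⟩ := exists_cyclic y P hPirr v hv0 (hkill v hvK)
  have hvL : v ∈ span F (Set.range fun e : ℕ => (y ^ e) v) :=
    subset_span ⟨0, by simp⟩
  have hUL := hUmin _ hLinv hvL
  exact ⟨U, hUmin K hKinv hvK, hUinv, hLti.mono hUL, hUdim⟩

/-- totally isotropic subspaces of every dimension up to half inside a nondegenerate subspace -/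
theorem exists_ti_le (hF : Fintype.card F = q ^ 2)
    (B : V →ₛₗ[conjQ hF] V →ₗ[F] F) (hS : B.IsSymm) (S : Submodule F V) (hSn : NondegOn B S)
    (w : ℕ) (hw : 2 * w ≤ finrank F S) :
    ∃ W : Submodule F V, W ≤ S ∧ TI B W ∧ finrank F W = w := by
  have hR : B.IsRefl := hS.isRefl
  have hirr : Irreducible (X - C (1 : F)) := irreducible_X_sub_C 1
  have h := peel_engine (B := B) hR (1 : V →ₗ[F] V) (fun u v => rfl)
    Module.End.isSemisimple_id (fun u v h => h) 1 1 S
    (fun S' _ _ _ hlt => by
      obtain ⟨U, hU1, hU2, hU3, hU4⟩ := exists_ti_of_large hF B hS (1 : V →ₗ[F] V)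
        (fun u v => rfl) (X - C (1 : F)) hirr S' (fun u hu => hu)
        (fun w _ => by simp) (by rw [natDegree_X_sub_C]; omega)
      exact ⟨U, hU1, hU2, hU3, by rw [hU4, natDegree_X_sub_C]⟩)
    w S le_rfl (Submodule.map_id S) hSn (by omega)
  obtain ⟨W, hWS, -, hWti, hWdim⟩ := h
  exact ⟨W, hWS, hWti, by rw [hWdim, one_mul]⟩

end large

end Cfsg.Agent.Lib.Helper12.HU
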