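import Mathlib
import Cfsg.Agent.Lib.Helper12.HU3
import Cfsg.Agent.Lib.Helper16.HermIsom

/-!
# The order argument for unitary isometries of prime order, and the orders of `q`, `-q`, `q²`
-/

set_option autoImplicit false
set_option linter.unusedSectionVars false
set_option linter.unusedVariables false
set_option linter.style.haveILetI false

namespace Cfsg.Agent.Lib.Helper12.HU

open Module Submodule Polynomial Cfsg.Agent.Lib.Helper6 Cfsg.Agent.Lib.Helper16

section nt

/-- the order of `-q` modulo `r` -/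
noncomputable def cOrd (q r : ℕ) : ℕ := orderOf (-(q : ZMod r))

/-- the order of `q²` modulo `r` -/
noncomputable def bOrd (q r : ℕ) : ℕ := orderOf ((q : ZMod r) ^ 2)

variable {q r : ℕ} [hr : Fact r.Prime]

theorem cast_q_ne_zero (hrq : ¬ r ∣ q) : (q : ZMod r) ≠ 0 := by
  intro h
  exact hrq ((ZMod.natCast_eq_zero_iff q r).mp h)

theorem neg_one_ne_one_zmod (hr2 : r ≠ 2) : (-1 : ZMod r) ≠ 1 := by
  intro h
  have h2 : (2 : ZMod r) = 0 := by
    have : (1 : ZMod r) + 1 = 0 := by
      nth_rewrite 1 [← h]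
      exact neg_add_cancel 1
    rw [← this]
    norm_num
  have h3 : ((2 : ℕ) : ZMod r) = 0 := by exact_mod_cast h2
  have h4 := (ZMod.natCast_eq_zero_iff 2 r).mp h3
  exact hr2 ((Nat.prime_dvd_prime_iff_eq hr.out Nat.prime_two).mp h4)

theorem isOfFinOrder_zmod {a : ZMod r} (ha : a ≠ 0) : IsOfFinOrder a := by
  rw [isOfFinOrder_iff_pow_eq_one]
  exact ⟨r - 1, by have := hr.out.two_le; omega, ZMod.pow_card_sub_one_eq_one ha⟩

theorem cOrd_pos (hrq : ¬ r ∣ q) : 0 < cOrd q r :=
  (isOfFinOrder_zmod (neg_ne_zero.mpr (cast_q_ne_zero hrq))).orderOf_pos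

theorem bOrd_pos (hrq : ¬ r ∣ q) : 0 < bOrd q r :=
  (isOfFinOrder_zmod (pow_ne_zero 2 (cast_q_ne_zero hrq))).orderOf_pos

theorem neg_pow_eq_one_iff (j : ℕ) : (-(q : ZMod r)) ^ j = 1 ↔ cOrd q r ∣ j :=
  (orderOf_dvd_iff_pow_eq_one).symm

theorem bOrd_eq_of_c (hrq : ¬ r ∣ q) :
    bOrd q r = if Even (cOrd q r) then cOrd q r / 2 else cOrd q r := by
  unfold bOrd
  have h : (q : ZMod r) ^ 2 = (-(q : ZMod r)) ^ 2 := (neg_sq _).symm
  rw [h, orderOf_pow' _ (by norm_num : (2 : ℕ) ≠ 0)]
  show cOrd q r / Nat.gcd (cOrd q r) 2 = _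
  split_ifs with he
  · have : Nat.gcd (cOrd q r) 2 = 2 := Nat.gcd_eq_right (even_iff_two_dvd.mp he)
    rw [this]
  · have : Nat.gcd (cOrd q r) 2 = 1 := by
      rw [Nat.gcd_comm]
      exact (Nat.Prime.coprime_iff_not_dvd Nat.prime_two).mpr
        (fun h => he (even_iff_two_dvd.mpr h))
    rw [this, Nat.div_one]

theorem bOrd_eq_of_i (hrq : ¬ r ∣ q) :
    bOrd q r = if Even (orderOf (q : ZMod r)) then orderOf (q : ZMod r) / 2
      else orderOf (q : ZMod r) := by
  unfold bOrd
  rw [orderOf_pow' _ (by norm_num : (2 : ℕ) ≠ 0)]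
  split_ifs with he
  · have : Nat.gcd (orderOf (q : ZMod r)) 2 = 2 := Nat.gcd_eq_right (even_iff_two_dvd.mp he)
    rw [this]
  · have : Nat.gcd (orderOf (q : ZMod r)) 2 = 1 := by
      rw [Nat.gcd_comm]
      exact (Nat.Prime.coprime_iff_not_dvd Nat.prime_two).mpr
        (fun h => he (even_iff_two_dvd.mpr h))
    rw [this, Nat.div_one]

theorem bOrd_eq_card (hrq : ¬ r ∣ q) : bOrd q r = orderOf (((q ^ 2 : ℕ)) : ZMod r) := by
  unfold bOrd
  push_cast
  rfl

/-- the order of `-q` in terms of the order of `q` -/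
theorem cOrd_eq_of_i (hrq : ¬ r ∣ q) (hr2 : r ≠ 2) :
    cOrd q r = if orderOf (q : ZMod r) % 4 = 0 then orderOf (q : ZMod r)
      else if orderOf (q : ZMod r) % 4 = 2 then orderOf (q : ZMod r) / 2
      else 2 * orderOf (q : ZMod r) := by
  set a : ZMod r := (q : ZMod r) with ha
  have ha0 : a ≠ 0 := cast_q_ne_zero hrq
  set i := orderOf a with hi
  have hipos : 0 < i := (isOfFinOrder_zmod ha0).orderOf_pos
  have hn1 : (-1 : ZMod r) ≠ 1 := neg_one_ne_one_zmod hr2
  have hcpos : 0 < cOrd q r := cOrd_pos hrq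
  have hc1 : (-a) ^ cOrd q r = 1 := pow_orderOf_eq_one _
  have hai : a ^ i = 1 := pow_orderOf_eq_one _
  have h2c : i ∣ 2 * cOrd q r := by
    apply orderOf_dvd_of_pow_eq_one
    have : a ^ (2 * cOrd q r) = ((-a) ^ cOrd q r) ^ 2 := by
      rw [← pow_mul, mul_comm (cOrd q r) 2, pow_mul (-a) 2, neg_sq, ← pow_mul]
    rw [this, hc1, one_pow]
  show orderOf (-a) = _
  by_cases hodd : Odd i
  · -- `i` odd
    have h40 : i % 4 ≠ 0 := by obtain ⟨t, ht⟩ := hodd; omega
    have h42 : i % 4 ≠ 2 := by obtain ⟨t, ht⟩ := hodd; omega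
    rw [if_neg h40, if_neg h42]
    have hidvd : i ∣ cOrd q r :=
      (Nat.Coprime.dvd_of_dvd_mul_left (Nat.Coprime.symm
        ((Nat.Prime.coprime_iff_not_dvd Nat.prime_two).mpr
          (fun h => (Nat.not_even_iff_odd.mpr hodd) (even_iff_two_dvd.mpr h)))) h2c)
    have hceven : Even (cOrd q r) := by
      by_contra hne
      rw [Nat.not_even_iff_odd] at hne
      have h1 : (-a) ^ cOrd q r = -(a ^ cOrd q r) := hne.neg_pow a
      obtain ⟨t, ht⟩ := hidvd
      have h2 : a ^ cOrd q r = 1 := by rw [ht, pow_mul, hai, one_pow]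
      rw [h1, h2] at hc1
      exact hn1 hc1
    apply Nat.dvd_antisymm
    · apply orderOf_dvd_of_pow_eq_one
      rw [pow_mul, neg_sq, ← pow_mul, mul_comm, pow_mul, hai, one_pow]
    · have h2 : 2 ∣ cOrd q r := even_iff_two_dvd.mp hceven
      exact Nat.Coprime.mul_dvd_of_dvd_of_dvd
        ((Nat.Prime.coprime_iff_not_dvd Nat.prime_two).mpr
          (fun h => (Nat.not_even_iff_odd.mpr hodd) (even_iff_two_dvd.mpr h))) h2 hidvd
  · -- `i` even
    rw [Nat.not_odd_iff_even] at hodd
    obtain ⟨h, hh⟩ := hodd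
    have hhpos : 0 < h := by omega
    have hah : a ^ h = -1 := by
      have hsq : (a ^ h) ^ 2 = 1 := by
        rw [← pow_mul, mul_two, ← hh, hai]
      have hne : a ^ h ≠ 1 := pow_ne_one_of_lt_orderOf (by omega) (by rw [← hi]; omega)
      rcases sq_eq_one_iff.mp hsq with h1 | h1
      · exact absurd h1 hne
      · exact h1
    have hhc : h ∣ cOrd q r := by
      have : 2 * h ∣ 2 * cOrd q r := by
        have h2 : 2 * h = i := by omega
        rw [h2]
        exact h2c
      exact (Nat.mul_dvd_mul_iff_left (by norm_num : 0 < 2)).mp this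
    by_cases hhe : Even h
    · have h40 : i % 4 = 0 := by obtain ⟨t, ht⟩ := hhe; omega
      rw [if_pos h40]
      apply Nat.dvd_antisymm
      · apply orderOf_dvd_of_pow_eq_one
        have hie : Even i := ⟨h, hh⟩
        rw [hie.neg_pow, hai]
      · have hce : Even (cOrd q r) := by
          obtain ⟨t, ht⟩ := hhc
          obtain ⟨s, hs⟩ := hhe
          exact ⟨s * t, by rw [ht, hs]; ring⟩
        apply orderOf_dvd_of_pow_eq_one
        show a ^ cOrd q r = 1
        rw [← hce.neg_pow]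
        exact hc1
    · have h42 : i % 4 = 2 := by
        rw [Nat.not_even_iff_odd] at hhe
        obtain ⟨t, ht⟩ := hhe
        omega
      have h40 : i % 4 ≠ 0 := by omega
      rw [if_neg h40, if_pos h42]
      have hi2 : i / 2 = h := by omega
      rw [hi2]
      apply Nat.dvd_antisymm
      · apply orderOf_dvd_of_pow_eq_one
        rw [Nat.not_even_iff_odd] at hhe
        rw [hhe.neg_pow, hah, neg_neg]
      · exact hhc

theorem cOrd_eq_one_iff (hrq : ¬ r ∣ q) : cOrd q r = 1 ↔ r ∣ q + 1 := by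
  unfold cOrd
  rw [orderOf_eq_one_iff, ← ZMod.natCast_eq_zero_iff]
  push_cast
  constructor
  · intro h
    rw [← h]
    ring
  · intro h
    have : (q : ZMod r) = -1 := eq_neg_of_add_eq_zero_left h
    rw [this, neg_neg]

/-- `r` divides `q ^ j - (-1) ^ j` exactly when the order of `-q` divides `j` -/
theorem dvd_pow_add_one_iff (j : ℕ) (hj : Odd j) : r ∣ q ^ j + 1 ↔ cOrd q r ∣ j := by
  rw [← neg_pow_eq_one_iff, ← ZMod.natCast_eq_zero_iff, hj.neg_pow]
  push_cast
  constructor
  · intro h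
    have : (q : ZMod r) ^ j = -1 := eq_neg_of_add_eq_zero_left h
    rw [this, neg_neg]
  · intro h
    have : (q : ZMod r) ^ j = -1 := by rw [← h, neg_neg]
    rw [this]
    ring

theorem dvd_pow_sub_one_iff (hq : 1 ≤ q) (j : ℕ) (hj : Even j) :
    r ∣ q ^ j - 1 ↔ cOrd q r ∣ j := by
  rw [← neg_pow_eq_one_iff, ← ZMod.natCast_eq_zero_iff, hj.neg_pow]
  have h1 : 1 ≤ q ^ j := Nat.one_le_pow _ _ hq
  push_cast [h1]
  exact sub_eq_zero

end nt

section oa

variable {F V : Type*} [Field F] [Fintype F] [AddCommGroup V] [Module F V]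
  [FiniteDimensional F V] {q : ℕ}

/-- the group of isometries of a sesquilinear form -/
def isoGroup (hF : Fintype.card F = q ^ 2) (B : V →ₛₗ[conjQ hF] V →ₗ[F] F) :
    Subgroup (V ≃ₗ[F] V) where
  carrier := {g | ∀ u v, B (g u) (g v) = B u v}
  mul_mem' := by
    intro a b ha hb u v
    show B (a (b u)) (a (b v)) = B u v
    rw [ha, hb]
  one_mem' := fun u v => rfl
  inv_mem' := by
    intro a ha u v
    show B (a.symm u) (a.symm v) = B u v
    have h := ha (a.symm u) (a.symm v)
    rw [LinearEquiv.apply_symm_apply, LinearEquiv.apply_symm_apply] at h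
    exact h.symm

theorem injective_of_iso (hF : Fintype.card F = q ^ 2) (B : V →ₛₗ[conjQ hF] V →ₗ[F] F)
    (hN : ∀ u, (∀ v, B u v = 0) → u = 0) (f : V →ₗ[F] V)
    (hf : ∀ u v, B (f u) (f v) = B u v) : Function.Injective f := by
  rw [← LinearMap.ker_eq_bot, LinearMap.ker_eq_bot']
  intro u hu
  apply hN
  intro v
  rw [← hf, hu, map_zero, LinearMap.zero_apply]

theorem card_isoGroup (hF : Fintype.card F = q ^ 2) (B : V →ₛₗ[conjQ hF] V →ₗ[F] F)
    (hS : B.IsSymm) (hN : ∀ u, (∀ v, B u v = 0) → u = 0) :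
    Nat.card (isoGroup hF B) = Nat.card (Cfsg.GU (finrank F V) F q) := by
  have hB : B.Nondegenerate := ⟨hN, herm_sepRight (conjQ hF) (conjQ_conjQ hF) B hS hN⟩
  rw [← card_herm_isometries_eq_GU hF B hS hB (finrank F V) rfl]
  apply Nat.card_congr
  exact
    { toFun := fun g => ⟨(g.1 : V →ₗ[F] V), g.2⟩
      invFun := fun f => ⟨LinearEquiv.ofInjectiveEndo f.1 (injective_of_iso hF B hN f.1 f.2), by
        intro u v
        show B (LinearEquiv.ofInjectiveEndo f.1 _ u) (LinearEquiv.ofInjectiveEndo f.1 _ v) = _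
        rw [LinearEquiv.coe_ofInjectiveEndo]
        exact f.2 u v⟩
      left_inv := fun g => by
        apply Subtype.ext
        apply LinearEquiv.ext
        intro v
        simp [LinearEquiv.coe_ofInjectiveEndo]
      right_inv := fun f => by
        apply Subtype.ext
        apply LinearMap.ext
        intro v
        simp [LinearEquiv.coe_ofInjectiveEndo] }

/-- **The order argument**: a nontrivial isometry of prime order `r` of a nondegenerate hermitian
space of dimension `d` forces `ord_r(-q) ≤ d` -/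
theorem order_arg (hF : Fintype.card F = q ^ 2) (B : V →ₛₗ[conjQ hF] V →ₗ[F] F)
    (hS : B.IsSymm) (hN : ∀ u, (∀ v, B u v = 0) → u = 0) (y : V →ₗ[F] V)
    (hiso : ∀ u v, B (y u) (y v) = B u v) (r : ℕ) [hr : Fact r.Prime] (hy : y ^ r = 1)
    (hy1 : y ≠ 1) (hrq : ¬ r ∣ q) :
    ∃ j, 1 ≤ j ∧ j ≤ finrank F V ∧ cOrd q r ∣ j := by
  classical
  have hq : 2 ≤ q := two_le_q hF
  have hinj := injective_of_iso hF B hN y hiso
  set g : V ≃ₗ[F] V := LinearEquiv.ofInjectiveEndo y hinj with hg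
  have hgv : ∀ v, g v = y v := fun v => by rw [hg, LinearEquiv.coe_ofInjectiveEndo]
  have hgmem : g ∈ isoGroup hF B := by
    intro u v
    rw [hgv, hgv]
    exact hiso u v
  have hgpow : ∀ (n : ℕ) (v : V), (g ^ n) v = (y ^ n) v := by
    intro n
    induction n with
    | zero => intro v; rfl
    | succ n ih =>
      intro v
      rw [pow_succ, pow_succ, LinearEquiv.mul_apply, Module.End.mul_apply, ih, hgv]
  set g' : isoGroup hF B := ⟨g, hgmem⟩ with hg'
  have hgr : g' ^ r = 1 := by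
    apply Subtype.ext
    apply LinearEquiv.ext
    intro v
    show (g ^ r) v = v
    rw [hgpow, hy, Module.End.one_apply]
  have hg1 : g' ≠ 1 := by
    intro h
    apply hy1
    apply LinearMap.ext
    intro v
    have := congrArg (fun t : isoGroup hF B => (t : V ≃ₗ[F] V) v) h
    simp only [hg'] at this
    rw [Module.End.one_apply, ← hgv]
    exact this
  have hord : orderOf g' = r := orderOf_eq_prime hgr hg1
  have hdvd : r ∣ Nat.card (isoGroup hF B) := by
    rw [← hord]
    exact orderOf_dvd_natCard g'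
  rw [card_isoGroup hF B hS hN, card_GU hF] at hdvd
  rcases (Nat.Prime.dvd_mul hr.out).mp hdvd with h | h
  · exact absurd (hr.out.dvd_of_dvd_pow h) hrq
  · rw [Prime.dvd_finsetProd_iff hr.out.prime] at h
    obtain ⟨i, hi, hi2⟩ := h
    rw [Finset.mem_range] at hi
    refine ⟨i + 1, by omega, by omega, ?_⟩
    split_ifs at hi2 with he
    · exact (dvd_pow_add_one_iff (i + 1) he.add_one).mp hi2
    · rw [Nat.not_even_iff_odd] at he
      exact (dvd_pow_sub_one_iff (by omega) (i + 1) he.add_one).mp hi2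

/-- the order argument on an invariant nondegenerate subspace -/
theorem order_arg_sub (hF : Fintype.card F = q ^ 2) (B : V →ₛₗ[conjQ hF] V →ₗ[F] F)
    (hS : B.IsSymm) (y : V →ₗ[F] V) (hiso : ∀ u v, B (y u) (y v) = B u v)
    (W : Submodule F V) (hWinv : W ∈ Module.End.invtSubmodule y) (hWn : NondegOn B W)
    (r : ℕ) [hr : Fact r.Prime] (hy : y ^ r = 1) (hy1 : ∃ w ∈ W, y w ≠ w) (hrq : ¬ r ∣ q) :
    ∃ j, 1 ≤ j ∧ j ≤ finrank F W ∧ cOrd q r ∣ j := by
  set BW : W →ₛₗ[conjQ hF] W →ₗ[F] F := B.domRestrict₁₂ W W with hBWdef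
  have hBW : ∀ w w' : W, BW w w' = B (w : V) (w' : V) := fun _ _ => rfl
  have hSW : BW.IsSymm := ⟨fun x y => by rw [hBW, hBW]; exact hS.eq _ _⟩
  have hNW : ∀ w : W, (∀ v, BW w v = 0) → w = 0 := by
    intro w hw
    apply Subtype.ext
    apply hWn w.1 w.2
    intro u hu
    exact hw ⟨u, hu⟩
  have hW' : ∀ x ∈ W, y x ∈ W := fun x hx => hWinv hx
  set yW : W →ₗ[F] W := y.restrict hW' with hyW
  have hyWv : ∀ w : W, ((yW w : W) : V) = y (w : V) := fun _ => rfl
  have hpow : ∀ (n : ℕ) (w : W), (((yW ^ n) w : W) : V) = (y ^ n) (w : V) := by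
    intro n
    induction n with
    | zero => intro w; rfl
    | succ n ih =>
      intro w
      rw [pow_succ, pow_succ, Module.End.mul_apply, Module.End.mul_apply, ih, hyWv]
  refine order_arg hF BW hSW hNW yW (fun u v => by rw [hBW, hBW, hyWv, hyWv]; exact hiso _ _) r
    ?_ ?_ hrq
  · apply LinearMap.ext
    intro w
    apply Subtype.ext
    rw [hpow, hy]
    rfl
  · intro h
    obtain ⟨w, hw, hne⟩ := hy1
    apply hne
    have := congrArg (fun f : W →ₗ[F] W => ((f ⟨w, hw⟩ : W) : V)) h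
    simpa [hyWv] using this

end oa

end Cfsg.Agent.Lib.Helper12.HU
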