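import Mathlib
import Cfsg.Agent.Lib.Helper12.HU4

/-!
# Invariant totally isotropic subspaces for unitary isometries of odd prime order
-/

set_option autoImplicit false
set_option linter.unusedSectionVars false
set_option linter.unusedVariables false
set_option linter.style.haveILetI false

namespace Cfsg.Agent.Lib.Helper12.HU

open Module Submodule Polynomial Cfsg.Agent.Lib.Helper15.PSub Cfsg.Agent.Lib.Helper15.PDec
  Cfsg.Agent.Lib.Helper6 Cfsg.Agent.Lib.Helper16

section fixmov

variable {F V : Type*} [Field F] [AddCommGroup V] [Module F V] [FiniteDimensional F V]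
  {σ : F →+* F} {B : V →ₛₗ[σ] V →ₗ[F] F}

omit [FiniteDimensional F V] in
theorem pow_fixed (y : V →ₗ[F] V) (n : ℕ) (c : V) (hc : y c = c) : (y ^ n) c = c := by
  induction n with
  | zero => simp
  | succ n ih => rw [pow_succ, Module.End.mul_apply, hc, ih]

omit [FiniteDimensional F V] in
theorem fix_of_mem (y : V →ₗ[F] V) {c : V} (hc : c ∈ Module.End.eigenspace y 1) : y c = c := by
  rwa [Module.End.mem_eigenspace_iff, one_smul] at hc

omit [FiniteDimensional F V] in
/-- the fixed space of an isometry of finite order prime to the characteristic is nondegenerate -/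
theorem nondegOn_fixed (y : V →ₗ[F] V) (hiso : ∀ u v, B (y u) (y v) = B u v) (r : ℕ)
    (hr0 : (r : F) ≠ 0) (hy : y ^ r = 1) (hN : ∀ u, (∀ v, B u v = 0) → u = 0) :
    NondegOn B (Module.End.eigenspace y 1) := by
  intro c hc hc0
  apply hN c
  intro v
  have hcfix : y c = c := fix_of_mem y hc
  have hT : (∑ i ∈ Finset.range r, y ^ i) v ∈ Module.End.eigenspace y 1 := trace_fixed y r hy v
  have h1 := hc0 _ hT
  rw [LinearMap.sum_apply, map_sum] at h1
  have h2 : ∀ i ∈ Finset.range r, B c ((y ^ i) v) = B c v := by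
    intro i _
    nth_rewrite 1 [← pow_fixed y i c hcfix]
    exact iso_pow y hiso i c v
  rw [Finset.sum_congr rfl h2, Finset.sum_const, Finset.card_range, nsmul_eq_mul] at h1
  exact (mul_eq_zero.mp h1).resolve_left hr0

/-- the moved part: the orthogonal complement of the fixed space -/
def movPart (B : V →ₛₗ[σ] V →ₗ[F] F) (y : V →ₗ[F] V) : Submodule F V :=
  perpIn B ⊤ (Module.End.eigenspace y 1)

theorem movPart_props (hR : B.IsRefl) (y : V →ₗ[F] V)
    (hiso : ∀ u v, B (y u) (y v) = B u v) (r : ℕ) (hr : r ≠ 0)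
    (hr0 : (r : F) ≠ 0) (hy : y ^ r = 1) (hN : ∀ u, (∀ v, B u v = 0) → u = 0) :
    (movPart B y).map y = movPart B y ∧ NondegOn B (movPart B y) ∧
      movPart B y ⊓ Module.End.eigenspace y 1 = ⊥ ∧
      finrank F ↥(Module.End.eigenspace y 1) + finrank F (movPart B y) = finrank F V ∧
      Orth B (Module.End.eigenspace y 1) (movPart B y) := by
  have hCn := nondegOn_fixed y hiso r hr0 hy hN
  have hinj : Function.Injective y :=
    injective_of_pow_eq_smul y r 1 one_ne_zero (by rw [hy, one_smul]) hr
  have htopn : NondegOn B (⊤ : Submodule F V) := fun u _ hu => hN u fun v => hu v mem_top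
  have hFx : (Module.End.eigenspace y 1).map y = Module.End.eigenspace y 1 := by
    ext x
    rw [Submodule.mem_map]
    constructor
    · rintro ⟨u, hu, rfl⟩
      rw [fix_of_mem y hu]
      exact hu
    · intro hx
      exact ⟨x, hx, fix_of_mem y hx⟩
  refine ⟨?_, nondegOn_perpIn hR le_top hCn htopn, ?_, ?_, orth_perpIn _ _⟩
  · apply map_eq_of_invt y hinj
    exact perpIn_invt y hiso (Module.End.invtSubmodule.top_mem y) hFx
  · rw [inf_comm]
    exact (orth_perpIn (B := B) ⊤ (Module.End.eigenspace y 1)).disjoint hR hCn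
  · have := finrank_perpIn hR (V' := (⊤ : Submodule F V)) le_top hCn
    rw [finrank_top] at this
    exact this

end fixmov

section arith

theorem suff_arith_even (b m n a : ℕ) (hb : 0 < b) (hDn : 2 * b * a ≤ n)
    (hmn : 2 * m ≤ n) (h1 : 2 * (m % b) ≤ n % (2 * b)) :
    ∃ j w, b * j + w = m ∧ 2 * w ≤ n - 2 * b * a ∧ (j = 0 ∨ 2 * b * j < 2 * b * a + 2 * b) := by
  by_cases hle : m / b ≤ a
  · refine ⟨m / b, m % b, Nat.div_add_mod m b, ?_, Or.inr ?_⟩
    · have h2 : (n - 2 * b * a) % (2 * b) = n % (2 * b) := by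
        rw [Nat.sub_mul_mod hDn]
      have h3 : (n - 2 * b * a) % (2 * b) ≤ n - 2 * b * a := Nat.mod_le _ _
      omega
    · have := Nat.mul_le_mul_left (2 * b) hle
      omega
  · push Not at hle
    have h2 : b * (a + 1) ≤ b * (m / b) := Nat.mul_le_mul_left b hle
    have h3 : b * (m / b) ≤ m := Nat.mul_div_le m b
    have h4 : 2 * b * a = 2 * (b * a) := by ring
    have h5 : b * (a + 1) = b * a + b := by ring
    refine ⟨a, m - b * a, by omega, by omega, Or.inr (by omega)⟩

theorem suff_arith_odd (c m n a s : ℕ) (hc : 0 < c) (hDn : c * a ≤ n)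
    (hmn : 2 * m ≤ n) (h1 : 2 * (m % c) ≤ n % c) (h2 : s + 2 * (m / c) ≤ n / c) :
    ∃ j w, c * j + w = m ∧ 2 * w ≤ n - c * a ∧ (j = 0 ∨ s + 2 * j ≤ a + 1) := by
  have hm := Nat.div_add_mod m c
  have hn := Nat.div_add_mod n c
  have han : a ≤ n / c := (Nat.le_div_iff_mul_le hc).mpr (by rw [mul_comm]; exact hDn)
  set m' := m / c with hm'
  set l := m % c with hl
  set n' := n / c with hn'
  set k := n % c with hk
  have hca : c * a ≤ c * n' := Nat.mul_le_mul_left c han
  by_cases hA : m' = 0 ∨ s + 2 * m' ≤ a + 1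
  · refine ⟨m', l, hm, by omega, ?_⟩
    rcases hA with h | h
    · exact Or.inl h
    · exact Or.inr h
  · push Not at hA
    obtain ⟨hm0, hlt⟩ := hA
    by_cases has : a ≤ s
    · refine ⟨0, m, by simp, ?_, Or.inl rfl⟩
      have h3 : c * (2 * m' + a) ≤ c * n' := Nat.mul_le_mul_left c (by omega)
      have h4 : c * (2 * m' + a) = 2 * (c * m') + c * a := by ring
      omega
    · push Not at has
      set j := (a + 1 - s) / 2 with hj
      have hj1 : 2 * j ≤ a + 1 - s := Nat.mul_div_le _ _
      have hj2 : a + 1 - s < 2 * j + 2 := by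
        have := Nat.lt_mul_div_succ (a + 1 - s) (by norm_num : 0 < 2)
        omega
      have hjm : j + 1 ≤ m' := by omega
      have h3 : c * (j + 1) ≤ c * m' := Nat.mul_le_mul_left c hjm
      have h4 : c * (j + 1) = c * j + c := by ring
      have h5 : c * (s + 2 * m' + (a - s)) ≤ c * (n' + 2 * j) :=
        Nat.mul_le_mul_left c (by omega)
      have h6 : c * (s + 2 * m' + (a - s)) = 2 * (c * m') + c * a := by
        have : s + 2 * m' + (a - s) = 2 * m' + a := by omega
        rw [this]
        ring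
      have h7 : c * (n' + 2 * j) = c * n' + 2 * (c * j) := by ring
      refine ⟨j, m - c * j, by omega, by omega, Or.inr (by omega)⟩

end arith

end Cfsg.Agent.Lib.Helper12.HU
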