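import Mathlib
import Cfsg.Agent.Lib.Helper12.HU5

/-!
# Sufficiency: invariant totally isotropic subspaces for unitary isometries of odd prime order
-/

set_option autoImplicit false
set_option linter.unusedSectionVars false
set_option linter.unusedVariables false
set_option linter.style.haveILetI false

namespace Cfsg.Agent.Lib.Helper12.HU

open Module Submodule Polynomial Cfsg.Agent.Lib.Helper15.PSub Cfsg.Agent.Lib.Helper15.PDec
  Cfsg.Agent.Lib.Helper6 Cfsg.Agent.Lib.Helper16

section source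

variable {F V : Type*} [Field F] [Fintype F] [AddCommGroup V] [Module F V]
  [FiniteDimensional F V] {q : ℕ}

theorem not_dvd_q (hF : Fintype.card F = q ^ 2) (p : ℕ) [hp : Fact p.Prime] [CharP F p]
    (r : ℕ) (hr : r.Prime) (hrp : r ≠ p) : ¬ r ∣ q := by
  intro h
  obtain ⟨⟨f, hf0⟩, -, hf⟩ := FiniteField.card F p
  have h1 : r ∣ p ^ f := by
    have hf' : Fintype.card F = p ^ f := hf
    rw [← hf', hF]
    exact Dvd.dvd.trans h (dvd_pow_self q (by norm_num))
  have h2 := hr.dvd_of_dvd_pow h1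
  exact hrp ((Nat.prime_dvd_prime_iff_eq hr hp.out).mp h2)

theorem cast_ne_zero_of_ne (p : ℕ) [hp : Fact p.Prime] [CharP F p] (r : ℕ) (hr : r.Prime)
    (hrp : r ≠ p) : (r : F) ≠ 0 := by
  intro h
  have h1 := (CharP.cast_eq_zero_iff F p r).mp h
  exact hrp ((Nat.prime_dvd_prime_iff_eq hp.out hr).mp h1).symm

theorem orderOf_card_eq_bOrd (hF : Fintype.card F = q ^ 2) (r : ℕ) [hr : Fact r.Prime]
    (hrq : ¬ r ∣ q) : orderOf ((Fintype.card F : ℕ) : ZMod r) = bOrd q r := by
  rw [hF, bOrd_eq_card hrq]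

/-- invariant subspaces without fixed vectors have dimension divisible by `ord_r(q²)` -/
theorem bOrd_dvd_finrank (hF : Fintype.card F = q ^ 2) (p : ℕ) [hp : Fact p.Prime] [CharP F p]
    (r : ℕ) [hr : Fact r.Prime] (hrp : r ≠ p) (y : V →ₗ[F] V) (hy : y ^ r = 1)
    (S : Submodule F V) (hSinv : S ∈ Module.End.invtSubmodule y)
    (hSE : S ⊓ Module.End.eigenspace y 1 = ⊥) : bOrd q r ∣ finrank F S := by
  have hr0 : (r : F) ≠ 0 := cast_ne_zero_of_ne p r hr.out hrp
  have hrq := not_dvd_q hF p r hr.out hrp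
  have hss : Module.End.IsSemisimple y :=
    isSemisimple_of_pow_eq_smul y r hr0 1 one_ne_zero (by rw [hy, one_smul])
  exact dvd_finrank_of_killed y hss (cyclotomic r F) (cyclotomic_ne_zero r F) (bOrd q r)
    (fun P hP hd => by
      rw [cyclotomic_factor_degree p r hr.out hrp P hP hd, orderOf_card_eq_bOrd hF r hrq])
    S hSinv (cyclotomic_kills y r hy S hSinv hSE)

/-- the source when `ord_r(-q)` is even: irreducible invariant subspaces are totally isotropic -/
theorem source_ceven (hF : Fintype.card F = q ^ 2) (B : V →ₛₗ[conjQ hF] V →ₗ[F] F)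
    (hS : B.IsSymm) (p : ℕ) [hp : Fact p.Prime] [CharP F p]
    (r : ℕ) [hr : Fact r.Prime] (hrp : r ≠ p) (y : V →ₗ[F] V)
    (hiso : ∀ u v, B (y u) (y v) = B u v) (hy : y ^ r = 1) (hce : Even (cOrd q r))
    (S : Submodule F V) (hSx : S.map y = S) (hSE : S ⊓ Module.End.eigenspace y 1 = ⊥)
    (hS0 : 0 < finrank F S) :
    ∃ U : Submodule F V, U ≤ S ∧ U ∈ Module.End.invtSubmodule y ∧ TI B U ∧
      finrank F U = bOrd q r := by
  have hR : B.IsRefl := hS.isRefl
  have hr0 : (r : F) ≠ 0 := cast_ne_zero_of_ne p r hr.out hrp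
  have hrq := not_dvd_q hF p r hr.out hrp
  have hinj : Function.Injective y :=
    injective_of_pow_eq_smul y r 1 one_ne_zero (by rw [hy, one_smul]) hr.out.ne_zero
  have hSinv : S ∈ Module.End.invtSubmodule y := by
    rw [Module.End.mem_invtSubmodule_iff_map_le, hSx]
  have hkill := cyclotomic_kills y r hy S hSinv hSE
  have hS0' : S ≠ ⊥ := by
    intro h
    rw [h, finrank_bot] at hS0
    omega
  obtain ⟨w, hwS, hw0⟩ := Submodule.exists_mem_ne_zero_of_ne_bot hS0'
  obtain ⟨P, hPirr, hPdvd, v, hv0, hPv, hvW⟩ :=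
    exists_irreducible_killer y (cyclotomic r F) (cyclotomic_ne_zero r F) w hw0 (hkill w hwS)
  have hvS : v ∈ S := hvW S hSinv hwS
  have hPdeg : P.natDegree = bOrd q r := by
    rw [cyclotomic_factor_degree p r hr.out hrp P hPirr hPdvd, orderOf_card_eq_bOrd hF r hrq]
  have hKinv : S ⊓ LinearMap.ker (aeval y P) ∈ Module.End.invtSubmodule y :=
    Module.End.invtSubmodule.inf_mem hSinv (Cfsg.Agent.Lib.Helper15.PSpK.ker_aeval_invt y P)
  obtain ⟨W, hWK, hWinv, hvW', hWdim, hWirr⟩ :=
    Cfsg.Agent.Lib.Helper15.PSpJ.cyclic_irred y P hPirr _ hKinv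
    (fun w hw => LinearMap.mem_ker.mp hw.2) v ⟨hvS, LinearMap.mem_ker.mpr hPv⟩ hv0
  have hWx : W.map y = W := map_eq_of_invt y hinj W hWinv
  refine ⟨W, hWK.trans inf_le_left, hWinv, ?_, by rw [hWdim, hPdeg]⟩
  by_contra hti
  have hWn : NondegOn B W := nondeg_of_irred hR y hiso W hWx hWirr hti
  obtain ⟨j, hj1, hj2, hj3⟩ := order_arg_sub hF B hS y hiso W hWinv hWn r hy ⟨v, hvW', by
    intro hfix
    apply hv0
    have : v ∈ S ⊓ Module.End.eigenspace y 1 :=
      ⟨hvS, Module.End.mem_eigenspace_iff.mpr (by rw [one_smul]; exact hfix)⟩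
    rw [hSE] at this
    exact (Submodule.mem_bot F).mp this⟩ hrq
  rw [hWdim, hPdeg, bOrd_eq_of_c hrq, if_pos hce] at hj2
  have hcpos := cOrd_pos (r := r) hrq
  have hle := Nat.le_of_dvd (by omega) hj3
  obtain ⟨t, ht⟩ := hce
  omega

/-- the general source: beyond dimension `r - 1` some primary part is large -/
theorem source_codd (hF : Fintype.card F = q ^ 2) (B : V →ₛₗ[conjQ hF] V →ₗ[F] F)
    (hS : B.IsSymm) (p : ℕ) [hp : Fact p.Prime] [CharP F p]
    (r : ℕ) [hr : Fact r.Prime] (hrp : r ≠ p) (y : V →ₗ[F] V)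
    (hiso : ∀ u v, B (y u) (y v) = B u v) (hy : y ^ r = 1)
    (S : Submodule F V) (hSx : S.map y = S) (hSE : S ⊓ Module.End.eigenspace y 1 = ⊥)
    (hS0 : r - 1 < finrank F S) :
    ∃ U : Submodule F V, U ≤ S ∧ U ∈ Module.End.invtSubmodule y ∧ TI B U ∧
      finrank F U = bOrd q r := by
  have hr0 : (r : F) ≠ 0 := cast_ne_zero_of_ne p r hr.out hrp
  have hrq := not_dvd_q hF p r hr.out hrp
  have hss : Module.End.IsSemisimple y :=
    isSemisimple_of_pow_eq_smul y r hr0 1 one_ne_zero (by rw [hy, one_smul])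
  have hSinv : S ∈ Module.End.invtSubmodule y := by
    rw [Module.End.mem_invtSubmodule_iff_map_le, hSx]
  have hkill := cyclotomic_kills y r hy S hSinv hSE
  have hex : ∃ P : F[X], Irreducible P ∧ P ∣ cyclotomic r F ∧
      P.natDegree < finrank F ↥(S ⊓ LinearMap.ker (aeval y P)) := by
    by_contra hcon
    push Not at hcon
    have hsmall : ∀ P : F[X], Irreducible P →
        finrank F ↥(S ⊓ LinearMap.ker (aeval y P)) ≤ P.natDegree := by
      intro P hPirr
      by_cases hPd : P ∣ cyclotomic r F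
      · exact hcon P hPirr hPd
      · have hcop : IsCoprime P (cyclotomic r F) := (hPirr.coprime_iff_not_dvd).mpr hPd
        have hle : S ⊓ LinearMap.ker (aeval y P) ≤ ⊥ := by
          rw [← (disjoint_ker_aeval_of_isCoprime y hcop).eq_bot]
          intro w hw
          exact Submodule.mem_inf.mpr ⟨hw.2, LinearMap.mem_ker.mpr (hkill w hw.1)⟩
        rw [le_bot_iff.mp hle, finrank_bot]
        exact Nat.zero_le _
    have hsq : Squarefree (cyclotomic r F) := by
      have : NeZero ((r : ℕ) : F) := ⟨hr0⟩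
      exact (separable_cyclotomic r F).squarefree
    have h1 := Cfsg.Agent.Lib.Helper15.PSpK.finrank_inf_ker_le y S hSinv hsmall _
      (cyclotomic r F) rfl hsq
    have h2 : S ⊓ LinearMap.ker (aeval y (cyclotomic r F)) = S :=
      inf_eq_left.mpr fun w hw => LinearMap.mem_ker.mpr (hkill w hw)
    rw [h2, natDegree_cyclotomic, Nat.totient_prime hr.out] at h1
    omega
  obtain ⟨P, hPirr, hPdvd, hPlt⟩ := hex
  have hPdeg : P.natDegree = bOrd q r := by
    rw [cyclotomic_factor_degree p r hr.out hrp P hPirr hPdvd, orderOf_card_eq_bOrd hF r hrq]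
  have hKinv : S ⊓ LinearMap.ker (aeval y P) ∈ Module.End.invtSubmodule y :=
    Module.End.invtSubmodule.inf_mem hSinv (Cfsg.Agent.Lib.Helper15.PSpK.ker_aeval_invt y P)
  have hKkill : ∀ w ∈ S ⊓ LinearMap.ker (aeval y P), aeval y P w = 0 :=
    fun w hw => LinearMap.mem_ker.mp hw.2
  have hdvd : P.natDegree ∣ finrank F ↥(S ⊓ LinearMap.ker (aeval y P)) :=
    dvd_finrank_of_killed y hss P hPirr.ne_zero P.natDegree (fun P' hP' hd => by
      have := (hP'.associated_of_dvd hPirr hd)
      exact natDegree_eq_of_degree_eq (degree_eq_degree_of_associated this))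
      _ hKinv hKkill
  have h2 : 2 * P.natDegree ≤ finrank F ↥(S ⊓ LinearMap.ker (aeval y P)) := by
    obtain ⟨k, hk⟩ := hdvd
    rw [hk] at hPlt ⊢
    have hk2 : 2 ≤ k := by
      by_contra hlt
      have : k ≤ 1 := by omega
      have := Nat.mul_le_mul_left P.natDegree this
      omega
    calc 2 * P.natDegree = P.natDegree * 2 := mul_comm _ _
      _ ≤ P.natDegree * k := Nat.mul_le_mul_left _ hk2
  obtain ⟨U, hUK, hUinv, hUti, hUdim⟩ :=
    exists_ti_of_large hF B hS y hiso P hPirr _ hKinv hKkill h2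
  exact ⟨U, hUK.trans inf_le_left, hUinv, hUti, by rw [hUdim, hPdeg]⟩

/-- the threshold of the peeling engine -/
noncomputable def thr (q r : ℕ) : ℕ := if Even (cOrd q r) then 0 else r - 1

/-- invariant totally isotropic subspaces for a unitary isometry of odd prime order `r` -/
theorem exists_ti_invt (hF : Fintype.card F = q ^ 2) (B : V →ₛₗ[conjQ hF] V →ₗ[F] F)
    (hS : B.IsSymm) (hN : ∀ u, (∀ v, B u v = 0) → u = 0) (p : ℕ) [hp : Fact p.Prime] [CharP F p]
    (r : ℕ) [hr : Fact r.Prime] (hrp : r ≠ p) (y : V →ₗ[F] V)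
    (hiso : ∀ u v, B (y u) (y v) = B u v) (hy : y ^ r = 1) (j w : ℕ)
    (hj : j = 0 ∨ thr q r + 2 * bOrd q r * j < finrank F (movPart B y) + 2 * bOrd q r)
    (hw : 2 * w ≤ finrank F ↥(Module.End.eigenspace y 1)) :
    ∃ W : Submodule F V, finrank F W = bOrd q r * j + w ∧ TI B W ∧ W.map y ≤ W := by
  have hR : B.IsRefl := hS.isRefl
  have hr0 : (r : F) ≠ 0 := cast_ne_zero_of_ne p r hr.out hrp
  have hss : Module.End.IsSemisimple y :=
    isSemisimple_of_pow_eq_smul y r hr0 1 one_ne_zero (by rw [hy, one_smul])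
  have hinj : Function.Injective y :=
    injective_of_pow_eq_smul y r 1 one_ne_zero (by rw [hy, one_smul]) hr.out.ne_zero
  obtain ⟨hMx, hMn, hME, -, horth⟩ :=
    movPart_props hR y hiso r hr.out.ne_zero hr0 hy hN
  have hCn := nondegOn_fixed y hiso r hr0 hy hN
  obtain ⟨W₂, hW₂C, hW₂ti, hW₂dim⟩ := exists_ti_le hF B hS _ hCn w hw
  have hM : ∃ W₁ : Submodule F V, W₁ ≤ movPart B y ∧ W₁ ∈ Module.End.invtSubmodule y ∧
      TI B W₁ ∧ finrank F W₁ = bOrd q r * j := by
    rcases hj with rfl | hj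
    · exact ⟨⊥, bot_le, Module.End.invtSubmodule.bot_mem y, ti_bot, by simp⟩
    · apply peel_engine hR y hiso hss hinj (bOrd q r) (thr q r) (movPart B y) ?_ j _ le_rfl
        hMx hMn hj
      intro S hSM hSx _ hlt
      have hSE : S ⊓ Module.End.eigenspace y 1 = ⊥ := by
        rw [eq_bot_iff, ← hME]
        exact inf_le_inf_right _ hSM
      unfold thr at hlt
      split_ifs at hlt with hi
      · exact source_ceven hF B hS p r hrp y hiso hy hi S hSx hSE hlt
      · exact source_codd hF B hS p r hrp y hiso hy S hSx hSE hlt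
  obtain ⟨W₁, hW₁M, hW₁inv, hW₁ti, hW₁dim⟩ := hM
  have horth' : Orth B W₂ W₁ := horth.mono hW₂C hW₁M
  refine ⟨W₁ ⊔ W₂, ?_, hW₁ti.sup hR hW₂ti (horth'.symm hR), ?_⟩
  · have hdis : W₁ ⊓ W₂ = ⊥ := by
      rw [eq_bot_iff, ← hME]
      exact inf_le_inf hW₁M hW₂C
    have := Submodule.finrank_sup_add_finrank_inf_eq W₁ W₂
    rw [hdis, finrank_bot, add_zero, hW₁dim, hW₂dim] at this
    exact this
  · rw [Submodule.map_sup]
    apply sup_le_sup
    · exact (Module.End.mem_invtSubmodule_iff_map_le _).mp hW₁inv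
    · rintro _ ⟨w, hw, rfl⟩
      rw [fix_of_mem y (hW₂C hw)]
      exact hw

/-- **Sufficiency** for isometries of odd prime order -/
theorem sufficiency_pow_one (hF : Fintype.card F = q ^ 2) (B : V →ₛₗ[conjQ hF] V →ₗ[F] F)
    (hS : B.IsSymm) (hN : ∀ u, (∀ v, B u v = 0) → u = 0) (p : ℕ) [hp : Fact p.Prime] [CharP F p]
    (r : ℕ) [hr : Fact r.Prime] (hrp : r ≠ p) (y : V →ₗ[F] V)
    (hiso : ∀ u v, B (y u) (y v) = B u v) (hy : y ^ r = 1) (n m : ℕ)
    (hn : finrank F V = n) (hmn : 2 * m ≤ n)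
    (h1 : 2 * (m % bOrd q r) ≤ n % cOrd q r)
    (h2 : Odd (cOrd q r) → (r - 1) / bOrd q r + 2 * (m / bOrd q r) ≤ n / bOrd q r) :
    ∃ W : Submodule F V, finrank F W = m ∧ TI B W ∧ W.map y ≤ W := by
  have hR : B.IsRefl := hS.isRefl
  have hr0 : (r : F) ≠ 0 := cast_ne_zero_of_ne p r hr.out hrp
  have hrq := not_dvd_q hF p r hr.out hrp
  have hss : Module.End.IsSemisimple y :=
    isSemisimple_of_pow_eq_smul y r hr0 1 one_ne_zero (by rw [hy, one_smul])
  have hinj : Function.Injective y :=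
    injective_of_pow_eq_smul y r 1 one_ne_zero (by rw [hy, one_smul]) hr.out.ne_zero
  obtain ⟨hMx, hMn, hME, hdim, horth⟩ :=
    movPart_props hR y hiso r hr.out.ne_zero hr0 hy hN
  have hMinv : movPart B y ∈ Module.End.invtSubmodule y := by
    rw [Module.End.mem_invtSubmodule_iff_map_le, hMx]
  have hbpos := bOrd_pos (r := r) hrq
  have hcpos := cOrd_pos (r := r) hrq
  have hbdvd := bOrd_dvd_finrank hF p r hrp y hy (movPart B y) hMinv hME
  rw [hn] at hdim
  by_cases hce : Even (cOrd q r)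
  · -- `c` even
    have hb := bOrd_eq_of_c (r := r) hrq
    rw [if_pos hce] at hb
    have hc2 : cOrd q r = 2 * bOrd q r := by
      obtain ⟨t, ht⟩ := hce
      omega
    have hcd : 2 * bOrd q r ∣ finrank F (movPart B y) :=
      two_mul_dvd_of_source hR y hiso hss hinj (bOrd q r) hbpos (movPart B y)
        (fun S hSM hSx _ hlt => by
          have hSE : S ⊓ Module.End.eigenspace y 1 = ⊥ := by
            rw [eq_bot_iff, ← hME]
            exact inf_le_inf_right _ hSM
          exact source_ceven hF B hS p r hrp y hiso hy hce S hSx hSE hlt)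
        _ (movPart B y) rfl le_rfl hMx hMn
    obtain ⟨a, ha⟩ := hcd
    rw [hc2] at h1
    obtain ⟨j, w, hjw, hw, hj⟩ := suff_arith_even (bOrd q r) m n a hbpos (by omega) hmn h1
    obtain ⟨W, hW1, hW2, hW3⟩ := exists_ti_invt hF B hS hN p r hrp y hiso hy j w
      (by
        rcases hj with h | h
        · exact Or.inl h
        · right
          unfold thr
          rw [if_pos hce, ha]
          omega)
      (by omega)
    exact ⟨W, by rw [hW1, hjw], hW2, hW3⟩
  · -- `c` odd
    have hb := bOrd_eq_of_c (r := r) hrq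
    rw [if_neg hce] at hb
    rw [Nat.not_even_iff_odd] at hce
    have h2' := h2 hce
    obtain ⟨a, ha⟩ := hbdvd
    rw [hb] at h1 h2' ha
    obtain ⟨j, w, hjw, hw, hj⟩ := suff_arith_odd (cOrd q r) m n a ((r - 1) / cOrd q r) hcpos
      (by omega) hmn h1 h2'
    obtain ⟨W, hW1, hW2, hW3⟩ := exists_ti_invt hF B hS hN p r hrp y hiso hy j w
      (by
        rcases hj with h | h
        · exact Or.inl h
        · right
          unfold thr
          rw [if_neg (Nat.not_even_iff_odd.mpr hce), ha, hb]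
          have h3 : r - 1 < cOrd q r * ((r - 1) / cOrd q r + 1) :=
            Nat.lt_mul_div_succ (r - 1) hcpos
          have h4 : cOrd q r * ((r - 1) / cOrd q r + 1 + 2 * j) ≤ cOrd q r * (a + 2) :=
            Nat.mul_le_mul_left _ (by omega)
          have h5 : cOrd q r * ((r - 1) / cOrd q r + 1 + 2 * j) =
              cOrd q r * ((r - 1) / cOrd q r + 1) + 2 * cOrd q r * j := by ring
          have h6 : cOrd q r * (a + 2) = cOrd q r * a + 2 * cOrd q r := by ring
          omega)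
      (by omega)
    exact ⟨W, by rw [hW1, hb, hjw], hW2, hW3⟩

end source

end Cfsg.Agent.Lib.Helper12.HU
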