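import Mathlib
import Cfsg.Agent.Lib.Helper12.HU6

/-!
# Isometries whose `r`-th power is a scalar that is not an `r`-th power
-/

set_option autoImplicit false
set_option linter.unusedSectionVars false
set_option linter.unusedVariables false
set_option linter.style.haveILetI false

namespace Cfsg.Agent.Lib.Helper12.HU

open Module Submodule Polynomial Cfsg.Agent.Lib.Helper15.PSub Cfsg.Agent.Lib.Helper15.PDec
  Cfsg.Agent.Lib.Helper6 Cfsg.Agent.Lib.Helper16

section det

variable {F V : Type*} [Field F] [AddCommGroup V] [Module F V] [FiniteDimensional F V]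

/-- the determinant of an endomorphism with irreducible minimal polynomial `X ^ r - z` -/
theorem det_of_irreducible (T : V →ₗ[F] V) (r : ℕ) (hr : Odd r) (z : F)
    (hirr : Irreducible (X ^ r - C z : F[X])) (hT : T ^ r = z • (1 : V →ₗ[F] V)) :
    r ∣ finrank F V ∧ LinearMap.det T = z ^ (finrank F V / r) := by
  classical
  obtain ⟨P, hP⟩ : ∃ P : F[X], P = X ^ r - C z := ⟨_, rfl⟩
  rw [← hP] at hirr
  have hr1 : 1 ≤ r := hr.pos
  have hmonic : P.Monic := by rw [hP]; exact monic_X_pow_sub_C z (by omega)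
  have hdeg : P.natDegree = r := by rw [hP]; exact natDegree_X_pow_sub_C
  have hP0 : P ≠ 0 := hmonic.ne_zero
  haveI : Fact (Irreducible P) := ⟨hirr⟩
  have hPT : aeval T P = 0 := by
    rw [hP, map_sub, map_pow, aeval_X, aeval_C, hT, Algebra.algebraMap_eq_smul_one]
    exact sub_self _
  have hI : ∀ a : F[X], a ∈ Ideal.span ({P} : Set F[X]) → (aeval T : F[X] →ₐ[F] Module.End F V) a = 0 := by
    intro a ha
    obtain ⟨b, rfl⟩ := Ideal.mem_span_singleton.mp ha
    rw [map_mul, hPT, zero_mul]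
  let φ : AdjoinRoot P →ₐ[F] Module.End F V :=
    Ideal.Quotient.liftₐ (Ideal.span ({P} : Set F[X])) (aeval T) hI
  have hφroot : φ (AdjoinRoot.root P) = T := by
    show Ideal.Quotient.lift (Ideal.span ({P} : Set F[X])) _ hI (Ideal.Quotient.mk _ X) = T
    rw [Ideal.Quotient.lift_mk]
    exact aeval_X T
  letI : Module (AdjoinRoot P) V := Module.compHom V (φ : AdjoinRoot P →+* Module.End F V)
  have hsmul : ∀ (e : AdjoinRoot P) (v : V), e • v = φ e v := fun _ _ => rfl
  haveI : IsScalarTower F (AdjoinRoot P) V := ⟨fun a e v => by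
    rw [hsmul, hsmul, map_smul, LinearMap.smul_apply]⟩
  haveI : Module.Finite (AdjoinRoot P) V := Module.Finite.of_restrictScalars_finite F _ V
  have hfrE : finrank F (AdjoinRoot P) = r := by
    rw [(AdjoinRoot.powerBasis hP0).finrank, AdjoinRoot.powerBasis_dim, hdeg]
  haveI : Module.Finite F (AdjoinRoot P) := (AdjoinRoot.powerBasis hP0).finite
  have hfr := Module.finrank_mul_finrank F (AdjoinRoot P) V
  rw [hfrE] at hfr
  refine ⟨⟨_, hfr.symm⟩, ?_⟩
  have hdiv : finrank F V / r = finrank (AdjoinRoot P) V := by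
    rw [← hfr, Nat.mul_div_cancel_left _ (by omega)]
  set f : V →ₗ[AdjoinRoot P] V := (AdjoinRoot.root P) • LinearMap.id with hf
  have hfT : f.restrictScalars F = T := by
    apply LinearMap.ext
    intro v
    show (AdjoinRoot.root P) • v = T v
    rw [hsmul]
    rw [hφroot]
  have hnorm : Algebra.norm F (AdjoinRoot.root P) = z := by
    have h1 := Algebra.PowerBasis.norm_gen_eq_coeff_zero_minpoly (AdjoinRoot.powerBasis hP0)
    have hc0 : P.coeff 0 = -z := by
      rw [hP]
      simp only [coeff_sub, coeff_X_pow, coeff_C_zero]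
      rw [if_neg (by omega)]
      ring
    rw [AdjoinRoot.powerBasis_gen, AdjoinRoot.powerBasis_dim, AdjoinRoot.minpoly_root hP0,
      hmonic.leadingCoeff, inv_one, C_1, mul_one, hdeg, hr.neg_one_pow, hc0] at h1
    rw [h1]
    ring
  rw [← hfT, LinearMap.det_restrictScalars, hf, LinearMap.det_smul, LinearMap.det_id, mul_one,
    map_pow, hnorm, hdiv]

end det

section cyc

variable {F : Type*} [Field F] [Fintype F] {q : ℕ}

/-- if `z ∈ μ_{q+1}` is not an `r`-th power and `z ^ n₁ = 1` then `(q+1)_r < (r n₁)_r` -/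
theorem padic_lt_of_nonpower (hF : Fintype.card F = q ^ 2) (r : ℕ) [hr : Fact r.Prime]
    (hr2 : r ≠ 2) (hrq : r ∣ q + 1) (z : F) (hz : z ^ (q + 1) = 1) (hnr : ∀ w : F, w ^ r ≠ z)
    (n₁ : ℕ) (hn : 0 < n₁) (hzn : z ^ n₁ = 1) :
    padicValNat r (q + 1) < padicValNat r (r * n₁) := by
  classical
  have hq : 2 ≤ q := two_le_q hF
  have hz0 : z ≠ 0 := by
    intro h
    rw [h, zero_pow (by omega)] at hz
    exact zero_ne_one hz
  obtain ⟨g, hg⟩ := IsCyclic.exists_generator (α := Fˣ)
  have hord : orderOf g = q ^ 2 - 1 := by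
    rw [orderOf_eq_card_of_forall_mem_zpowers hg, Nat.card_eq_fintype_card, Fintype.card_units, hF]
  have hN : q ^ 2 - 1 = (q - 1) * (q + 1) := by
    obtain ⟨a, rfl⟩ : ∃ a, q = a + 1 := ⟨q - 1, by omega⟩
    simp only [Nat.add_sub_cancel]
    have : (a + 1) ^ 2 = a * (a + 1 + 1) + 1 := by ring
    rw [this, Nat.add_sub_cancel]
  obtain ⟨a, ha⟩ : ∃ a : ℕ, g ^ a = Units.mk0 z hz0 := by
    have := hg (Units.mk0 z hz0)
    rw [Subgroup.mem_zpowers_iff] at this
    obtain ⟨k, hk⟩ := this
    refine ⟨(k % (orderOf g : ℤ)).toNat, ?_⟩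
    have hpos : (0 : ℤ) < orderOf g := by
      rw [hord]
      have : 4 ≤ q ^ 2 := by nlinarith
      omega
    rw [← zpow_natCast, Int.toNat_of_nonneg (Int.emod_nonneg _ hpos.ne'), zpow_mod_orderOf, hk]
  have hzu : ∀ k : ℕ, z ^ k = 1 ↔ (q ^ 2 - 1) ∣ a * k := by
    intro k
    rw [← hord, orderOf_dvd_iff_pow_eq_one, pow_mul, ha]
    constructor
    · intro h
      apply Units.ext
      rw [Units.val_pow_eq_pow_val, Units.val_mk0, h, Units.val_one]
    · intro h
      have := congrArg Units.val h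
      rwa [Units.val_pow_eq_pow_val, Units.val_mk0, Units.val_one] at this
  -- `(q - 1) ∣ a`
  have h1 : (q - 1) ∣ a := by
    have := (hzu (q + 1)).mp hz
    rw [hN, mul_comm a] at this
    exact (Nat.mul_dvd_mul_iff_right (by omega : 0 < q + 1)).mp (by rwa [mul_comm (q + 1) a] at this)
  obtain ⟨a', ha'⟩ := h1
  -- `r ∤ a`
  have h2 : ¬ r ∣ a := by
    rintro ⟨t, ht⟩
    apply hnr ((g ^ t : Fˣ) : F)
    rw [← Units.val_pow_eq_pow_val, ← pow_mul, mul_comm, ← ht, ha, Units.val_mk0]
  have h2' : ¬ r ∣ a' := fun h => h2 (ha' ▸ Dvd.dvd.mul_left h _)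
  -- `(q + 1) ∣ a' * n₁`
  have h3 : (q + 1) ∣ a' * n₁ := by
    have := (hzu n₁).mp hzn
    rw [hN, ha', mul_assoc] at this
    exact (Nat.mul_dvd_mul_iff_left (by omega : 0 < q - 1)).mp this
  set e := padicValNat r (q + 1) with he
  have h4 : r ^ e ∣ q + 1 := pow_padicValNat_dvd
  have h5 : r ^ e ∣ a' * n₁ := h4.trans h3
  have hcop : Nat.Coprime (r ^ e) a' :=
    Nat.Coprime.pow_left _ ((Nat.Prime.coprime_iff_not_dvd hr.out).mpr h2')
  have h6 : r ^ e ∣ n₁ := hcop.dvd_of_dvd_mul_left h5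
  have h7 : r ^ (e + 1) ∣ r * n₁ := by
    rw [pow_succ, mul_comm]
    exact Nat.mul_dvd_mul_left r h6
  have h8 := (padicValNat_dvd_iff_le (p := r) (Nat.mul_ne_zero hr.out.ne_zero (by omega) : r * n₁ ≠ 0)).mp h7
  omega

end cyc

section suff

variable {F V : Type*} [Field F] [Fintype F] [AddCommGroup V] [Module F V]
  [FiniteDimensional F V] {q : ℕ}

/-- invariant totally isotropic subspaces when `X ^ r - z` is irreducible -/
theorem exists_ti_irreducible (hF : Fintype.card F = q ^ 2) (B : V →ₛₗ[conjQ hF] V →ₗ[F] F)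
    (hS : B.IsSymm) (hN : ∀ u, (∀ v, B u v = 0) → u = 0) (p : ℕ) [hp : Fact p.Prime] [CharP F p]
    (r : ℕ) [hr : Fact r.Prime] (hrp : r ≠ p) (T : V →ₗ[F] V)
    (hiso : ∀ u v, B (T u) (T v) = B u v) (z : F) (hz0 : z ≠ 0)
    (hirr : Irreducible (X ^ r - C z : F[X])) (hT : T ^ r = z • (1 : V →ₗ[F] V))
    (j : ℕ) (hj : 2 * (r * j) ≤ finrank F V) :
    ∃ W : Submodule F V, finrank F W = r * j ∧ TI B W ∧ W.map T ≤ W := by
  have hR : B.IsRefl := hS.isRefl
  have hr0 : (r : F) ≠ 0 := cast_ne_zero_of_ne p r hr.out hrp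
  have hrpos : 0 < r := hr.out.pos
  have hss : Module.End.IsSemisimple T := isSemisimple_of_pow_eq_smul T r hr0 z hz0 hT
  have hinj : Function.Injective T := injective_of_pow_eq_smul T r z hz0 hT hr.out.ne_zero
  have hdeg : (X ^ r - C z : F[X]).natDegree = r := natDegree_X_pow_sub_C
  have hkill : ∀ w : V, aeval T (X ^ r - C z : F[X]) w = 0 := by
    intro w
    rw [map_sub, map_pow, aeval_X, aeval_C, hT, Algebra.algebraMap_eq_smul_one, sub_self,
      LinearMap.zero_apply]
  have htop : (⊤ : Submodule F V).map T = ⊤ := by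
    rw [Submodule.map_top]
    exact LinearMap.range_eq_top.mpr (LinearMap.injective_iff_surjective.mp hinj)
  have htopn : NondegOn B (⊤ : Submodule F V) := fun u _ hu => hN u fun v => hu v mem_top
  have h := peel_engine hR T hiso hss hinj r r ⊤
    (fun S _ hSx _ hlt => by
      have hSinv : S ∈ Module.End.invtSubmodule T := by
        rw [Module.End.mem_invtSubmodule_iff_map_le, hSx]
      have hdvd : r ∣ finrank F S :=
        dvd_finrank_of_killed T hss _ hirr.ne_zero r (fun P' hP' hd => by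
          have := (hP'.associated_of_dvd hirr hd)
          rw [natDegree_eq_of_degree_eq (degree_eq_degree_of_associated this), hdeg])
          S hSinv (fun w _ => hkill w)
      have h2 : 2 * r ≤ finrank F S := by
        obtain ⟨k, hk⟩ := hdvd
        rw [hk] at hlt ⊢
        have hk2 : 2 ≤ k := by
          by_contra hlt'
          have : k ≤ 1 := by omega
          have := Nat.mul_le_mul_left r this
          omega
        calc 2 * r = r * 2 := mul_comm _ _
          _ ≤ r * k := Nat.mul_le_mul_left _ hk2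
      obtain ⟨U, hU1, hU2, hU3, hU4⟩ := exists_ti_of_large hF B hS T hiso _ hirr S hSinv
        (fun w _ => hkill w) (by rw [hdeg]; exact h2)
      exact ⟨U, hU1, hU2, hU3, by rw [hU4, hdeg]⟩)
    j ⊤ le_rfl htop htopn (by
      rw [finrank_top]
      have : 2 * r * j = 2 * (r * j) := by ring
      omega)
  obtain ⟨W, -, hWinv, hWti, hWdim⟩ := h
  exact ⟨W, hWdim, hWti, (Module.End.mem_invtSubmodule_iff_map_le _).mp hWinv⟩

end suff

end Cfsg.Agent.Lib.Helper12.HU
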