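import Mathlib
import Cfsg.Agent.Lib.Helper12.HU7
import Cfsg.Agent.Lib.Helper16.UnitaryCount5

/-!
# Counting totally isotropic subspaces of a hermitian space
-/

set_option autoImplicit false
set_option linter.unusedSectionVars false
set_option linter.unusedVariables false
set_option linter.style.haveILetI false

namespace Cfsg.Agent.Lib.Helper12.HU

open Module Submodule Polynomial Cfsg.Agent.Lib.Helper15.PSub Cfsg.Agent.Lib.Helper15.PDec
  Cfsg.Agent.Lib.Helper6 Cfsg.Agent.Lib.Helper16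

/-- the number of nonzero isotropic vectors of the `d`-dimensional hermitian space -/
def isoNum (q d : ℕ) : ℕ :=
  if Even d then (q ^ d - 1) * (q ^ (d - 1) + 1) else (q ^ d + 1) * (q ^ (d - 1) - 1)

section perp

variable {F V : Type*} [Field F] [AddCommGroup V] [Module F V] [FiniteDimensional F V]
  {σ : F →+* F} {B : V →ₛₗ[σ] V →ₗ[F] F}

theorem finrank_add_perp (hR : B.IsRefl) (hN : ∀ u, (∀ v, B u v = 0) → u = 0)
    (S : Submodule F V) : finrank F S + finrank F (perpIn B ⊤ S) = finrank F V := by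
  have h1 := finrank_le_add_perpIn (B := B) ⊤ S
  rw [finrank_top] at h1
  obtain ⟨C', hC'⟩ := Submodule.exists_isCompl (perpIn B ⊤ S)
  have h2 := Submodule.finrank_sup_add_finrank_inf_eq (perpIn B ⊤ S) C'
  rw [hC'.sup_eq_top, hC'.inf_eq_bot, finrank_bot, add_zero, finrank_top] at h2
  have h3 : finrank F S ≤ finrank F C' := by
    apply finrank_le_of_pairing (B := B) C' S
    intro u hu hu0
    apply hN
    intro v
    have hv : v ∈ perpIn B ⊤ S ⊔ C' := by rw [hC'.sup_eq_top]; exact mem_top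
    obtain ⟨t, ht, c, hc, rfl⟩ := mem_sup.mp hv
    rw [map_add, (mem_perpIn.mp ht).2 u hu, hR _ _ (hu0 c hc), add_zero]
  omega

omit [FiniteDimensional F V] in
theorem span_ti {k : ℕ} (s : Fin k → V) (h : ∀ a b, B (s a) (s b) = 0) :
    TI B (span F (Set.range s)) := by
  intro u hu w hw
  induction hu using Submodule.span_induction with
  | mem a ha =>
    obtain ⟨ea, rfl⟩ := ha
    induction hw using Submodule.span_induction with
    | mem b hb =>
      obtain ⟨eb, rfl⟩ := hb
      exact h ea eb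
    | zero => simp
    | add b c _ _ hb hc => rw [map_add, hb, hc, add_zero]
    | smul t b _ hb => rw [map_smul, hb, smul_zero]
  | zero => simp
  | add a c _ _ ha hc => rw [map_add, LinearMap.add_apply, ha, hc, add_zero]
  | smul t a _ ha => rw [map_smulₛₗ, LinearMap.smul_apply, ha, smul_zero]

end perp

section count

variable {F V : Type*} [Field F] [Fintype F] [AddCommGroup V] [Module F V]
  [FiniteDimensional F V] {q : ℕ}

/-- the number of isotropic vectors of a nondegenerate subspace -/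
theorem card_isotropic (hF : Fintype.card F = q ^ 2) (B : V →ₛₗ[conjQ hF] V →ₗ[F] F)
    (hS : B.IsSymm) (C : Submodule F V) (hCn : NondegOn B C) :
    Nat.card {c : V // c ∈ C ∧ B c c = 0} = isoNum q (finrank F C) + 1 := by
  classical
  set BW : C →ₛₗ[conjQ hF] C →ₗ[F] F := B.domRestrict₁₂ C C with hBWdef
  have hBW : ∀ w w' : C, BW w w' = B (w : V) (w' : V) := fun _ _ => rfl
  have hSW : BW.IsSymm := ⟨fun x y => by rw [hBW, hBW]; exact hS.eq _ _⟩
  have hNW : ∀ w : C, (∀ v, BW w v = 0) → w = 0 := by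
    intro w hw
    apply Subtype.ext
    apply hCn w.1 w.2
    intro u hu
    exact hw ⟨u, hu⟩
  obtain ⟨φ, hφ⟩ := exists_std_herm hF BW hSW hNW (finrank F C) rfl
  have hnorm : ∀ x : Fin (finrank F C) → F,
      Cfsg.hermForm (finrank F C) F q x x = ∑ i, x i ^ (q + 1) := by
    intro x
    unfold Cfsg.hermForm
    apply Finset.sum_congr rfl
    intro i _
    rw [pow_succ']
  have key : ∀ c : C, B (c : V) (c : V) = 0 ↔ ∑ i, (φ c) i ^ (q + 1) = 0 := by
    intro c
    rw [← hnorm, hφ, hBW]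
  unfold isoNum
  rw [← normCount_zero_explicit hF (finrank F C)]
  unfold normCount
  apply Nat.card_congr
  exact
    { toFun := fun c => ⟨φ ⟨c.1, c.2.1⟩, (key ⟨c.1, c.2.1⟩).mp c.2.2⟩
      invFun := fun x => ⟨(φ.symm x.1 : C), (φ.symm x.1).2, by
        rw [key, LinearEquiv.apply_symm_apply]
        exact x.2⟩
      left_inv := fun c => by
        apply Subtype.ext
        simp
      right_inv := fun x => by
        apply Subtype.ext
        simp }

/-- linearly independent families of pairwise orthogonal isotropic vectors -/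
abbrev TIFrame (hF : Fintype.card F = q ^ 2) (B : V →ₛₗ[conjQ hF] V →ₗ[F] F) (k : ℕ) : Type _ :=
  {s : Fin k → V // LinearIndependent F s ∧ ∀ a b, B (s a) (s b) = 0}

/-- the fibres of the restriction map on frames -/
noncomputable def tiFrameEquiv (hF : Fintype.card F = q ^ 2) (B : V →ₛₗ[conjQ hF] V →ₗ[F] F)
    (hR : B.IsRefl) (k : ℕ) :
    TIFrame hF B (k + 1) ≃
      Σ s : TIFrame hF B k, {w : V // (∀ a, B (s.1 a) w = 0) ∧ B w w = 0 ∧
        w ∉ span F (Set.range s.1)} where
  toFun s := ⟨⟨Fin.init s.1, (linearIndependent_finSucc'.mp s.2.1).1,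
      fun a b => s.2.2 a.castSucc b.castSucc⟩,
    ⟨s.1 (Fin.last k), fun a => s.2.2 a.castSucc (Fin.last k), s.2.2 _ _,
      (linearIndependent_finSucc'.mp s.2.1).2⟩⟩
  invFun s := ⟨Fin.snoc s.1.1 s.2.1, linearIndependent_finSnoc.mpr ⟨s.1.2.1, s.2.2.2.2⟩, by
    intro a b
    induction a using Fin.lastCases with
    | last =>
      induction b using Fin.lastCases with
      | last => rw [Fin.snoc_last]; exact s.2.2.2.1
      | cast b =>
        rw [Fin.snoc_last, Fin.snoc_castSucc]
        exact hR _ _ (s.2.2.1 b)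
    | cast a =>
      induction b using Fin.lastCases with
      | last => rw [Fin.snoc_last, Fin.snoc_castSucc]; exact s.2.2.1 a
      | cast b => rw [Fin.snoc_castSucc, Fin.snoc_castSucc]; exact s.1.2.2 a b⟩
  left_inv s := by
    apply Subtype.ext
    exact Fin.snoc_init_self s.1
  right_inv := fun ⟨s, w⟩ => by
    have h1 : Fin.init (Fin.snoc s.1 w.1 : Fin (k + 1) → V) = s.1 := Fin.init_snoc _ _
    refine Sigma.ext (Subtype.ext h1) ?_
    apply (Subtype.heq_iff_coe_eq ?_).mpr
    · show (Fin.snoc s.1 w.1 : Fin (k + 1) → V) (Fin.last k) = w.1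
      exact Fin.snoc_last _ _
    · intro x
      show ((∀ a, B (Fin.init (Fin.snoc s.1 w.1 : Fin (k + 1) → V) a) x = 0) ∧ B x x = 0 ∧
        x ∉ span F (Set.range (Fin.init (Fin.snoc s.1 w.1 : Fin (k + 1) → V)))) ↔ _
      rw [h1]

theorem card_fiber (hF : Fintype.card F = q ^ 2) (B : V →ₛₗ[conjQ hF] V →ₗ[F] F)
    (hS : B.IsSymm) (hN : ∀ u, (∀ v, B u v = 0) → u = 0) (k : ℕ) (s : TIFrame hF B k) :
    Nat.card {w : V // (∀ a, B (s.1 a) w = 0) ∧ B w w = 0 ∧ w ∉ span F (Set.range s.1)} =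
      q ^ (2 * k) * isoNum q (finrank F V - 2 * k) := by
  classical
  have hR : B.IsRefl := hS.isRefl
  have : Finite V := Module.finite_of_finite F
  obtain ⟨U, hU⟩ : ∃ U : Submodule F V, U = span F (Set.range s.1) := ⟨_, rfl⟩
  have hUdim : finrank F U = k := by
    rw [hU, finrank_span_eq_card s.2.1, Fintype.card_fin]
  have hti : TI B U := by rw [hU]; exact span_ti s.1 s.2.2
  rw [← hU]
  set P := perpIn B ⊤ U with hP
  have hUP : U ≤ P := fun u hu => mem_perpIn.mpr ⟨mem_top, fun u' hu' => hti u' hu' u hu⟩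
  have hPdim : k + finrank F P = finrank F V := by
    have := finrank_add_perp hR hN U
    rwa [hUdim] at this
  -- a complement of `U` in `P`
  obtain ⟨C', hC'⟩ := Submodule.exists_isCompl U
  set C := P ⊓ C' with hC
  have hsup : U ⊔ C = P := by
    rw [hC, inf_comm P C', ← sup_inf_assoc_of_le C' hUP, hC'.sup_eq_top, top_inf_eq]
  have hinf : U ⊓ C = ⊥ := by
    rw [eq_bot_iff]
    calc U ⊓ C ≤ U ⊓ C' := inf_le_inf_left _ inf_le_right
      _ = ⊥ := hC'.inf_eq_bot
  have hCdim : finrank F C = finrank F V - 2 * k := by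
    have h1 := Submodule.finrank_sup_add_finrank_inf_eq U C
    rw [hinf, hsup, finrank_bot, add_zero, hUdim] at h1
    omega
  have hCP : C ≤ P := inf_le_left
  -- the double perpendicular
  have hPP : perpIn B ⊤ P = U := by
    symm
    apply Submodule.eq_of_le_of_finrank_le
    · intro u hu
      exact mem_perpIn.mpr ⟨mem_top, fun w hw => hR _ _ ((mem_perpIn.mp hw).2 u hu)⟩
    · have := finrank_add_perp hR hN P
      omega
  have hCn : NondegOn B C := by
    intro c hc hc0
    have h1 : c ∈ perpIn B ⊤ P := by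
      refine mem_perpIn.mpr ⟨mem_top, fun w hw => ?_⟩
      rw [← hsup] at hw
      obtain ⟨u, hu, c', hc', rfl⟩ := mem_sup.mp hw
      rw [map_add, LinearMap.add_apply, (mem_perpIn.mp (hCP hc)).2 u hu, zero_add]
      exact hR _ _ (hc0 c' hc')
    rw [hPP] at h1
    have : c ∈ U ⊓ C := ⟨h1, hc⟩
    rw [hinf] at this
    exact (mem_bot F).mp this
  have hnorm : ∀ u ∈ U, ∀ c ∈ C, B (u + c) (u + c) = B c c := by
    intro u hu c hc
    have h1 : B u c = 0 := (mem_perpIn.mp (hCP hc)).2 u hu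
    simp only [map_add, LinearMap.add_apply, hti u hu u hu, h1, hR _ _ h1, zero_add]
  -- the isotropic vectors of `P`
  have hP0 : Nat.card {w : V // w ∈ P ∧ B w w = 0} =
      Nat.card U * Nat.card {c : V // c ∈ C ∧ B c c = 0} := by
    rw [← Nat.card_prod]
    symm
    apply Nat.card_eq_of_bijective
      (fun x : U × {c : V // c ∈ C ∧ B c c = 0} =>
        (⟨(x.1 : V) + x.2.1, by
          rw [← hsup]
          exact add_mem (mem_sup_left x.1.2) (mem_sup_right x.2.2.1), by
          rw [hnorm _ x.1.2 _ x.2.2.1]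
          exact x.2.2.2⟩ : {w : V // w ∈ P ∧ B w w = 0}))
    constructor
    · rintro ⟨u, c⟩ ⟨u', c'⟩ h
      have h1 : (u : V) + c.1 = (u' : V) + c'.1 := congrArg Subtype.val h
      have h2 : (u : V) - u' = c'.1 - c.1 := by
        rw [sub_eq_sub_iff_add_eq_add, h1, add_comm]
      have h3 : (u : V) - u' ∈ U ⊓ C :=
        ⟨sub_mem u.2 u'.2, by rw [h2]; exact sub_mem c'.2.1 c.2.1⟩
      rw [hinf, mem_bot] at h3
      have h4 : c'.1 - c.1 = 0 := by rw [← h2, h3]
      apply Prod.ext
      · exact Subtype.ext (sub_eq_zero.mp h3)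
      · exact Subtype.ext (sub_eq_zero.mp h4).symm
    · rintro ⟨w, hw, hw0⟩
      rw [← hsup] at hw
      obtain ⟨u, hu, c, hc, rfl⟩ := mem_sup.mp hw
      rw [hnorm u hu c hc] at hw0
      exact ⟨(⟨u, hu⟩, ⟨c, hc, hw0⟩), rfl⟩
  -- the fibre as a difference of sets
  have hset : {w : V | (∀ a, B (s.1 a) w = 0) ∧ B w w = 0 ∧ w ∉ U} =
      {w : V | w ∈ P ∧ B w w = 0} \ (U : Set V) := by
    ext w
    simp only [Set.mem_ofPred_eq, Set.mem_sdiff, SetLike.mem_coe]
    constructor
    · rintro ⟨h1, h2, h3⟩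
      refine ⟨⟨mem_perpIn.mpr ⟨mem_top, fun u hu => ?_⟩, h2⟩, h3⟩
      rw [hU] at hu
      obtain ⟨c, rfl⟩ := (mem_span_range_iff_exists_fun F).mp hu
      simp only [map_sum, map_smulₛₗ, LinearMap.sum_apply, LinearMap.smul_apply, h1, smul_zero,
        Finset.sum_const_zero]
    · rintro ⟨⟨h1, h2⟩, h3⟩
      refine ⟨fun a => (mem_perpIn.mp h1).2 _ ?_, h2, h3⟩
      rw [hU]
      exact subset_span ⟨a, rfl⟩
  have hsub : (U : Set V) ⊆ {w : V | w ∈ P ∧ B w w = 0} := fun u hu => ⟨hUP hu, hti u hu u hu⟩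
  have h1 : Nat.card {w : V // (∀ a, B (s.1 a) w = 0) ∧ B w w = 0 ∧ w ∉ U} =
      Set.ncard {w : V | (∀ a, B (s.1 a) w = 0) ∧ B w w = 0 ∧ w ∉ U} := by
    rw [← Nat.card_coe_set_eq]
    rfl
  have h2 : Nat.card {w : V // w ∈ P ∧ B w w = 0} = Set.ncard {w : V | w ∈ P ∧ B w w = 0} := by
    rw [← Nat.card_coe_set_eq]
    rfl
  have h3 : Nat.card ↥U = q ^ (2 * k) := by
    rw [Module.natCard_eq_pow_finrank (K := F), hUdim, Nat.card_eq_fintype_card, hF, ← pow_mul]
  rw [h1, hset, Set.ncard_sdiff hsub (Set.toFinite _), ← h2, hP0,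
    card_isotropic hF B hS C hCn, hCdim, ← Nat.card_coe_set_eq]
  have h4 : Nat.card ↥(U : Set V) = Nat.card ↥U := rfl
  rw [h4, h3, Nat.mul_add, mul_one, Nat.add_sub_cancel]

theorem card_tiFrame (hF : Fintype.card F = q ^ 2) (B : V →ₛₗ[conjQ hF] V →ₗ[F] F)
    (hS : B.IsSymm) (hN : ∀ u, (∀ v, B u v = 0) → u = 0) (k : ℕ) :
    Nat.card (TIFrame hF B k) =
      ∏ j ∈ Finset.range k, (q ^ (2 * j) * isoNum q (finrank F V - 2 * j)) := by
  classical
  have : Finite V := Module.finite_of_finite F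
  induction k with
  | zero =>
    rw [Finset.range_zero, Finset.prod_empty]
    have : Unique (TIFrame hF B (V := V) 0) :=
      { default := ⟨Fin.elim0, linearIndependent_empty_type, fun a => a.elim0⟩
        uniq := fun s => Subtype.ext (funext fun a => a.elim0) }
    exact Nat.card_unique
  | succ k ih =>
    have : Fintype (TIFrame hF B (V := V) k) := Fintype.ofFinite _
    rw [Nat.card_congr (tiFrameEquiv hF B hS.isRefl k), Nat.card_sigma,
      Finset.sum_congr rfl (fun s _ => card_fiber hF B hS hN k s), Finset.sum_const, smul_eq_mul,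
      Finset.card_univ, ← Nat.card_eq_fintype_card, ih, Finset.prod_range_succ]

/-- `N_ti(m) * ∏_{j<m} (Q^m - Q^j) = ∏_{j<m} q^(2j) isoNum(n - 2j)` with `Q = q²` -/
theorem card_ti_mul (hF : Fintype.card F = q ^ 2) (B : V →ₛₗ[conjQ hF] V →ₗ[F] F)
    (hS : B.IsSymm) (hN : ∀ u, (∀ v, B u v = 0) → u = 0) (m : ℕ) :
    Nat.card {W : Submodule F V // finrank F W = m ∧ TI B W} *
        ∏ j : Fin m, (Fintype.card F ^ m - Fintype.card F ^ (j : ℕ)) =
      ∏ j ∈ Finset.range m, (q ^ (2 * j) * isoNum q (finrank F V - 2 * j)) := by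
  classical
  have : Finite V := Module.finite_of_finite F
  rw [← card_tiFrame hF B hS hN m]
  let φ : TIFrame hF B m → {W : Submodule F V // finrank F W = m ∧ TI B W} :=
    fun s => ⟨Submodule.span F (Set.range s.1), by
      rw [finrank_span_eq_card s.2.1, Fintype.card_fin], span_ti s.1 s.2.2⟩
  have : Finite {W : Submodule F V // finrank F W = m ∧ TI B W} := by
    have : Finite (Submodule F V) := Finite.of_injective (fun W => (W : Set V)) SetLike.coe_injective
    infer_instance
  have : Fintype {W : Submodule F V // finrank F W = m ∧ TI B W} := Fintype.ofFinite _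
  have : Fintype (TIFrame hF B (V := V) m) := Fintype.ofFinite _
  rw [Nat.card_congr (Equiv.sigmaFiberEquiv φ).symm, Nat.card_sigma]
  have h2 : ∀ W : {W : Submodule F V // finrank F W = m ∧ TI B W},
      Nat.card {s : TIFrame hF B m // φ s = W} =
        ∏ j : Fin m, (Fintype.card F ^ m - Fintype.card F ^ (j : ℕ)) := by
    intro W
    rw [← card_bases m W.1 W.2.1, ← Nat.card_congr (fiberEquiv m W.1)]
    apply Nat.card_congr
    refine
      { toFun := fun s => ⟨⟨s.1.1, s.1.2.1⟩, congrArg Subtype.val s.2⟩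
        invFun := fun s => ⟨⟨s.1.1, s.1.2, fun a b => ?_⟩, Subtype.ext s.2⟩
        left_inv := fun s => rfl
        right_inv := fun s => rfl }
    have hsW : span F (Set.range s.1.1) ≤ W.1 := le_of_eq s.2
    have ha : s.1.1 a ∈ W.1 := hsW (subset_span ⟨a, rfl⟩)
    have hb : s.1.1 b ∈ W.1 := hsW (subset_span ⟨b, rfl⟩)
    exact W.2.2 _ ha _ hb
  rw [Finset.sum_congr rfl (fun W _ => h2 W), Finset.sum_const, smul_eq_mul, Finset.card_univ,
    Nat.card_eq_fintype_card]

end count

end Cfsg.Agent.Lib.Helper12.HU
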