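import Mathlib
import Cfsg.Agent.Lib.Helper12.HU8

/-!
# Primes dividing the number of totally isotropic subspaces of a hermitian space
-/

set_option autoImplicit false
set_option linter.unusedSectionVars false
set_option linter.unusedVariables false
set_option linter.style.haveILetI false

namespace Cfsg.Agent.Lib.Helper12.HU

open Module Submodule Polynomial Cfsg.Agent.Lib.Helper15.PSub Cfsg.Agent.Lib.Helper15.PDec
  Cfsg.Agent.Lib.Helper6 Cfsg.Agent.Lib.Helper16

section count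

variable {F V : Type*} [Field F] [Fintype F] [AddCommGroup V] [Module F V]
  [FiniteDimensional F V] {q : ℕ}

/-- `N_ti(m) * ∏_{j<m} (Q^(m-j) - 1) = ∏_{j<m} isoNum(n - 2j)` -/
theorem card_ti_mul' (hF : Fintype.card F = q ^ 2) (B : V →ₛₗ[conjQ hF] V →ₗ[F] F)
    (hS : B.IsSymm) (hN : ∀ u, (∀ v, B u v = 0) → u = 0) (m : ℕ) :
    Nat.card {W : Submodule F V // finrank F W = m ∧ TI B W} *
        ∏ j ∈ Finset.range m, (Fintype.card F ^ (m - j) - 1) =
      ∏ j ∈ Finset.range m, isoNum q (finrank F V - 2 * j) := by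
  have h := card_ti_mul hF B hS hN m
  rw [prod_pow_sub_pow _ _ _ le_rfl, Finset.prod_mul_distrib] at h
  have hq : 2 ≤ q := two_le_q hF
  have hpos : 0 < ∏ j ∈ Finset.range m, Fintype.card F ^ j := by
    apply Finset.prod_pos
    intro j _
    exact pow_pos Fintype.card_pos _
  have heq : ∏ j ∈ Finset.range m, q ^ (2 * j) = ∏ j ∈ Finset.range m, Fintype.card F ^ j := by
    apply Finset.prod_congr rfl
    intro j _
    rw [hF, ← pow_mul]
  rw [heq] at h
  apply Nat.eq_of_mul_eq_mul_left hpos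
  rw [← h]
  ring

theorem dvd_q_of_char (hF : Fintype.card F = q ^ 2) (p : ℕ) [hp : Fact p.Prime] [CharP F p] :
    p ∣ q := by
  obtain ⟨⟨f, hf0⟩, -, hf⟩ := FiniteField.card F p
  have hf' : Fintype.card F = p ^ f := hf
  have h1 : p ∣ q ^ 2 := by
    rw [← hF, hf']
    exact dvd_pow_self p (by omega)
  exact hp.out.dvd_of_dvd_pow h1

theorem not_dvd_isoNum (p : ℕ) (hp : p.Prime) (hpq : p ∣ q) (hq : 1 ≤ q) (d : ℕ) (hd : 2 ≤ d) :
    ¬ p ∣ isoNum q d := by
  have key1 : ∀ e, 1 ≤ e → ¬ p ∣ q ^ e - 1 := by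
    intro e he h
    have h1 : p ∣ q ^ e := Dvd.dvd.trans hpq (dvd_pow_self q (by omega))
    have h2 : 1 ≤ q ^ e := Nat.one_le_pow _ _ hq
    have h3 : p ∣ 1 := by
      have := Nat.dvd_sub h1 h
      rwa [Nat.sub_sub_self h2] at this
    exact hp.one_lt.ne' (Nat.dvd_one.mp h3)
  have key2 : ∀ e, 1 ≤ e → ¬ p ∣ q ^ e + 1 := by
    intro e he h
    have h1 : p ∣ q ^ e := Dvd.dvd.trans hpq (dvd_pow_self q (by omega))
    have h3 : p ∣ 1 := (Nat.dvd_add_right h1).mp h
    exact hp.one_lt.ne' (Nat.dvd_one.mp h3)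
  unfold isoNum
  split_ifs with he
  · intro h
    rcases (Nat.Prime.dvd_mul hp).mp h with h | h
    · exact key1 d (by omega) h
    · exact key2 (d - 1) (by omega) h
  · intro h
    rcases (Nat.Prime.dvd_mul hp).mp h with h | h
    · exact key2 d (by omega) h
    · exact key1 (d - 1) (by omega) h

/-- the characteristic does not divide the number of totally isotropic `m`-spaces -/
theorem not_dvd_card_ti (hF : Fintype.card F = q ^ 2) (B : V →ₛₗ[conjQ hF] V →ₗ[F] F)
    (hS : B.IsSymm) (hN : ∀ u, (∀ v, B u v = 0) → u = 0)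
    (p : ℕ) [hp : Fact p.Prime] [CharP F p] (m : ℕ) (hm : 2 * m ≤ finrank F V) :
    ¬ p ∣ Nat.card {W : Submodule F V // finrank F W = m ∧ TI B W} := by
  intro h
  have h1 := card_ti_mul' hF B hS hN m
  have h2 : p ∣ ∏ j ∈ Finset.range m, isoNum q (finrank F V - 2 * j) := by
    rw [← h1]
    exact Dvd.dvd.mul_right h _
  rw [Prime.dvd_finsetProd_iff hp.out.prime] at h2
  obtain ⟨j, hj, hj2⟩ := h2
  have hj' : j < m := Finset.mem_range.mp hj
  have hq : 2 ≤ q := two_le_q hF
  exact not_dvd_isoNum p hp.out (dvd_q_of_char hF p) (by omega) _ (by omega) hj2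

/-- a prime dividing the number of totally isotropic `m`-spaces divides some
`q ^ k - (-1) ^ k` with `n - 2 m < k ≤ n` -/
theorem mod_lt_of_dvd_card_ti (hF : Fintype.card F = q ^ 2) (B : V →ₛₗ[conjQ hF] V →ₗ[F] F)
    (hS : B.IsSymm) (hN : ∀ u, (∀ v, B u v = 0) → u = 0) (r : ℕ) [hr : Fact r.Prime]
    (hrq : ¬ r ∣ q) (m : ℕ) (hm : 2 * m ≤ finrank F V)
    (h : r ∣ Nat.card {W : Submodule F V // finrank F W = m ∧ TI B W}) :
    finrank F V % cOrd q r < 2 * m := by
  have hq : 2 ≤ q := two_le_q hF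
  have h1 := card_ti_mul' hF B hS hN m
  have h2 : r ∣ ∏ j ∈ Finset.range m, isoNum q (finrank F V - 2 * j) := by
    rw [← h1]
    exact Dvd.dvd.mul_right h _
  rw [Prime.dvd_finsetProd_iff hr.out.prime] at h2
  obtain ⟨j, hj, hj2⟩ := h2
  have hj' : j < m := Finset.mem_range.mp hj
  set n := finrank F V with hn
  set d := n - 2 * j with hd
  have hd2 : 2 ≤ d := by omega
  have hex : ∃ k, n - 2 * m < k ∧ k ≤ n ∧ cOrd q r ∣ k := by
    unfold isoNum at hj2
    split_ifs at hj2 with he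
    · rcases (Nat.Prime.dvd_mul hr.out).mp hj2 with h | h
      · exact ⟨d, by omega, by omega, (dvd_pow_sub_one_iff (by omega) d he).mp h⟩
      · have ho : Odd (d - 1) := by
          obtain ⟨t, ht⟩ := he
          exact ⟨t - 1, by omega⟩
        exact ⟨d - 1, by omega, by omega, (dvd_pow_add_one_iff (d - 1) ho).mp h⟩
    · rw [Nat.not_even_iff_odd] at he
      rcases (Nat.Prime.dvd_mul hr.out).mp hj2 with h | h
      · exact ⟨d, by omega, by omega, (dvd_pow_add_one_iff d he).mp h⟩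
      · have ho : Even (d - 1) := by
          obtain ⟨t, ht⟩ := he
          exact ⟨t, by omega⟩
        exact ⟨d - 1, by omega, by omega, (dvd_pow_sub_one_iff (by omega) (d - 1) ho).mp h⟩
  obtain ⟨k, hk1, hk2, t, ht⟩ := hex
  have hcpos := cOrd_pos (r := r) hrq
  have h3 : t ≤ n / cOrd q r := by
    rw [Nat.le_div_iff_mul_le hcpos, mul_comm, ← ht]
    exact hk2
  have h4 := Nat.div_add_mod n (cOrd q r)
  have h5 : cOrd q r * t ≤ cOrd q r * (n / cOrd q r) := Nat.mul_le_mul_left _ h3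
  omega

end count

end Cfsg.Agent.Lib.Helper12.HU
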