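import Mathlib
import Cfsg.Agent.Lib.Helper12.HU9

/-!
# Block models: orthogonal sums of copies of a hermitian space with a family of isometries
-/

set_option autoImplicit false
set_option linter.unusedSectionVars false
set_option linter.unusedVariables false
set_option linter.style.haveILetI false

namespace Cfsg.Agent.Lib.Helper12.HU

open Module Submodule Polynomial Cfsg.Agent.Lib.Helper15.PSub Cfsg.Agent.Lib.Helper15.PDec
  Cfsg.Agent.Lib.Helper6 Cfsg.Agent.Lib.Helper16 Cfsg.Agent.S0779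

section model

variable {F : Type*} [Field F] [Fintype F] {q : ℕ}
variable {U₀ : Type*} [AddCommGroup U₀] [Module F U₀]
variable {ι : Type*} [Fintype ι] [DecidableEq ι]

/-- the hermitian form of the block model -/
noncomputable def mForm (hF : Fintype.card F = q ^ 2) (B₀ : U₀ →ₛₗ[conjQ hF] U₀ →ₗ[F] F)
    (ι : Type*) [Fintype ι] (k₀ : ℕ) :
    ((ι → U₀) × (Fin k₀ → F)) →ₛₗ[conjQ hF] ((ι → U₀) × (Fin k₀ → F)) →ₗ[F] F :=
  LinearMap.mk₂'ₛₗ (conjQ hF) (RingHom.id F)
    (fun a b => (∑ k, B₀ (a.1 k) (b.1 k)) + hermB k₀ hF a.2 b.2)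
    (fun a a' b => by
      simp only [Prod.fst_add, Prod.snd_add, Pi.add_apply, map_add, LinearMap.add_apply,
        Finset.sum_add_distrib]
      ring)
    (fun c a b => by
      simp only [Prod.smul_fst, Prod.smul_snd, Pi.smul_apply, map_smulₛₗ, LinearMap.smul_apply,
        smul_eq_mul, Finset.mul_sum, mul_add])
    (fun a b b' => by
      simp only [Prod.fst_add, Prod.snd_add, Pi.add_apply, map_add, Finset.sum_add_distrib]
      ring)
    (fun c a b => by
      simp only [Prod.smul_fst, Prod.smul_snd, Pi.smul_apply, map_smul, smul_eq_mul,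
        Finset.mul_sum, mul_add, RingHom.id_apply])

omit [DecidableEq ι] in
theorem mForm_apply (hF : Fintype.card F = q ^ 2) (B₀ : U₀ →ₛₗ[conjQ hF] U₀ →ₗ[F] F) (k₀ : ℕ)
    (a b : (ι → U₀) × (Fin k₀ → F)) :
    mForm hF B₀ ι k₀ a b = (∑ k, B₀ (a.1 k) (b.1 k)) + hermB k₀ hF a.2 b.2 := rfl

omit [DecidableEq ι] in
theorem mForm_isSymm (hF : Fintype.card F = q ^ 2) (B₀ : U₀ →ₛₗ[conjQ hF] U₀ →ₗ[F] F)
    (hS₀ : B₀.IsSymm) (k₀ : ℕ) : (mForm hF B₀ ι k₀).IsSymm :=
  ⟨fun a b => by
    rw [mForm_apply, mForm_apply, map_add, map_sum, (hermB_isSymm hF).eq]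
    congr 1
    apply Finset.sum_congr rfl
    intro k _
    exact hS₀.eq _ _⟩

theorem mForm_nondeg (hF : Fintype.card F = q ^ 2) (B₀ : U₀ →ₛₗ[conjQ hF] U₀ →ₗ[F] F)
    (hN₀ : ∀ u, (∀ v, B₀ u v = 0) → u = 0) (k₀ : ℕ) (a : (ι → U₀) × (Fin k₀ → F))
    (ha : ∀ b, mForm hF B₀ ι k₀ a b = 0) : a = 0 := by
  apply Prod.ext
  · funext k
    apply hN₀
    intro v
    have := ha (Pi.single k v, 0)
    rw [mForm_apply, Finset.sum_eq_single k] at this
    · simpa using this
    · intro k' _ hk'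
      simp only [Pi.single_eq_of_ne hk', map_zero]
    · intro hk
      exact absurd (Finset.mem_univ k) hk
  · apply herm_nondeg hF
    intro y
    apply herm_swap_zero hF
    have := ha (0, y)
    rw [mForm_apply] at this
    simpa [hermB_apply] using this

/-- the model map: `T k` on the `k`-th copy, identity on the rest -/
noncomputable def mMap (T : ι → (U₀ →ₗ[F] U₀)) (k₀ : ℕ) :
    ((ι → U₀) × (Fin k₀ → F)) →ₗ[F] ((ι → U₀) × (Fin k₀ → F)) :=
  (LinearMap.pi fun k => T k ∘ₗ LinearMap.proj k).prodMap LinearMap.id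

omit [Fintype F] [Fintype ι] [DecidableEq ι] in
theorem mMap_apply (T : ι → (U₀ →ₗ[F] U₀)) (k₀ : ℕ) (a : (ι → U₀) × (Fin k₀ → F)) :
    mMap T k₀ a = (fun k => T k (a.1 k), a.2) := rfl

omit [Fintype F] [Fintype ι] [DecidableEq ι] in
theorem mMap_pow_apply (T : ι → (U₀ →ₗ[F] U₀)) (k₀ : ℕ) (n : ℕ)
    (a : (ι → U₀) × (Fin k₀ → F)) :
    ((mMap T k₀) ^ n) a = (fun k => ((T k) ^ n) (a.1 k), a.2) := by
  induction n generalizing a with
  | zero => simp
  | succ n ih =>
    rw [pow_succ, Module.End.mul_apply, mMap_apply, ih]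
    apply Prod.ext
    · funext k
      show ((T k) ^ n) (T k (a.1 k)) = ((T k) ^ (n + 1)) (a.1 k)
      rw [pow_succ, Module.End.mul_apply]
    · rfl

omit [Fintype F] [Fintype ι] [DecidableEq ι] in
theorem aeval_mMap (T : ι → (U₀ →ₗ[F] U₀)) (k₀ : ℕ) (P : F[X])
    (a : (ι → U₀) × (Fin k₀ → F)) :
    aeval (mMap T k₀) P a = (fun k => aeval (T k) P (a.1 k), (eval 1 P) • a.2) := by
  induction P using Polynomial.induction_on' with
  | add P Q hP hQ =>
    rw [map_add, LinearMap.add_apply, hP, hQ]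
    apply Prod.ext
    · funext k
      show aeval (T k) P (a.1 k) + aeval (T k) Q (a.1 k) = aeval (T k) (P + Q) (a.1 k)
      rw [map_add, LinearMap.add_apply]
    · show eval 1 P • a.2 + eval 1 Q • a.2 = eval 1 (P + Q) • a.2
      rw [eval_add, add_smul]
  | monomial n c =>
    rw [aeval_monomial, Module.algebraMap_end_eq_smul_id, ← Module.End.one_eq_id, smul_mul_assoc,
      one_mul, LinearMap.smul_apply, mMap_pow_apply]
    apply Prod.ext
    · funext k
      show c • ((T k) ^ n) (a.1 k) = aeval (T k) (monomial n c) (a.1 k)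
      rw [aeval_monomial, Module.algebraMap_end_eq_smul_id, ← Module.End.one_eq_id,
        smul_mul_assoc, one_mul, LinearMap.smul_apply]
    · show c • a.2 = eval 1 (monomial n c) • a.2
      rw [eval_monomial, one_pow, mul_one]

omit [DecidableEq ι] in
theorem mMap_iso (hF : Fintype.card F = q ^ 2) (B₀ : U₀ →ₛₗ[conjQ hF] U₀ →ₗ[F] F)
    (T : ι → (U₀ →ₗ[F] U₀)) (hT : ∀ k u v, B₀ (T k u) (T k v) = B₀ u v) (k₀ : ℕ)
    (a b : (ι → U₀) × (Fin k₀ → F)) :
    mForm hF B₀ ι k₀ (mMap T k₀ a) (mMap T k₀ b) = mForm hF B₀ ι k₀ a b := by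
  rw [mForm_apply, mForm_apply, mMap_apply, mMap_apply]
  simp only [hT]

omit [Fintype F] [DecidableEq ι] in
theorem finrank_model [FiniteDimensional F U₀] (k₀ : ℕ) :
    finrank F ((ι → U₀) × (Fin k₀ → F)) = Fintype.card ι * finrank F U₀ + k₀ := by
  rw [Module.finrank_prod, Module.finrank_pi_fintype, Finset.sum_const, Finset.card_univ,
    smul_eq_mul, Module.finrank_fin_fun]

omit [Fintype F] in
theorem det_mMap [FiniteDimensional F U₀] (T : ι → (U₀ →ₗ[F] U₀)) (k₀ : ℕ) :
    LinearMap.det (mMap T k₀) = ∏ k, LinearMap.det (T k) := by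
  unfold mMap
  rw [LinearMap.det_prodMap, LinearMap.det_id, mul_one, LinearMap.det_pi]

/-- the subspace of vectors with vanishing block coordinates -/
def fixSub (U₀ : Type*) [AddCommGroup U₀] [Module F U₀] (ι : Type*) (k₀ : ℕ) :
    Submodule F ((ι → U₀) × (Fin k₀ → F)) where
  carrier := {a | a.1 = 0}
  add_mem' := by
    rintro a b ha hb
    show (a + b).1 = 0
    rw [Prod.fst_add, ha, hb, add_zero]
  zero_mem' := rfl
  smul_mem' := by
    rintro c a ha
    show (c • a).1 = 0
    rw [Prod.smul_fst, ha, smul_zero]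

omit [Fintype F] [Fintype ι] [DecidableEq ι] in
theorem finrank_fixSub (k₀ : ℕ) : finrank F (fixSub (F := F) U₀ ι k₀) = k₀ := by
  let φ : fixSub (F := F) U₀ ι k₀ ≃ₗ[F] (Fin k₀ → F) :=
    { toFun := fun a => a.1.2
      map_add' := fun a b => rfl
      map_smul' := fun c a => rfl
      invFun := fun x => ⟨(0, x), rfl⟩
      left_inv := fun a => by
        apply Subtype.ext
        exact Prod.ext a.2.symm rfl
      right_inv := fun x => rfl }
  rw [LinearEquiv.finrank_eq φ, Module.finrank_fin_fun]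

omit [Fintype F] [Fintype ι] [DecidableEq ι] in
/-- the fixed space of the model map when the blocks have no fixed vectors -/
theorem eigenspace_mMap (T : ι → (U₀ →ₗ[F] U₀)) (hT : ∀ k u, T k u = u → u = 0) (k₀ : ℕ) :
    Module.End.eigenspace (mMap T k₀) 1 = fixSub (F := F) U₀ ι k₀ := by
  ext a
  rw [Module.End.mem_eigenspace_iff, one_smul, mMap_apply]
  constructor
  · intro h
    show a.1 = 0
    funext k
    apply hT k
    exact congrFun (congrArg Prod.fst h) k
  · intro h
    have h' : a.1 = 0 := h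
    apply Prod.ext
    · funext k
      show T k (a.1 k) = a.1 k
      rw [h']
      simp
    · rfl

end model

end Cfsg.Agent.Lib.Helper12.HU
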