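import Mathlib
import Cfsg.Agent.Lib.Helper12.HU10
import Cfsg.Agent.Lib.Helper6.Unitary2

/-!
# Transfer of models to the standard hermitian space; the bound for the fixed part; fixed-point-free
blocks
-/

set_option autoImplicit false
set_option linter.unusedSectionVars false
set_option linter.unusedVariables false
set_option linter.style.haveILetI false

namespace Cfsg.Agent.Lib.Helper12.HU

open Module Submodule Polynomial Cfsg.Agent.Lib.Helper15.PSub Cfsg.Agent.Lib.Helper15.PDec
  Cfsg.Agent.Lib.Helper6 Cfsg.Agent.Lib.Helper16 Cfsg.Agent.S0779 Matrix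

section transfer

variable {F : Type*} [Field F] [Fintype F] {q : ℕ}

/-- there is a matrix preserving the standard hermitian form, of determinant one, whose `r`-th
power is the scalar `z`, fixing no totally isotropic `m`-space -/
def HasDerangement (F : Type*) [Field F] (q n m r : ℕ) (z : F) : Prop :=
  ∃ x : Matrix (Fin n) (Fin n) F,
    (∀ u v, Cfsg.hermForm n F q (x *ᵥ u) (x *ᵥ v) = Cfsg.hermForm n F q u v) ∧ x.det = 1 ∧
    x ^ r = z • (1 : Matrix (Fin n) (Fin n) F) ∧
    ¬ ∃ W : Submodule F (Fin n → F), finrank F W = m ∧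
      (∀ u ∈ W, ∀ v ∈ W, Cfsg.hermForm n F q u v = 0) ∧ W.map (Matrix.toLin' x) ≤ W

theorem mat_ext_mulVec {n : ℕ} {A B : Matrix (Fin n) (Fin n) F} (h : ∀ x, A *ᵥ x = B *ᵥ x) :
    A = B := by
  apply Matrix.toLin'.injective
  apply LinearMap.ext
  intro x
  rw [Matrix.toLin'_apply, Matrix.toLin'_apply, h]

/-- transfer of an abstract model to the standard space -/
theorem derangement_of_model (hF : Fintype.card F = q ^ 2) {U : Type*} [AddCommGroup U]
    [Module F U] [FiniteDimensional F U] (B : U →ₛₗ[conjQ hF] U →ₗ[F] F) (hS : B.IsSymm)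
    (hN : ∀ u, (∀ v, B u v = 0) → u = 0) (n m r : ℕ) (hn : finrank F U = n) (T : U →ₗ[F] U)
    (hiso : ∀ u v, B (T u) (T v) = B u v) (hdet : LinearMap.det T = 1) (z : F)
    (hTr : T ^ r = z • (1 : U →ₗ[F] U))
    (hno : ¬ ∃ W : Submodule F U, finrank F W = m ∧ TI B W ∧ W.map T ≤ W) :
    HasDerangement F q n m r z := by
  classical
  obtain ⟨φ, hφ⟩ := exists_std_herm hF B hS hN n hn
  set T' : (Fin n → F) →ₗ[F] (Fin n → F) := φ.conj T with hT'
  set M := LinearMap.toMatrix' T' with hM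
  have hMv : ∀ x, M *ᵥ x = φ (T (φ.symm x)) := by
    intro x
    rw [hM, LinearMap.toMatrix'_mulVec, hT', LinearEquiv.conj_apply]
    rfl
  have hpow : ∀ (i : ℕ) (x : Fin n → F), (M ^ i) *ᵥ x = φ ((T ^ i) (φ.symm x)) := by
    intro i
    induction i with
    | zero =>
      intro x
      simp
    | succ i ih =>
      intro x
      rw [pow_succ, ← Matrix.mulVec_mulVec, ih, hMv, LinearEquiv.symm_apply_apply, pow_succ,
        Module.End.mul_apply]
  refine ⟨M, ?_, ?_, ?_, ?_⟩
  · intro x y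
    rw [hMv, hMv, hφ, hiso, ← hφ, LinearEquiv.apply_symm_apply, LinearEquiv.apply_symm_apply]
  · rw [hM, LinearMap.det_toMatrix', hT', LinearEquiv.conj_apply, LinearMap.comp_assoc,
      LinearMap.det_conj, hdet]
  · apply mat_ext_mulVec
    intro x
    rw [hpow, hTr, LinearMap.smul_apply, Module.End.one_apply, map_smul,
      LinearEquiv.apply_symm_apply, Matrix.smul_mulVec, Matrix.one_mulVec]
  · rintro ⟨W', hW'dim, hW'ti, hW'inv⟩
    apply hno
    refine ⟨W'.map (φ.symm : (Fin n → F) →ₗ[F] U), ?_, ?_, ?_⟩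
    · rw [LinearEquiv.finrank_map_eq φ.symm, hW'dim]
    · rintro _ ⟨u, hu, rfl⟩ _ ⟨v, hv, rfl⟩
      have := hφ (φ.symm v) (φ.symm u)
      rw [LinearEquiv.apply_symm_apply, LinearEquiv.apply_symm_apply] at this
      show B (φ.symm u) (φ.symm v) = 0
      rw [← this]
      exact hW'ti v hv u hu
    · rintro _ ⟨_, ⟨u, hu, rfl⟩, rfl⟩
      refine ⟨M *ᵥ u, ?_, ?_⟩
      · apply hW'inv
        exact ⟨u, hu, Matrix.toLin'_apply M u⟩
      · rw [hMv, LinearEquiv.coe_coe, LinearEquiv.symm_apply_apply]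

/-- a unitary matrix of order prime to `q + 1` has determinant one -/
theorem det_eq_one_of_pow {n : ℕ} (hF : Fintype.card F = q ^ 2) (M : Matrix (Fin n) (Fin n) F)
    (hM : ∀ x y, Cfsg.hermForm n F q (M *ᵥ x) (M *ᵥ y) = Cfsg.hermForm n F q x y) (r : ℕ)
    (hr : r.Prime) (hrq : ¬ r ∣ q + 1) (hMr : M ^ r = 1) : M.det = 1 := by
  have h1 := det_norm_of_pres hF M hM
  have h2 : M.det ^ r = 1 := by rw [← Matrix.det_pow, hMr, Matrix.det_one]
  have h3 := pow_gcd_eq_one.mpr ⟨h2, h1⟩
  have h4 : Nat.gcd r (q + 1) = 1 := (Nat.Prime.coprime_iff_not_dvd hr).mpr hrq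
  rwa [h4, pow_one] at h3

end transfer

section bound

variable {F V : Type*} [Field F] [Fintype F] [AddCommGroup V] [Module F V]
  [FiniteDimensional F V] {q : ℕ}

theorem ker_X_sub_one (y : V →ₗ[F] V) :
    LinearMap.ker (aeval y (X - 1 : F[X])) = Module.End.eigenspace y 1 := by
  ext v
  rw [LinearMap.mem_ker, Module.End.mem_eigenspace_iff, one_smul, map_sub, aeval_X, map_one,
    LinearMap.sub_apply, Module.End.one_apply, sub_eq_zero]

/-- **The bound**: an invariant totally isotropic subspace of an isometry of odd prime order `r`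
has dimension `w₀ + b j` with `2 w₀` at most the dimension of the fixed space -/
theorem bound_fix (hF : Fintype.card F = q ^ 2) (B : V →ₛₗ[conjQ hF] V →ₗ[F] F)
    (hS : B.IsSymm) (hN : ∀ u, (∀ v, B u v = 0) → u = 0) (p : ℕ) [hp : Fact p.Prime] [CharP F p]
    (r : ℕ) [hr : Fact r.Prime] (hrp : r ≠ p) (y : V →ₗ[F] V)
    (hiso : ∀ u v, B (y u) (y v) = B u v) (hy : y ^ r = 1) (W : Submodule F V)
    (hWinv : W ∈ Module.End.invtSubmodule y) (hWti : TI B W) :
    ∃ w₀ j, finrank F W = w₀ + bOrd q r * j ∧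
      2 * w₀ ≤ finrank F ↥(Module.End.eigenspace y 1) := by
  have hR : B.IsRefl := hS.isRefl
  have hr0 : (r : F) ≠ 0 := cast_ne_zero_of_ne p r hr.out hrp
  have hcop : IsCoprime (X - 1 : F[X]) (cyclotomic r F) := by
    have hirr : Irreducible (X - 1 : F[X]) := by
      have := irreducible_X_sub_C (1 : F)
      rwa [C_1] at this
    rw [hirr.coprime_iff_not_dvd]
    intro hd
    have : (X - C (1 : F)) ∣ cyclotomic r F := by rwa [C_1]
    have h1 := dvd_iff_isRoot.mp this
    rw [IsRoot.def, eval_one_cyclotomic_prime] at h1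
    exact hr0 h1
  have hkillall : ∀ a, aeval y ((X - 1) * cyclotomic r F) a = 0 := by
    intro a
    rw [mul_comm, cyclotomic_prime_mul_X_sub_one, map_sub, map_pow, aeval_X, map_one, hy,
      sub_self, LinearMap.zero_apply]
  have hWall : W ⊓ LinearMap.ker (aeval y ((X - 1) * cyclotomic r F)) = W :=
    inf_eq_left.mpr fun w _ => LinearMap.mem_ker.mpr (hkillall w)
  have hsplit := Cfsg.Agent.Lib.Helper15.PSpK.finrank_inf_ker_mul y W hWinv hcop
  rw [hWall] at hsplit
  have h1inv : W ⊓ LinearMap.ker (aeval y (cyclotomic r F)) ∈ Module.End.invtSubmodule y :=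
    Module.End.invtSubmodule.inf_mem hWinv (Cfsg.Agent.Lib.Helper15.PSpK.ker_aeval_invt y _)
  have h1E : (W ⊓ LinearMap.ker (aeval y (cyclotomic r F))) ⊓ Module.End.eigenspace y 1 = ⊥ := by
    rw [eq_bot_iff, ← (disjoint_ker_aeval_of_isCoprime y hcop).eq_bot, ker_X_sub_one]
    intro v hv
    exact ⟨hv.2, hv.1.2⟩
  obtain ⟨j, hj⟩ := bOrd_dvd_finrank hF p r hrp y hy _ h1inv h1E
  refine ⟨_, j, by rw [hsplit, hj], ?_⟩
  have hCn := nondegOn_fixed y hiso r hr0 hy hN
  rw [ker_X_sub_one]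
  exact ti_le_half hR inf_le_right hCn (hWti.mono inf_le_left)

end bound

section fpf

variable {F : Type*} [Field F] [Fintype F] {q : ℕ}

/-- a fixed-point-free unitary matrix of order `r` in dimension `ord_r(-q)` -/
theorem exists_fpf_block (hF : Fintype.card F = q ^ 2) (p : ℕ) [hp : Fact p.Prime] [CharP F p]
    (r : ℕ) [hr : Fact r.Prime] (hrp : r ≠ p) :
    ∃ M₀ : Matrix (Fin (cOrd q r)) (Fin (cOrd q r)) F,
      (∀ u v, Cfsg.hermForm (cOrd q r) F q (M₀ *ᵥ u) (M₀ *ᵥ v) =
        Cfsg.hermForm (cOrd q r) F q u v) ∧ M₀ ^ r = 1 ∧ ∀ u, M₀ *ᵥ u = u → u = 0 := by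
  classical
  have hq : 2 ≤ q := two_le_q hF
  have hrq := not_dvd_q hF p r hr.out hrp
  have hr0 : (r : F) ≠ 0 := cast_ne_zero_of_ne p r hr.out hrp
  set c := cOrd q r with hc
  have hcpos : 0 < c := cOrd_pos hrq
  -- Cauchy
  have hdvd : r ∣ Nat.card (Cfsg.GU c F q) := by
    rw [card_GU hF]
    apply Dvd.dvd.mul_left
    apply Dvd.dvd.trans _ (Finset.dvd_prod_of_mem _ (Finset.mem_range.mpr (by omega : c - 1 < c)))
    have hc1 : c - 1 + 1 = c := by omega
    split_ifs with he
    · rw [hc1]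
      have ho : Odd c := by
        obtain ⟨t, ht⟩ := he
        exact ⟨t, by omega⟩
      exact (dvd_pow_add_one_iff c ho).mpr (dvd_refl _)
    · rw [hc1]
      rw [Nat.not_even_iff_odd] at he
      have hev : Even c := by
        obtain ⟨t, ht⟩ := he
        exact ⟨t + 1, by omega⟩
      exact (dvd_pow_sub_one_iff (by omega) c hev).mpr (dvd_refl _)
  obtain ⟨g, hg⟩ := exists_prime_orderOf_dvd_card' r hdvd
  set M₀ : Matrix (Fin c) (Fin c) F := ((g : GL (Fin c) F) : Matrix (Fin c) (Fin c) F) with hM₀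
  have hpres : ∀ u v, Cfsg.hermForm c F q (M₀ *ᵥ u) (M₀ *ᵥ v) = Cfsg.hermForm c F q u v :=
    fun u v => GU_pres g u v
  have hMr : M₀ ^ r = 1 := by
    have h1 : g ^ r = 1 := by rw [← hg]; exact pow_orderOf_eq_one g
    have h2 := congrArg (fun t : ↥(Cfsg.GU c F q) =>
      ((t : GL (Fin c) F) : Matrix (Fin c) (Fin c) F)) h1
    simpa using h2
  have hM1 : M₀ ≠ 1 := by
    intro h
    have : g = 1 := by
      apply Subtype.ext
      apply Units.ext
      exact h
    rw [this, orderOf_one] at hg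
    exact hr.out.one_lt.ne hg
  refine ⟨M₀, hpres, hMr, ?_⟩
  -- the order argument
  set y : (Fin c → F) →ₗ[F] (Fin c → F) := Matrix.toLinAlgEquiv' M₀ with hy
  have hyv : ∀ u, y u = M₀ *ᵥ u := fun u => Matrix.toLinAlgEquiv'_apply M₀ u
  have hyr : y ^ r = 1 := by rw [hy, ← map_pow, hMr, map_one]
  have hy1 : y ≠ 1 := by
    intro h
    apply hM1
    apply (Matrix.toLinAlgEquiv' (R := F) (n := Fin c)).injective
    rw [map_one]
    exact h
  have hiso : ∀ u v, hermB c hF (y u) (y v) = hermB c hF u v := by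
    intro u v
    rw [hermB_apply, hermB_apply, hyv, hyv, hpres]
  have hS := hermB_isSymm (n := c) hF
  have hN : ∀ u, (∀ v, hermB c hF u v = 0) → u = 0 := by
    intro u hu
    apply herm_nondeg hF
    intro v
    apply herm_swap_zero hF
    have := hu v
    rwa [hermB_apply] at this
  obtain ⟨hMx, hMn, hME, hdim, horth⟩ :=
    movPart_props hS.isRefl y hiso r hr.out.ne_zero hr0 hyr hN
  have hMinv : movPart (hermB c hF) y ∈ Module.End.invtSubmodule y := by
    rw [Module.End.mem_invtSubmodule_iff_map_le, hMx]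
  have hMne : movPart (hermB c hF) y ≠ ⊥ := by
    intro h
    rw [h, finrank_bot, add_zero, Module.finrank_fin_fun] at hdim
    apply hy1
    apply LinearMap.ext
    intro v
    have htop : Module.End.eigenspace y 1 = ⊤ := by
      apply Submodule.eq_top_of_finrank_eq
      rw [hdim, Module.finrank_fin_fun]
    have hv : v ∈ Module.End.eigenspace y 1 := by rw [htop]; exact mem_top
    rw [fix_of_mem y hv, Module.End.one_apply]
  obtain ⟨w, hwM, hw0⟩ := Submodule.exists_mem_ne_zero_of_ne_bot hMne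
  obtain ⟨j, hj1, hj2, hj3⟩ := order_arg_sub hF (hermB c hF) hS y hiso _ hMinv hMn r hyr
    ⟨w, hwM, by
      intro hfix
      apply hw0
      have : w ∈ movPart (hermB c hF) y ⊓ Module.End.eigenspace y 1 :=
        ⟨hwM, Module.End.mem_eigenspace_iff.mpr (by rw [one_smul]; exact hfix)⟩
      rw [hME] at this
      exact (Submodule.mem_bot F).mp this⟩ hrq
  have hle := Nat.le_of_dvd (by omega) hj3
  rw [Module.finrank_fin_fun] at hdim
  have hfix0 : finrank F ↥(Module.End.eigenspace y 1) = 0 := by omega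
  have hbot : Module.End.eigenspace y 1 = ⊥ := Submodule.finrank_eq_zero.mp hfix0
  intro u hu
  have : u ∈ Module.End.eigenspace y 1 :=
    Module.End.mem_eigenspace_iff.mpr (by rw [one_smul, hyv]; exact hu)
  rw [hbot] at this
  exact (Submodule.mem_bot F).mp this

end fpf

end Cfsg.Agent.Lib.Helper12.HU
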