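import Mathlib
import Cfsg.Agent.Lib.Helper12.HU11

/-!
# The bound for invariant totally isotropic subspaces of block models with pairwise inequivalent
irreducible blocks
-/

set_option autoImplicit false
set_option linter.unusedSectionVars false
set_option linter.unusedVariables false
set_option linter.style.haveILetI false

namespace Cfsg.Agent.Lib.Helper12.HU

open Module Submodule Polynomial Cfsg.Agent.Lib.Helper15.PSub Cfsg.Agent.Lib.Helper15.PDec
  Cfsg.Agent.Lib.Helper6 Cfsg.Agent.Lib.Helper16 Cfsg.Agent.S0779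

section blocks

variable {F : Type*} [Field F] [Fintype F] {q : ℕ}
variable {U₀ : Type*} [AddCommGroup U₀] [Module F U₀]
variable {ι : Type*} [Fintype ι] [DecidableEq ι]

/-- the inclusion of the `k`-th block -/
noncomputable def blockIncl (F : Type*) [Field F] (U₀ : Type*) [AddCommGroup U₀] [Module F U₀]
    {ι : Type*} [DecidableEq ι] (k : ι) (k₀ : ℕ) : U₀ →ₗ[F] ((ι → U₀) × (Fin k₀ → F)) :=
  LinearMap.inl F (ι → U₀) (Fin k₀ → F) ∘ₗ LinearMap.single F (fun _ => U₀) k

omit [Fintype F] [Fintype ι] in
theorem blockIncl_apply (k : ι) (k₀ : ℕ) (u : U₀) :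
    blockIncl F U₀ k k₀ u = (Pi.single k u, 0) := rfl

omit [Fintype F] [Fintype ι] in
theorem mMap_blockIncl (T : ι → (U₀ →ₗ[F] U₀)) (k : ι) (k₀ : ℕ) (u : U₀) :
    mMap T k₀ (blockIncl F U₀ k k₀ u) = blockIncl F U₀ k k₀ (T k u) := by
  rw [mMap_apply, blockIncl_apply, blockIncl_apply]
  apply Prod.ext
  · funext j
    by_cases hj : j = k
    · subst hj
      simp
    · simp [Pi.single_eq_of_ne hj]
  · rfl

theorem mForm_blockIncl (hF : Fintype.card F = q ^ 2) (B₀ : U₀ →ₛₗ[conjQ hF] U₀ →ₗ[F] F)
    (k : ι) (k₀ : ℕ) (u v : U₀) :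
    mForm hF B₀ ι k₀ (blockIncl F U₀ k k₀ u) (blockIncl F U₀ k k₀ v) = B₀ u v := by
  rw [mForm_apply, blockIncl_apply, blockIncl_apply, Finset.sum_eq_single k]
  · simp
  · intro j _ hj
    simp only [Pi.single_eq_of_ne hj, map_zero]
  · intro hk
    exact absurd (Finset.mem_univ k) hk

omit [DecidableEq ι] in
theorem nondegOn_fixSub (hF : Fintype.card F = q ^ 2) (B₀ : U₀ →ₛₗ[conjQ hF] U₀ →ₗ[F] F)
    (k₀ : ℕ) : NondegOn (mForm hF B₀ ι k₀) (fixSub (F := F) U₀ ι k₀) := by
  intro a ha hall
  have ha1 : a.1 = 0 := ha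
  apply Prod.ext
  · exact ha1
  · apply herm_nondeg hF
    intro y
    apply herm_swap_zero hF
    have := hall (0, y) rfl
    rw [mForm_apply] at this
    simpa [hermB_apply, ha1] using this

/-- **The bound**: invariant totally isotropic subspaces of a block model with pairwise
inequivalent irreducible blocks lie in the fixed part -/
theorem bound_blocks [FiniteDimensional F U₀] (hF : Fintype.card F = q ^ 2)
    (B₀ : U₀ →ₛₗ[conjQ hF] U₀ →ₗ[F] F) (hS₀ : B₀.IsSymm) (hB₀ : ∃ u v, B₀ u v ≠ 0)
    (T : ι → (U₀ →ₗ[F] U₀)) (P : ι → F[X]) (hPirr : ∀ k, Irreducible (P k))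
    (hPdeg : ∀ k, (P k).natDegree = finrank F U₀) (hPk : ∀ k, aeval (T k) (P k) = 0)
    (hPcop : ∀ j k, j ≠ k → IsCoprime (P j) (P k)) (hP1 : ∀ k, eval 1 (P k) ≠ 0) (k₀ : ℕ)
    (W : Submodule F ((ι → U₀) × (Fin k₀ → F)))
    (hWinv : W ∈ Module.End.invtSubmodule (mMap T k₀)) (hWti : TI (mForm hF B₀ ι k₀) W) :
    2 * finrank F W ≤ k₀ := by
  classical
  have hR : (mForm hF B₀ ι k₀).IsRefl := (mForm_isSymm hF B₀ hS₀ k₀).isRefl
  have hle : W ≤ fixSub (F := F) U₀ ι k₀ := by
    intro a ha
    show a.1 = 0
    by_contra hne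
    obtain ⟨k, hk⟩ : ∃ k, a.1 k ≠ 0 := by
      by_contra hall
      push Not at hall
      exact hne (funext hall)
    -- the killing polynomial
    set Q : F[X] := (X - 1) * ∏ j ∈ Finset.univ.erase k, P j with hQ
    have hQ1 : eval 1 Q = 0 := by rw [hQ, eval_mul, eval_sub, eval_X, eval_one, sub_self, zero_mul]
    have hQj : ∀ j, j ≠ k → aeval (T j) Q = 0 := by
      intro j hj
      have hjm : j ∈ Finset.univ.erase k := Finset.mem_erase.mpr ⟨hj, Finset.mem_univ j⟩
      rw [hQ, ← Finset.mul_prod_erase _ _ hjm, ← mul_assoc, mul_comm (X - 1) (P j), mul_assoc,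
        map_mul, hPk j, zero_mul]
    have hcop : IsCoprime Q (P k) := by
      rw [hQ]
      apply IsCoprime.mul_left
      · have hirr : Irreducible (X - 1 : F[X]) := by
          have := irreducible_X_sub_C (1 : F)
          rwa [C_1] at this
        rw [hirr.coprime_iff_not_dvd]
        intro hd
        have : (X - C (1 : F)) ∣ P k := by rwa [C_1]
        exact hP1 k (dvd_iff_isRoot.mp this)
      · apply IsCoprime.prod_left
        intro j hj
        exact hPcop j k (Finset.mem_erase.mp hj).1
    have hinj : Function.Injective (aeval (T k) Q) := by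
      obtain ⟨A, A', hAA⟩ := hcop
      intro u v huv
      have h1 : ∀ w, w = aeval (T k) A (aeval (T k) Q w) := by
        intro w
        have h2 := congrArg (fun R => aeval (T k) R w) hAA
        simp only [map_add, map_mul, map_one, hPk k, mul_zero, add_zero, Module.End.mul_apply,
          Module.End.one_apply] at h2
        exact h2.symm
      rw [h1 u, h1 v, huv]
    -- the image lies in the block
    have hb : aeval (mMap T k₀) Q a = blockIncl F U₀ k k₀ (aeval (T k) Q (a.1 k)) := by
      rw [aeval_mMap, blockIncl_apply, hQ1, zero_smul]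
      apply Prod.ext
      · funext j
        by_cases hj : j = k
        · subst hj
          simp
        · show aeval (T j) Q (a.1 j) = _
          rw [hQj j hj, LinearMap.zero_apply]
          show (0 : U₀) = (Pi.single k (aeval (T k) Q (a.1 k)) : ι → U₀) j
          rw [Pi.single_eq_of_ne hj]
      · rfl
    have hbW : blockIncl F U₀ k k₀ (aeval (T k) Q (a.1 k)) ∈ W := by
      rw [← hb]
      exact aeval_mem_of_invt _ hWinv Q ha
    have hu0 : aeval (T k) Q (a.1 k) ≠ 0 := by
      intro h0
      apply hk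
      apply hinj
      rw [h0, map_zero]
    -- the part of `W` in the block
    set S : Submodule F U₀ := W.comap (blockIncl F U₀ k k₀) with hSdef
    have hSinv : S ∈ Module.End.invtSubmodule (T k) := by
      rw [Module.End.mem_invtSubmodule]
      intro u hu
      rw [Submodule.mem_comap] at hu ⊢
      show blockIncl F U₀ k k₀ (T k u) ∈ W
      rw [← mMap_blockIncl]
      exact (Module.End.mem_invtSubmodule _).mp hWinv hu
    have hSne : S ≠ ⊥ := by
      intro hbot
      have : aeval (T k) Q (a.1 k) ∈ S := hbW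
      rw [hbot] at this
      exact hu0 ((Submodule.mem_bot F).mp this)
    have hss : Module.End.IsSemisimple (T k) :=
      Module.End.isSemisimple_of_squarefree_aeval_eq_zero (hPirr k).squarefree (hPk k)
    have hdvd : finrank F U₀ ∣ finrank F S := by
      apply dvd_finrank_of_killed (T k) hss (P k) (hPirr k).ne_zero (finrank F U₀) _ S hSinv
      · intro w _
        rw [hPk k, LinearMap.zero_apply]
      · intro P' hP'irr hP'dvd
        have hassoc : Associated P' (P k) := hP'irr.associated_of_dvd (hPirr k) hP'dvd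
        rw [natDegree_eq_of_degree_eq (degree_eq_degree_of_associated hassoc), hPdeg k]
    have hSpos : 0 < finrank F S := by
      rw [Module.finrank_pos_iff_exists_ne_zero]
      exact ⟨⟨_, hbW⟩, fun h => hu0 (congrArg Subtype.val h)⟩
    have hStop : S = ⊤ := by
      apply Submodule.eq_top_of_finrank_eq
      apply le_antisymm (Submodule.finrank_le S)
      exact Nat.le_of_dvd hSpos hdvd
    obtain ⟨u, v, huv⟩ := hB₀
    have huS : u ∈ S := by rw [hStop]; exact mem_top
    have hvS : v ∈ S := by rw [hStop]; exact mem_top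
    have := hWti _ huS _ hvS
    rw [mForm_blockIncl] at this
    exact huv this
  have := ti_le_half hR hle (nondegOn_fixSub hF B₀ k₀) hWti
  rwa [finrank_fixSub] at this

end blocks

end Cfsg.Agent.Lib.Helper12.HU
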