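import Mathlib
import Cfsg.Agent.Lib.Helper12.HU12
import Cfsg.Agent.Lib.Helper19.PSUi

/-!
# Derangements from fixed-point-free blocks; the field block
-/

set_option autoImplicit false
set_option linter.unusedSectionVars false
set_option linter.unusedVariables false
set_option linter.style.haveILetI false

namespace Cfsg.Agent.Lib.Helper12.HU

open Module Submodule Polynomial Cfsg.Agent.Lib.Helper15.PSub Cfsg.Agent.Lib.Helper15.PDec
  Cfsg.Agent.Lib.Helper6 Cfsg.Agent.Lib.Helper16 Cfsg.Agent.S0779 Matrix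

section fpfmodel

variable {F : Type*} [Field F] [Fintype F] {q : ℕ}

theorem hermB_left_nondeg (hF : Fintype.card F = q ^ 2) (n : ℕ) (u : Fin n → F)
    (hu : ∀ v, hermB n hF u v = 0) : u = 0 := by
  apply herm_nondeg hF
  intro v
  apply herm_swap_zero hF
  have := hu v
  rwa [hermB_apply] at this

/-- the first necessity model: copies of a fixed-point-free block -/
theorem derangement_fpf (hF : Fintype.card F = q ^ 2) (p : ℕ) [hp : Fact p.Prime] [CharP F p]
    (r : ℕ) [hr : Fact r.Prime] (hrp : r ≠ p) (n m : ℕ)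
    (hlt : n % cOrd q r < 2 * (m % bOrd q r)) : HasDerangement F q n m r 1 := by
  classical
  have hrq := not_dvd_q hF p r hr.out hrp
  set c := cOrd q r with hc
  set b := bOrd q r with hb
  have hcpos : 0 < c := cOrd_pos hrq
  have hc1 : c ≠ 1 := by
    intro h1
    have hb1 : b = 1 := by
      rw [hb, bOrd_eq_of_c hrq, ← hc, h1]
      simp
    rw [hb1, Nat.mod_one] at hlt
    omega
  have hrq1 : ¬ r ∣ q + 1 := fun h => hc1 ((cOrd_eq_one_iff hrq).mpr h)
  obtain ⟨M₀, hM₀pres, hM₀r, hM₀fpf⟩ := exists_fpf_block hF p r hrp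
  have hM₀det : M₀.det = 1 := det_eq_one_of_pow hF M₀ hM₀pres r hr.out hrq1 hM₀r
  set T₀ : (Fin c → F) →ₗ[F] (Fin c → F) := Matrix.toLinAlgEquiv' M₀ with hT₀
  have hT₀v : ∀ u, T₀ u = M₀ *ᵥ u := fun u => Matrix.toLinAlgEquiv'_apply M₀ u
  have hT₀r : T₀ ^ r = 1 := by rw [hT₀, ← map_pow, hM₀r, map_one]
  have hT₀iso : ∀ u v, hermB c hF (T₀ u) (T₀ v) = hermB c hF u v := by
    intro u v
    rw [hermB_apply, hermB_apply, hT₀v, hT₀v, hM₀pres]
  have hT₀det : LinearMap.det T₀ = 1 := by
    have : T₀ = Matrix.toLin' M₀ := rfl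
    rw [this, LinearMap.det_toLin', hM₀det]
  set T := mMap (fun _ : Fin (n / c) => T₀) (n % c) with hT
  have hTr : T ^ r = 1 := by
    apply LinearMap.ext
    intro a
    rw [hT, mMap_pow_apply, hT₀r]
    rfl
  have hiso := mMap_iso hF (hermB c hF) (fun _ : Fin (n / c) => T₀) (fun _ => hT₀iso) (n % c)
  have hSm := mForm_isSymm (ι := Fin (n / c)) hF (hermB c hF) (hermB_isSymm hF) (n % c)
  have hNm := mForm_nondeg (ι := Fin (n / c)) hF (hermB c hF) (hermB_left_nondeg hF c) (n % c)
  have hfin : finrank F ((Fin (n / c) → (Fin c → F)) × (Fin (n % c) → F)) = n := by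
    rw [finrank_model, Fintype.card_fin, Module.finrank_fin_fun]
    exact Nat.div_add_mod' n c
  refine derangement_of_model hF _ hSm hNm n m r hfin T hiso ?_ 1 (by rw [hTr, one_smul]) ?_
  · rw [hT, det_mMap]
    simp only [hT₀det, Finset.prod_const_one]
  · rintro ⟨W, hWdim, hWti, hWinv⟩
    have hWinv' : W ∈ Module.End.invtSubmodule T := by
      rw [Module.End.mem_invtSubmodule_iff_map_le]
      exact hWinv
    obtain ⟨w₀, j, hj, hw₀⟩ := bound_fix hF _ hSm hNm p r hrp T hiso hTr W hWinv' hWti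
    rw [hT, eigenspace_mMap _ (fun _ u hu => hM₀fpf u (by rw [← hT₀v]; exact hu)),
      finrank_fixSub] at hw₀
    rw [hWdim] at hj
    have h1 : m % b = w₀ % b := by rw [hj, Nat.add_mul_mod_self_left]
    have h2 : w₀ % b ≤ w₀ := Nat.mod_le _ _
    omega

end fpfmodel

section fieldblock

variable {F : Type*} [Field F] [Fintype F] {q : ℕ}
variable {K : Type*} [Field K] [Fintype K] [Algebra F K]

theorem card_block (hF : Fintype.card F = q ^ 2) (j : ℕ) (hK : finrank F K = j) :
    Fintype.card K = (q ^ j) ^ 2 := by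
  rw [Module.card_eq_pow_finrank (K := F) (V := K), hF, hK, ← pow_mul, ← pow_mul, mul_comm]

/-- the involutory field automorphism `x ↦ x ^ (q ^ j)` of the extension field of degree `j` -/
noncomputable def sgK (hF : Fintype.card F = q ^ 2) (j : ℕ) (hK : finrank F K = j) : K →+* K :=
  conjQ (card_block hF j hK)

theorem sgK_apply (hF : Fintype.card F = q ^ 2) (j : ℕ) (hK : finrank F K = j) (x : K) :
    sgK hF j hK x = x ^ (q ^ j) := rfl

theorem sgK_sgK (hF : Fintype.card F = q ^ 2) (j : ℕ) (hK : finrank F K = j) (x : K) :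
    sgK hF j hK (sgK hF j hK x) = x :=
  conjQ_conjQ (card_block hF j hK) x

theorem sgK_algebraMap (hF : Fintype.card F = q ^ 2) (j : ℕ) (hK : finrank F K = j)
    (hj : Odd j) (c : F) :
    sgK hF j hK (algebraMap F K c) = algebraMap F K (conjQ hF c) := by
  rw [sgK_apply, ← map_pow, Cfsg.Agent.Lib.Helper19.PSU.pow_q_pow_odd hF j hj, conjQ_apply]

theorem trace_sgK (hF : Fintype.card F = q ^ 2) (j : ℕ) (hK : finrank F K = j) (hj : Odd j)
    (z : K) :
    Algebra.trace F K (sgK hF j hK z) = conjQ hF (Algebra.trace F K z) := by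
  apply (algebraMap F K).injective
  rw [← sgK_algebraMap hF j hK hj, FiniteField.algebraMap_trace_eq_sum_pow,
    FiniteField.algebraMap_trace_eq_sum_pow, map_sum]
  apply Finset.sum_congr rfl
  intro i _
  rw [map_pow]

/-- the hermitian trace form of the extension field -/
noncomputable def eForm (hF : Fintype.card F = q ^ 2) (j : ℕ) (hK : finrank F K = j)
    (hj : Odd j) : K →ₛₗ[conjQ hF] K →ₗ[F] F :=
  LinearMap.mk₂'ₛₗ (conjQ hF) (RingHom.id F)
    (fun x y => Algebra.trace F K (sgK hF j hK x * y))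
    (fun x x' y => by
      simp only [map_add, add_mul])
    (fun c x y => by
      rw [Algebra.smul_def, map_mul (sgK hF j hK), sgK_algebraMap hF j hK hj, ← Algebra.smul_def,
        smul_mul_assoc, map_smul])
    (fun x y y' => by
      simp only [mul_add, map_add])
    (fun c x y => by
      simp only [RingHom.id_apply, mul_smul_comm, map_smul])

theorem eForm_apply (hF : Fintype.card F = q ^ 2) (j : ℕ) (hK : finrank F K = j) (hj : Odd j)
    (x y : K) : eForm hF j hK hj x y = Algebra.trace F K (sgK hF j hK x * y) := rfl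

theorem eForm_isSymm (hF : Fintype.card F = q ^ 2) (j : ℕ) (hK : finrank F K = j) (hj : Odd j) :
    (eForm hF j hK hj).IsSymm :=
  ⟨fun x y => by
    rw [eForm_apply, eForm_apply, ← trace_sgK hF j hK hj, map_mul, sgK_sgK, mul_comm]⟩

theorem eForm_nondeg (hF : Fintype.card F = q ^ 2) (j : ℕ) (hK : finrank F K = j) (hj : Odd j)
    (u : K) (hu : ∀ v, eForm hF j hK hj u v = 0) : u = 0 := by
  have h1 : sgK hF j hK u = 0 := by
    apply (traceForm_nondegenerate F K).1
    intro b
    have := hu b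
    rw [eForm_apply] at this
    rw [Algebra.traceForm_apply]
    exact this
  exact (map_eq_zero (sgK hF j hK)).mp h1

theorem eForm_ne_zero (hF : Fintype.card F = q ^ 2) (j : ℕ) (hK : finrank F K = j)
    (hj : Odd j) : ∃ u v, eForm hF j hK hj u v ≠ 0 := by
  by_contra hall
  push Not at hall
  exact one_ne_zero (eForm_nondeg hF j hK hj (1 : K) (hall 1))

theorem eForm_lmul (hF : Fintype.card F = q ^ 2) (j : ℕ) (hK : finrank F K = j) (hj : Odd j)
    (μ : K) (hμ : sgK hF j hK μ * μ = 1) (x y : K) :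
    eForm hF j hK hj (Algebra.lmul F K μ x) (Algebra.lmul F K μ y) = eForm hF j hK hj x y := by
  rw [eForm_apply, eForm_apply]
  show Algebra.trace F K (sgK hF j hK (μ * x) * (μ * y)) = _
  rw [map_mul (sgK hF j hK)]
  have : sgK hF j hK μ * sgK hF j hK x * (μ * y) =
      (sgK hF j hK μ * μ) * (sgK hF j hK x * y) := by ring
  rw [this, hμ, one_mul]

theorem lmul_pow_apply (μ : K) (s : ℕ) (x : K) :
    ((Algebra.lmul F K μ) ^ s) x = μ ^ s * x := by
  rw [← map_pow]
  rfl

theorem aeval_lmul (μ : K) (P : F[X]) :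
    aeval (Algebra.lmul F K μ) P = Algebra.lmul F K (aeval μ P) :=
  aeval_algHom_apply (Algebra.lmul F K) μ P

end fieldblock

end Cfsg.Agent.Lib.Helper12.HU
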