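import Mathlib
import Cfsg.Agent.Lib.Helper12.HU13
import Cfsg.Agent.Lib.Helper15.PSpK7

/-!
# Derangements from pairwise inequivalent field blocks
-/

set_option autoImplicit false
set_option linter.unusedSectionVars false
set_option linter.unusedVariables false
set_option linter.style.haveILetI false

namespace Cfsg.Agent.Lib.Helper12.HU

open Module Submodule Polynomial Cfsg.Agent.Lib.Helper15.PSub Cfsg.Agent.Lib.Helper15.PDec
  Cfsg.Agent.Lib.Helper6 Cfsg.Agent.Lib.Helper16 Cfsg.Agent.S0779 Matrix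

section fieldmodel

variable {F : Type*} [Field F] [Fintype F] {q : ℕ}
variable {K : Type*} [Field K] [Fintype K] [Algebra F K]

omit [Fintype F] [Fintype K] in
theorem lmul_fpf (μ : K) (hμ1 : μ ≠ 1) (x : K) (hx : Algebra.lmul F K μ x = x) : x = 0 := by
  have h2 : μ * x = x := hx
  have h3 : (μ - 1) * x = 0 := by rw [sub_mul, h2, one_mul, sub_self]
  rcases mul_eq_zero.mp h3 with h4 | h4
  · exact absurd (sub_eq_zero.mp h4) hμ1
  · exact h4

theorem sq_sub_one_eq (a : ℕ) (ha : 1 ≤ a) : a ^ 2 - 1 = (a - 1) * (a + 1) := by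
  obtain ⟨b, rfl⟩ : ∃ b, a = b + 1 := ⟨a - 1, by omega⟩
  simp only [Nat.add_sub_cancel]
  have : (b + 1) ^ 2 = b * (b + 1 + 1) + 1 := by ring
  rw [this, Nat.add_sub_cancel]

/-- the second necessity model: pairwise inequivalent irreducible blocks of odd dimension
`c > 1` -/
theorem derangement_field (hF : Fintype.card F = q ^ 2) (p : ℕ) [hp : Fact p.Prime] [CharP F p]
    (r : ℕ) [hr : Fact r.Prime] (hrp : r ≠ p) (hr2 : r ≠ 2)
    (c : ℕ) (hc : c = cOrd q r) (hodd : Odd c) (hc1 : c ≠ 1) (hK : finrank F K = c)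
    (n m u : ℕ) (hu1 : u * c ≤ r - 1) (hu2 : u * c ≤ n) (hlt : n - u * c < 2 * m) :
    HasDerangement F q n m r 1 := by
  classical
  have hrq := not_dvd_q hF p r hr.out hrp
  have hq : 2 ≤ q := two_le_q hF
  have hrodd : Odd r := hr.out.odd_of_ne_two hr2
  have hr0 : (r : F) ≠ 0 := cast_ne_zero_of_ne p r hr.out hrp
  have hdvd : r ∣ q ^ c + 1 := (dvd_pow_add_one_iff c hodd).mpr (by rw [hc])
  have hndvd : ¬ r ∣ q + 1 := fun h => hc1 (by rw [hc]; exact (cOrd_eq_one_iff hrq).mpr h)
  have hqc : 1 ≤ q ^ c := Nat.one_le_pow _ _ (by omega)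
  -- a root of unity of order `r`
  have hcard : Nat.card Kˣ = (q ^ c) ^ 2 - 1 := by
    rw [Nat.card_units, Nat.card_eq_fintype_card, card_block hF c hK]
  have hdvd' : r ∣ Nat.card Kˣ := by
    rw [hcard, sq_sub_one_eq _ hqc]
    exact Dvd.dvd.mul_left hdvd _
  obtain ⟨g, hg⟩ := exists_prime_orderOf_dvd_card' r hdvd'
  set α : K := (g : K) with hα
  have hαr : α ^ r = 1 := by
    rw [hα, ← Units.val_pow_eq_pow_val, ← hg, pow_orderOf_eq_one, Units.val_one]
  have hα1 : α ≠ 1 := by
    intro h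
    have : g = 1 := Units.ext h
    rw [this, orderOf_one] at hg
    exact hr.out.one_lt.ne hg
  obtain ⟨ν, hν, hνinj⟩ := Cfsg.Agent.Lib.Helper15.PSpK.exists_roots (F := F) r α hαr hα1 u
    (by rw [hK]; exact hu1)
  have hνq : ∀ k, sgK hF c hK (ν k) * ν k = 1 := by
    intro k
    rw [sgK_apply, ← pow_succ]
    obtain ⟨t, ht⟩ := hdvd
    rw [ht, pow_mul, (hν k).1, one_pow]
  have hroot := fun k =>
    Cfsg.Agent.Lib.Helper15.PSpK.root_minpoly (F := F) p r hrp (ν k) (hν k).1 (hν k).2
  have hbc : bOrd q r = c := by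
    rw [bOrd_eq_of_c hrq, ← hc, if_neg (Nat.not_even_iff_odd.mpr hodd)]
  -- the norm is one
  have hnorm : ∀ k, LinearMap.det (Algebra.lmul F K (ν k)) = 1 := by
    intro k
    rw [← Algebra.norm_apply]
    have h1 : (Algebra.norm F (ν k)) ^ r = 1 := by rw [← map_pow, (hν k).1, map_one]
    have h0 : Algebra.norm F (ν k) ≠ 0 := by
      intro h
      rw [h, zero_pow hr.out.ne_zero] at h1
      exact zero_ne_one h1
    have h2 : (Algebra.norm F (ν k)) ^ (q ^ 2 - 1) = 1 := by
      rw [← hF]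
      exact FiniteField.pow_card_sub_one_eq_one _ h0
    have h3 : Nat.gcd r (q ^ 2 - 1) = 1 :=
      (Nat.Prime.coprime_iff_not_dvd hr.out).mpr
        (Cfsg.Agent.Lib.Helper19.PSU.not_dvd_sq_sub_one r c hr.out hrodd q (by omega) hdvd hndvd)
    have h4 := pow_gcd_eq_one.mpr ⟨h1, h2⟩
    rwa [h3, pow_one] at h4
  set T : Fin u → (K →ₗ[F] K) := fun k => Algebra.lmul F K (ν k) with hT
  set P : Fin u → F[X] := fun k => minpoly F (ν k) with hP
  have hPk : ∀ k, aeval (T k) (P k) = 0 := by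
    intro k
    show aeval (Algebra.lmul F K (ν k)) (minpoly F (ν k)) = 0
    rw [aeval_lmul, minpoly.aeval, map_zero]
  have hPcop : ∀ j k, j ≠ k → IsCoprime (P j) (P k) := by
    intro j k hjk
    rw [(hroot j).1.coprime_iff_not_dvd]
    intro hd
    apply hjk
    apply hνinj
    have hassoc : Associated (minpoly F (ν j)) (minpoly F (ν k)) :=
      (hroot j).1.associated_of_dvd (hroot k).1 hd
    exact eq_of_monic_of_associated (minpoly.monic (Algebra.IsIntegral.isIntegral _))
      (minpoly.monic (Algebra.IsIntegral.isIntegral _)) hassoc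
  have hPdeg : ∀ k, (P k).natDegree = finrank F K := by
    intro k
    rw [(hroot k).2.1, orderOf_card_eq_bOrd hF r hrq, hbc, hK]
  set k₀ := n - u * c with hk₀
  set TT := mMap T k₀ with hTT
  have hTr : TT ^ r = 1 := by
    apply LinearMap.ext
    intro a
    rw [hTT, mMap_pow_apply]
    apply Prod.ext
    · funext k
      show ((Algebra.lmul F K (ν k)) ^ r) (a.1 k) = a.1 k
      rw [lmul_pow_apply, (hν k).1, one_mul]
    · rfl
  have hiso := mMap_iso hF (eForm hF c hK hodd) T
    (fun k => eForm_lmul hF c hK hodd (ν k) (hνq k)) k₀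
  have hSm := mForm_isSymm (ι := Fin u) hF (eForm hF c hK hodd) (eForm_isSymm hF c hK hodd) k₀
  have hNm := mForm_nondeg (ι := Fin u) hF (eForm hF c hK hodd) (eForm_nondeg hF c hK hodd) k₀
  have hfin : finrank F ((Fin u → K) × (Fin k₀ → F)) = n := by
    rw [finrank_model, Fintype.card_fin, hK, hk₀]
    omega
  refine derangement_of_model hF _ hSm hNm n m r hfin TT hiso ?_ 1 (by rw [hTr, one_smul]) ?_
  · rw [hTT, det_mMap]
    simp only [hT, hnorm, Finset.prod_const_one]
  · rintro ⟨W, hWdim, hWti, hWinv⟩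
    have hWinv' : W ∈ Module.End.invtSubmodule TT := by
      rw [Module.End.mem_invtSubmodule_iff_map_le]
      exact hWinv
    have := bound_blocks hF (eForm hF c hK hodd) (eForm_isSymm hF c hK hodd)
      (eForm_ne_zero hF c hK hodd) T P (fun k => (hroot k).1) hPdeg hPk hPcop
      (fun k => (hroot k).2.2) k₀ W hWinv' hWti
    omega

end fieldmodel

end Cfsg.Agent.Lib.Helper12.HU
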