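import Mathlib
import Cfsg.Agent.Lib.Helper12.HU14

/-!
# Derangements of odd prime order dividing `q + 1`: diagonal elements with distinct eigenvalues
-/

set_option autoImplicit false
set_option linter.unusedSectionVars false
set_option linter.unusedVariables false
set_option linter.style.haveILetI false

namespace Cfsg.Agent.Lib.Helper12.HU

open Module Submodule Polynomial Cfsg.Agent.Lib.Helper15.PSub Cfsg.Agent.Lib.Helper15.PDec
  Cfsg.Agent.Lib.Helper6 Cfsg.Agent.Lib.Helper16 Cfsg.Agent.S0779 Matrix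

section diagmodel

variable {F : Type*} [Field F] [Fintype F] {q : ℕ}

/-- an element of order `r` in the multiplicative group when `r ∣ q + 1` -/
theorem exists_root_of_dvd (hF : Fintype.card F = q ^ 2) (r : ℕ) [hr : Fact r.Prime]
    (hrq1 : r ∣ q + 1) : ∃ ε : F, orderOf ε = r ∧ ε ^ (q + 1) = 1 := by
  classical
  have hq : 2 ≤ q := two_le_q hF
  have hcard : Nat.card Fˣ = q ^ 2 - 1 := by
    rw [Nat.card_units, Nat.card_eq_fintype_card, hF]
  have hdvd' : r ∣ Nat.card Fˣ := by
    rw [hcard, sq_sub_one_eq _ (by omega)]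
    exact Dvd.dvd.mul_left hrq1 _
  obtain ⟨g, hg⟩ := exists_prime_orderOf_dvd_card' r hdvd'
  refine ⟨(g : F), ?_, ?_⟩
  · rw [orderOf_units, hg]
  · obtain ⟨t, ht⟩ := hrq1
    rw [ht, pow_mul, ← Units.val_pow_eq_pow_val, ← hg, pow_orderOf_eq_one, Units.val_one, one_pow]

/-- the third necessity model: a diagonal element with `2 h` distinct nontrivial eigenvalues of
product one -/
theorem derangement_diag (hF : Fintype.card F = q ^ 2) (p : ℕ) [hp : Fact p.Prime] [CharP F p]
    (r : ℕ) [hr : Fact r.Prime] (hrp : r ≠ p) (hr2 : r ≠ 2) (hrq1 : r ∣ q + 1)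
    (n m h : ℕ) (hh1 : 2 * h ≤ r - 1) (hh2 : 2 * h ≤ n) (hlt : n - 2 * h < 2 * m) :
    HasDerangement F q n m r 1 := by
  classical
  have hr1 : 2 ≤ r := hr.out.two_le
  obtain ⟨ε, hεord, hεq⟩ := exists_root_of_dvd hF r hrq1
  have hεr : ε ^ r = 1 := by rw [← hεord]; exact pow_orderOf_eq_one ε
  -- the exponents
  set x : Fin h ⊕ Fin h → ℕ := Sum.elim (fun k => (k : ℕ) + 1) (fun k => r - ((k : ℕ) + 1)) with hx
  have hx1 : ∀ k, 1 ≤ x k ∧ x k < r := by
    intro k
    rcases k with k | k
    · have := k.2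
      show 1 ≤ (k : ℕ) + 1 ∧ (k : ℕ) + 1 < r
      omega
    · have := k.2
      show 1 ≤ r - ((k : ℕ) + 1) ∧ r - ((k : ℕ) + 1) < r
      omega
  have hxinj : Function.Injective x := by
    intro a b hab
    rcases a with a | a <;> rcases b with b | b
    · have h1 : (a : ℕ) + 1 = (b : ℕ) + 1 := hab
      congr 1
      apply Fin.ext
      omega
    · have h1 : (a : ℕ) + 1 = r - ((b : ℕ) + 1) := hab
      have := a.2
      have := b.2
      omega
    · have h1 : r - ((a : ℕ) + 1) = (b : ℕ) + 1 := hab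
      have := a.2
      have := b.2
      omega
    · have h1 : r - ((a : ℕ) + 1) = r - ((b : ℕ) + 1) := hab
      have := a.2
      have := b.2
      congr 1
      apply Fin.ext
      omega
  set e : Fin h ⊕ Fin h → F := fun k => ε ^ x k with he
  have heinj : Function.Injective e := by
    intro a b hab
    apply hxinj
    exact pow_injOn_Iio_orderOf (x := ε) (by rw [hεord]; exact (hx1 a).2)
      (by rw [hεord]; exact (hx1 b).2) hab
  have her : ∀ k, e k ^ r = 1 := by
    intro k
    rw [he]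
    show (ε ^ x k) ^ r = 1
    rw [← pow_mul, mul_comm, pow_mul, hεr, one_pow]
  have heq : ∀ k, e k ^ (q + 1) = 1 := by
    intro k
    show (ε ^ x k) ^ (q + 1) = 1
    rw [← pow_mul, mul_comm, pow_mul, hεq, one_pow]
  have he1 : ∀ k, e k ≠ 1 := by
    intro k h1
    have h2 : orderOf ε ∣ x k := orderOf_dvd_of_pow_eq_one h1
    rw [hεord] at h2
    have := Nat.le_of_dvd (hx1 k).1 h2
    have := (hx1 k).2
    omega
  have heprod : ∏ k, e k = 1 := by
    rw [Fintype.prod_sum_type, ← Finset.prod_mul_distrib]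
    apply Finset.prod_eq_one
    intro k _
    show ε ^ ((k : ℕ) + 1) * ε ^ (r - ((k : ℕ) + 1)) = 1
    rw [← pow_add]
    have := k.2
    have h3 : (k : ℕ) + 1 + (r - ((k : ℕ) + 1)) = r := by omega
    rw [h3, hεr]
  -- the blocks
  set T : Fin h ⊕ Fin h → ((Fin 1 → F) →ₗ[F] (Fin 1 → F)) := fun k => e k • 1 with hT
  set P : Fin h ⊕ Fin h → F[X] := fun k => X - C (e k) with hP
  have hPk : ∀ k, aeval (T k) (P k) = 0 := by
    intro k
    show aeval (e k • (1 : (Fin 1 → F) →ₗ[F] (Fin 1 → F))) (X - C (e k)) = 0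
    rw [map_sub, aeval_X, aeval_C, Algebra.algebraMap_eq_smul_one, sub_self]
  have hPcop : ∀ j k, j ≠ k → IsCoprime (P j) (P k) := by
    intro j k hjk
    apply isCoprime_X_sub_C_of_isUnit_sub
    rw [isUnit_iff_ne_zero, sub_ne_zero]
    exact fun h => hjk (heinj h)
  have hPdeg : ∀ k, (P k).natDegree = finrank F (Fin 1 → F) := by
    intro k
    rw [Module.finrank_fin_fun]
    exact natDegree_X_sub_C _
  have hP1 : ∀ k, eval 1 (P k) ≠ 0 := by
    intro k
    show eval 1 (X - C (e k)) ≠ 0
    rw [eval_sub, eval_X, eval_C, sub_ne_zero]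
    exact fun h => he1 k h.symm
  have hTiso : ∀ k u v, hermB 1 hF (T k u) (T k v) = hermB 1 hF u v := by
    intro k u v
    show hermB 1 hF (e k • u) (e k • v) = hermB 1 hF u v
    rw [hermB_apply, hermB_apply, herm_smul_left, herm_smul_right, ← mul_assoc, ← pow_succ',
      heq, one_mul]
  set k₀ := n - 2 * h with hk₀
  set TT := mMap T k₀ with hTT
  have hTr : TT ^ r = 1 := by
    apply LinearMap.ext
    intro a
    rw [hTT, mMap_pow_apply]
    apply Prod.ext
    · funext k
      show ((e k • (1 : (Fin 1 → F) →ₗ[F] (Fin 1 → F))) ^ r) (a.1 k) = a.1 k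
      rw [_root_.smul_pow, one_pow, her, one_smul, Module.End.one_apply]
    · rfl
  have hiso := mMap_iso hF (hermB 1 hF) T hTiso k₀
  have hSm := mForm_isSymm (ι := Fin h ⊕ Fin h) hF (hermB 1 hF) (hermB_isSymm hF) k₀
  have hNm := mForm_nondeg (ι := Fin h ⊕ Fin h) hF (hermB 1 hF) (hermB_left_nondeg hF 1) k₀
  have hfin : finrank F ((Fin h ⊕ Fin h → (Fin 1 → F)) × (Fin k₀ → F)) = n := by
    rw [finrank_model, Fintype.card_sum, Fintype.card_fin, Module.finrank_fin_fun, hk₀]
    omega
  have hB₀ : ∃ u v, hermB 1 hF u v ≠ 0 := by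
    by_contra hall
    push Not at hall
    have := hermB_left_nondeg hF 1 (fun _ => 1) (hall _)
    have h1 := congrFun this 0
    exact one_ne_zero h1
  refine derangement_of_model hF _ hSm hNm n m r hfin TT hiso ?_ 1 (by rw [hTr, one_smul]) ?_
  · rw [hTT, det_mMap]
    have : ∀ k, LinearMap.det (T k) = e k := by
      intro k
      show LinearMap.det (e k • (1 : (Fin 1 → F) →ₗ[F] (Fin 1 → F))) = e k
      rw [LinearMap.det_smul, Module.finrank_fin_fun, pow_one, map_one, mul_one]
    simp only [this]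
    exact heprod
  · rintro ⟨W, hWdim, hWti, hWinv⟩
    have hWinv' : W ∈ Module.End.invtSubmodule TT := by
      rw [Module.End.mem_invtSubmodule_iff_map_le]
      exact hWinv
    have := bound_blocks hF (hermB 1 hF) (hermB_isSymm hF) hB₀ T P
      (fun k => irreducible_X_sub_C _) hPdeg hPk hPcop hP1 k₀ W hWinv' hWti
    omega

end diagmodel

end Cfsg.Agent.Lib.Helper12.HU
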