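import Mathlib
import Cfsg.Agent.Lib.Helper12.HU15

/-!
# Derangements with irreducible minimal polynomial `X ^ r - z`
-/

set_option autoImplicit false
set_option linter.unusedSectionVars false
set_option linter.unusedVariables false
set_option linter.style.haveILetI false

namespace Cfsg.Agent.Lib.Helper12.HU

open Module Submodule Polynomial Cfsg.Agent.Lib.Helper15.PSub Cfsg.Agent.Lib.Helper15.PDec
  Cfsg.Agent.Lib.Helper6 Cfsg.Agent.Lib.Helper16 Cfsg.Agent.S0779 Matrix

section nonpower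

variable {F : Type*} [Field F] [Fintype F] {q : ℕ}

/-- `r`-th roots of norm-one elements have norm one, for odd `r ∣ q + 1` -/
theorem norm_one_of_pow (hF : Fintype.card F = q ^ 2) (r : ℕ) [hr : Fact r.Prime] (hr2 : r ≠ 2)
    (hrq1 : r ∣ q + 1) (w : F) (hw : (w ^ r) ^ (q + 1) = 1) : w ^ (q + 1) = 1 := by
  have hq : 2 ≤ q := two_le_q hF
  have hw0 : w ≠ 0 := by
    rintro rfl
    rw [zero_pow hr.out.ne_zero, zero_pow (by omega)] at hw
    exact zero_ne_one hw
  have h1 : (w ^ (q + 1)) ^ r = 1 := by rw [← pow_mul, mul_comm, pow_mul, hw]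
  have h2 : (w ^ (q + 1)) ^ (q - 1) = 1 := by
    rw [← pow_mul]
    have : (q + 1) * (q - 1) = q ^ 2 - 1 := by
      rw [sq_sub_one_eq q (by omega), mul_comm]
    rw [this, ← hF]
    exact FiniteField.pow_card_sub_one_eq_one w hw0
  have h3 : Nat.gcd r (q - 1) = 1 := by
    rw [← Nat.coprime_iff_gcd_eq_one, Nat.Prime.coprime_iff_not_dvd hr.out]
    intro hd
    have h4 : r ∣ (q + 1) - (q - 1) := Nat.dvd_sub hrq1 hd
    have h5 : (q + 1) - (q - 1) = 2 := by omega
    rw [h5] at h4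
    exact hr2 ((Nat.prime_dvd_prime_iff_eq hr.out Nat.prime_two).mp h4)
  have h4 := pow_gcd_eq_one.mpr ⟨h1, h2⟩
  rwa [h3, pow_one] at h4

/-- an element of `μ_{q+1}` of `r`-power order which is not an `r`-th power -/
theorem exists_nonpower (hF : Fintype.card F = q ^ 2) (r : ℕ) [hr : Fact r.Prime] (hr2 : r ≠ 2)
    (hrq1 : r ∣ q + 1) (n : ℕ) (hn : 0 < n) (hv : padicValNat r (q + 1) < padicValNat r n) :
    ∃ z : F, z ^ (q + 1) = 1 ∧ (∀ w : F, w ^ r ≠ z) ∧ r ∣ n ∧ z ^ (n / r) = 1 := by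
  classical
  have hq : 2 ≤ q := two_le_q hF
  set e := padicValNat r (q + 1) with he
  have hdv : r ^ e ∣ q + 1 := pow_padicValNat_dvd
  obtain ⟨s, hs⟩ := hdv
  have hrs : ¬ r ∣ s := by
    rintro ⟨t, ht⟩
    have h1 : r ^ (e + 1) ∣ q + 1 := ⟨t, by rw [hs, ht, pow_succ]; ring⟩
    exact pow_succ_padicValNat_not_dvd (p := r) (by omega : q + 1 ≠ 0) h1
  have hn1 : r ^ (e + 1) ∣ n := (padicValNat_dvd_iff_le (by omega : n ≠ 0)).mpr hv
  obtain ⟨t, ht⟩ := hn1
  have hrpos : 0 < r := hr.out.pos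
  have hrn : r ∣ n := ⟨r ^ e * t, by rw [ht, pow_succ]; ring⟩
  have hnr : n / r = r ^ e * t := by
    apply Nat.div_eq_of_eq_mul_right hrpos
    rw [ht, pow_succ]
    ring
  obtain ⟨ζ, hζ⟩ := exists_prim_root hF
  have hζ1 : ζ ^ (q + 1) = 1 := hζ.pow_eq_one
  refine ⟨((ζ ^ s : Fˣ) : F), ?_, ?_, hrn, ?_⟩
  · rw [← Units.val_pow_eq_pow_val, ← pow_mul, mul_comm, pow_mul, hζ1, one_pow, Units.val_one]
  · intro w hw
    have hw1 : w ^ (q + 1) = 1 := by
      apply norm_one_of_pow hF r hr2 hrq1 w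
      rw [hw, ← Units.val_pow_eq_pow_val, ← pow_mul, mul_comm, pow_mul, hζ1, one_pow,
        Units.val_one]
    have hw0 : w ≠ 0 := by
      rintro rfl
      rw [zero_pow (by omega)] at hw1
      exact zero_ne_one hw1
    have hζF : IsPrimitiveRoot (ζ : F) (q + 1) := IsPrimitiveRoot.coe_units_iff.mpr hζ
    obtain ⟨i, -, hi⟩ := hζF.eq_pow_of_pow_eq_one hw1
    have h2 : ζ ^ (i * r) = ζ ^ s := by
      apply Units.ext
      rw [Units.val_pow_eq_pow_val, Units.val_pow_eq_pow_val, pow_mul, hi, hw,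
        Units.val_pow_eq_pow_val]
    have h3 : i * r ≡ s [MOD q + 1] := by
      have := pow_eq_pow_iff_modEq.mp h2
      rwa [← hζ.eq_orderOf] at this
    exact hrs ((Nat.ModEq.dvd_iff h3 hrq1).mp (dvd_mul_left r i))
  · rw [hnr, ← Units.val_pow_eq_pow_val, ← pow_mul, ← mul_assoc, mul_comm s, ← hs, pow_mul, hζ1,
      one_pow, Units.val_one]

end nonpower

section rootmodel

variable {F : Type*} [Field F] [Fintype F] {q : ℕ}
variable {K : Type*} [Field K] [Fintype K] [Algebra F K]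

/-- the fourth necessity model, from a root of `X ^ r - z` in an extension of degree `r` -/
theorem derangement_of_root (hF : Fintype.card F = q ^ 2) (r : ℕ) [hr : Fact r.Prime]
    (hr2 : r ≠ 2) (hrq1 : r ∣ q + 1) (hK : finrank F K = r) (z : F) (hz : z ^ (q + 1) = 1)
    (hirr : Irreducible (X ^ r - C z : F[X])) (lam : K) (hlam : lam ^ r = algebraMap F K z)
    (n m : ℕ) (hrn : r ∣ n) (hzn : z ^ (n / r) = 1) (hrm : ¬ r ∣ m) :
    HasDerangement F q n m r z := by
  classical
  have hq : 2 ≤ q := two_le_q hF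
  have hrodd : Odd r := hr.out.odd_of_ne_two hr2
  have hrpos : 0 < r := hr.out.pos
  have hz0 : z ≠ 0 := by
    rintro rfl
    rw [zero_pow (by omega)] at hz
    exact zero_ne_one hz
  have hlam0 : lam ≠ 0 := by
    rintro rfl
    rw [zero_pow hr.out.ne_zero] at hlam
    exact hz0 ((map_eq_zero (algebraMap F K)).mp hlam.symm)
  have hqr : 1 ≤ q ^ r := Nat.one_le_pow _ _ (by omega)
  have hdvdN : q + 1 ∣ q ^ r + 1 := by
    have := Odd.nat_add_dvd_pow_add_pow q 1 hrodd
    rwa [one_pow] at this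
  have hsg : sgK hF r hK lam * lam = 1 := by
    rw [sgK_apply, ← pow_succ]
    have h1 : (lam ^ (q ^ r + 1)) ^ r = 1 := by
      rw [← pow_mul, mul_comm, pow_mul, hlam, ← map_pow]
      obtain ⟨t, ht⟩ := hdvdN
      rw [ht, pow_mul, hz, one_pow, map_one]
    have h2 : (lam ^ (q ^ r + 1)) ^ (q ^ r - 1) = 1 := by
      rw [← pow_mul]
      have : (q ^ r + 1) * (q ^ r - 1) = (q ^ r) ^ 2 - 1 := by
        rw [sq_sub_one_eq _ hqr, mul_comm]
      rw [this, ← card_block hF r hK]
      exact FiniteField.pow_card_sub_one_eq_one lam hlam0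
    have h3 : Nat.gcd r (q ^ r - 1) = 1 := by
      rw [← Nat.coprime_iff_gcd_eq_one, Nat.Prime.coprime_iff_not_dvd hr.out]
      intro hd
      have h4 : r ∣ (q ^ r + 1) - (q ^ r - 1) := Nat.dvd_sub (hrq1.trans hdvdN) hd
      have h5 : (q ^ r + 1) - (q ^ r - 1) = 2 := by omega
      rw [h5] at h4
      exact hr2 ((Nat.prime_dvd_prime_iff_eq hr.out Nat.prime_two).mp h4)
    have h4 := pow_gcd_eq_one.mpr ⟨h1, h2⟩
    rwa [h3, pow_one] at h4
  set T₀ : K →ₗ[F] K := Algebra.lmul F K lam with hT₀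
  have hT₀r : ∀ x, (T₀ ^ r) x = z • x := by
    intro x
    rw [hT₀, lmul_pow_apply, hlam, Algebra.smul_def]
  set TT := mMap (fun _ : Fin (n / r) => T₀) 0 with hTT
  have hTTr : TT ^ r = z • (1 : _ →ₗ[F] _) := by
    apply LinearMap.ext
    intro a
    rw [hTT, mMap_pow_apply, LinearMap.smul_apply, Module.End.one_apply]
    apply Prod.ext
    · funext k
      show (T₀ ^ r) (a.1 k) = z • a.1 k
      rw [hT₀r]
    · exact Subsingleton.elim _ _
  have hiso := mMap_iso hF (eForm hF r hK hrodd) (fun _ : Fin (n / r) => T₀)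
    (fun _ => eForm_lmul hF r hK hrodd lam hsg) 0
  have hSm := mForm_isSymm (ι := Fin (n / r)) hF (eForm hF r hK hrodd)
    (eForm_isSymm hF r hK hrodd) 0
  have hNm := mForm_nondeg (ι := Fin (n / r)) hF (eForm hF r hK hrodd)
    (eForm_nondeg hF r hK hrodd) 0
  have hfin : finrank F ((Fin (n / r) → K) × (Fin 0 → F)) = n := by
    rw [finrank_model, Fintype.card_fin, hK, add_zero]
    exact Nat.div_mul_cancel hrn
  have hdet := (det_of_irreducible TT r hrodd z hirr hTTr).2
  rw [hfin, hzn] at hdet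
  refine derangement_of_model hF _ hSm hNm n m r hfin TT hiso hdet z hTTr ?_
  rintro ⟨W, hWdim, hWti, hWinv⟩
  have hWinv' : W ∈ Module.End.invtSubmodule TT := by
    rw [Module.End.mem_invtSubmodule_iff_map_le]
    exact hWinv
  have hkill : aeval TT (X ^ r - C z : F[X]) = 0 := by
    rw [map_sub, map_pow, aeval_X, aeval_C, hTTr, Algebra.algebraMap_eq_smul_one]
    exact sub_self _
  have hss : Module.End.IsSemisimple TT :=
    Module.End.isSemisimple_of_squarefree_aeval_eq_zero hirr.squarefree hkill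
  have hdvd : r ∣ finrank F W := by
    apply dvd_finrank_of_killed TT hss (X ^ r - C z) hirr.ne_zero r _ W hWinv'
    · intro w _
      rw [hkill, LinearMap.zero_apply]
    · intro P' hP'irr hP'dvd
      have hassoc : Associated P' (X ^ r - C z) := hP'irr.associated_of_dvd hirr hP'dvd
      rw [natDegree_eq_of_degree_eq (degree_eq_degree_of_associated hassoc)]
      exact natDegree_X_pow_sub_C
  rw [hWdim] at hdvd
  exact hrm hdvd

end rootmodel

section irrmodel

variable {F : Type*} [Field F] [Fintype F] {q : ℕ}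

/-- the fourth necessity model -/
theorem derangement_irr (hF : Fintype.card F = q ^ 2) (r : ℕ) [hr : Fact r.Prime]
    (hr2 : r ≠ 2) (hrq1 : r ∣ q + 1) (n m : ℕ) (hn : 0 < n) (hrm : ¬ r ∣ m)
    (hv : padicValNat r (q + 1) < padicValNat r n) : ∃ z : F, HasDerangement F q n m r z := by
  classical
  obtain ⟨z, hz, hnp, hrn, hzn⟩ := exists_nonpower hF r hr2 hrq1 n hn hv
  have hirr : Irreducible (X ^ r - C z : F[X]) := X_pow_sub_C_irreducible_of_prime hr.out hnp
  obtain ⟨P, hP⟩ : ∃ P : F[X], P = X ^ r - C z := ⟨_, rfl⟩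
  have hirr' : Irreducible P := by rw [hP]; exact hirr
  haveI : Fact (Irreducible P) := ⟨hirr'⟩
  have hP0 : P ≠ 0 := hirr'.ne_zero
  have hdeg : P.natDegree = r := by rw [hP]; exact natDegree_X_pow_sub_C
  haveI : Module.Finite F (AdjoinRoot P) := (AdjoinRoot.powerBasis hP0).finite
  haveI : Finite (AdjoinRoot P) := Module.finite_of_finite F
  letI : Fintype (AdjoinRoot P) := Fintype.ofFinite _
  have hK : finrank F (AdjoinRoot P) = r := by
    rw [(AdjoinRoot.powerBasis hP0).finrank, AdjoinRoot.powerBasis_dim, hdeg]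
  have hlam : (AdjoinRoot.root P) ^ r = algebraMap F (AdjoinRoot P) z := by
    have h1 := AdjoinRoot.eval₂_root P
    rw [hP, eval₂_sub, eval₂_pow, eval₂_X, eval₂_C, sub_eq_zero] at h1
    rw [← hP] at h1
    exact h1
  exact ⟨z, derangement_of_root hF r hr2 hrq1 hK z hz hirr (AdjoinRoot.root P) hlam n m hrn hzn
    hrm⟩

end irrmodel

end Cfsg.Agent.Lib.Helper12.HU
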