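import Mathlib
import Cfsg.Agent.Lib.Helper12.HU16
import Cfsg.Agent.Lib.Helper19.PSUm

/-!
# Elements of order two modulo scalars
-/

set_option autoImplicit false
set_option linter.unusedSectionVars false
set_option linter.unusedVariables false
set_option linter.style.haveILetI false

namespace Cfsg.Agent.Lib.Helper12.HU

open Module Submodule Polynomial Cfsg.Agent.Lib.Helper15.PSub Cfsg.Agent.Lib.Helper15.PDec
  Cfsg.Agent.Lib.Helper6 Cfsg.Agent.Lib.Helper16 Cfsg.Agent.S0779 Matrix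
  Cfsg.Agent.Lib.Helper19.PSU

section two

variable {F : Type*} [Field F] [Fintype F] {q : ℕ}

/-- the scalar `x ^ r` of a unitary matrix has norm one -/
theorem scalar_norm_one (hF : Fintype.card F = q ^ 2) (n : ℕ) (hn : 0 < n)
    (x : Matrix (Fin n) (Fin n) F)
    (hx : ∀ u v, Cfsg.hermForm n F q (x *ᵥ u) (x *ᵥ v) = Cfsg.hermForm n F q u v) (r : ℕ) (z : F)
    (hxr : x ^ r = z • (1 : Matrix (Fin n) (Fin n) F)) : z ^ (q + 1) = 1 := by
  classical
  set i0 : Fin n := ⟨0, hn⟩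
  have h1 := herm_pow_left x hx r (Pi.single i0 1) (Pi.single i0 1)
  rw [hxr, Matrix.smul_mulVec, Matrix.one_mulVec, herm_smul_left, herm_smul_right,
    herm_single_right hF, Pi.single_eq_same, mul_one] at h1
  rw [pow_succ']
  exact h1

theorem odd_q_of_two_ne_zero (hF : Fintype.card F = q ^ 2) (h2 : (2 : F) ≠ 0) : Odd q := by
  rw [← Nat.not_even_iff_odd]
  intro he
  apply h2
  haveI : CharP F (ringChar F) := ringChar.charP F
  obtain ⟨⟨f, hf0⟩, hpp', hf⟩ := FiniteField.card F (ringChar F)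
  have hf' : Fintype.card F = ringChar F ^ f := hf
  have h2q : 2 ∣ q := even_iff_two_dvd.mp he
  have h2c : 2 ∣ ringChar F ^ f := by
    rw [← hf', hF]
    exact Dvd.dvd.trans h2q (dvd_pow_self q (by norm_num))
  have h2r : 2 ∣ ringChar F := Nat.prime_two.dvd_of_dvd_pow h2c
  have hr2 : ringChar F = 2 := ((Nat.prime_dvd_prime_iff_eq Nat.prime_two hpp').mp h2r).symm
  have : ((ringChar F : ℕ) : F) = 0 := ringChar.Nat.cast_ringChar
  rw [hr2] at this
  exact_mod_cast this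

/-- scalars of norm one are isometries -/
theorem smul_iso (hF : Fintype.card F = q ^ 2) {V : Type*} [AddCommGroup V] [Module F V]
    (B : V →ₛₗ[conjQ hF] V →ₗ[F] F) (μ : F) (hμ : μ ^ (q + 1) = 1) (a b : V) :
    B (μ • a) (μ • b) = B a b := by
  have h1 : B (μ • a) = conjQ hF μ • B a := map_smulₛₗ B μ a
  rw [h1, LinearMap.smul_apply, map_smul, smul_eq_mul, smul_eq_mul, conjQ_apply, ← mul_assoc,
    ← pow_succ, hμ, one_mul]

/-- an element `μ` with `μ ^ (q + 1) = 1` and `μ ^ n = -1` when `n_2 < (q + 1)_2` -/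
theorem exists_mu_neg (hF : Fintype.card F = q ^ 2) (h2 : (2 : F) ≠ 0) (n : ℕ) (hn : n ≠ 0)
    (hlt : padicValNat 2 n < padicValNat 2 (q + 1)) :
    ∃ μ : F, μ ^ (q + 1) = 1 ∧ μ ^ n = -1 := by
  classical
  obtain ⟨ζ, hζ⟩ := exists_prim_root hF
  set b := padicValNat 2 n with hb
  obtain ⟨n', hn'odd, hn'⟩ := two_adic_decomp n hn
  have hdvd : 2 ^ (b + 1) ∣ q + 1 :=
    dvd_trans (pow_dvd_pow 2 (by omega)) (pow_padicValNat_dvd (p := 2) (n := q + 1))
  obtain ⟨t, ht⟩ := hdvd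
  have ht0 : t ≠ 0 := by
    rintro rfl
    omega
  have hζ1 : (ζ : F) ^ (q + 1) = 1 := by
    rw [← Units.val_pow_eq_pow_val, hζ.pow_eq_one, Units.val_one]
  set mu : F := (ζ : F) ^ t with hmu
  have hmq : mu ^ (q + 1) = 1 := by
    rw [hmu, ← pow_mul, mul_comm, pow_mul, hζ1, one_pow]
  have hw : mu ^ (2 ^ b) = -1 := by
    have hw2 : (mu ^ (2 ^ b)) ^ 2 = 1 := by
      rw [← pow_mul, ← pow_succ, hmu, ← pow_mul, mul_comm, ← ht, hζ1]
    have hw1 : mu ^ (2 ^ b) ≠ 1 := by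
      intro h
      have hpos : t * 2 ^ b ≠ 0 := Nat.mul_ne_zero ht0 (by positivity)
      have hlt' : t * 2 ^ b < q + 1 := by
        rw [ht, pow_succ]
        have : 0 < t * 2 ^ b := Nat.pos_of_ne_zero hpos
        nlinarith
      have h1 := hζ.pow_ne_one_of_pos_of_lt hpos hlt'
      apply h1
      apply Units.ext
      rw [Units.val_pow_eq_pow_val, Units.val_one, pow_mul]
      exact h
    have h3 : (mu ^ (2 ^ b) - 1) * (mu ^ (2 ^ b) + 1) = 0 := by
      have : (mu ^ (2 ^ b) - 1) * (mu ^ (2 ^ b) + 1) = (mu ^ (2 ^ b)) ^ 2 - 1 := by ring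
      rw [this, hw2, sub_self]
    rcases mul_eq_zero.mp h3 with h | h
    · exact absurd (sub_eq_zero.mp h) hw1
    · exact eq_neg_of_add_eq_zero_left h
  refine ⟨mu, hmq, ?_⟩
  rw [hn', pow_mul, hw, hn'odd.neg_one_pow]

/-- necessity for `r = 2`: the model `μ · diag(-1, 1, …, 1)` -/
theorem derangement_two (hF : Fintype.card F = q ^ 2) (h2 : (2 : F) ≠ 0) (n m : ℕ)
    (hm : 1 ≤ m) (hmn : 2 * m = n) (hlt : padicValNat 2 n < padicValNat 2 (q + 1)) :
    ∃ z : F, HasDerangement F q n m 2 z := by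
  classical
  have hqodd : Odd q := odd_q_of_two_ne_zero hF h2
  have hq1 : Even (q + 1) := Odd.add_one hqodd
  obtain ⟨μ, hμq, hμn⟩ := exists_mu_neg hF h2 n (by omega) hlt
  have hμ0 : μ ≠ 0 := by
    rintro rfl
    rw [zero_pow (by omega)] at hμq
    exact zero_ne_one hμq
  set T : Fin 1 → ((Fin 1 → F) →ₗ[F] (Fin 1 → F)) := fun _ => (-1 : F) • 1 with hT
  set P : Fin 1 → F[X] := fun _ => X - C (-1 : F) with hP
  have hPk : ∀ k, aeval (T k) (P k) = 0 := by
    intro k
    show aeval ((-1 : F) • (1 : (Fin 1 → F) →ₗ[F] (Fin 1 → F))) (X - C (-1 : F)) = 0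
    rw [map_sub, aeval_X, aeval_C, Algebra.algebraMap_eq_smul_one, sub_self]
  have hPcop : ∀ j k, j ≠ k → IsCoprime (P j) (P k) :=
    fun j k hjk => absurd (Subsingleton.elim j k) hjk
  have hPdeg : ∀ k, (P k).natDegree = finrank F (Fin 1 → F) := by
    intro k
    rw [Module.finrank_fin_fun]
    exact natDegree_X_sub_C _
  have hP1 : ∀ k, eval 1 (P k) ≠ 0 := by
    intro k
    show eval 1 (X - C (-1 : F)) ≠ 0
    rw [eval_sub, eval_X, eval_C, sub_neg_eq_add, one_add_one_eq_two]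
    exact h2
  have hTiso : ∀ k u v, hermB 1 hF (T k u) (T k v) = hermB 1 hF u v := by
    intro k u v
    show hermB 1 hF ((-1 : F) • u) ((-1 : F) • v) = hermB 1 hF u v
    rw [hermB_apply, hermB_apply, herm_smul_left, herm_smul_right, ← mul_assoc, ← pow_succ',
      hq1.neg_one_pow, one_mul]
  set k₀ := n - 1 with hk₀
  set TT' := mMap T k₀ with hTT'
  have hTT'2 : TT' ^ 2 = 1 := by
    apply LinearMap.ext
    intro a
    rw [hTT', mMap_pow_apply]
    apply Prod.ext
    · funext k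
      show (((-1 : F) • (1 : (Fin 1 → F) →ₗ[F] (Fin 1 → F))) ^ 2) (a.1 k) = a.1 k
      rw [_root_.smul_pow, one_pow, neg_one_sq, one_smul, Module.End.one_apply]
    · rfl
  have hiso' := mMap_iso hF (hermB 1 hF) T hTiso k₀
  have hSm := mForm_isSymm (ι := Fin 1) hF (hermB 1 hF) (hermB_isSymm hF) k₀
  have hNm := mForm_nondeg (ι := Fin 1) hF (hermB 1 hF) (hermB_left_nondeg hF 1) k₀
  have hfin : finrank F ((Fin 1 → (Fin 1 → F)) × (Fin k₀ → F)) = n := by
    rw [finrank_model, Fintype.card_fin, Module.finrank_fin_fun, hk₀]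
    omega
  have hB₀ : ∃ u v, hermB 1 hF u v ≠ 0 := by
    by_contra hall
    push Not at hall
    have := hermB_left_nondeg hF 1 (fun _ => 1) (hall _)
    have h1 := congrFun this 0
    exact one_ne_zero h1
  set TT := μ • TT' with hTT
  have hiso : ∀ a b, mForm hF (hermB 1 hF) (Fin 1) k₀ (TT a) (TT b) =
      mForm hF (hermB 1 hF) (Fin 1) k₀ a b := by
    intro a b
    show mForm hF (hermB 1 hF) (Fin 1) k₀ (μ • TT' a) (μ • TT' b) = _
    rw [smul_iso hF _ μ hμq, hiso']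
  have hTT2 : TT ^ 2 = (μ ^ 2) • (1 : _ →ₗ[F] _) := by
    rw [hTT, _root_.smul_pow, hTT'2]
  have hdet : LinearMap.det TT = 1 := by
    rw [hTT, LinearMap.det_smul, hfin, hTT', det_mMap, hμn]
    have : ∀ k, LinearMap.det (T k) = -1 := by
      intro k
      show LinearMap.det ((-1 : F) • (1 : (Fin 1 → F) →ₗ[F] (Fin 1 → F))) = -1
      rw [LinearMap.det_smul, Module.finrank_fin_fun, pow_one, map_one, mul_one]
    simp only [this, Finset.univ_unique, Finset.prod_singleton]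
    ring
  refine ⟨μ ^ 2, derangement_of_model hF _ hSm hNm n m 2 hfin TT hiso hdet (μ ^ 2) hTT2 ?_⟩
  rintro ⟨W, hWdim, hWti, hWinv⟩
  have hWinv' : W ∈ Module.End.invtSubmodule TT' := by
    rw [Module.End.mem_invtSubmodule]
    intro w hw
    rw [Submodule.mem_comap]
    have h1 : TT w ∈ W := hWinv ⟨w, hw, rfl⟩
    have h3 : μ⁻¹ • TT w = TT' w := by
      show μ⁻¹ • (μ • TT' w) = TT' w
      rw [smul_smul, inv_mul_cancel₀ hμ0, one_smul]
    rw [← h3]
    exact W.smul_mem _ h1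
  have := bound_blocks hF (hermB 1 hF) (hermB_isSymm hF) hB₀ T P
    (fun k => irreducible_X_sub_C _) hPdeg hPk hPcop hP1 k₀ W hWinv' hWti
  omega

end two

end Cfsg.Agent.Lib.Helper12.HU
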