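import Mathlib
import Cfsg.Agent.Lib.Helper12.HU17

/-!
# Elements of order two modulo scalars: sufficiency
-/

set_option autoImplicit false
set_option linter.unusedSectionVars false
set_option linter.unusedVariables false
set_option linter.style.haveILetI false

namespace Cfsg.Agent.Lib.Helper12.HU

open Module Submodule Polynomial Cfsg.Agent.Lib.Helper15.PSub Cfsg.Agent.Lib.Helper15.PDec
  Cfsg.Agent.Lib.Helper6 Cfsg.Agent.Lib.Helper16 Cfsg.Agent.S0779 Matrix
  Cfsg.Agent.Lib.Helper19.PSU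

section twosuff

variable {F : Type*} [Field F] [Fintype F] {q n : ℕ}

local notation "hh" => Cfsg.hermForm n F q

theorem map_le_of_mulVec (x : Matrix (Fin n) (Fin n) F) (W : Submodule F (Fin n → F))
    (h : ∀ w ∈ W, x *ᵥ w ∈ W) : W.map (Matrix.toLin' x) ≤ W := by
  rintro _ ⟨w, hw, rfl⟩
  rw [Matrix.toLin'_apply]
  exact h w hw

/-- the case `ν ^ (q + 1) = 1` -/
theorem two_sufficiency_A (hF : Fintype.card F = q ^ 2) (h2 : (2 : F) ≠ 0) (hqodd : Odd q)
    (m : ℕ) (hn0 : n ≠ 0) (hmn : 2 * m ≤ n)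
    (hcond : 2 * m < n ∨ padicValNat 2 (q + 1) ≤ padicValNat 2 n)
    (x : Matrix (Fin n) (Fin n) F) (hx : ∀ u v, hh (x *ᵥ u) (x *ᵥ v) = hh u v)
    (hdet : x.det = 1) (μ : F) (hμ0 : μ ≠ 0) (hμq : μ ^ (q + 1) = 1)
    (hx2 : x ^ 2 = (μ ^ 2) • (1 : Matrix (Fin n) (Fin n) F)) :
    ∃ W : Submodule F (Fin n → F), finrank F W = m ∧ (∀ u ∈ W, ∀ v ∈ W, hh u v = 0) ∧
      W.map (Matrix.toLin' x) ≤ W := by
  have hsup := eig_sup x μ h2 hμ0 hx2
  have hneg : μ ≠ -μ := by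
    intro h
    have : (2 : F) * μ = 0 := by
      rw [two_mul]
      exact eq_neg_iff_add_eq_zero.mp h
    rcases mul_eq_zero.mp this with h | h
    · exact h2 h
    · exact hμ0 h
  have hdet' := det_of_eig x μ (-μ) hneg hsup
  have hdisj := eig_disjoint x μ (-μ) hneg
  have hdim : finrank F (eig x μ) + finrank F (eig x (-μ)) = n := by
    have h1 := Submodule.finrank_sup_add_finrank_inf_eq (eig x μ) (eig x (-μ))
    rw [hsup, hdisj, finrank_bot, finrank_top, add_zero, Module.finrank_fin_fun] at h1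
    exact h1.symm
  set dp := finrank F (eig x μ) with hdp
  set dm := finrank F (eig x (-μ)) with hdm
  have hbad : ¬ (Odd dm ∧ 2 * m = n) := by
    rintro ⟨hdmodd, h2m⟩
    rcases hcond with h | hle
    · omega
    · rw [hdet, hdmodd.neg_pow, mul_neg, ← pow_add, hdim] at hdet'
      have : μ ^ n = -1 := neg_eq_iff_eq_neg.mp hdet'.symm
      exact two_adic_contra μ h2 hμq n hn0 this hle
  have horth : ∀ u ∈ eig x μ, ∀ v ∈ eig x (-μ), hh u v = 0 := by
    intro u hu v hv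
    apply herm_eig_zero x hx μ (-μ) _ u v hu hv
    rw [hqodd.neg_pow, mul_neg, ← pow_succ', hμq]
    exact neg_one_ne_one h2
  have horth' : ∀ u ∈ eig x (-μ), ∀ v ∈ eig x μ, hh u v = 0 :=
    fun u hu v hv => herm_swap_zero hF (horth v hv u hu)
  have hndp : NondegOn (hermB n hF) (eig x μ) := by
    intro w hw hz
    apply herm_nondeg hF
    intro y
    have hy : y ∈ eig x μ ⊔ eig x (-μ) := by rw [hsup]; exact Submodule.mem_top
    obtain ⟨a, ha, b, hb, rfl⟩ := Submodule.mem_sup.mp hy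
    have h1 : hh w a = 0 := by
      apply herm_swap_zero hF
      have := hz a ha
      rwa [hermB_apply] at this
    rw [herm_add_right hF, h1, horth w hw b hb, add_zero]
  have hndm : NondegOn (hermB n hF) (eig x (-μ)) := by
    intro w hw hz
    apply herm_nondeg hF
    intro y
    have hy : y ∈ eig x μ ⊔ eig x (-μ) := by rw [hsup]; exact Submodule.mem_top
    obtain ⟨a, ha, b, hb, rfl⟩ := Submodule.mem_sup.mp hy
    have h1 : hh w b = 0 := by
      apply herm_swap_zero hF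
      have := hz b hb
      rwa [hermB_apply] at this
    rw [herm_add_right hF, h1, horth' w hw a ha, add_zero]
  -- the split of `m`
  obtain ⟨m₁, m₂, hm12, hm1, hm2⟩ : ∃ m₁ m₂, m₁ + m₂ = m ∧ 2 * m₁ ≤ dp ∧ 2 * m₂ ≤ dm := by
    by_cases hle : 2 * m ≤ dp
    · exact ⟨m, 0, by omega, hle, by omega⟩
    · refine ⟨dp / 2, m - dp / 2, by omega, by omega, ?_⟩
      rcases Nat.even_or_odd dm with hev | hod
      · obtain ⟨t, ht⟩ := hev
        omega
      · have h3 : 2 * m ≠ n := fun h => hbad ⟨hod, h⟩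
        obtain ⟨t, ht⟩ := hod
        omega
  obtain ⟨A, hA, hAti, hAdim⟩ := exists_ti_le hF (hermB n hF) (hermB_isSymm hF) (eig x μ) hndp m₁ hm1
  obtain ⟨A', hA', hA'ti, hA'dim⟩ :=
    exists_ti_le hF (hermB n hF) (hermB_isSymm hF) (eig x (-μ)) hndm m₂ hm2
  have htsA : ∀ u ∈ A, ∀ v ∈ A, hh u v = 0 := fun u hu v hv => by
    have := hAti v hv u hu
    rwa [hermB_apply] at this
  have htsA' : ∀ u ∈ A', ∀ v ∈ A', hh u v = 0 := fun u hu v hv => by
    have := hA'ti v hv u hu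
    rwa [hermB_apply] at this
  refine ⟨A ⊔ A', ?_, ?_, ?_⟩
  · have h1 := Submodule.finrank_sup_add_finrank_inf_eq A A'
    have h3 : A ⊓ A' = ⊥ := by
      rw [eq_bot_iff, ← hdisj]
      exact inf_le_inf hA hA'
    rw [h3, finrank_bot, add_zero, hAdim, hA'dim] at h1
    omega
  · exact ts_sup hF A A' htsA htsA' (fun u hu v hv => horth u (hA hu) v (hA' hv))
      (fun u hu v hv => horth' u (hA' hu) v (hA hv))
  · exact map_le_of_mulVec x _ (inv_sup x μ (-μ) A A' hA hA')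

/-- sufficiency for `r = 2` -/
theorem two_sufficiency (hF : Fintype.card F = q ^ 2) (h2 : (2 : F) ≠ 0)
    (m : ℕ) (hn0 : n ≠ 0) (hmn : 2 * m ≤ n)
    (hcond : 2 * m < n ∨ padicValNat 2 (q + 1) ≤ padicValNat 2 n)
    (x : Matrix (Fin n) (Fin n) F) (hx : ∀ u v, hh (x *ᵥ u) (x *ᵥ v) = hh u v)
    (hdet : x.det = 1) (ζ : F) (hx2 : x ^ 2 = ζ • (1 : Matrix (Fin n) (Fin n) F)) :
    ∃ W : Submodule F (Fin n → F), finrank F W = m ∧ (∀ u ∈ W, ∀ v ∈ W, hh u v = 0) ∧
      W.map (Matrix.toLin' x) ≤ W := by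
  classical
  have hqodd : Odd q := odd_q_of_two_ne_zero hF h2
  have hζ : ζ ^ (q + 1) = 1 := scalar_norm_one hF n (by omega) x hx 2 ζ hx2
  obtain ⟨a, ha0, ha⟩ := hilbert90 hF ζ hζ
  obtain ⟨h, hh'⟩ := hqodd
  set ν : F := (a ^ h)⁻¹ with hν
  have hah : a ^ h ≠ 0 := pow_ne_zero _ ha0
  have hν0 : ν ≠ 0 := inv_ne_zero hah
  have hν2 : ν ^ 2 = ζ := by
    have e : a ^ (2 * h + 1) = (a ^ h) ^ 2 * a := by ring
    rw [← ha, hν, hh', e]
    field_simp
  have hε : (ν ^ (q + 1)) ^ 2 = 1 := by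
    rw [← pow_mul, mul_comm, pow_mul, hν2, hζ]
  have hε' : ν ^ (q + 1) = 1 ∨ ν ^ (q + 1) = -1 := by
    have h3 : (ν ^ (q + 1) - 1) * (ν ^ (q + 1) + 1) = 0 := by
      have : (ν ^ (q + 1) - 1) * (ν ^ (q + 1) + 1) = (ν ^ (q + 1)) ^ 2 - 1 := by ring
      rw [this, hε, sub_self]
    rcases mul_eq_zero.mp h3 with h | h
    · exact Or.inl (sub_eq_zero.mp h)
    · exact Or.inr (eq_neg_of_add_eq_zero_left h)
  rw [← hν2] at hx2
  have hqodd : Odd q := ⟨h, hh'⟩
  rcases hε' with h1 | h1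
  · exact two_sufficiency_A hF h2 hqodd m hn0 hmn hcond x hx hdet ν hν0 h1 hx2
  · have hpair := tspair_of_eig hF x hx ν h2 hν0 hx2 h1 hqodd
    have hfin := hpair.finrank_left hF
    obtain ⟨W, hW, hWdim⟩ := exists_le_finrank_eq (eig x ν) m (by omega)
    refine ⟨W, hWdim, fun u hu v hv => hpair.ts0 u (hW hu) v (hW hv), ?_⟩
    apply map_le_of_mulVec
    intro w hw
    rw [(mem_eig x ν w).mp (hW hw)]
    exact Submodule.smul_mem _ _ hw

end twosuff

end Cfsg.Agent.Lib.Helper12.HU
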