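import Mathlib
import Cfsg.Agent.Lib.Helper12.HU18

/-!
# The criterion for odd primes
-/

set_option autoImplicit false
set_option linter.unusedSectionVars false
set_option linter.unusedVariables false
set_option linter.style.haveILetI false

namespace Cfsg.Agent.Lib.Helper12.HU

open Module Submodule Polynomial Cfsg.Agent.Lib.Helper15.PSub Cfsg.Agent.Lib.Helper15.PDec
  Cfsg.Agent.Lib.Helper6 Cfsg.Agent.Lib.Helper16 Cfsg.Agent.S0779 Matrix
  Cfsg.Agent.Lib.Helper19.PSU

section oddcrit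

variable {F : Type*} [Field F] [Fintype F] {q n : ℕ}

local notation "hh" => Cfsg.hermForm n F q

/-- sufficiency for odd primes -/
theorem odd_sufficiency (hF : Fintype.card F = q ^ 2) (p : ℕ) [hp : Fact p.Prime] [CharP F p]
    (r : ℕ) [hr : Fact r.Prime] (hrp : r ≠ p) (hr2 : r ≠ 2) (m : ℕ) (hn0 : 0 < n)
    (hmn : 2 * m ≤ n) (h1 : 2 * (m % bOrd q r) ≤ n % cOrd q r)
    (h2 : Odd (cOrd q r) → (r - 1) / bOrd q r + 2 * (m / bOrd q r) ≤ n / bOrd q r)
    (h3 : cOrd q r = 1 → (r ∣ m ∨ padicValNat r n ≤ padicValNat r (q + 1)))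
    (x : Matrix (Fin n) (Fin n) F) (hx : ∀ u v, hh (x *ᵥ u) (x *ᵥ v) = hh u v)
    (hdet : x.det = 1) (z : F) (hxr : x ^ r = z • (1 : Matrix (Fin n) (Fin n) F)) :
    ∃ W : Submodule F (Fin n → F), finrank F W = m ∧ (∀ u ∈ W, ∀ v ∈ W, hh u v = 0) ∧
      W.map (Matrix.toLin' x) ≤ W := by
  classical
  have hq : 2 ≤ q := two_le_q hF
  have hrq := not_dvd_q hF p r hr.out hrp
  have hrodd : Odd r := hr.out.odd_of_ne_two hr2
  have hz : z ^ (q + 1) = 1 := scalar_norm_one hF n hn0 x hx r z hxr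
  have hz0 : z ≠ 0 := by
    rintro rfl
    rw [zero_pow (by omega)] at hz
    exact zero_ne_one hz
  set T : (Fin n → F) →ₗ[F] (Fin n → F) := Matrix.toLinAlgEquiv' x with hT
  have hTv : ∀ u, T u = x *ᵥ u := fun u => Matrix.toLinAlgEquiv'_apply x u
  have hTlin : T = Matrix.toLin' x := rfl
  have hTr : T ^ r = z • (1 : (Fin n → F) →ₗ[F] (Fin n → F)) := by
    rw [hT, ← map_pow, hxr, map_smul, map_one]
  have hiso : ∀ u v, hermB n hF (T u) (T v) = hermB n hF u v := by
    intro u v
    rw [hermB_apply, hermB_apply, hTv, hTv, hx]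
  have hS := hermB_isSymm (n := n) hF
  have hN := hermB_left_nondeg hF n
  have hfin : finrank F (Fin n → F) = n := Module.finrank_fin_fun F
  have hconv : ∀ W : Submodule F (Fin n → F), TI (hermB n hF) W →
      ∀ u ∈ W, ∀ v ∈ W, hh u v = 0 := by
    intro W hW u hu v hv
    have := hW v hv u hu
    rwa [hermB_apply] at this
  by_cases hpow : ∃ w : F, w ^ r = z ∧ w ^ (q + 1) = 1
  · obtain ⟨w, hwr, hwq⟩ := hpow
    have hw0 : w ≠ 0 := by
      rintro rfl
      rw [zero_pow (by omega)] at hwq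
      exact zero_ne_one hwq
    set y : (Fin n → F) →ₗ[F] (Fin n → F) := w⁻¹ • T with hy
    have hyr : y ^ r = 1 := by
      rw [hy, _root_.smul_pow, hTr, smul_smul, inv_pow, hwr, inv_mul_cancel₀ hz0, one_smul]
    have hwiq : (w⁻¹) ^ (q + 1) = 1 := by rw [inv_pow, hwq, inv_one]
    have hyiso : ∀ u v, hermB n hF (y u) (y v) = hermB n hF u v := by
      intro u v
      show hermB n hF (w⁻¹ • T u) (w⁻¹ • T v) = _
      rw [smul_iso hF _ _ hwiq, hiso]
    obtain ⟨W, hWdim, hWti, hWinv⟩ := sufficiency_pow_one hF (hermB n hF) hS hN p r hrp y hyiso hyr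
      n m hfin hmn h1 h2
    refine ⟨W, hWdim, hconv W hWti, ?_⟩
    rintro _ ⟨u, hu, rfl⟩
    have h4 : y u ∈ W := hWinv ⟨u, hu, rfl⟩
    have h5 : Matrix.toLin' x u = w • y u := by
      show T u = w • (w⁻¹ • T u)
      rw [smul_smul, mul_inv_cancel₀ hw0, one_smul]
    rw [h5]
    exact W.smul_mem _ h4
  · -- `z` is not an `r`-th power and `r ∣ q + 1`
    have hrq1 : r ∣ q + 1 := by
      by_contra hnd
      apply hpow
      have hcop : Nat.Coprime r (q + 1) := (Nat.Prime.coprime_iff_not_dvd hr.out).mpr hnd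
      obtain ⟨t, -, ht⟩ := Nat.exists_mul_mod_eq_one_of_coprime hcop (by omega : 1 < q + 1)
      refine ⟨z ^ t, ?_, ?_⟩
      · rw [← pow_mul, mul_comm, ← Nat.div_add_mod (r * t) (q + 1), ht, pow_add, pow_mul, hz,
          one_pow, one_mul, pow_one]
      · rw [← pow_mul, mul_comm, pow_mul, hz, one_pow]
    have hnr : ∀ w : F, w ^ r ≠ z := by
      intro w hw
      apply hpow
      refine ⟨w, hw, norm_one_of_pow hF r hr2 hrq1 w ?_⟩
      rw [hw, hz]
    have hirr : Irreducible (X ^ r - C z : F[X]) := X_pow_sub_C_irreducible_of_prime hr.out hnr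
    obtain ⟨hrn, hdetT⟩ := det_of_irreducible T r hrodd z hirr hTr
    rw [hfin] at hrn hdetT
    have hdetT' : LinearMap.det T = 1 := by
      rw [hTlin, LinearMap.det_toLin', hdet]
    rw [hdetT'] at hdetT
    have hnr_pos : 0 < n / r := Nat.div_pos (Nat.le_of_dvd hn0 hrn) hr.out.pos
    have hlt := padic_lt_of_nonpower hF r hr2 hrq1 z hz hnr (n / r) hnr_pos hdetT.symm
    rw [Nat.mul_div_cancel' hrn] at hlt
    have hc1 : cOrd q r = 1 := (cOrd_eq_one_iff hrq).mpr hrq1
    have hrm : r ∣ m := by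
      rcases h3 hc1 with h | h
      · exact h
      · omega
    obtain ⟨j, hj⟩ := hrm
    obtain ⟨W, hWdim, hWti, hWinv⟩ := exists_ti_irreducible hF (hermB n hF) hS hN p r hrp T hiso z
      hz0 hirr hTr j (by rw [hfin, ← hj]; exact hmn)
    exact ⟨W, by rw [hWdim, hj], hconv W hWti, hWinv⟩

/-- necessity for odd primes -/
theorem odd_necessity (hF : Fintype.card F = q ^ 2) (p : ℕ) [hp : Fact p.Prime] [CharP F p]
    (r : ℕ) [hr : Fact r.Prime] (hrp : r ≠ p) (hr2 : r ≠ 2) (m : ℕ) (hn0 : 0 < n) (hm : 1 ≤ m)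
    (hmn : 2 * m ≤ n) (hmod : n % cOrd q r < 2 * m)
    (hall : ∀ z : F, ¬ HasDerangement F q n m r z) :
    2 * (m % bOrd q r) ≤ n % cOrd q r ∧
    (Odd (cOrd q r) → (r - 1) / bOrd q r + 2 * (m / bOrd q r) ≤ n / bOrd q r) ∧
    (cOrd q r = 1 → (r ∣ m ∨ padicValNat r n ≤ padicValNat r (q + 1))) := by
  classical
  have hrq := not_dvd_q hF p r hr.out hrp
  have hrodd : Odd r := hr.out.odd_of_ne_two hr2
  have hr3 : 3 ≤ r := by
    have := hr.out.two_le
    omega
  refine ⟨?_, ?_, ?_⟩
  · by_contra hlt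
    push Not at hlt
    exact hall 1 (derangement_fpf hF p r hrp n m hlt)
  · intro hodd
    by_contra hlt
    push Not at hlt
    have hbc : bOrd q r = cOrd q r := by
      rw [bOrd_eq_of_c hrq, if_neg (Nat.not_even_iff_odd.mpr hodd)]
    rw [hbc] at hlt
    set c := cOrd q r with hc
    have hcpos : 0 < c := cOrd_pos hrq
    by_cases hc1 : c = 1
    · have hrq1 : r ∣ q + 1 := (cOrd_eq_one_iff hrq).mp hc1
      rw [hc1, Nat.div_one, Nat.div_one, Nat.div_one] at hlt
      obtain ⟨t, ht⟩ := hrodd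
      by_cases hcase : (r - 1) / 2 ≤ n / 2
      · apply hall 1
        apply derangement_diag hF p r hrp hr2 hrq1 n m ((r - 1) / 2) <;> omega
      · apply hall 1
        apply derangement_diag hF p r hrp hr2 hrq1 n m (n / 2) <;> omega
    · haveI : NeZero c := ⟨by omega⟩
      have hK : finrank F (EE F p c) = c := FiniteField.finrank_extension F p c
      have hnc := Nat.div_add_mod n c
      have hmc := Nat.div_add_mod m c
      have hkc := Nat.mod_lt n hcpos
      by_cases hcase : n / c ≤ (r - 1) / c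
      · apply hall 1
        apply derangement_field (K := EE F p c) hF p r hrp hr2 c hc hodd hc1 hK n m (n / c)
        · calc n / c * c ≤ (r - 1) / c * c := Nat.mul_le_mul_right c hcase
            _ ≤ r - 1 := Nat.div_mul_le_self _ _
        · exact Nat.div_mul_le_self _ _
        · rw [mul_comm]
          omega
      · apply hall 1
        apply derangement_field (K := EE F p c) hF p r hrp hr2 c hc hodd hc1 hK n m ((r - 1) / c)
        · exact Nat.div_mul_le_self _ _
        · push Not at hcase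
          calc (r - 1) / c * c ≤ n / c * c := Nat.mul_le_mul_right c hcase.le
            _ ≤ n := Nat.div_mul_le_self _ _
        · have h5 : n / c + 1 ≤ (r - 1) / c + 2 * (m / c) := hlt
          have h6 := Nat.mul_le_mul_left c h5
          have h7 : c * (n / c + 1) = c * (n / c) + c := by ring
          have h8 : c * ((r - 1) / c + 2 * (m / c)) = (r - 1) / c * c + 2 * (c * (m / c)) := by
            ring
          rw [h7, h8] at h6
          omega
  · intro hc1
    by_contra hcon
    push Not at hcon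
    have hrq1 : r ∣ q + 1 := (cOrd_eq_one_iff hrq).mp hc1
    obtain ⟨z, hz⟩ := derangement_irr hF r hr2 hrq1 n m hn0 hcon.1 hcon.2
    exact hall z hz

end oddcrit

end Cfsg.Agent.Lib.Helper12.HU
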