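import Mathlib

/-!
# Abstract group lemmas for M. Hall's theorem on 4-transitive groups (helper12)

* `exists_sqrt_of_odd`, `conj_of_odd`: two involutions whose product has odd order are conjugate by a
  power of that product (no Sylow theory needed).
* `card_inf_stabilizer_mul_ncard_orbit`: orbit-stabiliser for a subgroup `K` of an acting group.
* `Inv H x`: the involutions in the coset `H x`; `card_Inv_mul`.
* `brauer_wielandt`: for a four-group `⟨a, b⟩` normalising a subgroup `H` of odd order,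
  `|H| |C_H(a) ∩ C_H(b)|^2 = |C_H(a)| |C_H(b)| |C_H(ab)|`.
-/

set_option autoImplicit false
set_option linter.unusedSectionVars false
set_option linter.unusedVariables false
set_option linter.style.haveILetI false

namespace Cfsg.Agent.Lib.Helper12.Hall4

open scoped Classical

section Abstract

variable {G : Type*} [Group G]

theorem inv_of_sq {z : G} (hz : z * z = 1) : z⁻¹ = z := inv_eq_of_mul_eq_one_left hz

theorem exists_sqrt_of_odd (w : G) (hw : Odd (orderOf w)) :
    ∃ u ∈ Subgroup.zpowers w, u * u = w := by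
  obtain ⟨j, hj⟩ := hw
  refine ⟨w ^ (j + 1), Subgroup.pow_mem _ (Subgroup.mem_zpowers w) _, ?_⟩
  rw [← pow_add]
  have : j + 1 + (j + 1) = orderOf w + 1 := by omega
  rw [this, pow_succ, pow_orderOf_eq_one, one_mul]

/-- Two involutions whose product has odd order are conjugate by an element of the cyclic group
generated by the product. -/
theorem conj_of_odd {z z' : G} (hz : z * z = 1) (hz' : z' * z' = 1)
    (hodd : Odd (orderOf (z' * z))) :
    ∃ u ∈ Subgroup.zpowers (z' * z), z' = u * z * u⁻¹ := by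
  obtain ⟨u, hu, huu⟩ := exists_sqrt_of_odd _ hodd
  refine ⟨u, hu, ?_⟩
  have hzi : z⁻¹ = z := inv_of_sq hz
  have hzi' : z'⁻¹ = z' := inv_of_sq hz'
  have hinv : ∀ v ∈ Subgroup.zpowers (z' * z), z * v * z⁻¹ = v⁻¹ := by
    intro v hv
    obtain ⟨k, rfl⟩ := Subgroup.mem_zpowers_iff.mp hv
    rw [← conj_zpow]
    have : z * (z' * z) * z⁻¹ = (z' * z)⁻¹ := by
      rw [mul_inv_rev, hzi, hzi']
      simp only [mul_assoc]
      rw [hz, mul_one]
    rw [this, inv_zpow]
  have h2 : z * u⁻¹ * z⁻¹ = u := by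
    have := hinv u⁻¹ (Subgroup.inv_mem _ hu)
    rwa [inv_inv] at this
  calc z' = (z' * z) * z := by rw [mul_assoc, hz, mul_one]
    _ = u * u * z := by rw [huu]
    _ = u * (z * u⁻¹ * z⁻¹) * z := by rw [h2]
    _ = u * z * u⁻¹ := by
        rw [hzi]
        simp only [mul_assoc]
        rw [hz, mul_one]

theorem pow_natCard_eq_one_of_mem (H : Subgroup G) {x : G} (hx : x ∈ H) : x ^ Nat.card H = 1 :=
  orderOf_dvd_iff_pow_eq_one.mp (H.orderOf_dvd_natCard hx)

theorem eq_one_of_sq_of_mem_odd (H : Subgroup G) (hodd : Odd (Nat.card H)) {x : G} (hx : x ∈ H)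
    (hxx : x * x = 1) : x = 1 := by
  have h1 : orderOf x ∣ 2 := orderOf_dvd_of_pow_eq_one (by rw [pow_two]; exact hxx)
  have h2 : Odd (orderOf x) := Odd.of_dvd_nat hodd (H.orderOf_dvd_natCard hx)
  have h3 : orderOf x = 1 := by
    have := Nat.le_of_dvd (by norm_num) h1
    obtain ⟨j, hj⟩ := h2
    interval_cases h : orderOf x
    · omega
    · rfl
    · omega
  exact orderOf_eq_one_iff.mp h3

/-- Orbit-stabiliser for a subgroup `K` of a group acting on `β`. -/
theorem card_inf_stabilizer_mul_ncard_orbit {Γ : Type*} [Group Γ] {β : Type*} [MulAction Γ β]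
    (K : Subgroup Γ) (p : β) :
    Nat.card ↥(K ⊓ MulAction.stabilizer Γ p) * Set.ncard {q : β | ∃ k ∈ K, k • p = q} =
      Nat.card K := by
  have h1 := Subgroup.card_mul_index (MulAction.stabilizer K p)
  rw [MulAction.index_stabilizer] at h1
  have h2 : MulAction.orbit K p = {q : β | ∃ k ∈ K, k • p = q} := by
    ext q
    constructor
    · rintro ⟨⟨k, hk⟩, rfl⟩
      exact ⟨k, hk, rfl⟩
    · rintro ⟨k, hk, rfl⟩
      exact ⟨⟨k, hk⟩, rfl⟩
  have h3 : Nat.card ↥(MulAction.stabilizer K p) = Nat.card ↥(K ⊓ MulAction.stabilizer Γ p) := by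
    apply Nat.card_congr
    exact
      { toFun := fun k => ⟨((k : K) : Γ), Subgroup.mem_inf.mpr ⟨(k : K).2,
          MulAction.mem_stabilizer_iff.mpr (MulAction.mem_stabilizer_iff.mp k.2)⟩⟩
        invFun := fun k => ⟨⟨k, (Subgroup.mem_inf.mp k.2).1⟩,
          MulAction.mem_stabilizer_iff.mpr (MulAction.mem_stabilizer_iff.mp (Subgroup.mem_inf.mp k.2).2)⟩
        left_inv := fun k => rfl
        right_inv := fun k => rfl }
  rw [h2, h3] at h1
  exact h1

/-- If conjugation by `g` carries `K` onto `K'` the two subgroups have the same order. -/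
theorem card_eq_of_conj (K K' : Subgroup G) (g : G) (h : ∀ k, k ∈ K ↔ g * k * g⁻¹ ∈ K') :
    Nat.card K = Nat.card K' := by
  apply Nat.card_congr
  exact
    { toFun := fun k => ⟨g * k * g⁻¹, (h k).1 k.2⟩
      invFun := fun k' => ⟨g⁻¹ * k' * g, (h _).2 (by
        have : g * (g⁻¹ * (k' : G) * g) * g⁻¹ = k' := by group
        rw [this]; exact k'.2)⟩
      left_inv := fun k => by
        apply Subtype.ext
        show g⁻¹ * (g * (k : G) * g⁻¹) * g = k
        group
      right_inv := fun k' => by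
        apply Subtype.ext
        show g * (g⁻¹ * (k' : G) * g) * g⁻¹ = k'
        group }

end Abstract

section BW

variable {G : Type*} [Group G] [Fintype G]

/-- the elements `y` with `y * y = 1` in the coset `H x` -/
noncomputable def Inv (H : Subgroup G) (x : G) : Finset G :=
  Finset.univ.filter (fun y => y * y = 1 ∧ y * x ∈ H)

theorem mem_Inv {H : Subgroup G} {x y : G} : y ∈ Inv H x ↔ y * y = 1 ∧ y * x ∈ H := by
  simp [Inv]

theorem normalizes_of_mem_Inv {H : Subgroup G} {x y : G} (hx : x * x = 1)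
    (hN : ∀ h ∈ H, x * h * x⁻¹ ∈ H) (hy : y ∈ Inv H x) : ∀ h ∈ H, y * h * y⁻¹ ∈ H := by
  intro h hh
  rw [mem_Inv] at hy
  have hxi := inv_of_sq hx
  have h1 : y * h * y⁻¹ = (y * x) * (x * h * x⁻¹) * (y * x)⁻¹ := by
    rw [hxi, mul_inv_rev, hxi]
    simp only [mul_assoc]
    rw [← mul_assoc x x, hx, one_mul, ← mul_assoc x x, hx, one_mul]
  rw [h1]
  exact H.mul_mem (H.mul_mem hy.2 (hN h hh)) (H.inv_mem hy.2)

theorem mem_Inv_iff_conj {H : Subgroup G} (hodd : Odd (Nat.card H)) {x : G} (hx : x * x = 1)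
    (hN : ∀ h ∈ H, x * h * x⁻¹ ∈ H) {y : G} :
    y ∈ Inv H x ↔ ∃ u ∈ H, y = u * x * u⁻¹ := by
  rw [mem_Inv]
  constructor
  · rintro ⟨hy, hyx⟩
    have ho : Odd (orderOf (y * x)) := Odd.of_dvd_nat hodd (H.orderOf_dvd_natCard hyx)
    obtain ⟨u, hu, h⟩ := conj_of_odd hx hy ho
    exact ⟨u, Subgroup.zpowers_le.mpr hyx hu, h⟩
  · rintro ⟨u, hu, rfl⟩
    have hxi := inv_of_sq hx
    constructor
    · simp only [mul_assoc]
      rw [← mul_assoc u⁻¹ u, inv_mul_cancel, one_mul, ← mul_assoc x x, hx, one_mul, mul_inv_cancel]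
    · have : u * x * u⁻¹ * x = u * (x * u⁻¹ * x⁻¹) := by
        rw [hxi]; simp only [mul_assoc]
      rw [this]
      exact H.mul_mem hu (hN _ (H.inv_mem hu))

theorem conj_mem_Inv {H : Subgroup G} {x : G} (hx : x * x = 1)
    (hN : ∀ h ∈ H, x * h * x⁻¹ ∈ H) {y w : G} (hw : w ∈ H) (hy : y ∈ Inv H x) :
    w * y * w⁻¹ ∈ Inv H x := by
  rw [mem_Inv] at hy ⊢
  have hxi := inv_of_sq hx
  constructor
  · simp only [mul_assoc]
    rw [← mul_assoc w⁻¹ w, inv_mul_cancel, one_mul, ← mul_assoc y y, hy.1, one_mul, mul_inv_cancel]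
  · have : w * y * w⁻¹ * x = w * (y * x) * (x * w⁻¹ * x⁻¹) := by
      rw [hxi]
      simp only [mul_assoc]
      rw [← mul_assoc x x, hx, one_mul]
    rw [this]
    exact H.mul_mem (H.mul_mem hw hy.2) (hN _ (H.inv_mem hw))

/-- `|Inv H x| * |C_H(x)| = |H|`. -/
theorem card_Inv_mul (H : Subgroup G) (hodd : Odd (Nat.card H)) {x : G} (hx : x * x = 1)
    (hN : ∀ h ∈ H, x * h * x⁻¹ ∈ H) :
    (Inv H x).card * Nat.card ↥(H ⊓ Subgroup.centralizer {x}) = Nat.card H := by
  set f : G →* ConjAct G := (ConjAct.toConjAct (G := G)).toMonoidHom with hf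
  have hfinj : Function.Injective f := (ConjAct.toConjAct (G := G)).injective
  have h1 := card_inf_stabilizer_mul_ncard_orbit (H.map f) x
  rw [Subgroup.card_map_of_injective hfinj] at h1
  have h2 : H.map f ⊓ MulAction.stabilizer (ConjAct G) x =
      (H ⊓ Subgroup.centralizer {x}).map f := by
    ext g
    simp only [Subgroup.mem_inf, Subgroup.mem_map, MulAction.mem_stabilizer_iff]
    constructor
    · rintro ⟨⟨u, hu, rfl⟩, hs⟩
      refine ⟨u, ⟨hu, ?_⟩, rfl⟩
      rw [Subgroup.mem_centralizer_singleton_iff]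
      have : ConjAct.toConjAct u • x = x := hs
      rw [ConjAct.toConjAct_smul] at this
      calc u * x = (u * x * u⁻¹) * u := by group
        _ = x * u := by rw [this]
    · rintro ⟨u, ⟨hu, hc⟩, rfl⟩
      refine ⟨⟨u, hu, rfl⟩, ?_⟩
      rw [Subgroup.mem_centralizer_singleton_iff] at hc
      show ConjAct.toConjAct u • x = x
      rw [ConjAct.toConjAct_smul, hc]
      group
  rw [h2, Subgroup.card_map_of_injective hfinj] at h1
  have h3 : {q : G | ∃ k ∈ H.map f, k • x = q} = ↑(Inv H x) := by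
    ext q
    simp only [Set.mem_ofPred_eq, Finset.mem_coe]
    rw [mem_Inv_iff_conj hodd hx hN]
    constructor
    · rintro ⟨k, ⟨u, hu, rfl⟩, rfl⟩
      refine ⟨u, hu, ?_⟩
      show ConjAct.toConjAct u • x = _
      rw [ConjAct.toConjAct_smul]
    · rintro ⟨u, hu, rfl⟩
      refine ⟨f u, ⟨u, hu, rfl⟩, ?_⟩
      show ConjAct.toConjAct u • x = _
      rw [ConjAct.toConjAct_smul]
  rw [h3, Set.ncard_coe_finset] at h1
  rw [mul_comm]
  exact h1

end BW

section BW2

variable {G : Type*} [Group G] [Fintype G]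

/-- coset arithmetic: `y₁ c, y₂ c ∈ H ⇒ y₁ y₂ ∈ H` -/
theorem mul_mem_of_coset {H : Subgroup G} {c : G} (hc : c * c = 1)
    (hN : ∀ h ∈ H, c * h * c⁻¹ ∈ H) {y1 y2 : G} (h1 : y1 * c ∈ H) (h2 : y2 * c ∈ H) :
    y1 * y2 ∈ H := by
  have hci := inv_of_sq hc
  have : y1 * y2 = (y1 * c) * (c * (y2 * c) * c⁻¹) := by
    rw [hci]
    simp only [mul_assoc]
    rw [hc, mul_one, ← mul_assoc c c, hc, one_mul]
  rw [this]
  exact H.mul_mem h1 (hN _ h2)

theorem pow_mul_mem_of_coset {H : Subgroup G} {c : G} (hc : c * c = 1)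
    (hN : ∀ h ∈ H, c * h * c⁻¹ ∈ H) {w : G} (hw : w * c ∈ H) {m : ℕ} (hm : Odd m) :
    w ^ m * c ∈ H := by
  obtain ⟨j, rfl⟩ := hm
  have hww : w * w ∈ H := mul_mem_of_coset hc hN hw hw
  have : w ^ (2 * j + 1) * c = (w * w) ^ j * (w * c) := by
    rw [pow_succ, pow_mul, pow_two, mul_assoc]
  rw [this]
  exact H.mul_mem (H.pow_mem hww j) hw

theorem pow_odd_of_sq {c : G} (hc : c * c = 1) {m : ℕ} (hm : Odd m) : c ^ m = c := by
  obtain ⟨j, rfl⟩ := hm
  rw [pow_succ, pow_mul, pow_two, hc, one_pow, one_mul]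

/-- the central involution of the dihedral group generated by two involutions -/
noncomputable def ctr (p : G × G) : G := (p.1 * p.2) ^ orderOf ((p.1 * p.2) * (p.1 * p.2))

theorem four_facts {a b : G} (ha : a * a = 1) (hb : b * b = 1) (hab : a * b = b * a) :
    (a * b) * (a * b) = 1 ∧ a * (a * b) = (a * b) * a ∧ b * (a * b) = (a * b) * b := by
  refine ⟨?_, ?_, ?_⟩
  · calc a * b * (a * b) = a * (b * a) * b := by simp only [mul_assoc]
      _ = a * (a * b) * b := by rw [hab]
      _ = (a * a) * (b * b) := by simp only [mul_assoc]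
      _ = 1 := by rw [ha, hb, one_mul]
  · calc a * (a * b) = a * (b * a) := by rw [hab]
      _ = a * b * a := by rw [mul_assoc]
  · calc b * (a * b) = (b * a) * b := by rw [mul_assoc]
      _ = (a * b) * b := by rw [hab]

theorem normalizes_mul {H : Subgroup G} {a b : G} (hNa : ∀ h ∈ H, a * h * a⁻¹ ∈ H)
    (hNb : ∀ h ∈ H, b * h * b⁻¹ ∈ H) : ∀ h ∈ H, (a * b) * h * (a * b)⁻¹ ∈ H := by
  intro h hh
  have : (a * b) * h * (a * b)⁻¹ = a * (b * h * b⁻¹) * a⁻¹ := by
    rw [mul_inv_rev]; simp only [mul_assoc]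
  rw [this]
  exact hNa _ (hNb _ hh)

theorem ctr_spec {H : Subgroup G} (hodd : Odd (Nat.card H)) {a b : G}
    (ha : a * a = 1) (hb : b * b = 1) (hab : a * b = b * a)
    (hNa : ∀ h ∈ H, a * h * a⁻¹ ∈ H) (hNb : ∀ h ∈ H, b * h * b⁻¹ ∈ H)
    {a' b' : G} (ha' : a' ∈ Inv H a) (hb' : b' ∈ Inv H b) :
    ctr (a', b') ∈ Inv H (a * b) ∧ a' * ctr (a', b') = ctr (a', b') * a' ∧
      b' * ctr (a', b') = ctr (a', b') * b' ∧
      ∀ c'' ∈ Inv H (a * b), a' * c'' = c'' * a' → b' * c'' = c'' * b' → c'' = ctr (a', b') := by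
  obtain ⟨hcc, hac, hbc⟩ := four_facts ha hb hab
  have hNc := normalizes_mul hNa hNb
  have hNa' := normalizes_of_mem_Inv ha hNa ha'
  rw [mem_Inv] at ha' hb'
  have hai' := inv_of_sq ha'.1
  have hbi' := inv_of_sq hb'.1
  set w := a' * b' with hw
  -- `w c ∈ H`
  have hwc : w * (a * b) ∈ H := by
    have : w * (a * b) = (a' * (b' * b) * a'⁻¹) * (a' * a) := by
      rw [hw, hab]
      simp only [mul_assoc]
      rw [← mul_assoc a'⁻¹ a', inv_mul_cancel, one_mul]
    rw [this]
    exact H.mul_mem (hNa' _ hb'.2) ha'.2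
  have hww : w * w ∈ H := mul_mem_of_coset hcc hNc hwc hwc
  set m := orderOf (w * w) with hm
  have hmodd : Odd m := Odd.of_dvd_nat hodd (H.orderOf_dvd_natCard hww)
  have hctr : ctr (a', b') = w ^ m := rfl
  have hc2 : w ^ m * w ^ m = 1 := by
    rw [← (Commute.refl w).mul_pow, hm, pow_orderOf_eq_one]
  have hwinv : w⁻¹ = b' * a' := by rw [hw, mul_inv_rev, hai', hbi']
  have hconj_a : a' * w * a'⁻¹ = w⁻¹ := by
    rw [hwinv, hw, hai']
    simp only [mul_assoc]
    rw [← mul_assoc a' a', ha'.1, one_mul]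
  have hconj_b : b' * w * b'⁻¹ = w⁻¹ := by
    rw [hwinv, hw, hbi']
    simp only [mul_assoc]
    rw [hb'.1, mul_one]
  have hcinv : (w ^ m)⁻¹ = w ^ m := inv_of_sq hc2
  have hcomm_a : a' * w ^ m = w ^ m * a' := by
    have : a' * w ^ m * a'⁻¹ = w ^ m := by
      rw [← conj_pow, hconj_a, inv_pow, hcinv]
    exact mul_inv_eq_iff_eq_mul.mp this
  have hcomm_b : b' * w ^ m = w ^ m * b' := by
    have : b' * w ^ m * b'⁻¹ = w ^ m := by
      rw [← conj_pow, hconj_b, inv_pow, hcinv]
    exact mul_inv_eq_iff_eq_mul.mp this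
  refine ⟨?_, ?_, ?_, ?_⟩
  · rw [mem_Inv, hctr]
    exact ⟨hc2, pow_mul_mem_of_coset hcc hNc hwc hmodd⟩
  · rw [hctr]; exact hcomm_a
  · rw [hctr]; exact hcomm_b
  · intro c'' hc'' hca hcb
    rw [mem_Inv] at hc''
    rw [hctr]
    have hgH : w * c'' ∈ H := mul_mem_of_coset hcc hNc hwc hc''.2
    have hcw : Commute w c'' := by
      show w * c'' = c'' * w
      rw [hw]
      calc a' * b' * c'' = a' * (b' * c'') := by rw [mul_assoc]
        _ = a' * (c'' * b') := by rw [hcb]
        _ = (a' * c'') * b' := by rw [mul_assoc]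
        _ = (c'' * a') * b' := by rw [hca]
        _ = c'' * (a' * b') := by rw [mul_assoc]
    have hgg : (w * c'') * (w * c'') = w * w := by
      calc (w * c'') * (w * c'') = w * (c'' * w) * c'' := by simp only [mul_assoc]
        _ = w * (w * c'') * c'' := by rw [hcw.eq]
        _ = (w * w) * (c'' * c'') := by simp only [mul_assoc]
        _ = w * w := by rw [hc''.1, mul_one]
    have hgm : (w * c'') ^ m = 1 := by
      apply eq_one_of_sq_of_mem_odd H hodd (H.pow_mem hgH m)
      rw [← (Commute.refl (w * c'')).mul_pow, hgg, hm, pow_orderOf_eq_one]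
    rw [hcw.mul_pow, pow_odd_of_sq hc''.1 hmodd] at hgm
    have := eq_inv_of_mul_eq_one_left hgm
    rw [inv_of_sq hc''.1] at this
    exact this.symm

theorem centralizer_mul_inf {a b : G} :
    Subgroup.centralizer {a * b} ⊓ Subgroup.centralizer {a} =
      Subgroup.centralizer {a} ⊓ Subgroup.centralizer ({b} : Set G) := by
  ext g
  simp only [Subgroup.mem_inf, Subgroup.mem_centralizer_singleton_iff]
  constructor
  · rintro ⟨h1, h2⟩
    refine ⟨h2, ?_⟩
    have : a * (g * b) = a * (b * g) := by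
      calc a * (g * b) = (a * g) * b := by rw [mul_assoc]
        _ = (g * a) * b := by rw [h2]
        _ = g * (a * b) := by rw [mul_assoc]
        _ = (a * b) * g := h1
        _ = a * (b * g) := by rw [mul_assoc]
    exact mul_left_cancel this
  · rintro ⟨h1, h2⟩
    refine ⟨?_, h1⟩
    calc g * (a * b) = (g * a) * b := by rw [mul_assoc]
      _ = (a * g) * b := by rw [h1]
      _ = a * (g * b) := by rw [mul_assoc]
      _ = a * (b * g) := by rw [h2]
      _ = (a * b) * g := by rw [mul_assoc]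

/-- number of elements of `Inv H x` commuting with `c`, times `|C_H(c) ∩ C(x)|`, is `|C_H(c)|` -/
theorem card_filter_comm_mul (H : Subgroup G) (hodd : Odd (Nat.card H)) {x c : G} (hx : x * x = 1)
    (hN : ∀ h ∈ H, x * h * x⁻¹ ∈ H) (hxc : x * c = c * x) :
    ((Inv H x).filter (fun y => y * c = c * y)).card *
      Nat.card ↥(H ⊓ Subgroup.centralizer {c} ⊓ Subgroup.centralizer {x}) =
      Nat.card ↥(H ⊓ Subgroup.centralizer {c}) := by
  have hxi := inv_of_sq hx
  have h1 : (Inv H x).filter (fun y => y * c = c * y) = Inv (H ⊓ Subgroup.centralizer {c}) x := by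
    ext y
    simp only [Finset.mem_filter, mem_Inv, Subgroup.mem_inf, Subgroup.mem_centralizer_singleton_iff]
    constructor
    · rintro ⟨⟨h1, h2⟩, h3⟩
      refine ⟨h1, h2, ?_⟩
      calc y * x * c = y * (x * c) := by rw [mul_assoc]
        _ = y * (c * x) := by rw [hxc]
        _ = (y * c) * x := by rw [mul_assoc]
        _ = (c * y) * x := by rw [h3]
        _ = c * (y * x) := by rw [mul_assoc]
    · rintro ⟨h1, h2, h3⟩
      refine ⟨⟨h1, h2⟩, ?_⟩
      have : y * c * x = c * y * x := by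
        calc y * c * x = y * (c * x) := by rw [mul_assoc]
          _ = y * (x * c) := by rw [hxc]
          _ = y * x * c := by rw [mul_assoc]
          _ = c * (y * x) := h3
          _ = c * y * x := by rw [mul_assoc]
      exact mul_right_cancel this
  have hodd' : Odd (Nat.card ↥(H ⊓ Subgroup.centralizer {c})) :=
    Odd.of_dvd_nat hodd (Subgroup.card_dvd_of_le inf_le_left)
  have hN' : ∀ h ∈ H ⊓ Subgroup.centralizer {c}, x * h * x⁻¹ ∈ H ⊓ Subgroup.centralizer {c} := by
    intro h hh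
    rw [Subgroup.mem_inf, Subgroup.mem_centralizer_singleton_iff] at hh ⊢
    refine ⟨hN h hh.1, ?_⟩
    rw [hxi]
    calc x * h * x * c = x * h * (x * c) := by rw [mul_assoc]
      _ = x * h * (c * x) := by rw [hxc]
      _ = x * (h * c) * x := by simp only [mul_assoc]
      _ = x * (c * h) * x := by rw [hh.2]
      _ = (x * c) * h * x := by simp only [mul_assoc]
      _ = (c * x) * h * x := by rw [hxc]
      _ = c * (x * h * x) := by simp only [mul_assoc]
  rw [h1]
  exact card_Inv_mul _ hodd' hx hN'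

theorem card_filter_comm_conj {H : Subgroup G} {x : G} (hx : x * x = 1)
    (hN : ∀ h ∈ H, x * h * x⁻¹ ∈ H) {c w : G} (hw : w ∈ H) :
    ((Inv H x).filter (fun y => y * (w * c * w⁻¹) = (w * c * w⁻¹) * y)).card =
      ((Inv H x).filter (fun y => y * c = c * y)).card := by
  symm
  apply Finset.card_equiv (MulAut.conj w).toEquiv
  intro y
  simp only [Finset.mem_filter, MulEquiv.toEquiv_eq_coe, EquivLike.coe_coe, MulAut.conj_apply]
  constructor
  · rintro ⟨h1, h2⟩
    refine ⟨conj_mem_Inv hx hN hw h1, ?_⟩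
    calc w * y * w⁻¹ * (w * c * w⁻¹) = w * (y * c) * w⁻¹ := by group
      _ = w * (c * y) * w⁻¹ := by rw [h2]
      _ = w * c * w⁻¹ * (w * y * w⁻¹) := by group
  · rintro ⟨h1, h2⟩
    constructor
    · have := conj_mem_Inv hx hN (H.inv_mem hw) h1
      have e : w⁻¹ * (w * y * w⁻¹) * w⁻¹⁻¹ = y := by group
      rwa [e] at this
    · have e1 : y * c = w⁻¹ * ((w * y * w⁻¹) * (w * c * w⁻¹)) * w := by group
      have e2 : c * y = w⁻¹ * ((w * c * w⁻¹) * (w * y * w⁻¹)) * w := by group
      rw [e1, e2, h2]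

/-- **Brauer–Wielandt formula** for a four-group `⟨a, b⟩` normalising a subgroup `H` of odd order. -/
theorem brauer_wielandt (H : Subgroup G) (hodd : Odd (Nat.card H)) {a b : G}
    (ha : a * a = 1) (hb : b * b = 1) (hab : a * b = b * a)
    (hNa : ∀ h ∈ H, a * h * a⁻¹ ∈ H) (hNb : ∀ h ∈ H, b * h * b⁻¹ ∈ H) :
    Nat.card H * Nat.card ↥(H ⊓ Subgroup.centralizer {a} ⊓ Subgroup.centralizer {b}) ^ 2 =
      Nat.card ↥(H ⊓ Subgroup.centralizer {a}) * Nat.card ↥(H ⊓ Subgroup.centralizer {b}) *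
        Nat.card ↥(H ⊓ Subgroup.centralizer {a * b}) := by
  obtain ⟨hcc, hac, hbc⟩ := four_facts ha hb hab
  have hNc := normalizes_mul hNa hNb
  have hA := card_Inv_mul H hodd ha hNa
  have hB := card_Inv_mul H hodd hb hNb
  have hC := card_Inv_mul H hodd hcc hNc
  have hpa := card_filter_comm_mul H hodd ha hNa hac
  have hpb := card_filter_comm_mul H hodd hb hNb hbc
  have e1 : H ⊓ Subgroup.centralizer {a * b} ⊓ Subgroup.centralizer {a} =
      H ⊓ Subgroup.centralizer {a} ⊓ Subgroup.centralizer {b} := by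
    rw [inf_assoc, centralizer_mul_inf, ← inf_assoc]
  have e2 : H ⊓ Subgroup.centralizer {a * b} ⊓ Subgroup.centralizer {b} =
      H ⊓ Subgroup.centralizer {a} ⊓ Subgroup.centralizer {b} := by
    have : Subgroup.centralizer {a * b} ⊓ Subgroup.centralizer {b} =
        Subgroup.centralizer {a} ⊓ Subgroup.centralizer ({b} : Set G) := by
      rw [hab, centralizer_mul_inf, inf_comm]
    rw [inf_assoc, this, ← inf_assoc]
  rw [e1] at hpa
  rw [e2] at hpb
  -- the main count
  have hmain : (Inv H a).card * (Inv H b).card =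
      (Inv H (a * b)).card * (((Inv H a).filter (fun y => y * (a * b) = (a * b) * y)).card *
        ((Inv H b).filter (fun y => y * (a * b) = (a * b) * y)).card) := by
    have hmaps : ((Inv H a ×ˢ Inv H b : Finset (G × G)) : Set (G × G)).MapsTo ctr
        (Inv H (a * b)) := by
      rintro ⟨a', b'⟩ hp
      rw [Finset.mem_coe, Finset.mem_product] at hp
      exact (ctr_spec hodd ha hb hab hNa hNb hp.1 hp.2).1
    rw [← Finset.card_product, Finset.card_eq_sum_card_fiberwise hmaps]
    have hfib : ∀ c' ∈ Inv H (a * b),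
        ((Inv H a ×ˢ Inv H b).filter (fun p => ctr p = c')).card =
        ((Inv H a).filter (fun y => y * (a * b) = (a * b) * y)).card *
          ((Inv H b).filter (fun y => y * (a * b) = (a * b) * y)).card := by
      intro c' hc'
      have hset : (Inv H a ×ˢ Inv H b).filter (fun p => ctr p = c') =
          ((Inv H a).filter (fun y => y * c' = c' * y)) ×ˢ
            ((Inv H b).filter (fun y => y * c' = c' * y)) := by
        ext ⟨a', b'⟩
        simp only [Finset.mem_filter, Finset.mem_product]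
        constructor
        · rintro ⟨⟨h1, h2⟩, h3⟩
          obtain ⟨_, s2, s3, _⟩ := ctr_spec hodd ha hb hab hNa hNb h1 h2
          rw [h3] at s2 s3
          exact ⟨⟨h1, s2⟩, ⟨h2, s3⟩⟩
        · rintro ⟨⟨h1, h2⟩, ⟨h3, h4⟩⟩
          obtain ⟨_, _, _, s4⟩ := ctr_spec hodd ha hb hab hNa hNb h1 h3
          exact ⟨⟨h1, h3⟩, (s4 c' hc' h2 h4).symm⟩
      rw [hset, Finset.card_product]
      obtain ⟨w, hw, rfl⟩ := (mem_Inv_iff_conj hodd hcc hNc).mp hc'
      rw [card_filter_comm_conj ha hNa hw, card_filter_comm_conj hb hNb hw]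
    rw [Finset.sum_congr rfl hfib, Finset.sum_const, smul_eq_mul]
  -- arithmetic
  have hpos : 0 < Nat.card H := Nat.card_pos
  generalize Nat.card ↥(H ⊓ Subgroup.centralizer {a} ⊓ Subgroup.centralizer {b}) = ν at *
  generalize Nat.card H = h at *
  generalize (Inv H a).card = A at *
  generalize (Inv H b).card = B at *
  generalize (Inv H (a * b)).card = C at *
  generalize ((Inv H a).filter (fun y => y * (a * b) = (a * b) * y)).card = pa at *
  generalize ((Inv H b).filter (fun y => y * (a * b) = (a * b) * y)).card = pb at *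
  generalize Nat.card ↥(H ⊓ Subgroup.centralizer {a}) = nA at *
  generalize Nat.card ↥(H ⊓ Subgroup.centralizer {b}) = nB at *
  generalize Nat.card ↥(H ⊓ Subgroup.centralizer {a * b}) = nC at *
  apply Nat.eq_of_mul_eq_mul_left hpos
  calc h * (h * ν ^ 2) = (A * nA) * ((B * nB) * ν ^ 2) := by rw [hA, hB]
    _ = (A * B) * (nA * nB) * ν ^ 2 := by ring
    _ = (C * (pa * pb)) * (nA * nB) * ν ^ 2 := by rw [hmain]
    _ = C * ((pa * ν) * (pb * ν)) * (nA * nB) := by ring
    _ = C * (nC * nC) * (nA * nB) := by rw [hpa, hpb]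
    _ = (C * nC) * (nA * nB * nC) := by ring
    _ = h * (nA * nB * nC) := by rw [hC]

end BW2

end Cfsg.Agent.Lib.Helper12.Hall4
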