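import Cfsg.Agent.Lib.Helper12.Hall4A

/-!
# M. Hall's theorem, part B: 4-transitive groups with odd 4-point stabilisers — basics (helper12)

`Hyp G α`: explicit 4-transitivity and odd order of all 4-point stabilisers.
`exists_conj_of_pattern`: two involutions acting in the same way on two 4-tuples are conjugate by an
element carrying the first tuple to the second.  `card_Cst_eq`: uniformity of the orders of
`C(z) ∩ G_t`.  `exists_four`: existence of a four-group acting on a 4-tuple as `⟨(12), (34)⟩`.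
-/

set_option autoImplicit false
set_option linter.unusedSectionVars false
set_option linter.unusedVariables false
set_option linter.style.haveILetI false

namespace Cfsg.Agent.Lib.Helper12.Hall4

open scoped Classical

section Perm

variable {G : Type*} [Group G] {α : Type*} [MulAction G α]

/-- explicit 4-transitivity with odd 4-point stabilisers -/
structure Hyp (G : Type*) [Group G] (α : Type*) [MulAction G α] : Prop where
  trans : ∀ t t' : Fin 4 ↪ α, ∃ g : G, ∀ i, g • t i = t' i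
  odd : ∀ t : Fin 4 ↪ α, Odd (Nat.card ↥(MulAction.stabilizer G t))

theorem mem_stab4 {g : G} {t : Fin 4 ↪ α} :
    g ∈ MulAction.stabilizer G t ↔ ∀ i, g • t i = t i := by
  rw [MulAction.mem_stabilizer_iff, DFunLike.ext_iff]
  simp only [Function.Embedding.smul_apply]

theorem hyp_of (h4 : MulAction.IsMultiplyPretransitive G α 4) (x : Fin 4 ↪ α)
    (hodd : Odd (Nat.card ↥(MulAction.stabilizer G x))) : Hyp G α := by
  haveI := h4
  refine ⟨fun t t' => ?_, fun t => ?_⟩
  · obtain ⟨g, hg⟩ := MulAction.exists_smul_eq G t t'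
    exact ⟨g, fun i => by rw [← hg, Function.Embedding.smul_apply]⟩
  · obtain ⟨g, hg⟩ := MulAction.exists_smul_eq G x t
    rw [← hg, MulAction.stabilizer_smul_eq_stabilizer_map_conj,
      Subgroup.card_map_of_injective (MulAut.conj g).injective]
    exact hodd

theorem card_stab_eq (hy : Hyp G α) (t t' : Fin 4 ↪ α) :
    Nat.card ↥(MulAction.stabilizer G t) = Nat.card ↥(MulAction.stabilizer G t') := by
  obtain ⟨g, hg⟩ := hy.trans t t'
  have : g • t = t' := by
    ext i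
    rw [Function.Embedding.smul_apply, hg]
  rw [← this, MulAction.stabilizer_smul_eq_stabilizer_map_conj,
    Subgroup.card_map_of_injective (MulAut.conj g).injective]

/-- a 4-tuple of distinct points as an embedding -/
def mk4 (p q r s : α) (h : p ≠ q ∧ p ≠ r ∧ p ≠ s ∧ q ≠ r ∧ q ≠ s ∧ r ≠ s) : Fin 4 ↪ α :=
  ⟨![p, q, r, s], by
    obtain ⟨h1, h2, h3, h4, h5, h6⟩ := h
    intro i j hij
    fin_cases i <;> fin_cases j <;> simp_all⟩

@[simp] theorem mk4_zero (p q r s : α) (h) : mk4 p q r s h 0 = p := rfl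
@[simp] theorem mk4_one (p q r s : α) (h) : mk4 p q r s h 1 = q := rfl
@[simp] theorem mk4_two (p q r s : α) (h) : mk4 p q r s h 2 = r := rfl
@[simp] theorem mk4_three (p q r s : α) (h) : mk4 p q r s h 3 = s := rfl

theorem eq_one_of_sq_of_fix4 (hy : Hyp G α) {z : G} (hz : z * z = 1) (t : Fin 4 ↪ α)
    (h : ∀ i, z • t i = t i) : z = 1 :=
  eq_one_of_sq_of_mem_odd _ (hy.odd t) (mem_stab4.mpr h) hz

theorem sq_smul {z : G} (hz : z * z = 1) (x : α) : z • z • x = x := by
  rw [← mul_smul, hz, one_smul]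

/-- **Key lemma**: involutions acting in the same way on two 4-tuples are conjugate by an element
carrying the first tuple to the second. -/
theorem exists_conj_of_pattern (hy : Hyp G α) {z z' : G} (hz : z * z = 1) (hz' : z' * z' = 1)
    (t t' : Fin 4 ↪ α) (π : Fin 4 → Fin 4)
    (hπ : ∀ i, z • t i = t (π i)) (hπ' : ∀ i, z' • t' i = t' (π i)) :
    ∃ g : G, g * z * g⁻¹ = z' ∧ ∀ i, g • t i = t' i := by
  obtain ⟨g0, hg0⟩ := hy.trans t t'
  have hz''2 : (g0 * z * g0⁻¹) * (g0 * z * g0⁻¹) = 1 := by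
    simp only [mul_assoc]
    rw [← mul_assoc g0⁻¹ g0, inv_mul_cancel, one_mul, ← mul_assoc z z, hz, one_mul,
      mul_inv_cancel]
  have hact : ∀ i, (g0 * z * g0⁻¹) • t' i = z' • t' i := by
    intro i
    rw [hπ' i, mul_smul, mul_smul, ← hg0 i, inv_smul_smul, hπ i, hg0]
  have hmem : z' * (g0 * z * g0⁻¹) ∈ MulAction.stabilizer G t' := by
    rw [mem_stab4]
    intro i
    rw [mul_smul, hact, sq_smul hz']
  have hodd : Odd (orderOf (z' * (g0 * z * g0⁻¹))) :=
    Odd.of_dvd_nat (hy.odd t') (Subgroup.orderOf_dvd_natCard _ hmem)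
  obtain ⟨u, hu, hconj⟩ := conj_of_odd hz''2 hz' hodd
  have hu' : u ∈ MulAction.stabilizer G t' := Subgroup.zpowers_le.mpr hmem hu
  refine ⟨u * g0, ?_, fun i => ?_⟩
  · rw [hconj, mul_inv_rev]
    simp only [mul_assoc]
  · rw [mul_smul, hg0]
    exact mem_stab4.mp hu' i

/-- `C(z) ∩ G_t` -/
def Cst (z : G) (t : Fin 4 ↪ α) : Subgroup G :=
  Subgroup.centralizer {z} ⊓ MulAction.stabilizer G t

theorem mem_Cst {z g : G} {t : Fin 4 ↪ α} :
    g ∈ Cst z t ↔ g * z = z * g ∧ ∀ i, g • t i = t i := by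
  rw [Cst, Subgroup.mem_inf, Subgroup.mem_centralizer_singleton_iff, mem_stab4]

theorem conj_mem_Cst {g z z' : G} {t t' : Fin 4 ↪ α} (hg : g * z * g⁻¹ = z')
    (hgt : ∀ i, g • t i = t' i) {k : G} (hk : k ∈ Cst z t) : g * k * g⁻¹ ∈ Cst z' t' := by
  rw [mem_Cst] at hk ⊢
  obtain ⟨hk1, hk2⟩ := hk
  constructor
  · rw [← hg]
    calc g * k * g⁻¹ * (g * z * g⁻¹) = g * (k * z) * g⁻¹ := by group
      _ = g * (z * k) * g⁻¹ := by rw [hk1]
      _ = g * z * g⁻¹ * (g * k * g⁻¹) := by group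
  · intro i
    rw [← hgt i, mul_smul, mul_smul, inv_smul_smul, hk2 i]

theorem card_Cst_eq (hy : Hyp G α) {z z' : G} (hz : z * z = 1) (hz' : z' * z' = 1)
    (t t' : Fin 4 ↪ α) (π : Fin 4 → Fin 4)
    (hπ : ∀ i, z • t i = t (π i)) (hπ' : ∀ i, z' • t' i = t' (π i)) :
    Nat.card ↥(Cst z t) = Nat.card ↥(Cst z' t') := by
  obtain ⟨g, hg, hgt⟩ := exists_conj_of_pattern hy hz hz' t t' π hπ hπ'
  apply card_eq_of_conj _ _ g
  intro k
  constructor
  · exact conj_mem_Cst hg hgt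
  · intro hk
    have hg' : g⁻¹ * z' * g⁻¹⁻¹ = z := by
      rw [← hg]; group
    have hgt' : ∀ i, g⁻¹ • t' i = t i := fun i => by rw [← hgt i, inv_smul_smul]
    have := conj_mem_Cst hg' hgt' hk
    have e : g⁻¹ * (g * k * g⁻¹) * g⁻¹⁻¹ = k := by group
    rwa [e] at this

theorem normalizes_stab {z : G} (hz : z * z = 1) {t : Fin 4 ↪ α} {σ : Fin 4 → Fin 4}
    (hσ : ∀ i, z • t i = t (σ i)) :
    ∀ h ∈ MulAction.stabilizer G t, z * h * z⁻¹ ∈ MulAction.stabilizer G t := by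
  intro h hh
  rw [mem_stab4] at hh ⊢
  intro i
  rw [inv_of_sq hz, mul_smul, mul_smul, hσ i, hh, ← hσ i, sq_smul hz]

theorem invol_of_elt (hy : Hyp G α) {g : G} {t : Fin 4 ↪ α} {σ : Fin 4 → Fin 4}
    (hσ : ∀ i, σ (σ i) = i) (hg : ∀ i, g • t i = t (σ i)) :
    (g ^ Nat.card ↥(MulAction.stabilizer G t)) * (g ^ Nat.card ↥(MulAction.stabilizer G t)) = 1 ∧
      ∀ i, (g ^ Nat.card ↥(MulAction.stabilizer G t)) • t i = t (σ i) := by
  have hgg : g * g ∈ MulAction.stabilizer G t := by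
    rw [mem_stab4]
    intro i
    rw [mul_smul, hg, hg, hσ]
  obtain ⟨j, hj⟩ := hy.odd t
  constructor
  · rw [← (Commute.refl g).mul_pow]
    exact pow_natCard_eq_one_of_mem _ hgg
  · intro i
    rw [hj, pow_succ, pow_mul, pow_two, mul_smul, hg]
    exact mem_stab4.mp (Subgroup.pow_mem _ hgg j) (σ i)

theorem exists_invol_of_perm (hy : Hyp G α) (t : Fin 4 ↪ α) {σ : Fin 4 → Fin 4}
    (hσ : ∀ i, σ (σ i) = i) : ∃ z : G, z * z = 1 ∧ ∀ i, z • t i = t (σ i) := by
  have hinj : Function.Injective σ := fun i j hij => by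
    have := congrArg σ hij
    rwa [hσ, hσ] at this
  let t' : Fin 4 ↪ α := ⟨fun i => t (σ i), fun i j hij => hinj (t.injective hij)⟩
  obtain ⟨g, hg⟩ := hy.trans t t'
  obtain ⟨h1, h2⟩ := invol_of_elt hy hσ (t := t) (g := g) (fun i => hg i)
  exact ⟨_, h1, h2⟩

/-- a four-group acting on `t` as `⟨(01), (23)⟩` -/
theorem exists_four (hy : Hyp G α) (t : Fin 4 ↪ α) :
    ∃ b c : G, b * b = 1 ∧ c * c = 1 ∧ b * c = c * b ∧
      (∀ i, b • t i = t ((![1, 0, 2, 3] : Fin 4 → Fin 4) i)) ∧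
      (∀ i, c • t i = t ((![0, 1, 3, 2] : Fin 4 → Fin 4) i)) := by
  set σb : Fin 4 → Fin 4 := ![1, 0, 2, 3] with hσb
  set σc : Fin 4 → Fin 4 := ![0, 1, 3, 2] with hσc
  have hbb : ∀ i, σb (σb i) = i := by decide
  have hcc : ∀ i, σc (σc i) = i := by decide
  have hbcb : ∀ i, σb (σc (σb i)) = σc i := by decide
  obtain ⟨c, hc2, hc⟩ := exists_invol_of_perm hy t hcc
  obtain ⟨b0, hb02, hb0⟩ := exists_invol_of_perm hy t hbb
  have hb0inv : ∀ i, b0⁻¹ • t i = t (σb i) := by
    intro i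
    rw [inv_smul_eq_iff, hb0, hbb]
  have hc'' : ∀ i, (b0 * c * b0⁻¹) • t i = t (σc i) := by
    intro i
    rw [mul_smul, mul_smul, hb0inv, hc, hb0, hbcb]
  have hc''2 : (b0 * c * b0⁻¹) * (b0 * c * b0⁻¹) = 1 := by
    simp only [mul_assoc]
    rw [← mul_assoc b0⁻¹ b0, inv_mul_cancel, one_mul, ← mul_assoc c c, hc2, one_mul,
      mul_inv_cancel]
  obtain ⟨g, hg, hgt⟩ := exists_conj_of_pattern hy hc''2 hc2 t t σc hc'' hc
  have hb1c : (g * b0) * c = c * (g * b0) := by
    have : (g * b0) * c * (g * b0)⁻¹ = c := by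
      calc (g * b0) * c * (g * b0)⁻¹ = g * (b0 * c * b0⁻¹) * g⁻¹ := by group
        _ = c := hg
    exact mul_inv_eq_iff_eq_mul.mp this
  have hb1 : ∀ i, (g * b0) • t i = t (σb i) := by
    intro i
    rw [mul_smul, hb0, hgt]
  obtain ⟨h1, h2⟩ := invol_of_elt hy hbb hb1
  refine ⟨_, c, h1, hc2, ?_, h2, hc⟩
  exact (Commute.pow_left (show Commute (g * b0) c from hb1c) _).eq

end Perm

section Fixed

variable {G : Type*} [Group G] {α : Type*} [MulAction G α] [Fintype α]

/-- fixed points of `z` -/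
noncomputable def Fx (z : G) : Finset α := Finset.univ.filter (fun x => z • x = x)

/-- moved points of `z` -/
noncomputable def Sp (z : G) : Finset α := Finset.univ.filter (fun x => z • x ≠ x)

theorem mem_Fx {z : G} {x : α} : x ∈ Fx z ↔ z • x = x := by simp [Fx]

theorem mem_Sp {z : G} {x : α} : x ∈ Sp z ↔ z • x ≠ x := by simp [Sp]

theorem card_Fx_add_card_Sp (z : G) : (Fx z : Finset α).card + (Sp z : Finset α).card =
    Fintype.card α := by
  rw [Fx, Sp, Finset.card_filter_add_card_filter_not, Finset.card_univ]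

theorem smul_mem_Sp {z : G} (hz : z * z = 1) {x : α} (hx : x ∈ Sp z) : z • x ∈ Sp z := by
  rw [mem_Sp] at hx ⊢
  rw [sq_smul hz]
  exact fun h => hx h.symm

theorem card_Fx_le_three (hy : Hyp G α) {z : G} (hz : z * z = 1) (hz1 : z ≠ 1) :
    (Fx z : Finset α).card ≤ 3 := by
  by_contra hcon
  push Not at hcon
  obtain ⟨f, hf⟩ := Function.Embedding.exists_of_card_le_finset (α := Fin 4) (s := Fx z)
    (by rw [Fintype.card_fin]; exact hcon)
  exact hz1 (eq_one_of_sq_of_fix4 hy hz f (fun i => mem_Fx.mp (hf (Set.mem_range_self i))))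

theorem card_Fx_conj (g z : G) : (Fx (g * z * g⁻¹) : Finset α).card = (Fx z : Finset α).card := by
  symm
  apply Finset.card_equiv (MulAction.toPerm g)
  intro x
  rw [mem_Fx, mem_Fx, MulAction.toPerm_apply, mul_smul, mul_smul, inv_smul_smul]
  exact (smul_left_cancel_iff g).symm

/-- the 4-tuple `(x, z x, y, z y)` -/
noncomputable def mkA (z : G) (hz : z * z = 1) (x y : α) (hx : z • x ≠ x) (hy : z • y ≠ y)
    (h1 : y ≠ x) (h2 : y ≠ z • x) : Fin 4 ↪ α :=
  mk4 x (z • x) y (z • y) ⟨fun h => hx h.symm, fun h => h1 h.symm,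
    fun h => h2 (by rw [h, sq_smul hz]), fun h => h2 h.symm,
    fun h => h1 ((smul_left_cancel z h).symm), fun h => hy h.symm⟩

theorem mkA_pattern (z : G) (hz : z * z = 1) (x y : α) (hx hy h1 h2) :
    ∀ i, z • mkA z hz x y hx hy h1 h2 i =
      mkA z hz x y hx hy h1 h2 ((![1, 0, 3, 2] : Fin 4 → Fin 4) i) := by
  intro i
  fin_cases i
  · rfl
  · exact sq_smul hz x
  · rfl
  · exact sq_smul hz y

/-- the 4-tuple `(p, q, x, z x)` -/
noncomputable def mkE (z : G) (p q x : α) (hp : z • p = p) (hq : z • q = q) (hpq : p ≠ q)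
    (hx : z • x ≠ x) : Fin 4 ↪ α :=
  mk4 p q x (z • x) ⟨hpq, fun h => hx (by rw [← h]; exact hp),
    fun h => hx (by
      have : z • p = z • z • x := congrArg (z • ·) h
      rw [hp, h] at this
      exact (smul_left_cancel z this).symm),
    fun h => hx (by rw [← h]; exact hq),
    fun h => hx (by
      have : z • q = z • z • x := congrArg (z • ·) h
      rw [hq, h] at this
      exact (smul_left_cancel z this).symm),
    fun h => hx h.symm⟩

theorem mkE_pattern (z : G) (hz : z * z = 1) (p q x : α) (hp hq hpq hx) :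
    ∀ i, z • mkE z p q x hp hq hpq hx i =
      mkE z p q x hp hq hpq hx ((![0, 1, 3, 2] : Fin 4 → Fin 4) i) := by
  intro i
  fin_cases i
  · exact hp
  · exact hq
  · rfl
  · exact sq_smul hz x

theorem exists_moved [FaithfulSMul G α] {z : G} (hz1 : z ≠ 1) : ∃ x : α, z • x ≠ x := by
  by_contra hcon
  push Not at hcon
  exact hz1 (FaithfulSMul.eq_of_smul_eq_smul (α := α) (fun x => by rw [hcon x, one_smul]))

theorem exists_pattern_a [FaithfulSMul G α] (hy : Hyp G α) (hn : 6 ≤ Fintype.card α) {z : G}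
    (hz : z * z = 1) (hz1 : z ≠ 1) :
    ∃ t : Fin 4 ↪ α, ∀ i, z • t i = t ((![1, 0, 3, 2] : Fin 4 → Fin 4) i) := by
  obtain ⟨x, hx⟩ := exists_moved (α := α) hz1
  have h3 := card_Fx_le_three hy hz hz1
  have hsum := card_Fx_add_card_Sp (α := α) z
  have hx' : x ∈ Sp z := mem_Sp.mpr hx
  have hzx' : z • x ∈ Sp z := smul_mem_Sp hz hx'
  have hcard : 0 < (((Sp z).erase x).erase (z • x)).card := by
    rw [Finset.card_erase_of_mem (Finset.mem_erase.mpr ⟨hx, hzx'⟩), Finset.card_erase_of_mem hx']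
    omega
  obtain ⟨y, hy'⟩ := Finset.card_pos.mp hcard
  rw [Finset.mem_erase, Finset.mem_erase, mem_Sp] at hy'
  obtain ⟨h2, h1, hy''⟩ := hy'
  exact ⟨mkA z hz x y hx hy'' h1 h2, mkA_pattern z hz x y hx hy'' h1 h2⟩

/-- all involutions are conjugate (degree at least 6) -/
theorem exists_conj_invol [FaithfulSMul G α] (hy : Hyp G α) (hn : 6 ≤ Fintype.card α) {z z' : G}
    (hz : z * z = 1) (hz1 : z ≠ 1) (hz' : z' * z' = 1) (hz1' : z' ≠ 1) :
    ∃ g : G, g * z * g⁻¹ = z' := by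
  obtain ⟨t, ht⟩ := exists_pattern_a hy hn hz hz1
  obtain ⟨t', ht'⟩ := exists_pattern_a hy hn hz' hz1'
  obtain ⟨g, hg, _⟩ := exists_conj_of_pattern hy hz hz' t t' _ ht ht'
  exact ⟨g, hg⟩

theorem card_Fx_eq [FaithfulSMul G α] (hy : Hyp G α) (hn : 6 ≤ Fintype.card α) {z z' : G}
    (hz : z * z = 1) (hz1 : z ≠ 1) (hz' : z' * z' = 1) (hz1' : z' ≠ 1) :
    (Fx z : Finset α).card = (Fx z' : Finset α).card := by
  obtain ⟨g, hg⟩ := exists_conj_invol hy hn hz hz1 hz' hz1'
  rw [← hg, card_Fx_conj]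

end Fixed

end Cfsg.Agent.Lib.Helper12.Hall4
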