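import Cfsg.Agent.Lib.Helper12.Hall4B

/-!
# M. Hall's theorem, part C: orbit counts for the centraliser of an involution (helper12)

`count1`: `|C(z) ∩ G_t| * |T1 z| = |C(z)|` for `t = (x, zx, y, zy)`;
`count2`: `|C(z) ∩ G_t| * |T2 z| = |C(z)|` for `t = (p, q, x, zx)` with `p, q` fixed by `z`.
-/

set_option autoImplicit false
set_option linter.unusedSectionVars false
set_option linter.unusedVariables false
set_option linter.style.haveILetI false

namespace Cfsg.Agent.Lib.Helper12.Hall4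

open scoped Classical

section Count

variable {G : Type*} [Group G] {α : Type*} [MulAction G α] [Fintype α]

/-- pairs of moved points lying in different 2-cycles of `z` -/
noncomputable def T1 (z : G) : Finset (α × α) :=
  (Sp z).offDiag.filter (fun p => p.2 ≠ z • p.1)

theorem mem_T1 {z : G} {p : α × α} :
    p ∈ T1 z ↔ z • p.1 ≠ p.1 ∧ z • p.2 ≠ p.2 ∧ p.1 ≠ p.2 ∧ p.2 ≠ z • p.1 := by
  simp only [T1, Finset.mem_filter, Finset.mem_offDiag, mem_Sp, and_assoc]

theorem card_T1 {z : G} (hz : z * z = 1) :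
    (T1 z : Finset (α × α)).card + (Sp z : Finset α).card =
      (Sp z : Finset α).card * (Sp z : Finset α).card - (Sp z : Finset α).card := by
  rw [T1, ← Finset.offDiag_card,
    ← Finset.card_filter_add_card_filter_not (s := (Sp z : Finset α).offDiag)
      (fun p => p.2 ≠ z • p.1)]
  congr 1
  have : (Sp z : Finset α).offDiag.filter (fun p => ¬ p.2 ≠ z • p.1) =
      (Sp z).image (fun x => (x, z • x)) := by
    ext ⟨x, y⟩
    simp only [Finset.mem_filter, Finset.mem_offDiag, Finset.mem_image, not_not, Prod.mk.injEq]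
    constructor
    · rintro ⟨⟨hx, hy, hxy⟩, rfl⟩
      exact ⟨x, hx, rfl, rfl⟩
    · rintro ⟨x', hx', rfl, rfl⟩
      exact ⟨⟨hx', smul_mem_Sp hz hx', fun h => (mem_Sp.mp hx') h.symm⟩, rfl⟩
  rw [this, Finset.card_image_of_injective]
  intro x x' h
  exact (Prod.mk.inj h).1

/-- triples `(p, q, x)`: `p ≠ q` fixed, `x` moved -/
noncomputable def T2 (z : G) : Finset ((α × α) × α) := (Fx z).offDiag ×ˢ (Sp z)

theorem mem_T2 {z : G} {p : (α × α) × α} :
    p ∈ T2 z ↔ z • p.1.1 = p.1.1 ∧ z • p.1.2 = p.1.2 ∧ p.1.1 ≠ p.1.2 ∧ z • p.2 ≠ p.2 := by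
  simp only [T2, Finset.mem_product, Finset.mem_offDiag, mem_Fx, mem_Sp, and_assoc]

theorem card_T2 (z : G) : (T2 z : Finset ((α × α) × α)).card =
    ((Fx z : Finset α).card * (Fx z : Finset α).card - (Fx z : Finset α).card) *
      (Sp z : Finset α).card := by
  rw [T2, Finset.card_product, Finset.offDiag_card]

theorem comm_smul {z k : G} (hk : k * z = z * k) (x : α) : k • z • x = z • k • x := by
  rw [← mul_smul, hk, mul_smul]

theorem count1 (hy : Hyp G α) {z : G} (hz : z * z = 1) (t : Fin 4 ↪ α)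
    (ht : ∀ i, z • t i = t ((![1, 0, 3, 2] : Fin 4 → Fin 4) i)) :
    Nat.card ↥(Cst z t) * (T1 z : Finset (α × α)).card = Nat.card ↥(Subgroup.centralizer {z}) := by
  have h01 : t 1 ≠ t 0 := fun h => by simpa using t.injective h
  have h23 : t 3 ≠ t 2 := fun h => by simpa using t.injective h
  have h02 : t 0 ≠ t 2 := fun h => by simpa using t.injective h
  have h21 : t 2 ≠ t 1 := fun h => by simpa using t.injective h
  have e0 : z • t 0 = t 1 := ht 0
  have e2 : z • t 2 = t 3 := ht 2
  have hmem : (t 0, t 2) ∈ T1 z := by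
    rw [mem_T1]
    exact ⟨by rw [e0]; exact h01, by rw [e2]; exact h23, h02, by rw [e0]; exact h21⟩
  have hmem' := mem_T1.mp hmem
  have hos := card_inf_stabilizer_mul_ncard_orbit (Subgroup.centralizer {z}) ((t 0, t 2) : α × α)
  -- the stabiliser
  have hstab : Subgroup.centralizer {z} ⊓ MulAction.stabilizer G ((t 0, t 2) : α × α) =
      Cst z t := by
    ext g
    rw [Subgroup.mem_inf, Subgroup.mem_centralizer_singleton_iff, MulAction.mem_stabilizer_iff,
      mem_Cst, Prod.smul_mk, Prod.mk.injEq]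
    constructor
    · rintro ⟨hc, h0, h2⟩
      refine ⟨hc, fun i => ?_⟩
      fin_cases i
      · exact h0
      · show g • t 1 = t 1
        rw [← e0, comm_smul hc, h0]
      · exact h2
      · show g • t 3 = t 3
        rw [← e2, comm_smul hc, h2]
    · rintro ⟨hc, h⟩
      exact ⟨hc, h 0, h 2⟩
  -- the orbit
  have horb : {q : α × α | ∃ k ∈ Subgroup.centralizer {z}, k • ((t 0, t 2) : α × α) = q} =
      ↑(T1 z : Finset (α × α)) := by
    ext ⟨x', y'⟩
    simp only [Set.mem_ofPred_eq, Finset.mem_coe]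
    constructor
    · rintro ⟨k, hk, hq⟩
      rw [Subgroup.mem_centralizer_singleton_iff] at hk
      rw [Prod.smul_mk, Prod.mk.injEq] at hq
      obtain ⟨rfl, rfl⟩ := hq
      rw [mem_T1]
      refine ⟨?_, ?_, ?_, ?_⟩
      · show z • k • t 0 ≠ k • t 0
        rw [← comm_smul hk]
        exact fun h => hmem'.1 (smul_left_cancel k h)
      · show z • k • t 2 ≠ k • t 2
        rw [← comm_smul hk]
        exact fun h => hmem'.2.1 (smul_left_cancel k h)
      · exact fun h => hmem'.2.2.1 (smul_left_cancel k h)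
      · show k • t 2 ≠ z • k • t 0
        rw [← comm_smul hk]
        exact fun h => hmem'.2.2.2 (smul_left_cancel k h)
    · intro hq
      rw [mem_T1] at hq
      obtain ⟨q1, q2, q3, q4⟩ := hq
      obtain ⟨g, hg, hgt⟩ := exists_conj_of_pattern hy hz hz t
        (mkA z hz x' y' q1 q2 q3.symm q4) _ ht (mkA_pattern z hz x' y' q1 q2 q3.symm q4)
      refine ⟨g, ?_, ?_⟩
      · rw [Subgroup.mem_centralizer_singleton_iff]
        exact mul_inv_eq_iff_eq_mul.mp hg
      · rw [Prod.smul_mk, Prod.mk.injEq]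
        exact ⟨hgt 0, hgt 2⟩
  rw [hstab, horb, Set.ncard_coe_finset] at hos
  exact hos

theorem count2 (hy : Hyp G α) {z : G} (hz : z * z = 1) (t : Fin 4 ↪ α)
    (ht : ∀ i, z • t i = t ((![0, 1, 3, 2] : Fin 4 → Fin 4) i)) :
    Nat.card ↥(Cst z t) * (T2 z : Finset ((α × α) × α)).card =
      Nat.card ↥(Subgroup.centralizer {z}) := by
  have h01 : t 0 ≠ t 1 := fun h => by simpa using t.injective h
  have h23 : t 3 ≠ t 2 := fun h => by simpa using t.injective h
  have e0 : z • t 0 = t 0 := ht 0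
  have e1 : z • t 1 = t 1 := ht 1
  have e2 : z • t 2 = t 3 := ht 2
  have hmem : ((t 0, t 1), t 2) ∈ T2 z := by
    rw [mem_T2]
    exact ⟨e0, e1, h01, by rw [e2]; exact h23⟩
  have hmem' := mem_T2.mp hmem
  have hos := card_inf_stabilizer_mul_ncard_orbit (Subgroup.centralizer {z})
    (((t 0, t 1), t 2) : (α × α) × α)
  have hstab : Subgroup.centralizer {z} ⊓
      MulAction.stabilizer G (((t 0, t 1), t 2) : (α × α) × α) = Cst z t := by
    ext g
    rw [Subgroup.mem_inf, Subgroup.mem_centralizer_singleton_iff, MulAction.mem_stabilizer_iff,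
      mem_Cst, Prod.smul_mk, Prod.smul_mk, Prod.mk.injEq, Prod.mk.injEq]
    constructor
    · rintro ⟨hc, ⟨h0, h1⟩, h2⟩
      refine ⟨hc, fun i => ?_⟩
      fin_cases i
      · exact h0
      · exact h1
      · exact h2
      · show g • t 3 = t 3
        rw [← e2, comm_smul hc, h2]
    · rintro ⟨hc, h⟩
      exact ⟨hc, ⟨h 0, h 1⟩, h 2⟩
  have horb : {q : (α × α) × α | ∃ k ∈ Subgroup.centralizer {z},
      k • (((t 0, t 1), t 2) : (α × α) × α) = q} = ↑(T2 z : Finset ((α × α) × α)) := by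
    ext ⟨⟨p', q'⟩, x'⟩
    simp only [Set.mem_ofPred_eq, Finset.mem_coe]
    constructor
    · rintro ⟨k, hk, hq⟩
      rw [Subgroup.mem_centralizer_singleton_iff] at hk
      rw [Prod.smul_mk, Prod.smul_mk, Prod.mk.injEq, Prod.mk.injEq] at hq
      obtain ⟨⟨rfl, rfl⟩, rfl⟩ := hq
      rw [mem_T2]
      refine ⟨?_, ?_, ?_, ?_⟩
      · show z • k • t 0 = k • t 0
        rw [← comm_smul hk, e0]
      · show z • k • t 1 = k • t 1
        rw [← comm_smul hk, e1]
      · exact fun h => h01 (smul_left_cancel k h)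
      · show z • k • t 2 ≠ k • t 2
        rw [← comm_smul hk]
        exact fun h => hmem'.2.2.2 (smul_left_cancel k h)
    · intro hq
      rw [mem_T2] at hq
      obtain ⟨q1, q2, q3, q4⟩ := hq
      obtain ⟨g, hg, hgt⟩ := exists_conj_of_pattern hy hz hz t
        (mkE z p' q' x' q1 q2 q3 q4) _ ht (mkE_pattern z hz p' q' x' q1 q2 q3 q4)
      refine ⟨g, ?_, ?_⟩
      · rw [Subgroup.mem_centralizer_singleton_iff]
        exact mul_inv_eq_iff_eq_mul.mp hg
      · rw [Prod.smul_mk, Prod.smul_mk, Prod.mk.injEq, Prod.mk.injEq]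
        exact ⟨⟨hgt 0, hgt 1⟩, hgt 2⟩
  rw [hstab, horb, Set.ncard_coe_finset] at hos
  exact hos

end Count

end Cfsg.Agent.Lib.Helper12.Hall4
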