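import Cfsg.Agent.Lib.Helper12.Hall4C

/-!
# M. Hall's theorem, part D: the four-group `V = ⟨b, c⟩` and its orbits (helper12)
-/

set_option autoImplicit false
set_option linter.unusedSectionVars false
set_option linter.unusedVariables false
set_option linter.style.haveILetI false

namespace Cfsg.Agent.Lib.Helper12.Hall4

open scoped Classical

section Odd

variable {G : Type*} [Group G] {α : Type*} [MulAction G α]

theorem pow_smul_of_fix {g : G} {x : α} (h : g • x = x) (n : ℕ) : g ^ n • x = x := by
  induction n with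
  | zero => rw [pow_zero, one_smul]
  | succ n ih => rw [pow_succ, mul_smul, h, ih]

theorem odd_fix_of_invariant_pair {g : G} (hodd : Odd (orderOf g)) {x y : α}
    (hx : g • x = x ∨ g • x = y) (hy : g • y = x ∨ g • y = y) : g • x = x := by
  rcases hx with h | h
  · exact h
  · rcases hy with h' | h'
    · have h2 : (g * g) • x = x := by rw [mul_smul, h, h']
      obtain ⟨j, hj⟩ := hodd
      have hg : (g * g) ^ (j + 1) = g := by
        rw [← pow_two, ← pow_mul]
        have : 2 * (j + 1) = orderOf g + 1 := by omega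
        rw [this, pow_succ, pow_orderOf_eq_one, one_mul]
      have := pow_smul_of_fix h2 (j + 1)
      rwa [hg] at this
    · have : x = y := smul_left_cancel g (h.trans h'.symm)
      rw [h, this]

theorem odd_fix_of_card_le_two [DecidableEq α] {g : G} (hodd : Odd (orderOf g)) (S : Finset α)
    (hS : S.card ≤ 2) (hinv : ∀ x ∈ S, g • x ∈ S) : ∀ x ∈ S, g • x = x := by
  intro x hx
  by_contra hne
  have hy := hinv x hx
  have hsub : ({x, g • x} : Finset α) ⊆ S := by
    intro w hw
    rw [Finset.mem_insert, Finset.mem_singleton] at hw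
    rcases hw with rfl | rfl
    · exact hx
    · exact hy
  have hcard : ({x, g • x} : Finset α).card = 2 := Finset.card_pair (fun h => hne h.symm)
  have heq : ({x, g • x} : Finset α) = S := Finset.eq_of_subset_of_card_le hsub (by omega)
  have hgy := hinv _ hy
  rw [← heq, Finset.mem_insert, Finset.mem_singleton] at hgy
  exact hne (odd_fix_of_invariant_pair hodd (Or.inr rfl) hgy)

end Odd

section Four

variable {G : Type*} [Group G] {α : Type*} [MulAction G α]

theorem t_ne {t : Fin 4 ↪ α} {i j : Fin 4} (h : i ≠ j) : t i ≠ t j :=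
  fun h' => h (t.injective h')

/-- a four-group `⟨b, c⟩` acting on `t` as `⟨(01), (23)⟩` -/
structure Four (t : Fin 4 ↪ α) (b c : G) : Prop where
  b2 : b * b = 1
  c2 : c * c = 1
  comm : b * c = c * b
  hb : ∀ i, b • t i = t ((![1, 0, 2, 3] : Fin 4 → Fin 4) i)
  hc : ∀ i, c • t i = t ((![0, 1, 3, 2] : Fin 4 → Fin 4) i)

namespace Four

variable {t : Fin 4 ↪ α} {b c : G} (F : Four t b c)
include F

theorem a2 : (b * c) * (b * c) = 1 := by
  calc b * c * (b * c) = b * (c * b) * c := by simp only [mul_assoc]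
    _ = b * (b * c) * c := by rw [F.comm]
    _ = (b * b) * (c * c) := by simp only [mul_assoc]
    _ = 1 := by rw [F.b2, F.c2, one_mul]

theorem ab : (b * c) * b = b * (b * c) := by
  calc b * c * b = b * (c * b) := by rw [mul_assoc]
    _ = b * (b * c) := by rw [F.comm]

theorem ac : (b * c) * c = c * (b * c) := by
  calc b * c * c = c * b * c := by rw [F.comm]
    _ = c * (b * c) := by rw [mul_assoc]

theorem ha : ∀ i, (b * c) • t i = t ((![1, 0, 3, 2] : Fin 4 → Fin 4) i) := by
  intro i
  rw [mul_smul, F.hc, F.hb]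
  fin_cases i <;> rfl

theorem b0 : b • t 0 = t 1 := F.hb 0
theorem b1 : b • t 1 = t 0 := F.hb 1
theorem b2' : b • t 2 = t 2 := F.hb 2
theorem b3 : b • t 3 = t 3 := F.hb 3
theorem c0 : c • t 0 = t 0 := F.hc 0
theorem c1 : c • t 1 = t 1 := F.hc 1
theorem c2' : c • t 2 = t 3 := F.hc 2
theorem c3 : c • t 3 = t 2 := F.hc 3

theorem b_ne_one : b ≠ 1 := by
  intro h
  have := F.b0
  rw [h, one_smul] at this
  exact t_ne (by decide) this

theorem c_ne_one : c ≠ 1 := by
  intro h
  have := F.c2'
  rw [h, one_smul] at this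
  exact t_ne (by decide) this

theorem a_ne_one : b * c ≠ 1 := by
  intro h
  have := F.ha 0
  rw [h, one_smul] at this
  exact t_ne (by decide) this

/-- `a x = b (c x)` etc. -/
theorem a_smul (x : α) : (b * c) • x = b • c • x := mul_smul b c x

theorem cb_smul (x : α) : c • b • x = b • c • x := by
  rw [← mul_smul, ← F.comm, mul_smul]

theorem b_a_smul (x : α) : b • (b * c) • x = c • x := by
  rw [mul_smul, sq_smul F.b2]

theorem c_a_smul (x : α) : c • (b * c) • x = b • x := by
  rw [mul_smul, F.cb_smul, sq_smul F.c2]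

theorem a_b_smul (x : α) : (b * c) • b • x = c • x := by
  rw [mul_smul, F.cb_smul, sq_smul F.b2]

theorem a_c_smul (x : α) : (b * c) • c • x = b • x := by
  rw [mul_smul, sq_smul F.c2]

end Four

end Four

section FourFix

variable {G : Type*} [Group G] {α : Type*} [MulAction G α] [Fintype α]

namespace Four

variable {t : Fin 4 ↪ α} {b c : G} (F : Four t b c)
include F

theorem card_Fx_c_ge : 2 ≤ (Fx c : Finset α).card := by
  have hsub : ({t 0, t 1} : Finset α) ⊆ Fx c := by
    intro w hw
    rw [Finset.mem_insert, Finset.mem_singleton] at hw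
    rcases hw with rfl | rfl
    · exact mem_Fx.mpr F.c0
    · exact mem_Fx.mpr F.c1
  have := Finset.card_le_card hsub
  rwa [Finset.card_pair (t_ne (by decide))] at this

/-- a fixed point of `c` other than `t 0, t 1` is fixed by `b` (when `c` has at most 3 fixed points) -/
theorem fix_c_sub (h3 : (Fx c : Finset α).card ≤ 3) {x : α} (hx : c • x = x) (h0 : x ≠ t 0)
    (h1 : x ≠ t 1) : b • x = x := by
  set W := ((Fx c : Finset α).erase (t 0)).erase (t 1) with hW
  have hcard : W.card ≤ 1 := by
    rw [hW, Finset.card_erase_of_mem (Finset.mem_erase.mpr ⟨t_ne (by decide), mem_Fx.mpr F.c1⟩),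
      Finset.card_erase_of_mem (mem_Fx.mpr F.c0)]
    omega
  have hxW : x ∈ W := by
    rw [hW, Finset.mem_erase, Finset.mem_erase]
    exact ⟨h1, h0, mem_Fx.mpr hx⟩
  have hbxW : b • x ∈ W := by
    rw [hW, Finset.mem_erase, Finset.mem_erase, mem_Fx]
    refine ⟨?_, ?_, ?_⟩
    · intro h
      apply h0
      have := congrArg (b • ·) h
      simp only [sq_smul F.b2, F.b1] at this
      exact this
    · intro h
      apply h1
      have := congrArg (b • ·) h
      simp only [sq_smul F.b2, F.b0] at this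
      exact this
    · rw [F.cb_smul, hx]
  exact Finset.card_le_one.mp hcard _ hbxW _ hxW

/-- a fixed point of `b` other than `t 2, t 3` is fixed by `c` -/
theorem fix_b_sub (h3 : (Fx b : Finset α).card ≤ 3) {x : α} (hx : b • x = x) (h2 : x ≠ t 2)
    (h3' : x ≠ t 3) : c • x = x := by
  set W := ((Fx b : Finset α).erase (t 2)).erase (t 3) with hW
  have hcard : W.card ≤ 1 := by
    rw [hW, Finset.card_erase_of_mem (Finset.mem_erase.mpr ⟨t_ne (by decide), mem_Fx.mpr F.b3⟩),
      Finset.card_erase_of_mem (mem_Fx.mpr F.b2')]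
    omega
  have hxW : x ∈ W := by
    rw [hW, Finset.mem_erase, Finset.mem_erase]
    exact ⟨h3', h2, mem_Fx.mpr hx⟩
  have hcxW : c • x ∈ W := by
    rw [hW, Finset.mem_erase, Finset.mem_erase, mem_Fx]
    refine ⟨?_, ?_, ?_⟩
    · intro h
      apply h2
      have := congrArg (c • ·) h
      simp only [sq_smul F.c2, F.c3] at this
      exact this
    · intro h
      apply h3'
      have := congrArg (c • ·) h
      simp only [sq_smul F.c2, F.c2'] at this
      exact this
    · rw [← F.cb_smul, hx]
  exact Finset.card_le_one.mp hcard _ hcxW _ hxW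

/-- the points in regular `V`-orbits -/
noncomputable def Theta (F : Four t b c) : Finset α :=
  Finset.univ.filter (fun x => (b * c) • x ≠ x ∧ b • x ≠ x ∧ c • x ≠ x)

theorem mem_Theta {x : α} : x ∈ F.Theta ↔ (b * c) • x ≠ x ∧ b • x ≠ x ∧ c • x ≠ x := by
  simp [Theta]

theorem Theta_eq (hb3 : (Fx b : Finset α).card ≤ 3) (hc3 : (Fx c : Finset α).card ≤ 3) :
    F.Theta = (Sp (b * c) : Finset α) \ (Finset.univ.image t) := by
  ext x
  rw [F.mem_Theta, Finset.mem_sdiff, mem_Sp, Finset.mem_image]
  constructor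
  · rintro ⟨h1, h2, h3⟩
    refine ⟨h1, ?_⟩
    rintro ⟨i, -, rfl⟩
    fin_cases i
    · exact h3 F.c0
    · exact h3 F.c1
    · exact h2 F.b2'
    · exact h2 F.b3
  · rintro ⟨h1, h2⟩
    have hne : ∀ i, x ≠ t i := fun i h => h2 ⟨i, Finset.mem_univ _, h.symm⟩
    refine ⟨h1, ?_, ?_⟩
    · intro hb
      have hc := F.fix_b_sub hb3 hb (hne 2) (hne 3)
      apply h1
      rw [F.a_smul, hc, hb]
    · intro hc
      have hb := F.fix_c_sub hc3 hc (hne 0) (hne 1)
      apply h1
      rw [F.a_smul, hc, hb]

theorem card_Theta (hb3 : (Fx b : Finset α).card ≤ 3) (hc3 : (Fx c : Finset α).card ≤ 3) :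
    F.Theta.card + 4 = (Sp (b * c) : Finset α).card := by
  rw [F.Theta_eq hb3 hc3]
  have hsub : Finset.univ.image t ⊆ (Sp (b * c) : Finset α) := by
    intro x hx
    rw [Finset.mem_image] at hx
    obtain ⟨i, -, rfl⟩ := hx
    rw [mem_Sp, F.ha]
    fin_cases i <;> exact t_ne (by decide)
  have hcard : (Finset.univ.image t : Finset α).card = 4 := by
    rw [Finset.card_image_of_injective _ t.injective, Finset.card_univ, Fintype.card_fin]
  rw [Finset.card_sdiff_of_subset hsub, hcard]
  have := Finset.card_le_card hsub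
  rw [hcard] at this
  omega

/-- the regular orbit of `θ` as a 4-tuple -/
noncomputable def tup (F : Four t b c) (θ : α) (hθ : θ ∈ F.Theta) : Fin 4 ↪ α :=
  mk4 θ ((b * c) • θ) (b • θ) (c • θ) (by
    obtain ⟨h1, h2, h3⟩ := F.mem_Theta.mp hθ
    refine ⟨fun h => h1 h.symm, fun h => h2 h.symm, fun h => h3 h.symm, ?_, ?_, ?_⟩
    · intro h
      apply h3
      have := congrArg (b • ·) h
      simp only [F.b_a_smul, sq_smul F.b2] at this
      exact this
    · intro h
      apply h2
      have := congrArg (c • ·) h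
      simp only [F.c_a_smul, sq_smul F.c2] at this
      exact this
    · intro h
      apply h1
      rw [F.a_smul, ← h, sq_smul F.b2])

theorem tup_a (θ : α) (hθ : θ ∈ F.Theta) :
    ∀ i, (b * c) • F.tup θ hθ i = F.tup θ hθ ((![1, 0, 3, 2] : Fin 4 → Fin 4) i) := by
  intro i
  fin_cases i
  · rfl
  · exact sq_smul F.a2 θ
  · exact F.a_b_smul θ
  · exact F.a_c_smul θ

theorem tup_b (θ : α) (hθ : θ ∈ F.Theta) :
    ∀ i, b • F.tup θ hθ i = F.tup θ hθ ((![2, 3, 0, 1] : Fin 4 → Fin 4) i) := by
  intro i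
  fin_cases i
  · rfl
  · exact F.b_a_smul θ
  · exact sq_smul F.b2 θ
  · show b • c • θ = (b * c) • θ
    rw [F.a_smul]

theorem tup_c (θ : α) (hθ : θ ∈ F.Theta) :
    ∀ i, c • F.tup θ hθ i = F.tup θ hθ ((![3, 2, 1, 0] : Fin 4 → Fin 4) i) := by
  intro i
  fin_cases i
  · rfl
  · exact F.c_a_smul θ
  · show c • b • θ = (b * c) • θ
    rw [F.cb_smul, F.a_smul]
  · exact sq_smul F.c2 θ

end Four

end FourFix

end Cfsg.Agent.Lib.Helper12.Hall4
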