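import Cfsg.Agent.Lib.Helper12.Hall4D

/-!
# M. Hall's theorem, part E: Brauer–Wielandt applied to the four-group (helper12)
-/

set_option autoImplicit false
set_option linter.unusedSectionVars false
set_option linter.unusedVariables false
set_option linter.style.haveILetI false

namespace Cfsg.Agent.Lib.Helper12.Hall4

open scoped Classical

section General

variable {G : Type*} [Group G] {α : Type*} [MulAction G α]

theorem Cst_congr {z : G} {t t' : Fin 4 ↪ α} (σ τ : Fin 4 → Fin 4)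
    (h1 : ∀ i, t' i = t (σ i)) (h2 : ∀ i, t i = t' (τ i)) : Cst z t = Cst z t' := by
  ext g
  rw [mem_Cst, mem_Cst]
  constructor
  · rintro ⟨hc, h⟩
    exact ⟨hc, fun i => by rw [h1, h]⟩
  · rintro ⟨hc, h⟩
    exact ⟨hc, fun i => by rw [h2, h]⟩

theorem Cst_eq_inf (z : G) (t : Fin 4 ↪ α) :
    MulAction.stabilizer G t ⊓ Subgroup.centralizer {z} = Cst z t := inf_comm _ _

theorem conj_sq {g z : G} (hz : z * z = 1) : (g * z * g⁻¹) * (g * z * g⁻¹) = 1 := by
  simp only [mul_assoc]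
  rw [← mul_assoc g⁻¹ g, inv_mul_cancel, one_mul, ← mul_assoc z z, hz, one_mul, mul_inv_cancel]

/-- simultaneous conjugation of a commuting pair of involutions -/
theorem exists_conj_pair (hy : Hyp G α) {b c : G} (hb2 : b * b = 1) (hc2 : c * c = 1)
    (hbc : b * c = c * b) (t t' : Fin 4 ↪ α) (πb πc : Fin 4 → Fin 4)
    (hb : ∀ i, b • t i = t (πb i)) (hb' : ∀ i, b • t' i = t' (πb i))
    (hc : ∀ i, c • t i = t (πc i)) (hc' : ∀ i, c • t' i = t' (πc i)) :
    ∃ g : G, g * b = b * g ∧ g * c = c * g ∧ ∀ i, g • t i = t' i := by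
  obtain ⟨g1, hg1, hg1t⟩ := exists_conj_of_pattern hy hb2 hb2 t t' πb hb hb'
  have hg1b : g1 * b = b * g1 := mul_inv_eq_iff_eq_mul.mp hg1
  have hg1b' : g1⁻¹ * b = b * g1⁻¹ := by
    calc g1⁻¹ * b = g1⁻¹ * (b * g1) * g1⁻¹ := by group
      _ = g1⁻¹ * (g1 * b) * g1⁻¹ := by rw [hg1b]
      _ = b * g1⁻¹ := by group
  have hc''2 : (g1 * c * g1⁻¹) * (g1 * c * g1⁻¹) = 1 := conj_sq hc2
  have hc''b : (g1 * c * g1⁻¹) * b = b * (g1 * c * g1⁻¹) := by
    calc g1 * c * g1⁻¹ * b = g1 * c * (g1⁻¹ * b) := by group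
      _ = g1 * c * (b * g1⁻¹) := by rw [hg1b']
      _ = g1 * (c * b) * g1⁻¹ := by group
      _ = g1 * (b * c) * g1⁻¹ := by rw [hbc]
      _ = (g1 * b) * c * g1⁻¹ := by group
      _ = (b * g1) * c * g1⁻¹ := by rw [hg1b]
      _ = b * (g1 * c * g1⁻¹) := by group
  have hc''t : ∀ i, (g1 * c * g1⁻¹) • t' i = t' (πc i) := by
    intro i
    rw [mul_smul, mul_smul, ← hg1t i, inv_smul_smul, hc i, hg1t]
  have hwmem : c * (g1 * c * g1⁻¹) ∈ MulAction.stabilizer G t' := by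
    rw [mem_stab4]
    intro i
    rw [mul_smul, hc''t, ← hc' i, sq_smul hc2]
  have hwb : c * (g1 * c * g1⁻¹) ∈ Subgroup.centralizer ({b} : Set G) := by
    rw [Subgroup.mem_centralizer_singleton_iff]
    calc c * (g1 * c * g1⁻¹) * b = c * ((g1 * c * g1⁻¹) * b) := by group
      _ = c * (b * (g1 * c * g1⁻¹)) := by rw [hc''b]
      _ = (c * b) * (g1 * c * g1⁻¹) := by group
      _ = (b * c) * (g1 * c * g1⁻¹) := by rw [hbc]
      _ = b * (c * (g1 * c * g1⁻¹)) := by group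
  have hodd : Odd (orderOf (c * (g1 * c * g1⁻¹))) :=
    Odd.of_dvd_nat (hy.odd t') (Subgroup.orderOf_dvd_natCard _ hwmem)
  obtain ⟨u, hu, hconj⟩ := conj_of_odd hc''2 hc2 hodd
  have hu1 : u ∈ MulAction.stabilizer G t' := Subgroup.zpowers_le.mpr hwmem hu
  have hu2 : u ∈ Subgroup.centralizer ({b} : Set G) := Subgroup.zpowers_le.mpr hwb hu
  rw [Subgroup.mem_centralizer_singleton_iff] at hu2
  refine ⟨u * g1, ?_, ?_, ?_⟩
  · calc u * g1 * b = u * (g1 * b) := by group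
      _ = u * (b * g1) := by rw [hg1b]
      _ = (u * b) * g1 := by group
      _ = (b * u) * g1 := by rw [hu2]
      _ = b * (u * g1) := by group
  · have : (u * g1) * c * (u * g1)⁻¹ = c := by
      calc (u * g1) * c * (u * g1)⁻¹ = u * (g1 * c * g1⁻¹) * u⁻¹ := by group
        _ = c := hconj.symm
    exact mul_inv_eq_iff_eq_mul.mp this
  · intro i
    rw [mul_smul, hg1t]
    exact mem_stab4.mp hu1 i

/-- Brauer–Wielandt for a four-group acting on a 4-tuple -/
theorem bw_tuple [Finite G] (hy : Hyp G α) {b c : G} (hb2 : b * b = 1) (hc2 : c * c = 1)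
    (hbc : b * c = c * b) (t : Fin 4 ↪ α) (πb πc : Fin 4 → Fin 4)
    (hb : ∀ i, b • t i = t (πb i)) (hc : ∀ i, c • t i = t (πc i)) :
    Nat.card ↥(MulAction.stabilizer G t) *
      Nat.card ↥(MulAction.stabilizer G t ⊓ Subgroup.centralizer {b} ⊓
        Subgroup.centralizer {c}) ^ 2 =
      Nat.card ↥(Cst b t) * Nat.card ↥(Cst c t) * Nat.card ↥(Cst (b * c) t) := by
  cases nonempty_fintype G
  have := brauer_wielandt (MulAction.stabilizer G t) (hy.odd t) hb2 hc2 hbc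
    (normalizes_stab hb2 hb) (normalizes_stab hc2 hc)
  rw [Cst_eq_inf, Cst_eq_inf, Cst_eq_inf] at this
  rw [Cst_eq_inf]
  exact this

/-- uniformity of `|C(z) ∩ G_t|` up to reordering the tuple -/
theorem card_Cst_perm (hy : Hyp G α) {z z' : G} (hz : z * z = 1) (hz' : z' * z' = 1)
    (t t' : Fin 4 ↪ α) (π π' : Fin 4 → Fin 4) (σ : Equiv.Perm (Fin 4))
    (hσ : ∀ i, π (σ i) = σ (π' i))
    (hπ : ∀ i, z • t i = t (π i)) (hπ' : ∀ i, z' • t' i = t' (π' i)) :
    Nat.card ↥(Cst z t) = Nat.card ↥(Cst z' t') := by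
  have e : Cst z t = Cst z (σ.toEmbedding.trans t) :=
    Cst_congr (⇑σ) (⇑σ⁻¹) (fun i => rfl) (fun i => by
      show t i = t (σ (σ⁻¹ i))
      simp)
  rw [e]
  apply card_Cst_eq hy hz hz' (σ.toEmbedding.trans t) t' π' _ hπ'
  intro i
  show z • t (σ i) = t (σ (π' i))
  rw [hπ, hσ]

/-- the permutation `(0 2)(1 3)` of `Fin 4` -/
def sw02 : Equiv.Perm (Fin 4) :=
  ⟨![2, 3, 0, 1], ![2, 3, 0, 1], fun i => by fin_cases i <;> rfl, fun i => by fin_cases i <;> rfl⟩

/-- the permutation `(1 2)` of `Fin 4` -/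
def sw12 : Equiv.Perm (Fin 4) :=
  ⟨![0, 2, 1, 3], ![0, 2, 1, 3], fun i => by fin_cases i <;> rfl, fun i => by fin_cases i <;> rfl⟩

/-- the permutation `(1 3 2)` of `Fin 4` -/
def cy132 : Equiv.Perm (Fin 4) :=
  ⟨![0, 3, 1, 2], ![0, 2, 3, 1], fun i => by fin_cases i <;> rfl, fun i => by fin_cases i <;> rfl⟩

theorem comm_a {g b c : G} (hgb : g * b = b * g) (hgc : g * c = c * g) :
    g * (b * c) = (b * c) * g := by
  calc g * (b * c) = (g * b) * c := by group
    _ = (b * g) * c := by rw [hgb]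
    _ = b * (g * c) := by group
    _ = b * (c * g) := by rw [hgc]
    _ = b * c * g := by group

end General

section Arith

theorem arith_main {δ ε ν ν' Θc kK f : ℕ} (hδ : Odd δ) (hε : 0 < ε) (hν : 0 < ν)
    (h1 : δ * (Θc + 2) = ε * (f * f - f)) (h2 : ν * δ = ν' * ε) (h3 : ν' * Θc = kK)
    (h4 : 2 * ν ∣ kK) (hf : f = 2 ∨ f = 3) (hΘ : 0 < Θc) : f = 3 ∧ Θc = 4 ∧ δ = ε := by
  obtain ⟨m, hm⟩ := h4
  have hδ0 : 0 < δ := hδ.pos
  have h5 : δ * Θc = 2 * ε * m := by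
    have : ν * (δ * Θc) = ν * (2 * ε * m) := by
      calc ν * (δ * Θc) = (ν * δ) * Θc := by ring
        _ = (ν' * ε) * Θc := by rw [h2]
        _ = ε * (ν' * Θc) := by ring
        _ = ε * (2 * ν * m) := by rw [h3, hm]
        _ = ν * (2 * ε * m) := by ring
    exact Nat.eq_of_mul_eq_mul_left hν this
  have h6 : 2 * ε * m + 2 * δ = ε * (f * f - f) := by
    rw [← h1, ← h5]; ring
  have hm0 : 0 < m := by
    rcases Nat.eq_zero_or_pos m with rfl | h
    · rw [mul_zero] at h5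
      have := Nat.mul_pos hδ0 hΘ
      omega
    · exact h
  obtain ⟨j, hj⟩ := hδ
  rcases hf with rfl | rfl
  · exfalso
    have e : (2 * 2 - 2 : ℕ) = 2 := by norm_num
    rw [e] at h6
    have : ε * 1 ≤ ε * m := Nat.mul_le_mul_left ε hm0
    nlinarith
  · have e : (3 * 3 - 3 : ℕ) = 6 := by norm_num
    rw [e] at h6
    rcases (show m = 1 ∨ m = 2 ∨ 3 ≤ m by omega) with rfl | rfl | hm3
    · exfalso
      omega
    · have hde : δ = ε := by omega
      refine ⟨rfl, ?_, hde⟩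
      have : δ * Θc = δ * 4 := by rw [h5, hde]; ring
      exact Nat.eq_of_mul_eq_mul_left hδ0 this
    · exfalso
      have : ε * 3 ≤ ε * m := Nat.mul_le_mul_left ε hm3
      nlinarith

end Arith

end Cfsg.Agent.Lib.Helper12.Hall4
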