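import Cfsg.Agent.Lib.Helper12.Hall4E

/-!
# M. Hall's theorem, part F: the centraliser of the four-group and the regular orbits (helper12)
-/

set_option autoImplicit false
set_option linter.unusedSectionVars false
set_option linter.unusedVariables false
set_option linter.style.haveILetI false

namespace Cfsg.Agent.Lib.Helper12.Hall4

open scoped Classical

section FourE

variable {G : Type*} [Group G] {α : Type*} [MulAction G α] [Fintype α]

namespace Four

variable {t : Fin 4 ↪ α} {b c : G} (F : Four t b c)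
include F

/-- `|C(b) ∩ G_t| = |C(c) ∩ G_t|` -/
theorem card_Cst_b (hy : Hyp G α) : Nat.card ↥(Cst b t) = Nat.card ↥(Cst c t) :=
  card_Cst_perm hy F.b2 F.c2 t t ![1, 0, 2, 3] ![0, 1, 3, 2] sw02
    (fun i => by fin_cases i <;> rfl) F.hb F.hc

theorem card_Cst_a_tup (hy : Hyp G α) (θ : α) (hθ : θ ∈ F.Theta) :
    Nat.card ↥(Cst (b * c) (F.tup θ hθ)) = Nat.card ↥(Cst (b * c) t) :=
  card_Cst_eq hy F.a2 F.a2 _ t ![1, 0, 3, 2] (F.tup_a θ hθ) F.ha

theorem card_Cst_b_tup (hy : Hyp G α) (θ : α) (hθ : θ ∈ F.Theta) :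
    Nat.card ↥(Cst b (F.tup θ hθ)) = Nat.card ↥(Cst (b * c) t) :=
  card_Cst_perm hy F.b2 F.a2 _ t ![2, 3, 0, 1] ![1, 0, 3, 2] sw12
    (fun i => by fin_cases i <;> rfl) (F.tup_b θ hθ) F.ha

theorem card_Cst_c_tup (hy : Hyp G α) (θ : α) (hθ : θ ∈ F.Theta) :
    Nat.card ↥(Cst c (F.tup θ hθ)) = Nat.card ↥(Cst (b * c) t) :=
  card_Cst_perm hy F.c2 F.a2 _ t ![3, 2, 1, 0] ![1, 0, 3, 2] cy132
    (fun i => by fin_cases i <;> rfl) (F.tup_c θ hθ) F.ha

/-- the counting relation `δ |T1| = ε |T2|` -/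
theorem count_rel [FaithfulSMul G α] (hy : Hyp G α) (hn : 6 ≤ Fintype.card α) :
    Nat.card ↥(Cst (b * c) t) * (T1 (b * c) : Finset (α × α)).card =
      Nat.card ↥(Cst c t) * (T2 (b * c) : Finset ((α × α) × α)).card := by
  rw [count1 hy F.a2 t F.ha]
  have hf : 1 < (Fx (b * c) : Finset α).card := by
    rw [card_Fx_eq hy hn F.a2 F.a_ne_one F.c2 F.c_ne_one]
    exact F.card_Fx_c_ge
  obtain ⟨p, hp, q, hq, hpq⟩ := Finset.one_lt_card.mp hf
  have hx : (b * c) • t 0 ≠ t 0 := by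
    rw [F.ha]
    exact t_ne (by decide)
  have hpat := mkE_pattern (b * c) F.a2 p q (t 0) (mem_Fx.mp hp) (mem_Fx.mp hq) hpq hx
  rw [← count2 hy F.a2 _ hpat]
  congr 1
  exact card_Cst_eq hy F.a2 F.c2 _ t ![0, 1, 3, 2] hpat F.hc

/-- the counting relation, simplified -/
theorem count_rel' [FaithfulSMul G α] (hy : Hyp G α) (hn : 6 ≤ Fintype.card α) :
    Nat.card ↥(Cst (b * c) t) * (F.Theta.card + 2) =
      Nat.card ↥(Cst c t) * ((Fx c : Finset α).card * (Fx c : Finset α).card -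
        (Fx c : Finset α).card) := by
  have hb3 : (Fx b : Finset α).card ≤ 3 := card_Fx_le_three hy F.b2 F.b_ne_one
  have hc3 : (Fx c : Finset α).card ≤ 3 := card_Fx_le_three hy F.c2 F.c_ne_one
  have hs : (Sp (b * c) : Finset α).card = F.Theta.card + 4 := (F.card_Theta hb3 hc3).symm
  have hfa : (Fx (b * c) : Finset α).card = (Fx c : Finset α).card :=
    card_Fx_eq hy hn F.a2 F.a_ne_one F.c2 F.c_ne_one
  have h1 := card_T1 (α := α) F.a2
  have h2 := card_T2 (α := α) (b * c)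
  have h3 := F.count_rel hy hn
  rw [hs] at h1 h2
  rw [hfa] at h2
  generalize (T1 (b * c) : Finset (α × α)).card = T1c at h1 h3
  generalize (T2 (b * c) : Finset ((α × α) × α)).card = T2c at h2 h3
  generalize F.Theta.card = Θc at h1 h2 ⊢
  generalize (Fx c : Finset α).card * (Fx c : Finset α).card - (Fx c : Finset α).card = cf at h2 ⊢
  generalize Nat.card ↥(Cst (b * c) t) = δ at h3 ⊢
  generalize Nat.card ↥(Cst c t) = ε at h3 ⊢
  have hT1 : T1c = (Θc + 4) * (Θc + 2) := by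
    have e : (Θc + 4) * (Θc + 4) = (Θc + 4) * (Θc + 2) + (Θc + 4) + (Θc + 4) := by ring
    rw [e] at h1
    omega
  rw [hT1, h2] at h3
  have : (Θc + 4) * (δ * (Θc + 2)) = (Θc + 4) * (ε * cf) := by
    calc (Θc + 4) * (δ * (Θc + 2)) = δ * ((Θc + 4) * (Θc + 2)) := by ring
      _ = ε * (cf * (Θc + 4)) := h3
      _ = (Θc + 4) * (ε * cf) := by ring
  exact Nat.eq_of_mul_eq_mul_left (by omega) this

/-- the centraliser of the four-group -/
def K (F : Four t b c) : Subgroup G := Subgroup.centralizer {b} ⊓ Subgroup.centralizer {c}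

theorem mem_K {g : G} : g ∈ F.K ↔ g * b = b * g ∧ g * c = c * g := by
  rw [K, Subgroup.mem_inf, Subgroup.mem_centralizer_singleton_iff,
    Subgroup.mem_centralizer_singleton_iff]

theorem smul_mem_Theta {g : G} (hg : g ∈ F.K) {θ : α} (hθ : θ ∈ F.Theta) : g • θ ∈ F.Theta := by
  obtain ⟨hgb, hgc⟩ := F.mem_K.mp hg
  have hga := comm_a hgb hgc
  obtain ⟨h1, h2, h3⟩ := F.mem_Theta.mp hθ
  rw [F.mem_Theta]
  refine ⟨?_, ?_, ?_⟩
  · rw [← comm_smul hga]
    exact fun h => h1 (smul_left_cancel g h)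
  · rw [← comm_smul hgb]
    exact fun h => h2 (smul_left_cancel g h)
  · rw [← comm_smul hgc]
    exact fun h => h3 (smul_left_cancel g h)

theorem K_inf_stab (θ : α) (hθ : θ ∈ F.Theta) :
    F.K ⊓ MulAction.stabilizer G θ =
      MulAction.stabilizer G (F.tup θ hθ) ⊓ Subgroup.centralizer {b} ⊓
        Subgroup.centralizer {c} := by
  ext g
  rw [Subgroup.mem_inf, F.mem_K, MulAction.mem_stabilizer_iff, Subgroup.mem_inf, Subgroup.mem_inf,
    mem_stab4, Subgroup.mem_centralizer_singleton_iff, Subgroup.mem_centralizer_singleton_iff]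
  constructor
  · rintro ⟨⟨hgb, hgc⟩, hθ'⟩
    have hga := comm_a hgb hgc
    refine ⟨⟨fun i => ?_, hgb⟩, hgc⟩
    fin_cases i
    · exact hθ'
    · show g • (b * c) • θ = (b * c) • θ
      rw [comm_smul hga, hθ']
    · show g • b • θ = b • θ
      rw [comm_smul hgb, hθ']
    · show g • c • θ = c • θ
      rw [comm_smul hgc, hθ']
  · rintro ⟨⟨h, hgb⟩, hgc⟩
    exact ⟨⟨hgb, hgc⟩, h 0⟩

theorem orbit_K (hy : Hyp G α) (θ : α) (hθ : θ ∈ F.Theta) :
    {q : α | ∃ k ∈ F.K, k • θ = q} = ↑F.Theta := by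
  ext q
  simp only [Set.mem_ofPred_eq, Finset.mem_coe]
  constructor
  · rintro ⟨k, hk, rfl⟩
    exact F.smul_mem_Theta hk hθ
  · intro hq
    obtain ⟨g, hgb, hgc, hgt⟩ := exists_conj_pair hy F.b2 F.c2 F.comm (F.tup θ hθ) (F.tup q hq)
      _ _ (F.tup_b θ hθ) (F.tup_b q hq) (F.tup_c θ hθ) (F.tup_c q hq)
    exact ⟨g, F.mem_K.mpr ⟨hgb, hgc⟩, hgt 0⟩

theorem card_K (hy : Hyp G α) (θ : α) (hθ : θ ∈ F.Theta) :
    Nat.card ↥(MulAction.stabilizer G (F.tup θ hθ) ⊓ Subgroup.centralizer {b} ⊓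
      Subgroup.centralizer {c}) * F.Theta.card = Nat.card ↥F.K := by
  have := card_inf_stabilizer_mul_ncard_orbit F.K θ
  rw [F.K_inf_stab θ hθ, F.orbit_K hy θ hθ, Set.ncard_coe_finset] at this
  exact this

theorem CV_le_K : MulAction.stabilizer G t ⊓ Subgroup.centralizer {b} ⊓
    Subgroup.centralizer {c} ≤ F.K := by
  rw [inf_assoc]
  exact inf_le_right

theorem CV_le_stab (t' : Fin 4 ↪ α) : MulAction.stabilizer G t' ⊓ Subgroup.centralizer {b} ⊓
    Subgroup.centralizer {c} ≤ MulAction.stabilizer G t' := by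
  rw [inf_assoc]
  exact inf_le_left

theorem two_nu_dvd [Finite G] (hy : Hyp G α) :
    2 * Nat.card ↥(MulAction.stabilizer G t ⊓ Subgroup.centralizer {b} ⊓
      Subgroup.centralizer {c}) ∣ Nat.card ↥F.K := by
  have hodd : Odd (Nat.card ↥(MulAction.stabilizer G t ⊓ Subgroup.centralizer {b} ⊓
      Subgroup.centralizer {c})) :=
    Odd.of_dvd_nat (hy.odd t) (Subgroup.card_dvd_of_le (F.CV_le_stab t))
  have hb : b ∈ F.K := F.mem_K.mpr ⟨rfl, F.comm⟩
  have hob : orderOf b = 2 := orderOf_eq_prime (by rw [pow_two]; exact F.b2) F.b_ne_one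
  have h2' : 2 ∣ Nat.card ↥F.K := by
    rw [← hob]
    exact Subgroup.orderOf_dvd_natCard _ hb
  exact Nat.Coprime.mul_dvd_of_dvd_of_dvd (Nat.coprime_two_left.mpr hodd) h2'
    (Subgroup.card_dvd_of_le F.CV_le_K)

end Four

end FourE

end Cfsg.Agent.Lib.Helper12.Hall4
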