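import Cfsg.Agent.Lib.Helper12.Hall4F

/-!
# M. Hall's theorem, part G: elements of odd order centralising the four-group; the core result
(helper12)
-/

set_option autoImplicit false
set_option linter.unusedSectionVars false
set_option linter.unusedVariables false
set_option linter.style.haveILetI false

namespace Cfsg.Agent.Lib.Helper12.Hall4

open scoped Classical

section FourG

variable {G : Type*} [Group G] {α : Type*} [MulAction G α] [Fintype α]

namespace Four

variable {t : Fin 4 ↪ α} {b c : G} (F : Four t b c)
include F

theorem card_W : (((Fx c : Finset α).erase (t 0)).erase (t 1)).card + 2 =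
    (Fx c : Finset α).card := by
  rw [Finset.card_erase_of_mem (Finset.mem_erase.mpr ⟨t_ne (by decide), mem_Fx.mpr F.c1⟩),
    Finset.card_erase_of_mem (mem_Fx.mpr F.c0)]
  have := F.card_Fx_c_ge
  omega

/-- an element of odd order centralising the four-group fixes every point fixed by an involution
of the four-group -/
theorem fix_of_odd [FaithfulSMul G α] (hy : Hyp G α) (hn : 6 ≤ Fintype.card α) {g : G}
    (hg : g ∈ F.K) (hodd : Odd (orderOf g)) {x : α}
    (hx : (b * c) • x = x ∨ b • x = x ∨ c • x = x) : g • x = x := by
  obtain ⟨hgb, hgc⟩ := F.mem_K.mp hg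
  have hga := comm_a hgb hgc
  have hb3 : (Fx b : Finset α).card ≤ 3 := card_Fx_le_three hy F.b2 F.b_ne_one
  have hc3 : (Fx c : Finset α).card ≤ 3 := card_Fx_le_three hy F.c2 F.c_ne_one
  have hfa : (Fx (b * c) : Finset α).card = (Fx c : Finset α).card :=
    card_Fx_eq hy hn F.a2 F.a_ne_one F.c2 F.c_ne_one
  have hW := F.card_W
  have inv_iff : ∀ {z : G}, g * z = z * g → ∀ y : α, z • g • y = g • y ↔ z • y = y := by
    intro z hz y
    rw [← comm_smul hz]
    exact ⟨fun h => smul_left_cancel g h, fun h => by rw [h]⟩
  have A1 : ∀ y : α, c • y = y → b • y ≠ y → g • y = y := by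
    intro y h1 h2
    apply odd_fix_of_card_le_two hodd ((Fx c : Finset α).filter (fun y => b • y ≠ y))
    · calc ((Fx c : Finset α).filter (fun y => b • y ≠ y)).card
          ≤ ({t 0, t 1} : Finset α).card := by
            apply Finset.card_le_card
            intro w hw
            rw [Finset.mem_filter, mem_Fx] at hw
            rw [Finset.mem_insert, Finset.mem_singleton]
            by_contra hcon
            push Not at hcon
            exact hw.2 (F.fix_c_sub hc3 hw.1 hcon.1 hcon.2)
        _ ≤ 2 := Finset.card_le_two
    · intro w hw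
      rw [Finset.mem_filter, mem_Fx] at hw ⊢
      exact ⟨(inv_iff hgc w).mpr hw.1, fun h => hw.2 ((inv_iff hgb w).mp h)⟩
    · rw [Finset.mem_filter, mem_Fx]
      exact ⟨h1, h2⟩
  have A2 : ∀ y : α, b • y = y → c • y ≠ y → g • y = y := by
    intro y h1 h2
    apply odd_fix_of_card_le_two hodd ((Fx b : Finset α).filter (fun y => c • y ≠ y))
    · calc ((Fx b : Finset α).filter (fun y => c • y ≠ y)).card
          ≤ ({t 2, t 3} : Finset α).card := by
            apply Finset.card_le_card
            intro w hw
            rw [Finset.mem_filter, mem_Fx] at hw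
            rw [Finset.mem_insert, Finset.mem_singleton]
            by_contra hcon
            push Not at hcon
            exact hw.2 (F.fix_b_sub hb3 hw.1 hcon.1 hcon.2)
        _ ≤ 2 := Finset.card_le_two
    · intro w hw
      rw [Finset.mem_filter, mem_Fx] at hw ⊢
      exact ⟨(inv_iff hgb w).mpr hw.1, fun h => hw.2 ((inv_iff hgc w).mp h)⟩
    · rw [Finset.mem_filter, mem_Fx]
      exact ⟨h1, h2⟩
  have A3 : ∀ y : α, c • y = y → b • y = y → g • y = y := by
    intro y h1 h2
    apply odd_fix_of_card_le_two hodd ((Fx c : Finset α).filter (fun y => b • y = y))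
    · calc ((Fx c : Finset α).filter (fun y => b • y = y)).card
          ≤ (((Fx c : Finset α).erase (t 0)).erase (t 1)).card := by
            apply Finset.card_le_card
            intro w hw
            rw [Finset.mem_filter] at hw
            rw [Finset.mem_erase, Finset.mem_erase]
            refine ⟨?_, ?_, hw.1⟩
            · rintro rfl
              have := hw.2
              rw [F.b1] at this
              exact t_ne (by decide) this
            · rintro rfl
              have := hw.2
              rw [F.b0] at this
              exact t_ne (by decide) this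
        _ ≤ 2 := by omega
    · intro w hw
      rw [Finset.mem_filter, mem_Fx] at hw ⊢
      exact ⟨(inv_iff hgc w).mpr hw.1, (inv_iff hgb w).mpr hw.2⟩
    · rw [Finset.mem_filter, mem_Fx]
      exact ⟨h1, h2⟩
  have Hc : ∀ y : α, c • y = y → g • y = y := by
    intro y h
    by_cases hb : b • y = y
    · exact A3 y h hb
    · exact A1 y h hb
  have Hb : ∀ y : α, b • y = y → g • y = y := by
    intro y h
    by_cases hc : c • y = y
    · exact Hc y hc
    · exact A2 y h hc
  have A4 : ∀ y : α, (b * c) • y = y → b • y ≠ y → g • y = y := by
    intro y h1 h2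
    apply odd_fix_of_card_le_two hodd ((Fx (b * c) : Finset α).filter (fun y => b • y ≠ y))
    · have hWsub : ((Fx c : Finset α).erase (t 0)).erase (t 1) ⊆ Fx (b * c) := by
        intro w hw
        rw [Finset.mem_erase, Finset.mem_erase, mem_Fx] at hw
        rw [mem_Fx, F.a_smul, hw.2.2, F.fix_c_sub hc3 hw.2.2 hw.2.1 hw.1]
      calc ((Fx (b * c) : Finset α).filter (fun y => b • y ≠ y)).card
          ≤ ((Fx (b * c) : Finset α) \ (((Fx c : Finset α).erase (t 0)).erase (t 1))).card := by
            apply Finset.card_le_card
            intro w hw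
            rw [Finset.mem_filter] at hw
            rw [Finset.mem_sdiff]
            refine ⟨hw.1, fun hw' => ?_⟩
            rw [Finset.mem_erase, Finset.mem_erase, mem_Fx] at hw'
            exact hw.2 (F.fix_c_sub hc3 hw'.2.2 hw'.2.1 hw'.1)
        _ ≤ 2 := by
            rw [Finset.card_sdiff_of_subset hWsub]
            omega
    · intro w hw
      rw [Finset.mem_filter, mem_Fx] at hw ⊢
      exact ⟨(inv_iff hga w).mpr hw.1, fun h => hw.2 ((inv_iff hgb w).mp h)⟩
    · rw [Finset.mem_filter, mem_Fx]
      exact ⟨h1, h2⟩
  rcases hx with h | h | h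
  · by_cases hb : b • x = x
    · exact Hb x hb
    · exact A4 x h hb
  · exact Hb x h
  · exact Hc x h

end Four

end FourG

end Cfsg.Agent.Lib.Helper12.Hall4
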