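import Cfsg.Agent.Lib.Helper12.Hall4G

/-!
# M. Hall's theorem, part H: the core result (helper12)

For a faithful 4-transitive group of degree at least 6 whose 4-point stabilisers have odd order `h`:
the degree is 6, or 7 (and `3 ∣ h`), or 11 (and `h` is an odd cube).
-/

set_option autoImplicit false
set_option linter.unusedSectionVars false
set_option linter.unusedVariables false
set_option linter.style.haveILetI false

namespace Cfsg.Agent.Lib.Helper12.Hall4

open scoped Classical

section FourH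

variable {G : Type*} [Group G] {α : Type*} [MulAction G α] [Fintype α]

namespace Four

variable {t : Fin 4 ↪ α} {b c : G} (F : Four t b c)
include F

/-- `ν δ = ν' ε` -/
theorem nu_rel [Finite G] (hy : Hyp G α) (θ : α) (hθ : θ ∈ F.Theta) :
    Nat.card ↥(MulAction.stabilizer G t ⊓ Subgroup.centralizer {b} ⊓ Subgroup.centralizer {c}) *
      Nat.card ↥(Cst (b * c) t) =
    Nat.card ↥(MulAction.stabilizer G (F.tup θ hθ) ⊓ Subgroup.centralizer {b} ⊓
      Subgroup.centralizer {c}) * Nat.card ↥(Cst c t) := by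
  have h1 := bw_tuple hy F.b2 F.c2 F.comm t _ _ F.hb F.hc
  have h2 := bw_tuple hy F.b2 F.c2 F.comm (F.tup θ hθ) _ _ (F.tup_b θ hθ) (F.tup_c θ hθ)
  rw [F.card_Cst_b hy] at h1
  rw [F.card_Cst_b_tup hy, F.card_Cst_c_tup hy, F.card_Cst_a_tup hy,
    card_stab_eq hy (F.tup θ hθ) t] at h2
  have hh : 0 < Nat.card ↥(MulAction.stabilizer G t) := Nat.card_pos
  generalize Nat.card ↥(MulAction.stabilizer G t) = h at h1 h2 hh
  generalize Nat.card ↥(MulAction.stabilizer G t ⊓ Subgroup.centralizer {b} ⊓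
    Subgroup.centralizer {c}) = ν at h1 ⊢
  generalize Nat.card ↥(MulAction.stabilizer G (F.tup θ hθ) ⊓ Subgroup.centralizer {b} ⊓
    Subgroup.centralizer {c}) = ν' at h2 ⊢
  generalize Nat.card ↥(Cst (b * c) t) = δ at h1 h2 ⊢
  generalize Nat.card ↥(Cst c t) = ε at h1 ⊢
  have key : h * (ν * δ) ^ 2 = h * (ν' * ε) ^ 2 := by
    calc h * (ν * δ) ^ 2 = (h * ν ^ 2) * δ ^ 2 := by ring
      _ = (ε * ε * δ) * δ ^ 2 := by rw [h1]
      _ = (δ * δ * δ) * ε ^ 2 := by ring
      _ = (h * ν' ^ 2) * ε ^ 2 := by rw [h2]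
      _ = h * (ν' * ε) ^ 2 := by ring
  have key2 := Nat.eq_of_mul_eq_mul_left hh key
  exact Nat.pow_left_injective (by norm_num : (2 : ℕ) ≠ 0) key2

/-- the centraliser of the four-group in the stabiliser of `t` is trivial as soon as it has the same
order as in the stabilisers of the regular orbits -/
theorem CV_eq_one [Finite G] [FaithfulSMul G α] (hy : Hyp G α) (hn : 6 ≤ Fintype.card α)
    (hcard : ∀ θ (hθ : θ ∈ F.Theta),
      Nat.card ↥(MulAction.stabilizer G (F.tup θ hθ) ⊓ Subgroup.centralizer {b} ⊓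
        Subgroup.centralizer {c}) =
      Nat.card ↥(MulAction.stabilizer G t ⊓ Subgroup.centralizer {b} ⊓
        Subgroup.centralizer {c})) :
    Nat.card ↥(MulAction.stabilizer G t ⊓ Subgroup.centralizer {b} ⊓
      Subgroup.centralizer {c}) = 1 := by
  have hoddel : ∀ (t' : Fin 4 ↪ α) (g : G), g ∈ MulAction.stabilizer G t' → Odd (orderOf g) :=
    fun t' g hg => Odd.of_dvd_nat (hy.odd t') (Subgroup.orderOf_dvd_natCard _ hg)
  have hK : ∀ (t' : Fin 4 ↪ α) (g : G), g ∈ MulAction.stabilizer G t' ⊓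
      Subgroup.centralizer {b} ⊓ Subgroup.centralizer {c} → g ∈ F.K := by
    intro t' g hg
    rw [inf_assoc] at hg
    exact (Subgroup.mem_inf.mp hg).2
  have hall : ∀ g ∈ MulAction.stabilizer G t ⊓ Subgroup.centralizer {b} ⊓
      Subgroup.centralizer {c}, ∀ x : α, g • x = x := by
    intro g hg x
    by_cases hx : x ∈ F.Theta
    · have hle : MulAction.stabilizer G (F.tup x hx) ⊓ Subgroup.centralizer {b} ⊓
          Subgroup.centralizer {c} ≤ MulAction.stabilizer G t ⊓ Subgroup.centralizer {b} ⊓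
          Subgroup.centralizer {c} := by
        intro k hk
        have hkK := hK _ k hk
        have hkodd := hoddel _ k (F.CV_le_stab _ hk)
        have hkt : k ∈ MulAction.stabilizer G t := by
          rw [mem_stab4]
          intro i
          apply F.fix_of_odd hy hn hkK hkodd
          fin_cases i
          · exact Or.inr (Or.inr F.c0)
          · exact Or.inr (Or.inr F.c1)
          · exact Or.inr (Or.inl F.b2')
          · exact Or.inr (Or.inl F.b3)
        obtain ⟨hkb, hkc⟩ := F.mem_K.mp hkK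
        refine Subgroup.mem_inf.mpr ⟨Subgroup.mem_inf.mpr ⟨hkt, ?_⟩, ?_⟩
        · exact Subgroup.mem_centralizer_singleton_iff.mpr hkb
        · exact Subgroup.mem_centralizer_singleton_iff.mpr hkc
      have heq := Subgroup.eq_of_le_of_card_ge hle (le_of_eq (hcard x hx).symm)
      rw [← heq] at hg
      exact mem_stab4.mp (F.CV_le_stab _ hg) 0
    · apply F.fix_of_odd hy hn (hK _ g hg) (hoddel _ g (F.CV_le_stab _ hg))
      rw [F.mem_Theta] at hx
      by_contra hcon
      push Not at hcon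
      exact hx ⟨hcon.1, hcon.2.1, hcon.2.2⟩
  have hbot : MulAction.stabilizer G t ⊓ Subgroup.centralizer {b} ⊓
      Subgroup.centralizer {c} = ⊥ := by
    rw [eq_bot_iff]
    intro g hg
    rw [Subgroup.mem_bot]
    exact FaithfulSMul.eq_of_smul_eq_smul (α := α) (fun x => by rw [hall g hg x, one_smul])
  rw [hbot]
  exact Subgroup.card_bot

/-- **Core result.** -/
theorem core [Finite G] [FaithfulSMul G α] (hy : Hyp G α) (hn : 6 ≤ Fintype.card α) :
    Fintype.card α = 6 ∨
      (Fintype.card α = 7 ∧ 3 ∣ Nat.card ↥(MulAction.stabilizer G t)) ∨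
      (Fintype.card α = 11 ∧ ∃ δ : ℕ, Odd δ ∧ Nat.card ↥(MulAction.stabilizer G t) = δ ^ 3) := by
  have hb3 : (Fx b : Finset α).card ≤ 3 := card_Fx_le_three hy F.b2 F.b_ne_one
  have hc3 : (Fx c : Finset α).card ≤ 3 := card_Fx_le_three hy F.c2 F.c_ne_one
  have hf2 := F.card_Fx_c_ge
  have hfa : (Fx (b * c) : Finset α).card = (Fx c : Finset α).card :=
    card_Fx_eq hy hn F.a2 F.a_ne_one F.c2 F.c_ne_one
  have hsum := card_Fx_add_card_Sp (α := α) (b * c)
  have hΘ := F.card_Theta hb3 hc3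
  have hrel := F.count_rel' hy hn
  have hδdvd : Nat.card ↥(Cst (b * c) t) ∣ Nat.card ↥(MulAction.stabilizer G t) :=
    Subgroup.card_dvd_of_le inf_le_right
  have hδodd : Odd (Nat.card ↥(Cst (b * c) t)) := Odd.of_dvd_nat (hy.odd t) hδdvd
  have hεpos : 0 < Nat.card ↥(Cst c t) := Nat.card_pos
  have hνpos : 0 < Nat.card ↥(MulAction.stabilizer G t ⊓ Subgroup.centralizer {b} ⊓
      Subgroup.centralizer {c}) := Nat.card_pos
  rw [hfa] at hsum
  have hf : (Fx c : Finset α).card = 2 ∨ (Fx c : Finset α).card = 3 := by omega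
  rcases Finset.eq_empty_or_nonempty F.Theta with hemp | ⟨θ, hθ⟩
  · -- no regular orbits
    rw [hemp, Finset.card_empty] at hΘ hrel
    rcases hf with hf | hf
    · left
      omega
    · right; left
      refine ⟨by omega, ?_⟩
      rw [hf] at hrel
      have : Nat.card ↥(Cst (b * c) t) = 3 * Nat.card ↥(Cst c t) := by omega
      exact Dvd.dvd.trans ⟨_, this⟩ hδdvd
  · right; right
    have hΘpos : 0 < F.Theta.card := Finset.card_pos.mpr ⟨θ, hθ⟩
    obtain ⟨hf3, hΘ4, hδε⟩ := arith_main hδodd hεpos hνpos hrel (F.nu_rel hy θ hθ)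
      (F.card_K hy θ hθ) (F.two_nu_dvd hy) hf hΘpos
    refine ⟨by omega, Nat.card ↥(Cst (b * c) t), hδodd, ?_⟩
    have hν1 : Nat.card ↥(MulAction.stabilizer G t ⊓ Subgroup.centralizer {b} ⊓
        Subgroup.centralizer {c}) = 1 := by
      apply F.CV_eq_one hy hn
      intro θ' hθ'
      have := F.nu_rel hy θ' hθ'
      rw [hδε] at this
      exact (Nat.eq_of_mul_eq_mul_right hεpos this).symm
    have h1 := bw_tuple hy F.b2 F.c2 F.comm t _ _ F.hb F.hc
    rw [F.card_Cst_b hy, hν1, ← hδε] at h1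
    rw [one_pow, mul_one] at h1
    rw [h1]
    ring

end Four

end FourH

end Cfsg.Agent.Lib.Helper12.Hall4
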