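import Cfsg.Agent.Lib.Helper12.Hall4H

/-!
# M. Hall's theorem, part I: permutation-group form (helper12)

A 4-transitive permutation group in which the stabiliser of four points has odd order is
`S_4`, `S_5`, `A_6`, `A_7`, or has degree 11 and order 7920.
-/

set_option autoImplicit false
set_option linter.unusedSectionVars false
set_option linter.unusedVariables false
set_option linter.style.haveILetI false

namespace Cfsg.Agent.Lib.Helper12.Hall4

theorem eq_one_of_odd_cube_dvd {δ : ℕ} (hδ : Odd δ) (h : δ ^ 3 ∣ 5040) : δ = 1 := by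
  have hle : δ ^ 3 ≤ 5040 := Nat.le_of_dvd (by norm_num) h
  have hδ17 : δ ≤ 17 := by
    by_contra hcon
    push Not at hcon
    have : 18 ^ 3 ≤ δ ^ 3 := Nat.pow_le_pow_left hcon 3
    omega
  obtain ⟨j, hj⟩ := hδ
  interval_cases δ <;> first | rfl | omega

theorem card_group_eq {G : Type*} [Group G] {α : Type*} [MulAction G α] [Fintype α]
    (hy : Hyp G α) (t : Fin 4 ↪ α) :
    Nat.card G = (Fintype.card α).descFactorial 4 * Nat.card (MulAction.stabilizer G t) := by
  have h1 := Subgroup.card_mul_index (MulAction.stabilizer G t)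
  have horb : MulAction.orbit G t = Set.univ := by
    ext t'
    simp only [Set.mem_univ, iff_true]
    obtain ⟨g, hg⟩ := hy.trans t t'
    refine ⟨g, ?_⟩
    ext i
    show (g • t) i = t' i
    rw [Function.Embedding.smul_apply, hg]
  have e : Nat.card (Fin 4 ↪ α) = (Fintype.card α).descFactorial 4 := by
    rw [Nat.card_eq_fintype_card, Fintype.card_embedding_eq, Fintype.card_fin]
  rw [MulAction.index_stabilizer, horb, Set.ncard_univ, e] at h1
  rw [← h1, mul_comm]

/-- abstract form: the degree and the order -/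
theorem hall_abstract {G : Type*} [Group G] {α : Type*} [MulAction G α] [Fintype α] [Finite G]
    [FaithfulSMul G α] (hy : Hyp G α) (x : Fin 4 ↪ α)
    (hdvd : Nat.card G ∣ (Fintype.card α).factorial) :
    (Fintype.card α = 4 ∧ Nat.card G = 24) ∨ (Fintype.card α = 5 ∧ Nat.card G = 120) ∨
      (Fintype.card α = 6 ∧ Nat.card G = 360) ∨ (Fintype.card α = 7 ∧ Nat.card G = 2520) ∨
      (Fintype.card α = 11 ∧ Nat.card G = 7920) := by
  have h4 : 4 ≤ Fintype.card α := by
    have := Fintype.card_le_of_embedding x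
    rwa [Fintype.card_fin] at this
  have hcard := card_group_eq hy x
  have hh : Nat.card (MulAction.stabilizer G x) ∣ (Fintype.card α - 4).factorial := by
    rw [hcard, ← Nat.factorial_mul_descFactorial h4, mul_comm] at hdvd
    refine Nat.dvd_of_mul_dvd_mul_right (Nat.pos_of_ne_zero (fun h => ?_)) hdvd
    rw [Nat.descFactorial_eq_zero_iff_lt] at h
    omega
  obtain ⟨b, c, hb2, hc2, hbc, hb, hc⟩ := exists_four hy x
  have F : Four x b c := ⟨hb2, hc2, hbc, hb, hc⟩
  have hcore := fun hn => F.core hy hn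
  have hodd := hy.odd x
  obtain ⟨j, hj⟩ := hodd
  generalize Nat.card (MulAction.stabilizer G x) = h at *
  by_cases hn4 : Fintype.card α = 4
  · left
    refine ⟨hn4, ?_⟩
    rw [hn4] at hh hcard
    have h1 : h = 1 := by
      have : h ∣ 1 := hh
      exact Nat.dvd_one.mp this
    rw [hcard, h1]
    rfl
  by_cases hn5 : Fintype.card α = 5
  · right; left
    refine ⟨hn5, ?_⟩
    rw [hn5] at hh hcard
    have h1 : h = 1 := by
      have : h ∣ 1 := hh
      exact Nat.dvd_one.mp this
    rw [hcard, h1]
    rfl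
  have hn : 6 ≤ Fintype.card α := by omega
  rcases hcore hn with h6 | ⟨h7, h3⟩ | ⟨h11, δ, hδ, hδ3⟩
  · right; right; left
    refine ⟨h6, ?_⟩
    rw [h6] at hh hcard
    have hle : h ≤ 2 := Nat.le_of_dvd (by norm_num) hh
    have h1 : h = 1 := by omega
    rw [hcard, h1]
    rfl
  · right; right; right; left
    refine ⟨h7, ?_⟩
    rw [h7] at hh hcard
    have hle : h ≤ 6 := Nat.le_of_dvd (by norm_num) hh
    have h1 : h = 3 := by omega
    rw [hcard, h1]
    rfl
  · right; right; right; right
    refine ⟨h11, ?_⟩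
    rw [h11] at hh hcard
    have hd : δ ^ 3 ∣ 5040 := by
      rw [← hδ3]
      exact hh
    have := eq_one_of_odd_cube_dvd hδ hd
    rw [hcard, hδ3, this]
    rfl

theorem hall_perm {α : Type*} [Fintype α] [DecidableEq α] (G : Subgroup (Equiv.Perm α))
    (hG : MulAction.IsMultiplyPretransitive G α 4) (x : Fin 4 ↪ α)
    (hodd : Odd (Nat.card (MulAction.stabilizer G x))) :
    ((Fintype.card α = 4 ∨ Fintype.card α = 5) ∧ G = ⊤) ∨
      ((Fintype.card α = 6 ∨ Fintype.card α = 7) ∧ G = alternatingGroup α) ∨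
      (Fintype.card α = 11 ∧ Nat.card G = 7920) := by
  have hy : Hyp G α := hyp_of hG x hodd
  have hperm : Nat.card (Equiv.Perm α) = (Fintype.card α).factorial := by
    rw [Nat.card_eq_fintype_card, Fintype.card_perm]
  have hdvd : Nat.card G ∣ (Fintype.card α).factorial := by
    rw [← hperm]
    exact Subgroup.card_subgroup_dvd_card G
  have hidx := Subgroup.index_mul_card G
  rw [hperm] at hidx
  have htop : Nat.card G = (Fintype.card α).factorial → G = ⊤ := by
    intro h
    rw [← hperm] at h
    exact (Subgroup.card_eq_iff_eq_top G).mp h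
  have halt : 2 * Nat.card G = (Fintype.card α).factorial → G = alternatingGroup α := by
    intro h
    apply Equiv.Perm.eq_alternatingGroup_of_index_eq_two
    have hpos : 0 < Nat.card G := Nat.card_pos
    rw [← h] at hidx
    exact Nat.eq_of_mul_eq_mul_right hpos hidx
  rcases hall_abstract hy x hdvd with ⟨h1, h2⟩ | ⟨h1, h2⟩ | ⟨h1, h2⟩ | ⟨h1, h2⟩ | ⟨h1, h2⟩
  · left
    refine ⟨Or.inl h1, htop ?_⟩
    rw [h1, h2]
    rfl
  · left
    refine ⟨Or.inr h1, htop ?_⟩
    rw [h1, h2]
    rfl
  · right; left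
    refine ⟨Or.inl h1, halt ?_⟩
    rw [h1, h2]
    rfl
  · right; left
    refine ⟨Or.inr h1, halt ?_⟩
    rw [h1, h2]
    rfl
  · right; right
    exact ⟨h1, h2⟩

end Cfsg.Agent.Lib.Helper12.Hall4
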