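import Mathlib
import Cfsg.Agent.Lib.Helper12.HallSymPrimAlt

/-!
# Hall subgroups of symmetric/alternating groups: the geometric description (helper12)
-/

set_option autoImplicit false
set_option linter.style.haveILetI false
set_option linter.unusedSectionVars false

namespace Cfsg.Agent.Lib.Helper12.HallSym

open Equiv Equiv.Perm Nat
open Cfsg.Agent.Lib.Helper12.HallSymArith

universe u

section General

variable {G : Type*} [Group G]

theorem mem_map_conj {K : Subgroup G} {g x : G} :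
    x ∈ K.map (MulAut.conj g).toMonoidHom ↔ g⁻¹ * x * g ∈ K := by
  rw [Subgroup.mem_map_equiv, MulAut.conj_symm_apply]

theorem map_conj_of_mem {K : Subgroup G} {y : G} (hy : y ∈ K) :
    K.map (MulAut.conj y).toMonoidHom = K := by
  ext x
  rw [mem_map_conj]
  constructor
  · intro h
    have := K.mul_mem (K.mul_mem hy h) (K.inv_mem hy)
    simpa [mul_assoc] using this
  · intro h
    exact K.mul_mem (K.mul_mem (K.inv_mem hy) h) hy

theorem map_conj_mul (K : Subgroup G) (a b : G) :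
    K.map (MulAut.conj (a * b)).toMonoidHom =
      (K.map (MulAut.conj b).toMonoidHom).map (MulAut.conj a).toMonoidHom := by
  ext x
  rw [mem_map_conj, mem_map_conj, mem_map_conj]
  simp [mul_assoc]

theorem map_conj_normal (N : Subgroup G) [hN : N.Normal] (g : G) :
    N.map (MulAut.conj g).toMonoidHom = N := by
  ext x
  rw [mem_map_conj]
  constructor
  · intro h
    have := hN.conj_mem _ h g
    simpa [mul_assoc] using this
  · intro h
    have := hN.conj_mem _ h g⁻¹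
    simpa [mul_assoc] using this

variable [Finite G]

theorem relIndex_dvd_index_right (Y N : Subgroup G) [N.Normal] : Y.relIndex N ∣ Y.index := by
  have h1 : Y.relIndex (Y ⊔ N) ∣ Y.index := Subgroup.relIndex_dvd_index_of_le le_sup_left
  have h2 : Y.relIndex (Y ⊔ N) = Y.relIndex N := by
    have e1 := card_eq_card_mul_relIndex (inf_le_left : Y ⊓ N ≤ Y)
    have e2 := card_eq_card_mul_relIndex (inf_le_right : Y ⊓ N ≤ N)
    have e3 := card_eq_card_mul_relIndex (le_sup_right : N ≤ Y ⊔ N)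
    have e4 := card_eq_card_mul_relIndex (le_sup_left : Y ≤ Y ⊔ N)
    rw [Subgroup.inf_relIndex_left] at e1
    rw [Subgroup.inf_relIndex_right] at e2
    rw [Subgroup.relIndex_sup_right] at e3
    have hpos : 0 < Nat.card (Y ⊓ N : Subgroup G) := Nat.card_pos
    have hr1 : 0 < N.relIndex Y := Nat.pos_of_ne_zero (relIndex_ne_zero' N Y)
    generalize Nat.card (Y ⊓ N : Subgroup G) = a at *
    generalize N.relIndex Y = r₁ at *
    generalize Y.relIndex N = r₂ at *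
    generalize Y.relIndex (Y ⊔ N) = t at *
    rw [e2] at e3
    rw [e1] at e4
    have h3 : a * r₁ * t = a * r₁ * r₂ := by rw [← e4, e3]; ring
    exact Nat.eq_of_mul_eq_mul_left (Nat.mul_pos hpos hr1) h3
  rw [← h2]
  exact h1

theorem hallOf_inf_normal {π : Set ℕ} {Y : Subgroup G} (N : Subgroup G) [N.Normal]
    (hY : Cfsg.IsPiHall π Y) : Cfsg.IsPiHallOf π (Y ⊓ N) N := by
  refine ⟨inf_le_right,
    fun p hp hd => hY.1 p hp (dvd_trans hd (Subgroup.card_dvd_of_le inf_le_left)),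
    fun p hp hpπ hd => hY.2 p hp hpπ ?_⟩
  rw [Subgroup.inf_relIndex_right] at hd
  exact dvd_trans hd (relIndex_dvd_index_right Y N)

end General

variable {α : Type u} [Fintype α] [DecidableEq α]

theorem xok_normal {A : Prop} {X : Subgroup (Perm α)} (hX : XOK A X) : X.Normal := by
  rcases hX with h | ⟨_, h⟩
  · rw [h]; infer_instance
  · rw [h]; infer_instance

/-- numerical condition, prime degree -/
def NumC (π : Set ℕ) (n : ℕ) : Prop := n.Prime ∧ ∀ r : ℕ, r.Prime → r ≤ n → (r ∈ π ↔ r < n)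

/-- numerical condition, degree seven -/
def NumD (π : Set ℕ) (n : ℕ) : Prop :=
  n = 7 ∧ ∀ r : ℕ, r.Prime → r ≤ 7 → (r ∈ π ↔ (r = 2 ∨ r = 3))

/-- numerical condition, degree eight -/
def NumE (π : Set ℕ) (n : ℕ) : Prop :=
  n = 8 ∧ ∀ r : ℕ, r.Prime → r ≤ 8 → (r ∈ π ↔ (r = 2 ∨ r = 3))

/-- the geometric Hall subgroups of the symmetric group -/
def IsGeo (π : Set ℕ) (Y : Subgroup (Perm α)) : Prop :=
  (NumC π (Fintype.card α) ∧ ∃ S : Finset α, S.card = 1 ∧ Y = stabS S) ∨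
  (NumD π (Fintype.card α) ∧ ∃ S : Finset α, S.card = 3 ∧ Y = stabS S) ∨
  (NumE π (Fintype.card α) ∧ ∃ S : Finset α, S.card = 4 ∧ Y = stabP S)

theorem IsGeo.hall {π : Set ℕ} {Y : Subgroup (Perm α)} (h : IsGeo π Y) : Cfsg.IsPiHall π Y := by
  rcases h with ⟨⟨hp, hiff⟩, S, hS, rfl⟩ | ⟨⟨h7, hiff⟩, S, hS, rfl⟩ | ⟨⟨h8, hiff⟩, S, hS, rfl⟩
  · exact hall_point hp hiff S hS
  · exact hall_seven h7 hiff S hS
  · exact hall_eight h8 hiff S hS

theorem numC_numD_false {π : Set ℕ} {n : ℕ} (hc : NumC π n) (hd : NumD π n) : False := by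
  obtain ⟨-, hiff⟩ := hc
  obtain ⟨h7, hiff'⟩ := hd
  subst h7
  have h1 := (hiff 5 (by norm_num) (by norm_num)).mpr (by norm_num)
  have h2 := (hiff' 5 (by norm_num) (by norm_num)).mp h1
  omega

theorem numC_numE_false {π : Set ℕ} {n : ℕ} (hc : NumC π n) (he : NumE π n) : False := by
  obtain ⟨hp, -⟩ := hc
  obtain ⟨h8, -⟩ := he
  subst h8
  exact (by decide : ¬ Nat.Prime 8) hp

theorem numD_numE_false {π : Set ℕ} {n : ℕ} (hd : NumD π n) (he : NumE π n) : False := by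
  have := hd.1
  have := he.1
  omega

theorem IsGeo.conj {π : Set ℕ} {Y₁ Y₂ : Subgroup (Perm α)} (h₁ : IsGeo π Y₁) (h₂ : IsGeo π Y₂) :
    ∃ g : Perm α, Y₂ = Y₁.map (MulAut.conj g).toMonoidHom := by
  rcases h₁ with ⟨hc, S₁, hS₁, rfl⟩ | ⟨hd, S₁, hS₁, rfl⟩ | ⟨he, S₁, hS₁, rfl⟩
  · rcases h₂ with ⟨-, S₂, hS₂, rfl⟩ | ⟨hd, -⟩ | ⟨he, -⟩
    · obtain ⟨g, hg⟩ := exists_perm_maps (hS₁.trans hS₂.symm)
      exact ⟨g, stabS_conj g hg⟩
    · exact (numC_numD_false hc hd).elim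
    · exact (numC_numE_false hc he).elim
  · rcases h₂ with ⟨hc, -⟩ | ⟨-, S₂, hS₂, rfl⟩ | ⟨he, -⟩
    · exact (numC_numD_false hc hd).elim
    · obtain ⟨g, hg⟩ := exists_perm_maps (hS₁.trans hS₂.symm)
      exact ⟨g, stabS_conj g hg⟩
    · exact (numD_numE_false hd he).elim
  · rcases h₂ with ⟨hc, -⟩ | ⟨hd, -⟩ | ⟨-, S₂, hS₂, rfl⟩
    · exact (numC_numE_false hc he).elim
    · exact (numD_numE_false hd he).elim
    · obtain ⟨g, hg⟩ := exists_perm_maps (hS₁.trans hS₂.symm)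
      exact ⟨g, stabP_conj g hg⟩

theorem IsGeo.map_conj {π : Set ℕ} {Y : Subgroup (Perm α)} (h : IsGeo π Y) (g : Perm α) :
    IsGeo π (Y.map (MulAut.conj g).toMonoidHom) := by
  have key : ∀ S : Finset α, ∀ x, g x ∈ S.map g.toEmbedding ↔ x ∈ S := by
    intro S x
    simp
  rcases h with ⟨hnum, S, hS, rfl⟩ | ⟨hnum, S, hS, rfl⟩ | ⟨hnum, S, hS, rfl⟩
  · exact Or.inl ⟨hnum, S.map g.toEmbedding, by rw [Finset.card_map, hS],
      (stabS_conj g (key S)).symm⟩
  · exact Or.inr (Or.inl ⟨hnum, S.map g.toEmbedding, by rw [Finset.card_map, hS],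
      (stabS_conj g (key S)).symm⟩)
  · exact Or.inr (Or.inr ⟨hnum, S.map g.toEmbedding, by rw [Finset.card_map, hS],
      (stabP_conj g (key S)).symm⟩)

theorem swap_mem_stabS {S : Finset α} {x y : α} (h : x ∈ S ↔ y ∈ S) :
    Equiv.swap x y ∈ stabS S := by
  intro z
  by_cases hzx : z = x
  · rw [hzx, Equiv.swap_apply_left]; exact h.symm
  · by_cases hzy : z = y
    · rw [hzy, Equiv.swap_apply_right]; exact h
    · rw [Equiv.swap_apply_of_ne_of_ne hzx hzy]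

theorem exists_odd_stabS (S : Finset α) (h : 1 < S.card ∨ 1 < Sᶜ.card) :
    ∃ g ∈ stabS S, Perm.sign g = -1 := by
  rcases h with h | h
  · obtain ⟨x, hx, y, hy, hxy⟩ := Finset.one_lt_card.mp h
    exact ⟨Equiv.swap x y, swap_mem_stabS ⟨fun _ => hy, fun _ => hx⟩, Perm.sign_swap hxy⟩
  · obtain ⟨x, hx, y, hy, hxy⟩ := Finset.one_lt_card.mp h
    rw [Finset.mem_compl] at hx hy
    exact ⟨Equiv.swap x y, swap_mem_stabS ⟨fun h' => absurd h' hx, fun h' => absurd h' hy⟩,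
      Perm.sign_swap hxy⟩

theorem IsGeo.exists_odd {π : Set ℕ} {Y : Subgroup (Perm α)} (h5 : 5 ≤ Fintype.card α)
    (h : IsGeo π Y) : ∃ g ∈ Y, Perm.sign g = -1 := by
  rcases h with ⟨-, S, hS, rfl⟩ | ⟨-, S, hS, rfl⟩ | ⟨-, S, hS, rfl⟩
  · exact exists_odd_stabS S (Or.inr (by rw [Finset.card_compl, hS]; omega))
  · exact exists_odd_stabS S (Or.inl (by omega))
  · obtain ⟨g, hg, hs⟩ := exists_odd_stabS S (Or.inl (by omega))
    exact ⟨g, stabS_le_stabP S hg, hs⟩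

theorem concl_geo {π : Set ℕ} {H : Subgroup (Perm α)} (h : Concl H π) :
    ∃ Y, IsGeo π Y ∧ H ≤ Y := by
  rcases h with ⟨hp, hiff, x, hx⟩ | ⟨h7, hiff, S, hS, hle⟩ | ⟨h8, hiff, S, hS, hle⟩
  · refine ⟨stabS {x}, Or.inl ⟨⟨hp, hiff⟩, {x}, Finset.card_singleton x, rfl⟩, ?_⟩
    intro h hh y
    rw [Finset.mem_singleton, Finset.mem_singleton]
    constructor
    · intro e
      exact h.injective (e.trans (hx h hh).symm)
    · rintro rfl
      exact hx h hh
  · exact ⟨stabS S, Or.inr (Or.inl ⟨⟨h7, hiff⟩, S, hS, rfl⟩), hle⟩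
  · exact ⟨stabP S, Or.inr (Or.inr ⟨⟨h8, hiff⟩, S, hS, rfl⟩), fun h hh => hle h hh⟩

theorem exists_geo_iff (π : Set ℕ) :
    (∃ Y : Subgroup (Perm α), IsGeo π Y) ↔
      (NumC π (Fintype.card α) ∨ NumD π (Fintype.card α) ∨ NumE π (Fintype.card α)) := by
  constructor
  · rintro ⟨Y, ⟨h, -⟩ | ⟨h, -⟩ | ⟨h, -⟩⟩
    · exact Or.inl h
    · exact Or.inr (Or.inl h)
    · exact Or.inr (Or.inr h)
  · rintro (h | h | h)
    · obtain ⟨S, hS⟩ := exists_finset_card (α := α) 1 h.1.pos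
      exact ⟨stabS S, Or.inl ⟨h, S, hS, rfl⟩⟩
    · obtain ⟨S, hS⟩ := exists_finset_card (α := α) 3 (by rw [h.1]; norm_num)
      exact ⟨stabS S, Or.inr (Or.inl ⟨h, S, hS, rfl⟩)⟩
    · obtain ⟨S, hS⟩ := exists_finset_card (α := α) 4 (by rw [h.1]; norm_num)
      exact ⟨stabP S, Or.inr (Or.inr ⟨h, S, hS, rfl⟩)⟩

/-- **Classification** of the Hall subgroups of `Sym` and `Alt` in the non-trivial case. -/
theorem hallOf_iff_geo {π : Set ℕ} {X H : Subgroup (Perm α)} (hX : XOK True X)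
    (h2 : TwoPrimes π (Fintype.card α)) (hN : NotAll π (Fintype.card α)) :
    Cfsg.IsPiHallOf π H X ↔ ∃ Y, IsGeo π Y ∧ H = Y ⊓ X := by
  constructor
  · intro hH
    obtain ⟨Y, hY, hle⟩ := concl_geo (hall_alt hX hH h2 hN)
    refine ⟨Y, hY, ?_⟩
    have h1 : Cfsg.IsPiHallOf π H (Y ⊓ X) := hallOf_mono hH (le_inf hle hH.1) inf_le_right
    exact hallOf_eq h1
      (fun p hp hd => hY.hall.1 p hp (dvd_trans hd (Subgroup.card_dvd_of_le inf_le_left)))
  · rintro ⟨Y, hY, rfl⟩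
    haveI := xok_normal hX
    exact hallOf_inf_normal X hY.hall

/-- conjugacy of the Hall subgroups of `Sym` and `Alt` in the non-trivial case -/
theorem hallOf_conj {π : Set ℕ} {X H₁ H₂ : Subgroup (Perm α)} (hX : XOK True X)
    (h2 : TwoPrimes π (Fintype.card α)) (hN : NotAll π (Fintype.card α))
    (h₁ : Cfsg.IsPiHallOf π H₁ X) (h₂ : Cfsg.IsPiHallOf π H₂ X) :
    ∃ g ∈ X, H₂ = H₁.map (MulAut.conj g).toMonoidHom := by
  obtain ⟨Y₁, hY₁, rfl⟩ := (hallOf_iff_geo hX h2 hN).mp h₁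
  obtain ⟨Y₂, hY₂, rfl⟩ := (hallOf_iff_geo hX h2 hN).mp h₂
  obtain ⟨g₀, hg₀⟩ := hY₁.conj hY₂
  obtain ⟨g, hgX, hg⟩ : ∃ g ∈ X, Y₂ = Y₁.map (MulAut.conj g).toMonoidHom := by
    by_cases hg₀X : g₀ ∈ X
    · exact ⟨g₀, hg₀X, hg₀⟩
    · obtain ⟨y, hyY, hys⟩ := hY₁.exists_odd (five_le_of h2 hN)
      refine ⟨g₀ * y, ?_, ?_⟩
      · rcases hX with hX | ⟨_, hX⟩
        · rw [hX]; exact Subgroup.mem_top _
        · rw [hX, Perm.mem_alternatingGroup] at hg₀X ⊢
          rcases Int.units_eq_one_or (Perm.sign g₀) with h1 | h1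
          · exact absurd h1 hg₀X
          · rw [Perm.sign_mul, h1, hys]; simp
      · rw [map_conj_mul, map_conj_of_mem hyY]
        exact hg₀
  haveI := xok_normal hX
  refine ⟨g, hgX, ?_⟩
  rw [Subgroup.map_inf _ _ _ (MulAut.conj g).injective, ← hg, map_conj_normal X g]

end Cfsg.Agent.Lib.Helper12.HallSym
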