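import Mathlib
import Cfsg.Agent.Lib.Helper12.HallSymGeo

/-!
# Hall classes: dependence on the primes dividing the order, and the trivial cases (helper12)
-/

set_option autoImplicit false
set_option linter.style.haveILetI false
set_option linter.unusedSectionVars false

namespace Cfsg.Agent.Lib.Helper12.HallSym

open Cfsg.Agent.Lib.Helper1.HallUniversal

section

variable {G : Type*} [Group G] [Finite G]

/-- `π` and `π₂` contain the same prime divisors of `|G|` -/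
def AgreeOn (G : Type*) [Group G] (π π₂ : Set ℕ) : Prop :=
  ∀ p : ℕ, p.Prime → p ∣ Nat.card G → (p ∈ π ↔ p ∈ π₂)

omit [Finite G] in
theorem AgreeOn.symm {π π₂ : Set ℕ} (h : AgreeOn G π π₂) : AgreeOn G π₂ π :=
  fun p hp hd => (h p hp hd).symm

theorem piSubgroup_congr {π π₂ : Set ℕ} (h : AgreeOn G π π₂) (K : Subgroup G) :
    Cfsg.IsPiSubgroup π K ↔ Cfsg.IsPiSubgroup π₂ K := by
  constructor
  · intro hK p hp hd
    exact (h p hp (dvd_trans hd (Subgroup.card_subgroup_dvd_card K))).mp (hK p hp hd)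
  · intro hK p hp hd
    exact (h p hp (dvd_trans hd (Subgroup.card_subgroup_dvd_card K))).mpr (hK p hp hd)

theorem piSubgroup_congr' {π π₂ : Set ℕ} (h : AgreeOn G π π₂) :
    (Cfsg.IsPiSubgroup π : Subgroup G → Prop) = Cfsg.IsPiSubgroup π₂ :=
  funext fun K => propext (piSubgroup_congr h K)

theorem piHall_congr {π π₂ : Set ℕ} (h : AgreeOn G π π₂) (H : Subgroup G) :
    Cfsg.IsPiHall π H ↔ Cfsg.IsPiHall π₂ H := by
  have key : ∀ {π π₂ : Set ℕ}, AgreeOn G π π₂ → Cfsg.IsPiHall π H → Cfsg.IsPiHall π₂ H := by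
    intro π π₂ h hH
    refine ⟨(piSubgroup_congr h H).mp hH.1, fun p hp hpπ hd => ?_⟩
    exact hH.2 p hp ((h p hp (dvd_trans hd (Subgroup.index_dvd_card H))).mpr hpπ) hd
  exact ⟨key h, key h.symm⟩

theorem epi_congr {π π₂ : Set ℕ} (h : AgreeOn G π π₂) :
    Cfsg.IsEPiGroup π G ↔ Cfsg.IsEPiGroup π₂ G := by
  constructor
  · rintro ⟨H, hH⟩
    exact ⟨H, (piHall_congr h H).mp hH⟩
  · rintro ⟨H, hH⟩
    exact ⟨H, (piHall_congr h H).mpr hH⟩

theorem cpi_congr {π π₂ : Set ℕ} (h : AgreeOn G π π₂) :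
    Cfsg.IsCPiGroup π G ↔ Cfsg.IsCPiGroup π₂ G := by
  constructor
  · rintro ⟨hE, hC⟩
    exact ⟨(epi_congr h).mp hE,
      fun H K hH hK => hC H K ((piHall_congr h H).mpr hH) ((piHall_congr h K).mpr hK)⟩
  · rintro ⟨hE, hC⟩
    exact ⟨(epi_congr h).mpr hE,
      fun H K hH hK => hC H K ((piHall_congr h H).mp hH) ((piHall_congr h K).mp hK)⟩

theorem dpi_congr {π π₂ : Set ℕ} (h : AgreeOn G π π₂) :
    Cfsg.IsDPiGroup π G ↔ Cfsg.IsDPiGroup π₂ G := by
  unfold Cfsg.IsDPiGroup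
  rw [piSubgroup_congr' h]

/-- a Hall subgroup is a maximal `π`-subgroup -/
theorem hall_maximal {π : Set ℕ} {H : Subgroup G} (hH : Cfsg.IsPiHall π H) :
    Maximal (Cfsg.IsPiSubgroup π) H := by
  refine ⟨hH.1, fun K hK hle => ?_⟩
  rw [← Subgroup.relIndex_eq_one]
  by_contra hne
  obtain ⟨p, hp, hd⟩ := Nat.exists_prime_and_dvd hne
  have h1 : p ∈ π := hK p hp (dvd_trans hd (Subgroup.relIndex_dvd_card H K))
  exact hH.2 p hp h1 (dvd_trans hd (Subgroup.relIndex_dvd_index_of_le hle))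

theorem piHall_conj {π : Set ℕ} {H : Subgroup G} (hH : Cfsg.IsPiHall π H) (g : G) :
    Cfsg.IsPiHall π (H.map (MulAut.conj g).toMonoidHom) :=
  piHall_map_equiv (MulAut.conj g) hH

theorem cpi_of_dpi {π : Set ℕ} (h : Cfsg.IsDPiGroup π G) : Cfsg.IsCPiGroup π G :=
  ⟨epi_of_dpi h, fun H K hH hK => h H K (hall_maximal hH) (hall_maximal hK)⟩

/-- under `D_π`, every `π`-subgroup lies in a Hall `π`-subgroup -/
theorem exists_hall_ge_of_dpi {π : Set ℕ} (h : Cfsg.IsDPiGroup π G) {K : Subgroup G}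
    (hK : Cfsg.IsPiSubgroup π K) : ∃ H, Cfsg.IsPiHall π H ∧ K ≤ H := by
  have hfin : {X : Subgroup G | Cfsg.IsPiSubgroup π X}.Finite := Set.toFinite _
  obtain ⟨L, hKL, hL⟩ := hfin.exists_le_maximal (show K ∈ {X | Cfsg.IsPiSubgroup π X} from hK)
  obtain ⟨H₀, hH₀⟩ := epi_of_dpi h
  obtain ⟨g, hg⟩ := h H₀ L (hall_maximal hH₀) hL
  exact ⟨L, hg ▸ piHall_conj hH₀ g, hKL⟩

/-- the trivial cases of `D_π` -/
theorem dpi_of_trivOn {π : Set ℕ}
    (h : (∀ r s : ℕ, r.Prime → s.Prime → r ∈ π → s ∈ π → r ∣ Nat.card G → s ∣ Nat.card G →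
      r = s) ∨ ∀ r : ℕ, r.Prime → r ∣ Nat.card G → r ∈ π) : Cfsg.IsDPiGroup π G := by
  rcases h with h | h
  · have hag : AgreeOn G π (π ∩ {r | r ∣ Nat.card G}) := by
      intro p hp hd
      exact ⟨fun hpπ => ⟨hpπ, hd⟩, fun hp' => hp'.1⟩
    rw [dpi_congr hag]
    apply dpi_of_triv
    left
    intro p q hp hq hpπ hqπ
    exact h p q hp hq hpπ.1 hqπ.1 hpπ.2 hqπ.2
  · have hag : AgreeOn G π (π ∪ {r | ¬ r ∣ Nat.card G}) := by
      intro p hp hd
      constructor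
      · intro hpπ; exact Or.inl hpπ
      · rintro (hp' | hp')
        · exact hp'
        · exact absurd hd hp'
    rw [dpi_congr hag]
    apply dpi_of_triv
    right
    intro p hp
    by_cases hd : p ∣ Nat.card G
    · exact Or.inl (h p hp hd)
    · exact Or.inr hd

end

end Cfsg.Agent.Lib.Helper12.HallSym
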