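import Mathlib
import Cfsg.Agent.Lib.Helper12.HallSymTriv

/-!
# Hall subgroups of symmetric/alternating groups: E, C for `Sym` and `Alt` (helper12)
-/

set_option autoImplicit false
set_option linter.style.haveILetI false
set_option linter.unusedSectionVars false

namespace Cfsg.Agent.Lib.Helper12.HallSym

open Equiv Equiv.Perm Nat
open Cfsg.Agent.Lib.Helper1.HallUniversal

universe u

section General

variable {G : Type*} [Group G]

theorem piHall_sub_iff {π : Set ℕ} (K : Subgroup G) (M : Subgroup ↥K) :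
    Cfsg.IsPiHall π M ↔ Cfsg.IsPiHallOf π (M.map K.subtype) K := by
  have hcard : Nat.card (M.map K.subtype) = Nat.card M :=
    Subgroup.card_map_of_injective K.subtype_injective
  have hidx : (M.map K.subtype).relIndex K = M.index := by
    unfold Subgroup.relIndex Subgroup.subgroupOf
    rw [Subgroup.comap_map_eq_self_of_injective K.subtype_injective]
  unfold Cfsg.IsPiHall Cfsg.IsPiHallOf
  rw [hcard, hidx]
  exact ⟨fun h => ⟨Subgroup.map_subtype_le M, h.1, h.2⟩, fun h => ⟨h.2.1, h.2.2⟩⟩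

theorem conj_sub (K : Subgroup G) (M₁ M₂ : Subgroup ↥K) (g : G) (hg : g ∈ K)
    (h : M₂.map K.subtype = (M₁.map K.subtype).map (MulAut.conj g).toMonoidHom) :
    M₂ = M₁.map (MulAut.conj (⟨g, hg⟩ : ↥K)).toMonoidHom := by
  apply Subgroup.map_injective K.subtype_injective
  rw [h, Subgroup.map_map, Subgroup.map_map]
  rfl

theorem subgroupOf_map_subtype_self (K : Subgroup G) (M : Subgroup ↥K) :
    (M.map K.subtype).subgroupOf K = M := by
  unfold Subgroup.subgroupOf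
  exact Subgroup.comap_map_eq_self_of_injective K.subtype_injective M

/-- Hall subgroups of `G` intersect a normal subgroup in Hall subgroups -/
theorem piHall_subgroupOf_normal [Finite G] {π : Set ℕ} (N : Subgroup G) [N.Normal]
    {M₀ : Subgroup G} (h : Cfsg.IsPiHall π M₀) : Cfsg.IsPiHall π (M₀.subgroupOf N) := by
  rw [piHall_sub_iff, Subgroup.subgroupOf_map_subtype]
  exact hallOf_inf_normal N h

end General

variable {α : Type u} [Fintype α] [DecidableEq α]

theorem prime_dvd_card_perm {p : ℕ} (hp : p.Prime) :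
    p ∣ Nat.card (Perm α) ↔ p ≤ Fintype.card α := by
  rw [Nat.card_eq_fintype_card, Fintype.card_perm, hp.dvd_factorial]

theorem prime_le_of_dvd_card_alt {p : ℕ} (hp : p.Prime)
    (h : p ∣ Nat.card ↥(alternatingGroup α)) : p ≤ Fintype.card α :=
  (prime_dvd_card_perm hp).mp (dvd_trans h (Subgroup.card_subgroup_dvd_card _))

/-- the trivial cases: at most one relevant prime, or all of them -/
theorem dpi_trivial {G : Type*} [Group G] [Finite G] {π : Set ℕ} {n : ℕ}
    (hG : ∀ p : ℕ, p.Prime → p ∣ Nat.card G → p ≤ n) (hT : ¬ (TwoPrimes π n ∧ NotAll π n)) :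
    Cfsg.IsDPiGroup π G := by
  apply dpi_of_trivOn
  by_cases h2 : TwoPrimes π n
  · right
    have hA : AllP π n := by
      rcases allP_or_notAll π n with h | h
      · exact h
      · exact absurd ⟨h2, h⟩ hT
    intro r hr hd
    exact hA r hr (hG r hr hd)
  · left
    intro r s hr hs hrπ hsπ hrd hsd
    by_contra hne
    exact h2 ⟨r, s, hr, hs, hne, hrπ, hsπ, hG r hr hrd, hG s hs hsd⟩

theorem dpi_trivial_perm {π : Set ℕ}
    (hT : ¬ (TwoPrimes π (Fintype.card α) ∧ NotAll π (Fintype.card α))) :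
    Cfsg.IsDPiGroup π (Perm α) :=
  dpi_trivial (fun _ hp hd => (prime_dvd_card_perm hp).mp hd) hT

theorem dpi_trivial_alt {π : Set ℕ}
    (hT : ¬ (TwoPrimes π (Fintype.card α) ∧ NotAll π (Fintype.card α))) :
    Cfsg.IsDPiGroup π ↥(alternatingGroup α) :=
  dpi_trivial (fun _ hp hd => prime_le_of_dvd_card_alt hp hd) hT

/-! ### The non-trivial case -/

theorem hallOf_alt_of_geo {π : Set ℕ} {Y : Subgroup (Perm α)} (hY : IsGeo π Y) :
    Cfsg.IsPiHall π (Y.subgroupOf (alternatingGroup α)) :=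
  piHall_subgroupOf_normal _ hY.hall

section NT

variable {π : Set ℕ} (h2 : TwoPrimes π (Fintype.card α)) (hN : NotAll π (Fintype.card α))

include h2 hN

theorem epi_perm_iff :
    Cfsg.IsEPiGroup π (Perm α) ↔ ∃ Y : Subgroup (Perm α), IsGeo π Y := by
  constructor
  · rintro ⟨H, hH⟩
    obtain ⟨Y, hY, -⟩ := (hallOf_iff_geo (Or.inl rfl) h2 hN).mp (hallOf_top_iff.mpr hH)
    exact ⟨Y, hY⟩
  · rintro ⟨Y, hY⟩
    exact ⟨Y, hY.hall⟩

theorem epi_alt_iff :
    Cfsg.IsEPiGroup π ↥(alternatingGroup α) ↔ ∃ Y : Subgroup (Perm α), IsGeo π Y := by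
  constructor
  · rintro ⟨M, hM⟩
    obtain ⟨Y, hY, -⟩ := (hallOf_iff_geo (Or.inr ⟨trivial, rfl⟩) h2 hN).mp
      ((piHall_sub_iff _ M).mp hM)
    exact ⟨Y, hY⟩
  · rintro ⟨Y, hY⟩
    exact ⟨_, hallOf_alt_of_geo hY⟩

theorem cpi_perm_of_epi (hE : Cfsg.IsEPiGroup π (Perm α)) : Cfsg.IsCPiGroup π (Perm α) := by
  refine ⟨hE, fun H K hH hK => ?_⟩
  obtain ⟨g, -, hg⟩ := hallOf_conj (Or.inl rfl) h2 hN (hallOf_top_iff.mpr hH)
    (hallOf_top_iff.mpr hK)
  exact ⟨g, hg⟩

theorem cpi_alt_of_epi (hE : Cfsg.IsEPiGroup π ↥(alternatingGroup α)) :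
    Cfsg.IsCPiGroup π ↥(alternatingGroup α) := by
  refine ⟨hE, fun H K hH hK => ?_⟩
  obtain ⟨g, hgA, hg⟩ := hallOf_conj (Or.inr ⟨trivial, rfl⟩) h2 hN
    ((piHall_sub_iff _ H).mp hH) ((piHall_sub_iff _ K).mp hK)
  exact ⟨⟨g, hgA⟩, conj_sub _ H K g hgA hg⟩

theorem hall_alt_eq_subgroupOf {M : Subgroup ↥(alternatingGroup α)} (hM : Cfsg.IsPiHall π M) :
    ∃ M₀ : Subgroup (Perm α), Cfsg.IsPiHall π M₀ ∧ M = M₀.subgroupOf (alternatingGroup α) := by
  obtain ⟨Y, hY, hYM⟩ := (hallOf_iff_geo (Or.inr ⟨trivial, rfl⟩) h2 hN).mp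
    ((piHall_sub_iff _ M).mp hM)
  refine ⟨Y, hY.hall, ?_⟩
  rw [← subgroupOf_map_subtype_self _ M, hYM, Subgroup.inf_subgroupOf_right]

end NT

/-! ### The general statements -/

theorem epi_iff_cpi_perm (π : Set ℕ) :
    Cfsg.IsEPiGroup π (Perm α) ↔ Cfsg.IsCPiGroup π (Perm α) := by
  refine ⟨fun hE => ?_, fun h => h.1⟩
  by_cases hT : TwoPrimes π (Fintype.card α) ∧ NotAll π (Fintype.card α)
  · exact cpi_perm_of_epi hT.1 hT.2 hE
  · exact cpi_of_dpi (dpi_trivial_perm hT)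

theorem epi_iff_cpi_alt (π : Set ℕ) :
    Cfsg.IsEPiGroup π ↥(alternatingGroup α) ↔ Cfsg.IsCPiGroup π ↥(alternatingGroup α) := by
  refine ⟨fun hE => ?_, fun h => h.1⟩
  by_cases hT : TwoPrimes π (Fintype.card α) ∧ NotAll π (Fintype.card α)
  · exact cpi_alt_of_epi hT.1 hT.2 hE
  · exact cpi_of_dpi (dpi_trivial_alt hT)

theorem epi_perm_iff_epi_alt (π : Set ℕ) :
    Cfsg.IsEPiGroup π (Perm α) ↔ Cfsg.IsEPiGroup π ↥(alternatingGroup α) := by
  by_cases hT : TwoPrimes π (Fintype.card α) ∧ NotAll π (Fintype.card α)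
  · rw [epi_perm_iff hT.1 hT.2, epi_alt_iff hT.1 hT.2]
  · exact ⟨fun _ => epi_of_dpi (dpi_trivial_alt hT), fun _ => epi_of_dpi (dpi_trivial_perm hT)⟩

theorem hall_alt_iff_subgroupOf (π : Set ℕ) (M : Subgroup ↥(alternatingGroup α)) :
    Cfsg.IsPiHall π M ↔ ∃ M₀ : Subgroup (Perm α), Cfsg.IsPiHall π M₀ ∧
      M = M₀.subgroupOf (alternatingGroup α) := by
  constructor
  · intro hM
    by_cases hT : TwoPrimes π (Fintype.card α) ∧ NotAll π (Fintype.card α)
    · exact hall_alt_eq_subgroupOf hT.1 hT.2 hM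
    · have hK : Cfsg.IsPiSubgroup π (M.map (alternatingGroup α).subtype) := by
        intro p hp hd
        rw [Subgroup.card_map_of_injective (Subgroup.subtype_injective _)] at hd
        exact hM.1 p hp hd
      obtain ⟨M₀, hM₀, hle⟩ := exists_hall_ge_of_dpi (dpi_trivial_perm hT) hK
      refine ⟨M₀, hM₀, ?_⟩
      have h1 : M ≤ M₀.subgroupOf (alternatingGroup α) := by
        intro x hx
        rw [Subgroup.mem_subgroupOf]
        exact hle (Subgroup.mem_map_of_mem _ hx)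
      have h2 := piHall_subgroupOf_normal (alternatingGroup α) hM₀
      exact le_antisymm h1 ((hall_maximal hM).2 h2.1 h1)
  · rintro ⟨M₀, hM₀, rfl⟩
    exact piHall_subgroupOf_normal _ hM₀

end Cfsg.Agent.Lib.Helper12.HallSym
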