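import Mathlib
import Cfsg.Agent.Lib.Helper12.HallSymAssemble

/-!
# Hall subgroups of alternating groups: the property `D_π` (helper12)
-/

set_option autoImplicit false
set_option linter.style.haveILetI false
set_option linter.unusedSectionVars false

namespace Cfsg.Agent.Lib.Helper12.HallSym

open Equiv Equiv.Perm Nat
open Cfsg.Agent.Lib.Helper1.HallUniversal

universe u

section W

variable {γ : Type*} [Fintype γ] [DecidableEq γ]

theorem exists_third {C : Finset γ} (hC : C.card = 3) {x y : γ} (hx : x ∈ C) (hy : y ∈ C)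
    (hxy : x ≠ y) : ∃ z ∈ C, z ≠ x ∧ z ≠ y := by
  have : 0 < ((C.erase x).erase y).card := by
    rw [Finset.card_erase_of_mem (Finset.mem_erase.mpr ⟨Ne.symm hxy, hy⟩),
      Finset.card_erase_of_mem hx, hC]
    norm_num
  obtain ⟨z, hz⟩ := Finset.card_pos.mp this
  rw [Finset.mem_erase, Finset.mem_erase] at hz
  exact ⟨z, hz.2.2, hz.2.1, hz.1⟩

theorem exists_swapper (B : Finset γ) (hB : B.card = 3) (hγ : Fintype.card γ = 6) :
    ∃ t : Perm γ, ∀ w, t w ∈ B ↔ w ∉ B := by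
  obtain ⟨g, hg⟩ := exists_perm_maps (S₁ := Bᶜ) (S₂ := B) (by rw [Finset.card_compl, hγ, hB])
  exact ⟨g, fun x => by rw [hg, Finset.mem_compl]⟩

/-- `(S₃ ≀ S₂) ∩ A₆` is transitive -/
theorem w_trans (B : Finset γ) (hB : B.card = 3) (hγ : Fintype.card γ = 6) (x y : γ) :
    ∃ g ∈ (stabP B ⊓ alternatingGroup γ : Subgroup (Perm γ)), g x = y := by
  have hBc : Bᶜ.card = 3 := by rw [Finset.card_compl, hγ, hB]
  have same : ∀ x y : γ, (x ∈ B ↔ y ∈ B) →
      ∃ g ∈ (stabS B ⊓ alternatingGroup γ : Subgroup (Perm γ)), g x = y := by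
    intro x y hxy
    by_cases e : x = y
    · exact ⟨1, Subgroup.one_mem _, by simp [e]⟩
    · obtain ⟨z, hzx, hzy, hz⟩ : ∃ z, z ≠ x ∧ z ≠ y ∧ (z ∈ B ↔ x ∈ B) := by
        by_cases hx : x ∈ B
        · obtain ⟨z, hz, h1, h2⟩ := exists_third hB hx (hxy.mp hx) e
          exact ⟨z, h1, h2, ⟨fun _ => hx, fun _ => hz⟩⟩
        · have hy : y ∉ B := fun h => hx (hxy.mpr h)
          obtain ⟨z, hz, h1, h2⟩ := exists_third hBc (Finset.mem_compl.mpr hx)
            (Finset.mem_compl.mpr hy) e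
          rw [Finset.mem_compl] at hz
          exact ⟨z, h1, h2, ⟨fun h => absurd h hz, fun h => absurd h hx⟩⟩
      refine ⟨Equiv.swap x y * Equiv.swap y z, Subgroup.mem_inf.mpr ⟨?_, ?_⟩, ?_⟩
      · exact (stabS B).mul_mem (swap_mem_stabS hxy) (swap_mem_stabS (hxy.symm.trans hz.symm))
      · rw [Perm.mem_alternatingGroup, Perm.sign_mul, Perm.sign_swap e,
          Perm.sign_swap (Ne.symm hzy)]
        simp
      · rw [Perm.mul_apply, Equiv.swap_apply_of_ne_of_ne e (Ne.symm hzx),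
          Equiv.swap_apply_left]
  obtain ⟨t, ht⟩ := exists_swapper B hB hγ
  obtain ⟨t₁, ht₁, ht₁s⟩ : ∃ t₁ : Perm γ, (∀ w, t₁ w ∈ B ↔ w ∉ B) ∧ Perm.sign t₁ = 1 := by
    rcases Int.units_eq_one_or (Perm.sign t) with h | h
    · exact ⟨t, ht, h⟩
    · obtain ⟨a, ha, b, hb, hab⟩ := Finset.one_lt_card.mp (by omega : 1 < B.card)
      refine ⟨t * Equiv.swap a b, ?_, by rw [Perm.sign_mul, h, Perm.sign_swap hab]; simp⟩
      intro w
      rw [Perm.mul_apply, ht]
      have := swap_mem_stabS (S := B) (x := a) (y := b) ⟨fun _ => hb, fun _ => ha⟩ w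
      rw [this]
  by_cases hxy : (x ∈ B ↔ y ∈ B)
  · obtain ⟨g, hg, e⟩ := same x y hxy
    rw [Subgroup.mem_inf] at hg
    exact ⟨g, Subgroup.mem_inf.mpr ⟨stabS_le_stabP B hg.1, hg.2⟩, e⟩
  · have h1 : (t₁ x ∈ B ↔ y ∈ B) := by
      rw [ht₁]
      tauto
    obtain ⟨g, hg, e⟩ := same (t₁ x) y h1
    rw [Subgroup.mem_inf] at hg
    refine ⟨g * t₁, Subgroup.mem_inf.mpr ⟨?_, ?_⟩, by rw [Perm.mul_apply, e]⟩
    · exact (stabP B).mul_mem (stabS_le_stabP B hg.1) (Or.inr ht₁)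
    · exact (alternatingGroup γ).mul_mem hg.2 (Perm.mem_alternatingGroup.mpr ht₁s)

theorem prime_dvd_72 {p : ℕ} (hp : p.Prime) (h : p ∣ 72) : p = 2 ∨ p = 3 := by
  have h1 : p ∣ 2 ^ 3 * 3 ^ 2 := by norm_num; exact h
  rcases (Nat.Prime.dvd_mul hp).mp h1 with h2 | h2
  · exact Or.inl ((Nat.prime_dvd_prime_iff_eq hp Nat.prime_two).mp (hp.dvd_of_dvd_pow h2))
  · exact Or.inr ((Nat.prime_dvd_prime_iff_eq hp Nat.prime_three).mp (hp.dvd_of_dvd_pow h2))

theorem w_card (B : Finset γ) (hB : B.card = 3) (hγ : Fintype.card γ = 6) :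
    Nat.card (stabP B ⊓ alternatingGroup γ : Subgroup (Perm γ)) ∣ 72 := by
  haveI : Nonempty γ := Fintype.card_pos_iff.mp (by omega)
  obtain ⟨t, ht⟩ := exists_swapper B hB hγ
  have h1 : Nat.card (stabP B) = 72 := by
    rw [card_stabP B t ht, card_stabS, hB, hγ]; decide
  rw [← h1]
  exact Subgroup.card_dvd_of_le inf_le_left

end W

variable {α : Type u} [Fintype α] [DecidableEq α]

/-! ### The counterexample in prime degree -/

theorem qc_piSubgroup {π : Set ℕ} (hc : NumC π (Fintype.card α)) (h5 : 5 ≤ Fintype.card α)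
    (T : Finset α) (hT : T.card = 2) (p : ℕ) (hp : p.Prime)
    (hd : p ∣ Nat.card (stabS T ⊓ alternatingGroup α : Subgroup (Perm α))) : p ∈ π := by
  have h1 : p ∣ Nat.card (stabS T) := dvd_trans hd (Subgroup.card_dvd_of_le inf_le_left)
  rw [card_stabS, hT] at h1
  have hle : p ≤ Fintype.card α - 2 := by
    rcases (Nat.Prime.dvd_mul hp).mp h1 with h | h
    · have := hp.dvd_factorial.mp h; omega
    · exact hp.dvd_factorial.mp h
  exact (hc.2 p hp (by omega)).mpr (by omega)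

theorem qc_moves (h5 : 5 ≤ Fintype.card α) (T : Finset α) (hT : T.card = 2) (x : α) :
    ∃ g ∈ (stabS T ⊓ alternatingGroup α : Subgroup (Perm α)), g x ≠ x := by
  by_cases hx : x ∈ T
  · obtain ⟨x', hx'T, hx'⟩ : ∃ x' ∈ T, x' ≠ x := by
      have : 1 < T.card := by omega
      obtain ⟨a, ha, b, hb, hab⟩ := Finset.one_lt_card.mp this
      by_cases h : a = x
      · exact ⟨b, hb, fun e => hab (h.trans e.symm)⟩
      · exact ⟨a, ha, h⟩
    have hc : 1 < Tᶜ.card := by rw [Finset.card_compl, hT]; omega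
    obtain ⟨a, ha, b, hb, hab⟩ := Finset.one_lt_card.mp hc
    rw [Finset.mem_compl] at ha hb
    refine ⟨Equiv.swap x x' * Equiv.swap a b, Subgroup.mem_inf.mpr ⟨?_, ?_⟩, ?_⟩
    · exact (stabS T).mul_mem (swap_mem_stabS ⟨fun _ => hx'T, fun _ => hx⟩)
        (swap_mem_stabS ⟨fun h => absurd h ha, fun h => absurd h hb⟩)
    · rw [Perm.mem_alternatingGroup, Perm.sign_mul, Perm.sign_swap hx'.symm, Perm.sign_swap hab]
      simp
    · have e : Equiv.swap a b x = x :=
        Equiv.swap_apply_of_ne_of_ne (by rintro rfl; exact ha hx) (by rintro rfl; exact hb hx)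
      rw [Perm.mul_apply, e, Equiv.swap_apply_left]
      exact hx'
  · have hc : 1 < (insert x T)ᶜ.card := by
      rw [Finset.card_compl, Finset.card_insert_of_notMem hx, hT]; omega
    obtain ⟨a, ha, b, hb, hab⟩ := Finset.one_lt_card.mp hc
    rw [Finset.mem_compl, Finset.mem_insert, not_or] at ha hb
    refine ⟨Equiv.swap x a * Equiv.swap a b, Subgroup.mem_inf.mpr ⟨?_, ?_⟩, ?_⟩
    · exact (stabS T).mul_mem (swap_mem_stabS ⟨fun h => absurd h hx, fun h => absurd h ha.2⟩)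
        (swap_mem_stabS ⟨fun h => absurd h ha.2, fun h => absurd h hb.2⟩)
    · rw [Perm.mem_alternatingGroup, Perm.sign_mul, Perm.sign_swap (Ne.symm ha.1),
        Perm.sign_swap hab]
      simp
    · have e : Equiv.swap a b x = x :=
        Equiv.swap_apply_of_ne_of_ne (Ne.symm ha.1) (Ne.symm hb.1)
      rw [Perm.mul_apply, e, Equiv.swap_apply_left]
      exact ha.1

/-! ### The counterexample in degrees seven and eight -/

/-- a transitive `{2,3}`-group on a `6`-subset, fixing the other points -/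
theorem exists_qde (h6 : 6 ≤ Fintype.card α) :
    ∃ (U : Finset α) (Q : Subgroup (Perm α)), U.card = 6 ∧ Q ≤ alternatingGroup α ∧
      Nat.card Q ∣ 72 ∧ (∀ u ∈ U, ∀ v ∈ U, ∃ g ∈ Q, g u = v) ∧
      (∀ g ∈ Q, ∀ w, w ∉ U → g w = w) := by
  obtain ⟨U, hU⟩ := exists_finset_card (α := α) 6 h6
  have hγ : Fintype.card {x // x ∈ U} = 6 := by rw [Fintype.card_coe, hU]
  obtain ⟨B, hB⟩ := exists_finset_card (α := {x // x ∈ U}) 3 (by rw [hγ]; norm_num)
  refine ⟨U, (stabP B ⊓ alternatingGroup {x // x ∈ U} : Subgroup (Perm {x // x ∈ U})).map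
    Perm.ofSubtype, hU, ?_, ?_, ?_, ?_⟩
  · rintro _ ⟨w, hw, rfl⟩
    rw [Perm.mem_alternatingGroup, Perm.sign_ofSubtype]
    exact Perm.mem_alternatingGroup.mp (Subgroup.mem_inf.mp hw).2
  · exact dvd_trans (Subgroup.card_map_dvd _ _) (w_card B hB hγ)
  · intro u hu v hv
    obtain ⟨w, hw, e⟩ := w_trans B hB hγ ⟨u, hu⟩ ⟨v, hv⟩
    refine ⟨Perm.ofSubtype w, Subgroup.mem_map_of_mem _ hw, ?_⟩
    rw [Perm.ofSubtype_apply_of_mem w hu, e]
  · rintro _ ⟨w, -, rfl⟩ z hz
    exact Perm.ofSubtype_apply_of_not_mem w hz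

theorem trans_stab_cases {U S : Finset α} {Q : Subgroup (Perm α)}
    (htr : ∀ u ∈ U, ∀ v ∈ U, ∃ g ∈ Q, g u = v) (hQ : Q ≤ stabS S) :
    U.card ≤ S.card ∨ S.card + U.card ≤ Fintype.card α := by
  by_cases h : ∃ u ∈ U, u ∈ S
  · left
    obtain ⟨u, hu, huS⟩ := h
    apply Finset.card_le_card
    intro v hv
    obtain ⟨g, hg, e⟩ := htr u hu v hv
    have := (hQ hg u).mpr huS
    rwa [e] at this
  · right
    push Not at h
    have hd : Disjoint S U := Finset.disjoint_right.mpr h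
    rw [← Finset.card_union_of_disjoint hd]
    exact Finset.card_le_univ _

/-- **`D_π` for alternating groups** -/
theorem dpi_alt_iff (h5 : 5 ≤ Fintype.card α) (π : Set ℕ) :
    Cfsg.IsDPiGroup π ↥(alternatingGroup α) ↔
      ((∀ r s : ℕ, r.Prime → s.Prime → r ∈ π → s ∈ π →
          r ∣ Nat.card ↥(alternatingGroup α) → s ∣ Nat.card ↥(alternatingGroup α) → r = s) ∨
        ∀ r : ℕ, r.Prime → r ∣ Nat.card ↥(alternatingGroup α) → r ∈ π) := by
  constructor
  swap
  · exact dpi_of_trivOn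
  intro hD
  by_contra hcon
  push Not at hcon
  obtain ⟨⟨r, s, hr, hs, hrπ, hsπ, hrd, hsd, hrs⟩, ⟨t, ht, htd, htπ⟩⟩ := hcon
  have h2 : TwoPrimes π (Fintype.card α) := ⟨r, s, hr, hs, hrs, hrπ, hsπ,
    prime_le_of_dvd_card_alt hr hrd, prime_le_of_dvd_card_alt hs hsd⟩
  have hN : NotAll π (Fintype.card α) := ⟨t, ht, prime_le_of_dvd_card_alt ht htd, htπ⟩
  obtain ⟨Y, hY⟩ := (epi_alt_iff h2 hN).mp (epi_of_dpi hD)
  suffices hQ : ∃ Q : Subgroup (Perm α), Q ≤ alternatingGroup α ∧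
      (∀ p : ℕ, p.Prime → p ∣ Nat.card Q → p ∈ π) ∧ ∀ Y', IsGeo π Y' → ¬ Q ≤ Y' by
    obtain ⟨Q, hQA, hQπ, hQY⟩ := hQ
    have hQ' : Cfsg.IsPiSubgroup π (Q.subgroupOf (alternatingGroup α)) := by
      intro p hp hd
      apply hQπ p hp
      rwa [Nat.card_congr (Subgroup.subgroupOfEquivOfLe hQA).toEquiv] at hd
    obtain ⟨M', hM', hle⟩ := exists_hall_ge_of_dpi hD hQ'
    obtain ⟨Y', hY', hYM⟩ := (hallOf_iff_geo (Or.inr ⟨trivial, rfl⟩) h2 hN).mp
      ((piHall_sub_iff _ M').mp hM')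
    apply hQY Y' hY'
    intro q hq
    have hmem : q ∈ M'.map (alternatingGroup α).subtype :=
      ⟨⟨q, hQA hq⟩, hle (show (⟨q, hQA hq⟩ : ↥(alternatingGroup α)) ∈
        Q.subgroupOf (alternatingGroup α) from hq), rfl⟩
    rw [hYM] at hmem
    exact hmem.1
  rcases hY with ⟨hc, -⟩ | ⟨hd, -⟩ | ⟨he, -⟩
  · obtain ⟨T, hT⟩ := exists_finset_card (α := α) 2 (by omega)
    refine ⟨stabS T ⊓ alternatingGroup α, inf_le_right, qc_piSubgroup hc h5 T hT, ?_⟩
    rintro Y' (⟨-, S, hS, rfl⟩ | ⟨hd, -⟩ | ⟨he, -⟩) hle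
    · obtain ⟨x₀, rfl⟩ := Finset.card_eq_one.mp hS
      obtain ⟨g, hg, hgx⟩ := qc_moves h5 T hT x₀
      have := (hle hg x₀).mpr (Finset.mem_singleton_self x₀)
      exact hgx (Finset.mem_singleton.mp this)
    · exact numC_numD_false hc hd
    · exact numC_numE_false hc he
  · have h7 := hd.1
    obtain ⟨U, Q, hU, hQA, hQc, hQtr, hQfix⟩ := exists_qde (α := α) (by omega)
    refine ⟨Q, hQA, ?_, ?_⟩
    · intro p hp hdv
      exact (hd.2 p hp (by rcases prime_dvd_72 hp (dvd_trans hdv hQc) with h | h <;> omega)).mpr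
        (prime_dvd_72 hp (dvd_trans hdv hQc))
    · rintro Y' (⟨hc, -⟩ | ⟨-, S, hS, rfl⟩ | ⟨he, -⟩) hle
      · exact numC_numD_false hc hd
      · have := trans_stab_cases hQtr hle
        omega
      · exact numD_numE_false hd he
  · have h8 := he.1
    obtain ⟨U, Q, hU, hQA, hQc, hQtr, hQfix⟩ := exists_qde (α := α) (by omega)
    refine ⟨Q, hQA, ?_, ?_⟩
    · intro p hp hdv
      exact (he.2 p hp (by rcases prime_dvd_72 hp (dvd_trans hdv hQc) with h | h <;> omega)).mpr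
        (prime_dvd_72 hp (dvd_trans hdv hQc))
    · rintro Y' (⟨hc, -⟩ | ⟨hd, -⟩ | ⟨-, S, hS, rfl⟩) hle
      · exact numC_numE_false hc he
      · exact numD_numE_false hd he
      · obtain ⟨w, hw⟩ : ∃ w, w ∉ U := by
          by_contra hall
          push Not at hall
          have : U = Finset.univ := Finset.eq_univ_iff_forall.mpr hall
          rw [this, Finset.card_univ] at hU
          omega
        have hle' : Q ≤ stabS S := by
          intro g hg
          rcases hle hg with h | h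
          · exact h
          · exfalso
            have h1 := h w
            rw [hQfix g hg w hw] at h1
            exact iff_not_self h1
        have := trans_stab_cases hQtr hle'
        omega

end Cfsg.Agent.Lib.Helper12.HallSym
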