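import Mathlib

/-!
# Counting lemmas for `p`-group actions (helper12)

* `card_modEq_card_smallStab`: for a finite `p`-group acting on a finite set, the cardinality of the set
  is congruent mod `p²` to the number of points whose stabilizer has index dividing `p`.
* `sq_dvd_card_of_fibration`: an equivariant map with fibres of size divisible by `p` onto a set
  without fixed points has total space of size divisible by `p²`.
* `card_subgroups_le`: subgroups of `G` of order `k` inside `K` correspond to subgroups of `K` of order `k`.
* `card_subgroups_of_isCyclic`: a finite cyclic group has exactly one subgroup of each prime power order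
  dividing its order.
-/

set_option autoImplicit false
set_option linter.style.haveILetI false

namespace Cfsg.Agent.Lib.Helper12.PGroupCount

/-- splitting a finite type by a predicate -/
theorem card_split {α : Type*} [Finite α] (q : α → Prop) :
    Nat.card α = Nat.card {x // q x} + Nat.card {x // ¬ q x} := by
  classical
  rw [← Nat.card_sum]
  exact Nat.card_congr (Equiv.sumCompl q).symm

theorem card_filter_eq_natCard {α : Type*} [Fintype α] (q : α → Prop) [DecidablePred q] :
    (Finset.univ.filter q).card = Nat.card {x // q x} := by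
  rw [Nat.card_eq_fintype_card, Fintype.card_subtype]

theorem modEq_sum {α : Type*} (s : Finset α) (f g : α → ℕ) (m : ℕ)
    (h : ∀ i ∈ s, f i ≡ g i [MOD m]) : ∑ i ∈ s, f i ≡ ∑ i ∈ s, g i [MOD m] := by
  classical
  induction s using Finset.induction_on with
  | empty => exact Nat.ModEq.refl _
  | insert a s ha ih =>
    rw [Finset.sum_insert ha, Finset.sum_insert ha]
    exact Nat.ModEq.add (h _ (Finset.mem_insert_self _ _))
      (ih fun i hi => h i (Finset.mem_insert_of_mem hi))

/-- if all stabilizers of a `p`-group action have index at least `p²`, then `p²` divides the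
cardinality -/
theorem sq_dvd_card_of_stabilizer {K Y : Type*} [Group K] [Finite K] [MulAction K Y] [Finite Y]
    {p : ℕ} [Fact p.Prime] (hK : IsPGroup p K)
    (h : ∀ y : Y, ¬ (MulAction.stabilizer K y).index ∣ p) : p ^ 2 ∣ Nat.card Y := by
  classical
  haveI := Fintype.ofFinite K
  haveI := Fintype.ofFinite Y
  haveI : Fintype (Quotient (MulAction.orbitRel K Y)) := Fintype.ofFinite _
  haveI : ∀ b : Y, Fintype (MulAction.stabilizer K b) := fun b => Fintype.ofFinite _
  rw [Nat.card_eq_fintype_card, MulAction.card_eq_sum_card_group_div_card_stabilizer K Y]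
  apply Finset.dvd_sum
  intro ω _
  have h1 : Fintype.card K / Fintype.card (MulAction.stabilizer K (Quotient.out ω)) =
      (MulAction.stabilizer K (Quotient.out ω)).index := by
    rw [Fintype.card_eq_nat_card, Fintype.card_eq_nat_card,
      ← (MulAction.stabilizer K (Quotient.out ω)).card_mul_index]
    exact Nat.mul_div_cancel_left _ Nat.card_pos
  rw [h1]
  obtain ⟨n, hn⟩ := hK.index (MulAction.stabilizer K (Quotient.out ω))
  have h2 := h (Quotient.out ω)
  rw [hn] at h2 ⊢
  have h3 : 2 ≤ n := by
    by_contra hlt
    apply h2
    have : n = 0 ∨ n = 1 := by omega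
    rcases this with rfl | rfl
    · simp
    · simp
  exact pow_dvd_pow p h3

theorem index_stabilizer_smul {K Y : Type*} [Group K] [MulAction K Y] (g : K) (y : Y) :
    (MulAction.stabilizer K (g • y)).index = (MulAction.stabilizer K y).index := by
  rw [MulAction.stabilizer_smul_eq_stabilizer_map_conj]
  exact Subgroup.index_map_equiv _ (MulAut.conj g)

/-- points whose stabilizer has index dividing `p` -/
def smallStab (K Y : Type*) [Group K] [MulAction K Y] (p : ℕ) : SubMulAction K Y where
  carrier := {y | (MulAction.stabilizer K y).index ∣ p}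
  smul_mem' := by
    intro g y hy
    show (MulAction.stabilizer K (g • y)).index ∣ p
    rw [index_stabilizer_smul]; exact hy

/-- points whose stabilizer has index not dividing `p` -/
def bigStab (K Y : Type*) [Group K] [MulAction K Y] (p : ℕ) : SubMulAction K Y where
  carrier := {y | ¬ (MulAction.stabilizer K y).index ∣ p}
  smul_mem' := by
    intro g y hy
    show ¬ (MulAction.stabilizer K (g • y)).index ∣ p
    rw [index_stabilizer_smul]; exact hy

theorem card_modEq_card_smallStab {K Y : Type*} [Group K] [Finite K] [MulAction K Y] [Finite Y]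
    {p : ℕ} [Fact p.Prime] (hK : IsPGroup p K) :
    Nat.card Y ≡ Nat.card (smallStab K Y p) [MOD p ^ 2] := by
  have h1 := card_split (fun y : Y => (MulAction.stabilizer K y).index ∣ p)
  have h2 : p ^ 2 ∣ Nat.card (bigStab K Y p) := by
    apply sq_dvd_card_of_stabilizer hK
    intro y
    rw [SubMulAction.stabilizer_of_subMul]
    exact y.2
  have h3 : Nat.card (smallStab K Y p) =
      Nat.card {y : Y // (MulAction.stabilizer K y).index ∣ p} := rfl
  have h4 : Nat.card (bigStab K Y p) =
      Nat.card {y : Y // ¬ (MulAction.stabilizer K y).index ∣ p} := rfl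
  rw [h1, ← h3, ← h4]
  obtain ⟨c, hc⟩ := h2
  rw [hc]
  unfold Nat.ModEq
  rw [Nat.add_mul_mod_self_left]

/-- an equivariant map onto a set without fixed points, all of whose fibres have size divisible by
`p`, has a domain of size divisible by `p²` -/
theorem sq_dvd_card_of_fibration {K T B : Type*} [Group K] [Finite K] [MulAction K T]
    [MulAction K B] [Finite T] [Finite B] {p : ℕ} [Fact p.Prime] (hK : IsPGroup p K) (π : T → B)
    (hπ : ∀ (x : K) (t : T), π (x • t) = x • π t) (hfib : ∀ b, p ∣ Nat.card {t // π t = b})
    (hfix : ∀ b : B, ∃ x : K, x • b ≠ b) : p ^ 2 ∣ Nat.card T := by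
  classical
  haveI := Fintype.ofFinite B
  set f : B → ℕ := fun b => Nat.card {t // π t = b} with hf
  have hinv : ∀ (x : K) (b : B), f (x • b) = f b := by
    intro x b
    apply Nat.card_congr
    exact
      { toFun := fun t => ⟨x⁻¹ • t.1, by rw [hπ, t.2, inv_smul_smul]⟩
        invFun := fun t => ⟨x • t.1, by rw [hπ, t.2]⟩
        left_inv := fun t => by simp
        right_inv := fun t => by simp }
  have hcard : Nat.card T = ∑ b, f b := by
    rw [← Nat.card_sigma]
    exact Nat.card_congr (Equiv.sigmaFiberEquiv π).symm
  rw [hcard]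
  have hcomp := Finset.sum_comp (s := (Finset.univ : Finset B)) (fun k : ℕ => k) f
  rw [hcomp]
  apply Finset.dvd_sum
  intro k hk
  obtain ⟨b, -, rfl⟩ := Finset.mem_image.mp hk
  let L : SubMulAction K B :=
    { carrier := {b' | f b' = f b}
      smul_mem' := fun x b' hb' => by
        show f (x • b') = f b
        rw [hinv]; exact hb' }
  have h1 := hK.card_modEq_card_fixedPoints L
  have h2 : Nat.card (MulAction.fixedPoints K L) = 0 := by
    rw [Nat.card_eq_zero]
    left
    constructor
    rintro ⟨⟨b', hb'⟩, hfixed⟩
    obtain ⟨x, hx⟩ := hfix b'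
    apply hx
    have := hfixed x
    exact congrArg Subtype.val this
  have h3 : p ∣ Nat.card L := by
    rw [h2] at h1
    exact (Nat.modEq_zero_iff_dvd).mp h1
  have h4 : ({a ∈ (Finset.univ : Finset B) | f a = f b}).card = Nat.card L := by
    rw [card_filter_eq_natCard]
    rfl
  rw [smul_eq_mul, pow_two, h4]
  exact Nat.mul_dvd_mul h3 (hfib b)

/-- subgroups of order `k` contained in `K` vs subgroups of `K` of order `k` -/
theorem card_subgroups_le {G : Type*} [Group G] (K : Subgroup G) (k : ℕ) :
    Nat.card {H : Subgroup G // Nat.card H = k ∧ H ≤ K} =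
      Nat.card {H' : Subgroup ↥K // Nat.card H' = k} := by
  apply Nat.card_congr
  refine
    { toFun := fun H => ⟨H.1.subgroupOf K, ?_⟩
      invFun := fun H' => ⟨H'.1.map K.subtype, ?_, ?_⟩
      left_inv := ?_
      right_inv := ?_ }
  · exact (Nat.card_congr (Subgroup.subgroupOfEquivOfLe H.2.2).toEquiv).trans H.2.1
  · exact (Nat.card_congr
      (Subgroup.equivMapOfInjective H'.1 K.subtype K.subtype_injective).symm.toEquiv).trans H'.2
  · exact Subgroup.map_subtype_le H'.1
  · intro H
    apply Subtype.ext
    exact Subgroup.map_subgroupOf_eq_of_le H.2.2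
  · intro H'
    apply Subtype.ext
    exact Subgroup.comap_map_eq_self_of_injective K.subtype_injective H'.1

/-- a finite cyclic group has exactly one subgroup of each prime power order dividing its order -/
theorem card_subgroups_of_isCyclic {C : Type*} [Group C] [Finite C] [IsCyclic C] {p : ℕ}
    [Fact p.Prime] (a : ℕ) (h : p ^ a ∣ Nat.card C) :
    Nat.card {H : Subgroup C // Nat.card H = p ^ a} = 1 := by
  classical
  haveI := Fintype.ofFinite C
  rw [Nat.card_eq_one_iff_unique]
  have hpos : 0 < p ^ a := pow_pos (Fact.out : p.Prime).pos a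
  constructor
  · constructor
    intro H1 H2
    apply Subtype.ext
    have key : ∀ H : Subgroup C, Nat.card H = p ^ a → (H : Set C) = {x | x ^ (p ^ a) = 1} := by
      intro H hH
      have hsub : (H : Set C) ⊆ {x | x ^ (p ^ a) = 1} := by
        intro x hx
        have h1 := pow_card_eq_one' (G := H) (x := ⟨x, hx⟩)
        rw [hH] at h1
        have h2 := congrArg Subtype.val h1
        simpa using h2
      apply Set.eq_of_subset_of_ncard_le hsub _ (Set.toFinite _)
      rw [← Nat.card_coe_set_eq, ← Nat.card_coe_set_eq]
      have h5 : Nat.card ↥(H : Set C) = p ^ a := hH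
      rw [h5]
      have h6 : Nat.card ↥({x | x ^ (p ^ a) = 1} : Set C) =
          (Finset.univ.filter fun x : C => x ^ (p ^ a) = 1).card := by
        rw [card_filter_eq_natCard]
        rfl
      rw [h6]
      exact IsCyclic.card_pow_eq_one_le hpos
    exact SetLike.coe_injective ((key H1.1 H1.2).trans (key H2.1 H2.2).symm)
  · obtain ⟨H, hH⟩ := Sylow.exists_subgroup_card_pow_prime p h
    exact ⟨⟨H, hH⟩⟩

end Cfsg.Agent.Lib.Helper12.PGroupCount
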