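import Mathlib
import Cfsg.Agent.Lib.Helper12.PGroupCount
import Cfsg.Agent.S3975
import Cfsg.Agent.S0127
import Cfsg.Agent.S0016

/-!
# Kulakoff's theorem for odd primes (helper12)

`kulakoff_odd`: in a non-cyclic group of order `p ^ n`, `p` odd, the number of subgroups of order
`p ^ a`, `1 ≤ a < n`, is congruent to `1 + p` modulo `p ^ 2`.

The proof counts pairs `(φ, H)` with `φ : P →* C_p` and `H ≤ ker φ`.
-/

set_option autoImplicit false
set_option linter.style.haveILetI false

namespace Cfsg.Agent.Lib.Helper12.Kulakoff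

open Cfsg.Agent.Lib.Helper12.PGroupCount

universe u

/-- homomorphisms into the cyclic group of order `p` -/
abbrev Hm (p : ℕ) (P : Type u) [Group P] := P →* Multiplicative (ZMod p)

theorem card_Cp {p : ℕ} [Fact p.Prime] : Nat.card (Multiplicative (ZMod p)) = p := by
  rw [Nat.card_eq_fintype_card, Fintype.card_multiplicative, ZMod.card]

instance instFiniteHm {p : ℕ} [Fact p.Prime] {P : Type u} [Group P] [Finite P] :
    Finite (Hm p P) :=
  Finite.of_injective (fun f : Hm p P => (f : P → Multiplicative (ZMod p)))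
    DFunLike.coe_injective

theorem hm_pow {p : ℕ} [Fact p.Prime] {P : Type u} [Group P] (φ : Hm p P) : φ ^ p = 1 := by
  refine MonoidHom.ext fun x => ?_
  have h : (φ x) ^ p = 1 := by
    have := pow_card_eq_one' (G := Multiplicative (ZMod p)) (x := φ x)
    rwa [card_Cp] at this
  exact h

theorem isPGroup_Hm {p : ℕ} [Fact p.Prime] {P : Type u} [Group P] : IsPGroup p (Hm p P) :=
  fun φ => ⟨1, by rw [pow_one]; exact hm_pow φ⟩

/-- homomorphisms killing `H` -/
def ann (p : ℕ) {P : Type u} [Group P] (H : Subgroup P) : Subgroup (Hm p P) where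
  carrier := {φ | H ≤ φ.ker}
  one_mem' := by
    show H ≤ (1 : Hm p P).ker
    intro x _
    exact MonoidHom.mem_ker.mpr rfl
  mul_mem' := by
    intro φ ψ hφ hψ
    have hφ' : H ≤ φ.ker := hφ
    have hψ' : H ≤ ψ.ker := hψ
    show H ≤ (φ * ψ).ker
    intro x hx
    have h1 := MonoidHom.mem_ker.mp (hφ' hx)
    have h2 := MonoidHom.mem_ker.mp (hψ' hx)
    exact MonoidHom.mem_ker.mpr (by rw [MonoidHom.mul_apply, h1, h2, one_mul])
  inv_mem' := by
    intro φ hφ
    have hφ' : H ≤ φ.ker := hφ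
    show H ≤ (φ⁻¹).ker
    intro x hx
    have h1 := MonoidHom.mem_ker.mp (hφ' hx)
    exact MonoidHom.mem_ker.mpr (by rw [MonoidHom.inv_apply, h1, inv_one])

theorem mem_ann {p : ℕ} {P : Type u} [Group P] {H : Subgroup P} {φ : Hm p P} :
    φ ∈ ann p H ↔ H ≤ φ.ker := Iff.rfl

theorem ker_index {p : ℕ} [hp : Fact p.Prime] {P : Type u} [Group P] {φ : Hm p P} (hφ : φ ≠ 1) :
    φ.ker.index = p := by
  rw [Subgroup.index_ker]
  have h1 : Nat.card φ.range ∣ p := by
    have := Subgroup.card_subgroup_dvd_card φ.range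
    rwa [card_Cp] at this
  rcases (Nat.dvd_prime hp.out).mp h1 with h | h
  · exfalso
    apply hφ
    have : φ.range = ⊥ := Subgroup.card_eq_one.mp h
    exact MonoidHom.range_eq_bot_iff.mp this
  · exact h

theorem card_ker_mul {p : ℕ} [Fact p.Prime] {P : Type u} [Group P] {φ : Hm p P} (hφ : φ ≠ 1) :
    Nat.card φ.ker * p = Nat.card P := by
  have := φ.ker.card_mul_index
  rwa [ker_index hφ] at this

theorem exists_hom {p : ℕ} [hp : Fact p.Prime] {P : Type u} [Group P] [Finite P] {n : ℕ}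
    (hP : Nat.card P = p ^ (n + 1)) (K : Subgroup P) (hK : K.index = p) :
    ∃ φ : Hm p P, φ.ker = K := by
  haveI : K.Normal := by
    apply Subgroup.normal_of_index_eq_minFac_card
    rw [hK, hP, Nat.pow_minFac (Nat.succ_ne_zero n), hp.out.minFac_eq]
  have h1 : Nat.card (P ⧸ K) = p := by rw [← Subgroup.index_eq_card, hK]
  let e : (P ⧸ K) ≃* Multiplicative (ZMod p) := mulEquivOfPrimeCardEq h1 card_Cp
  refine ⟨e.toMonoidHom.comp (QuotientGroup.mk' K), ?_⟩
  ext x
  rw [MonoidHom.mem_ker, MonoidHom.comp_apply]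
  constructor
  · intro h
    have h2 : (QuotientGroup.mk' K) x = 1 := e.injective (by rw [map_one]; exact h)
    exact (QuotientGroup.eq_one_iff x).mp h2
  · intro h
    have h2 : (QuotientGroup.mk' K) x = 1 := (QuotientGroup.eq_one_iff x).mpr h
    rw [h2, map_one]

theorem exists_index_p_ge {p : ℕ} [hp : Fact p.Prime] {P : Type u} [Group P] [Finite P]
    {n a : ℕ} (hP : Nat.card P = p ^ (n + 1)) (H : Subgroup P) (hH : Nat.card H = p ^ a)
    (ha : a ≤ n) : ∃ K : Subgroup P, H ≤ K ∧ K.index = p := by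
  have hdvd : p ^ n ∣ Nat.card P := by rw [hP]; exact pow_dvd_pow p (Nat.le_succ n)
  obtain ⟨K, hK, hHK⟩ := Sylow.exists_subgroup_card_pow_prime_le p hdvd H hH ha
  refine ⟨K, hHK, ?_⟩
  have := K.card_mul_index
  rw [hK, hP, pow_succ] at this
  exact Nat.eq_of_mul_eq_mul_left (pow_pos hp.out.pos n) this

theorem exists_ne_one_ann {p : ℕ} [hp : Fact p.Prime] {P : Type u} [Group P] [Finite P]
    {n a : ℕ} (hP : Nat.card P = p ^ (n + 1)) (H : Subgroup P) (hH : Nat.card H = p ^ a)
    (ha : a ≤ n) : ∃ φ : Hm p P, φ ∈ ann p H ∧ φ ≠ 1 := by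
  obtain ⟨K, hHK, hK⟩ := exists_index_p_ge hP H hH ha
  obtain ⟨φ, hφ⟩ := exists_hom hP K hK
  refine ⟨φ, ?_, ?_⟩
  · rw [mem_ann, hφ]; exact hHK
  · intro h
    rw [h, MonoidHom.ker_one] at hφ
    rw [← hφ, Subgroup.index_top] at hK
    exact hp.out.one_lt.ne hK

theorem ann_card {p : ℕ} [hp : Fact p.Prime] {P : Type u} [Group P] [Finite P]
    {n a : ℕ} (hP : Nat.card P = p ^ (n + 1)) (H : Subgroup P) (hH : Nat.card H = p ^ a)
    (ha : a ≤ n) : ∃ j, 1 ≤ j ∧ Nat.card (ann p H) = p ^ j := by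
  obtain ⟨j, hj⟩ := (IsPGroup.iff_card).mp
    ((isPGroup_Hm (p := p) (P := P)).to_subgroup (ann p H))
  refine ⟨j, ?_, hj⟩
  by_contra h0
  have hj0 : j = 0 := by omega
  rw [hj0, pow_zero] at hj
  obtain ⟨φ, hφ, hφ1⟩ := exists_ne_one_ann hP H hH ha
  have : ann p H = ⊥ := Subgroup.card_eq_one.mp hj
  rw [this, Subgroup.mem_bot] at hφ
  exact hφ1 hφ

theorem mem_zpowers_of_ker_le {p : ℕ} [hp : Fact p.Prime] {P : Type u} [Group P]
    {φ ψ : Hm p P} (hφ : φ ≠ 1) (h : φ.ker ≤ ψ.ker) : ψ ∈ Subgroup.zpowers φ := by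
  obtain ⟨x₀, hx₀⟩ : ∃ x₀, φ x₀ ≠ 1 := by
    by_contra hcon
    exact hφ (MonoidHom.ext fun x => by
      by_contra hx
      exact hcon ⟨x, hx⟩)
  have hgen : ∀ c : Multiplicative (ZMod p), c ∈ Submonoid.powers (φ x₀) := by
    intro c
    rw [mem_powers_iff_mem_zpowers]
    exact mem_zpowers_of_prime_card card_Cp hx₀
  obtain ⟨k, hk⟩ := (Submonoid.mem_powers_iff _ _).mp (hgen (ψ x₀))
  have hψ : ψ = φ ^ k := by
    refine MonoidHom.ext fun x => ?_
    obtain ⟨m, hm⟩ := (Submonoid.mem_powers_iff _ _).mp (hgen (φ x))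
    have h1 : x * (x₀ ^ m)⁻¹ ∈ φ.ker := by
      rw [MonoidHom.mem_ker, map_mul, map_inv, map_pow, hm, mul_inv_cancel]
    have h2 := MonoidHom.mem_ker.mp (h h1)
    rw [map_mul, map_inv, map_pow, mul_inv_eq_one] at h2
    show ψ x = (φ x) ^ k
    rw [h2, ← hk, ← hm, ← pow_mul, ← pow_mul, mul_comm]
  rw [hψ]
  exact Subgroup.npow_mem_zpowers φ k

theorem sq_dvd_card_Hm {p : ℕ} [hp : Fact p.Prime] {P : Type u} [Group P] [Finite P] {n : ℕ}
    (hP : Nat.card P = p ^ (n + 1)) (hnc : ¬ IsCyclic P) : p ^ 2 ∣ Nat.card (Hm p P) := by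
  obtain ⟨d, hd⟩ := (IsPGroup.iff_card).mp (isPGroup_Hm (p := p) (P := P))
  rw [hd]
  apply pow_dvd_pow
  by_contra hlt
  have hd01 : d = 0 ∨ d = 1 := by omega
  have hbot : Nat.card (⊥ : Subgroup P) = p ^ 0 := by rw [Subgroup.card_bot, pow_zero]
  obtain ⟨φ₀, -, hφ₀⟩ := exists_ne_one_ann hP ⊥ hbot (Nat.zero_le n)
  rcases hd01 with rfl | rfl
  · rw [pow_zero] at hd
    haveI : Subsingleton (Hm p P) := (Nat.card_eq_one_iff_unique.mp hd).1
    exact hφ₀ (Subsingleton.elim _ _)
  · rw [pow_one] at hd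
    apply hnc
    have hK₀ : φ₀.ker ≠ ⊤ := by
      intro h
      have := ker_index hφ₀
      rw [h, Subgroup.index_top] at this
      exact hp.out.one_lt.ne this
    obtain ⟨x, hx⟩ : ∃ x : P, x ∉ φ₀.ker := by
      by_contra hcon
      apply hK₀
      exact eq_top_iff.mpr fun g _ => by
        by_contra hg
        exact hcon ⟨g, hg⟩
    rw [isCyclic_iff_exists_zpowers_eq_top]
    refine ⟨x, ?_⟩
    by_contra hne
    have hdvd : Nat.card (Subgroup.zpowers x) ∣ p ^ (n + 1) :=
      hP ▸ Subgroup.card_subgroup_dvd_card _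
    obtain ⟨a, ha, hxa⟩ := (Nat.dvd_prime_pow hp.out).mp hdvd
    have han : a ≤ n := by
      by_contra h
      have : a = n + 1 := by omega
      apply hne
      rw [← Subgroup.card_eq_iff_eq_top, hxa, this, hP]
    obtain ⟨K, hxK, hK⟩ := exists_index_p_ge hP (Subgroup.zpowers x) hxa han
    obtain ⟨ψ, hψ⟩ := exists_hom hP K hK
    have hmem : ψ ∈ Subgroup.zpowers φ₀ := mem_zpowers_of_prime_card hd hφ₀
    have hle : Subgroup.zpowers φ₀ ≤ ann p φ₀.ker :=
      (Subgroup.zpowers_le).mpr (mem_ann.mpr le_rfl)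
    have h1 : φ₀.ker ≤ K := hψ ▸ mem_ann.mp (hle hmem)
    have h2 : φ₀.ker = K := by
      apply Subgroup.eq_of_le_of_card_ge h1
      have e1 := card_ker_mul hφ₀
      have e2 := K.card_mul_index
      rw [hK] at e2
      have : Nat.card K * p = Nat.card φ₀.ker * p := by rw [e1, e2]
      exact (Nat.eq_of_mul_eq_mul_right hp.out.pos this).le
    exact hx (h2 ▸ hxK (Subgroup.mem_zpowers x))

theorem double_count {p : ℕ} {P : Type u} [Group P] [Finite P] [Fintype (Hm p P)] (k : ℕ)
    [Fintype {H : Subgroup P // Nat.card H = k}] :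
    ∑ φ : Hm p P, Nat.card {H : Subgroup P // Nat.card H = k ∧ H ≤ φ.ker} =
      ∑ H : {H : Subgroup P // Nat.card H = k}, Nat.card (ann p H.1) := by
  classical
  haveI := Fintype.ofFinite (Subgroup P)
  have h := Finset.sum_card_bipartiteAbove_eq_sum_card_bipartiteBelow
    (s := (Finset.univ : Finset (Hm p P)))
    (t := Finset.univ.filter fun H : Subgroup P => Nat.card H = k)
    (fun (φ : Hm p P) (H : Subgroup P) => H ≤ φ.ker)
  have hL : ∀ φ : Hm p P,
      (Finset.bipartiteAbove (fun (φ : Hm p P) (H : Subgroup P) => H ≤ φ.ker)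
      (Finset.univ.filter fun H : Subgroup P => Nat.card H = k) φ).card =
      Nat.card {H : Subgroup P // Nat.card H = k ∧ H ≤ φ.ker} := by
    intro φ
    rw [Finset.bipartiteAbove, Finset.filter_filter, card_filter_eq_natCard]
  have hR : ∀ H : Subgroup P,
      (Finset.bipartiteBelow (fun (φ : Hm p P) (H : Subgroup P) => H ≤ φ.ker)
      Finset.univ H).card = Nat.card (ann p H) := by
    intro H
    rw [Finset.bipartiteBelow, card_filter_eq_natCard]
    rfl
  rw [Finset.sum_congr rfl (fun φ _ => hL φ), Finset.sum_congr rfl (fun H _ => hR H)] at h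
  rw [h]
  exact Finset.sum_subtype _ (fun H => by simp) _

theorem final_alg {p : ℕ} (S : ℕ) (h : (S : ZMod (p ^ 2)) = S * p + 1) :
    S ≡ 1 + p [MOD p ^ 2] := by
  rw [← ZMod.natCast_eq_natCast_iff]
  push_cast
  have hpp : ((p : ZMod (p ^ 2))) ^ 2 = 0 := by
    have := ZMod.natCast_self (p ^ 2)
    push_cast at this
    exact this
  linear_combination (1 + (p : ZMod (p ^ 2))) * h + (S : ZMod (p ^ 2)) * hpp

theorem card_ker_eq {p : ℕ} [hp : Fact p.Prime] {P : Type u} [Group P] [Finite P] {n : ℕ}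
    (hP : Nat.card P = p ^ (n + 1)) (φ : Hm p P) (hφ : φ ≠ 1) : Nat.card φ.ker = p ^ n := by
  have := card_ker_mul hφ
  rw [hP, pow_succ] at this
  exact Nat.eq_of_mul_eq_mul_right hp.out.pos this

theorem card_top_ker {p : ℕ} {P : Type u} [Group P] (k : ℕ) :
    Nat.card {H : Subgroup P // Nat.card H = k ∧ H ≤ (1 : Hm p P).ker} =
      Nat.card {H : Subgroup P // Nat.card H = k} := by
  apply Nat.card_congr
  exact
    { toFun := fun H => ⟨H.1, H.2.1⟩
      invFun := fun H => ⟨H.1, H.2, by rw [MonoidHom.ker_one]; exact le_top⟩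
      left_inv := fun _ => rfl
      right_inv := fun _ => rfl }

/-- the number of maximal subgroups of a non-cyclic `p`-group -/
theorem top_case {p : ℕ} [hp : Fact p.Prime] {P : Type u} [Group P] [Finite P] {n : ℕ}
    (hP : Nat.card P = p ^ (n + 1)) (hnc : ¬ IsCyclic P) :
    Nat.card {H : Subgroup P // Nat.card H = p ^ n} ≡ 1 + p [MOD p ^ 2] := by
  classical
  have hpr : p.Prime := hp.out
  haveI := Fintype.ofFinite (Hm p P)
  haveI := Fintype.ofFinite {H : Subgroup P // Nat.card H = p ^ n}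
  have hdc := double_count (p := p) (P := P) (p ^ n)
  have hcardS : Fintype.card {H : Subgroup P // Nat.card H = p ^ n} =
      Nat.card {H : Subgroup P // Nat.card H = p ^ n} := by rw [Nat.card_eq_fintype_card]
  have hker := card_ker_eq (p := p) hP
  -- RHS
  have hR : ∀ H : {H : Subgroup P // Nat.card H = p ^ n}, Nat.card (ann p H.1) = p := by
    rintro ⟨H, hH⟩
    obtain ⟨j, hj1, hj⟩ := ann_card hP H hH le_rfl
    obtain ⟨φ, hφ, hφ1⟩ := exists_ne_one_ann hP H hH le_rfl
    have hkerφ : φ.ker = H := by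
      symm
      apply Subgroup.eq_of_le_of_card_ge (mem_ann.mp hφ)
      rw [hker φ hφ1, hH]
    have hle : ann p H ≤ Subgroup.zpowers φ := by
      intro ψ hψ
      apply mem_zpowers_of_ker_le hφ1
      rw [hkerφ]; exact mem_ann.mp hψ
    have hz : Nat.card (Subgroup.zpowers φ) = p := by
      rw [Nat.card_zpowers]; exact orderOf_eq_prime (hm_pow φ) hφ1
    have h1 : p ^ j ≤ p :=
      calc p ^ j = Nat.card (ann p H) := hj.symm
        _ ≤ Nat.card (Subgroup.zpowers φ) := Subgroup.card_le_of_le hle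
        _ = p := hz
    have hj' : j ≤ 1 := by
      by_contra hlt
      have h2 : p ^ 2 ≤ p ^ j := Nat.pow_le_pow_right hpr.pos (by omega)
      nlinarith [hpr.two_le]
    have hj1' : j = 1 := by omega
    show Nat.card (ann p H) = p
    rw [hj, hj1', pow_one]
  have hRHS : ∑ H : {H : Subgroup P // Nat.card H = p ^ n}, Nat.card (ann p H.1) =
      Nat.card {H : Subgroup P // Nat.card H = p ^ n} * p := by
    rw [Finset.sum_congr rfl (fun H _ => hR H), Finset.sum_const, Finset.card_univ, smul_eq_mul,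
      hcardS]
  -- LHS
  have hL2 : ∀ φ : Hm p P, φ ≠ 1 →
      Nat.card {H : Subgroup P // Nat.card H = p ^ n ∧ H ≤ φ.ker} = 1 := by
    intro φ hφ
    rw [Nat.card_eq_one_iff_unique]
    constructor
    · constructor
      rintro ⟨H1, h1, h1'⟩ ⟨H2, h2, h2'⟩
      apply Subtype.ext
      show H1 = H2
      rw [Subgroup.eq_of_le_of_card_ge h1' (by rw [hker φ hφ, h1]),
        Subgroup.eq_of_le_of_card_ge h2' (by rw [hker φ hφ, h2])]
    · exact ⟨⟨φ.ker, hker φ hφ, le_rfl⟩⟩
  have hV : 1 ≤ Nat.card (Hm p P) := Nat.card_pos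
  have hsplit := (Finset.add_sum_erase Finset.univ
    (fun φ : Hm p P => Nat.card {H : Subgroup P // Nat.card H = p ^ n ∧ H ≤ φ.ker})
    (Finset.mem_univ (1 : Hm p P))).symm
  have hLHS : ∑ φ : Hm p P, Nat.card {H : Subgroup P // Nat.card H = p ^ n ∧ H ≤ φ.ker} + 1 =
      Nat.card {H : Subgroup P // Nat.card H = p ^ n} + Nat.card (Hm p P) := by
    rw [hsplit]
    rw [card_top_ker, Finset.sum_congr rfl (fun φ hφ => hL2 φ (Finset.ne_of_mem_erase hφ)),
      Finset.sum_const, Finset.card_erase_of_mem (Finset.mem_univ _), Finset.card_univ,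
      smul_eq_mul, mul_one, Fintype.card_eq_nat_card]
    omega
  apply final_alg
  have hVz : ((Nat.card (Hm p P) : ℕ) : ZMod (p ^ 2)) = 0 :=
    (ZMod.natCast_eq_zero_iff _ _).mpr (sq_dvd_card_Hm hP hnc)
  have hnat : Nat.card {H : Subgroup P // Nat.card H = p ^ n} + Nat.card (Hm p P) =
      Nat.card {H : Subgroup P // Nat.card H = p ^ n} * p + 1 := by
    rw [← hLHS, hdc, hRHS]
  have := congrArg (Nat.cast : ℕ → ZMod (p ^ 2)) hnat
  push_cast at this
  rw [hVz, add_zero] at this
  exact this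


/-- the number of nontrivial homomorphisms to `C_p` with cyclic kernel is divisible by `p` -/
theorem cyc_count {p : ℕ} [hp : Fact p.Prime] (hp2 : p ≠ 2) {P : Type u} [Group P] [Finite P]
    {n : ℕ} (hP : Nat.card P = p ^ (n + 1)) (hn : 2 ≤ n) (hnc : ¬ IsCyclic P) :
    p ∣ Nat.card {φ : Hm p P // φ ≠ 1 ∧ IsCyclic ↥φ.ker} := by
  have hpr : p.Prime := hp.out
  have hPG : IsPGroup p P := IsPGroup.of_card hP
  by_cases hex : ∃ φ : Hm p P, φ ≠ 1 ∧ IsCyclic ↥φ.ker
  swap
  · have : IsEmpty {φ : Hm p P // φ ≠ 1 ∧ IsCyclic ↥φ.ker} := ⟨fun φ => hex ⟨φ.1, φ.2⟩⟩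
    rw [Nat.card_eq_zero.mpr (Or.inl this)]
    exact dvd_zero p
  obtain ⟨φ₀, hφ₀, hcyc₀⟩ := hex
  obtain ⟨hΩ, hΩcard⟩ :=
    Cfsg.Agent.S0127.result (p := p) hp2 hPG hnc φ₀.ker hcyc₀ (ker_index hφ₀)
  set Ω := Subgroup.closure {x : P | x ^ p = 1} with hΩdef
  have hchar : ∀ φ : Hm p P, (φ ≠ 1 ∧ IsCyclic ↥φ.ker) ↔ ¬ φ ∈ ann p Ω := by
    intro φ
    rw [mem_ann]
    constructor
    · rintro ⟨-, hcyc⟩ hle
      haveI := hcyc
      have e := Subgroup.subgroupOfEquivOfLe hle
      have hc : Nat.card (Ω.subgroupOf φ.ker) = p ^ 2 := (Nat.card_congr e.toEquiv).trans hΩcard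
      have hexp : Monoid.exponent (Ω.subgroupOf φ.ker) = p ^ 2 := by
        rw [IsCyclic.exponent_eq_card, hc]
      have hdvd : Monoid.exponent (Ω.subgroupOf φ.ker) ∣ p := by
        apply Monoid.exponent_dvd_of_forall_pow_eq_one
        intro y
        have hy : ((y.1 : φ.ker) : P) ∈ Ω := y.2
        have h1 := hΩ.2 _ hy
        apply Subtype.ext
        apply Subtype.ext
        simpa using h1
      rw [hexp] at hdvd
      have := Nat.le_of_dvd hpr.pos hdvd
      nlinarith [hpr.two_le]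
    · intro hnle
      constructor
      · rintro rfl
        apply hnle
        rw [MonoidHom.ker_one]; exact le_top
      · have hK : IsPGroup p ↥φ.ker := hPG.to_subgroup _
        have huniq : ∀ H1 H2 : Subgroup ↥φ.ker, Nat.card H1 = p → Nat.card H2 = p → H1 = H2 := by
          intro H1 H2 h1 h2
          have hI : Nat.card ↥(Ω ⊓ φ.ker) ≤ p := by
            have hd : Nat.card ↥(Ω ⊓ φ.ker) ∣ p ^ 2 :=
              hΩcard ▸ Subgroup.card_dvd_of_le (inf_le_left : Ω ⊓ φ.ker ≤ Ω)
            obtain ⟨i, hi, hIi⟩ := (Nat.dvd_prime_pow hpr).mp hd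
            have hi2 : i ≠ 2 := by
              rintro rfl
              apply hnle
              have h3 : Ω ⊓ φ.ker = Ω :=
                Subgroup.eq_of_le_of_card_ge inf_le_left (by rw [hIi, hΩcard])
              rw [← h3]; exact inf_le_right
            rw [hIi]
            calc p ^ i ≤ p ^ 1 := Nat.pow_le_pow_right hpr.pos (by omega)
              _ = p := pow_one p
          have key : ∀ H : Subgroup ↥φ.ker, Nat.card H = p →
              H.map φ.ker.subtype = Ω ⊓ φ.ker := by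
            intro H hH
            have hle : H.map φ.ker.subtype ≤ Ω ⊓ φ.ker := by
              rintro _ ⟨y, hy, rfl⟩
              refine ⟨?_, y.2⟩
              apply Subgroup.subset_closure
              show ((y : P)) ^ p = 1
              have h3 := pow_card_eq_one' (G := H) (x := ⟨y, hy⟩)
              rw [hH] at h3
              have h4 := congrArg (fun z : H => ((z : φ.ker) : P)) h3
              simpa using h4
            apply Subgroup.eq_of_le_of_card_ge hle
            rw [Subgroup.card_map_of_injective φ.ker.subtype_injective, hH]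
            exact hI
          exact Subgroup.map_injective φ.ker.subtype_injective
            ((key H1 h1).trans (key H2 h2).symm)
        rcases Cfsg.Agent.S0016.result p hK huniq with h | ⟨h2, -⟩
        · exact h
        · exact absurd h2 hp2
  have hcongr : Nat.card {φ : Hm p P // φ ≠ 1 ∧ IsCyclic ↥φ.ker} =
      Nat.card {φ : Hm p P // ¬ φ ∈ ann p Ω} :=
    Nat.card_congr (Equiv.subtypeEquivRight hchar)
  rw [hcongr]
  have hsplit := card_split (fun φ : Hm p P => φ ∈ ann p Ω)
  have h1 : p ∣ Nat.card (Hm p P) :=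
    dvd_trans (dvd_pow_self p two_ne_zero) (sq_dvd_card_Hm hP hnc)
  have h2 : p ∣ Nat.card {φ : Hm p P // φ ∈ ann p Ω} := by
    obtain ⟨j, hj1, hj⟩ := ann_card hP Ω hΩcard hn
    show p ∣ Nat.card (ann p Ω)
    rw [hj]; exact dvd_pow_self p (by omega)
  rw [hsplit] at h1
  exact (Nat.dvd_add_right h2).mp h1

/-- the common kernel of a group of homomorphisms -/
def coann {p : ℕ} {P : Type u} [Group P] (B : Subgroup (Hm p P)) : Subgroup P where
  carrier := {x | ∀ φ ∈ B, φ x = 1}
  one_mem' := fun φ _ => map_one φ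
  mul_mem' := fun {a b} ha hb φ hφ => by rw [map_mul, ha φ hφ, hb φ hφ, one_mul]
  inv_mem' := fun {a} ha φ hφ => by rw [map_inv, ha φ hφ, inv_one]

theorem le_ann_iff {p : ℕ} {P : Type u} [Group P] {B : Subgroup (Hm p P)} {H : Subgroup P} :
    B ≤ ann p H ↔ H ≤ coann B := by
  constructor
  · intro h x hx φ hφ
    exact MonoidHom.mem_ker.mp (mem_ann.mp (h hφ) hx)
  · intro h φ hφ
    rw [mem_ann]
    intro x hx
    exact MonoidHom.mem_ker.mpr (h hx φ hφ)

theorem pow_dvd_card_coann {p : ℕ} [hp : Fact p.Prime] {P : Type u} [Group P] [Finite P]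
    {n a : ℕ} (hP : Nat.card P = p ^ (n + 1)) (B : Subgroup (Hm p P)) (hB : Nat.card B = p ^ 2)
    (ha : a + 1 ≤ n) : p ^ a ∣ Nat.card (coann B) := by
  have hpr : p.Prime := hp.out
  have hPG : IsPGroup p P := IsPGroup.of_card hP
  have hp2lt : p < p ^ 2 := by nlinarith [hpr.two_le]
  -- generators of `B`
  obtain ⟨φ₁, hφ₁, hφ₁1⟩ : ∃ φ₁ ∈ B, φ₁ ≠ 1 := by
    by_contra hcon
    have hbot : B = ⊥ := (Subgroup.eq_bot_iff_forall B).mpr fun x hx => by
      by_contra hx1
      exact hcon ⟨x, hx, hx1⟩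
    rw [hbot, Subgroup.card_bot] at hB
    nlinarith [hpr.two_le]
  have hZ : Nat.card (Subgroup.zpowers φ₁) = p := by
    rw [Nat.card_zpowers]; exact orderOf_eq_prime (hm_pow φ₁) hφ₁1
  have hZB : Subgroup.zpowers φ₁ ≤ B := (Subgroup.zpowers_le).mpr hφ₁
  obtain ⟨φ₂, hφ₂, hφ₂Z⟩ : ∃ φ₂ ∈ B, φ₂ ∉ Subgroup.zpowers φ₁ := by
    by_contra hcon
    have hle : B ≤ Subgroup.zpowers φ₁ := fun x hx => by
      by_contra hxZ
      exact hcon ⟨x, hx, hxZ⟩
    have := Subgroup.card_le_of_le hle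
    rw [hB, hZ] at this
    omega
  have hφ₂1 : φ₂ ≠ 1 := by
    rintro rfl
    exact hφ₂Z (Subgroup.one_mem _)
  have hWB : Subgroup.closure ({φ₁, φ₂} : Set (Hm p P)) ≤ B := by
    rw [Subgroup.closure_le]
    intro x hx
    rcases hx with rfl | rfl
    · exact hφ₁
    · exact hφ₂
  have hZW : Subgroup.zpowers φ₁ ≤ Subgroup.closure ({φ₁, φ₂} : Set (Hm p P)) :=
    (Subgroup.zpowers_le).mpr (Subgroup.subset_closure (Set.mem_insert _ _))
  have hW : Subgroup.closure ({φ₁, φ₂} : Set (Hm p P)) = B := by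
    apply Subgroup.eq_of_le_of_card_ge hWB
    have hd : Nat.card (Subgroup.closure ({φ₁, φ₂} : Set (Hm p P))) ∣ p ^ 2 :=
      hB ▸ Subgroup.card_dvd_of_le hWB
    obtain ⟨i, hi, hWi⟩ := (Nat.dvd_prime_pow hpr).mp hd
    have hi2 : i = 2 := by
      by_contra hne
      have hi1 : i ≤ 1 := by omega
      have hle : Nat.card (Subgroup.closure ({φ₁, φ₂} : Set (Hm p P))) ≤
          Nat.card (Subgroup.zpowers φ₁) := by
        rw [hWi, hZ]
        calc p ^ i ≤ p ^ 1 := Nat.pow_le_pow_right hpr.pos hi1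
          _ = p := pow_one p
      have heq := Subgroup.eq_of_le_of_card_ge hZW hle
      apply hφ₂Z
      rw [heq]
      exact Subgroup.subset_closure (Set.mem_insert_of_mem _ rfl)
    rw [hB, hWi, hi2]
  have hle : φ₁.ker ⊓ φ₂.ker ≤ coann B := by
    intro x hx φ hφ
    have hE : Subgroup.closure ({φ₁, φ₂} : Set (Hm p P)) ≤ ann p (Subgroup.zpowers x) := by
      rw [Subgroup.closure_le]
      intro ψ hψ
      rcases hψ with rfl | rfl
      · exact mem_ann.mpr ((Subgroup.zpowers_le).mpr hx.1)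
      · exact mem_ann.mpr ((Subgroup.zpowers_le).mpr hx.2)
    rw [← hW] at hφ
    exact MonoidHom.mem_ker.mp (mem_ann.mp (hE hφ) (Subgroup.mem_zpowers x))
  have hidx : (coann B).index ≤ p * p := by
    have h1 := Subgroup.index_dvd_of_le hle
    have h2 : (φ₁.ker ⊓ φ₂.ker).index ≤ p * p := by
      have := Subgroup.index_inf_le (H := φ₁.ker) (K := φ₂.ker)
      rwa [ker_index hφ₁1, ker_index hφ₂1] at this
    have hpos : 0 < (φ₁.ker ⊓ φ₂.ker).index := Nat.pos_of_ne_zero Subgroup.index_ne_zero_of_finite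
    exact le_trans (Nat.le_of_dvd hpos h1) h2
  obtain ⟨e, he⟩ := hPG.index (coann B)
  obtain ⟨m, hm⟩ := (IsPGroup.iff_card).mp (hPG.to_subgroup (coann B))
  have hmul := (coann B).card_mul_index
  rw [hm, he, hP, ← pow_add] at hmul
  have hme : m + e = n + 1 := Nat.pow_right_injective hpr.two_le hmul
  have he2 : e ≤ 2 := by
    rw [he, ← pow_two] at hidx
    exact (Nat.pow_le_pow_iff_right hpr.one_lt).mp hidx
  rw [hm]
  exact pow_dvd_pow p (by omega)

theorem N2_mod {p : ℕ} [hp : Fact p.Prime] {P : Type u} [Group P] [Finite P] {n a : ℕ}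
    (hP : Nat.card P = p ^ (n + 1)) (hnc : ¬ IsCyclic P) (ha : a + 1 ≤ n) :
    Nat.card {H : Subgroup P // Nat.card H = p ^ a ∧ Nat.card (ann p H) ≠ p} ≡ 1 [MOD p] := by
  classical
  have hpr : p.Prime := hp.out
  haveI := Fintype.ofFinite (Subgroup P)
  haveI := Fintype.ofFinite (Subgroup (Hm p P))
  have h := Finset.sum_card_bipartiteAbove_eq_sum_card_bipartiteBelow
    (s := Finset.univ.filter fun B : Subgroup (Hm p P) => Nat.card B = p ^ 2)
    (t := Finset.univ.filter fun H : Subgroup P => Nat.card H = p ^ a)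
    (fun (B : Subgroup (Hm p P)) (H : Subgroup P) => B ≤ ann p H)
  have hL : ∀ B ∈ (Finset.univ.filter fun B : Subgroup (Hm p P) => Nat.card B = p ^ 2),
      (Finset.bipartiteAbove (fun (B : Subgroup (Hm p P)) (H : Subgroup P) => B ≤ ann p H)
        (Finset.univ.filter fun H : Subgroup P => Nat.card H = p ^ a) B).card ≡ 1 [MOD p] := by
    intro B hB
    have hB' : Nat.card B = p ^ 2 := (Finset.mem_filter.mp hB).2
    rw [Finset.bipartiteAbove, Finset.filter_filter, card_filter_eq_natCard]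
    have e : Nat.card {H : Subgroup P // Nat.card H = p ^ a ∧ B ≤ ann p H} =
        Nat.card {H : Subgroup P // Nat.card H = p ^ a ∧ H ≤ coann B} :=
      Nat.card_congr (Equiv.subtypeEquivRight fun H => and_congr_right fun _ => le_ann_iff)
    rw [e, card_subgroups_le]
    exact Cfsg.Agent.S3975.result p a hpr (pow_dvd_card_coann hP B hB' ha)
  have hR : ∀ H ∈ (Finset.univ.filter fun H : Subgroup P => Nat.card H = p ^ a),
      (Finset.bipartiteBelow (fun (B : Subgroup (Hm p P)) (H : Subgroup P) => B ≤ ann p H)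
        (Finset.univ.filter fun B : Subgroup (Hm p P) => Nat.card B = p ^ 2) H).card ≡
        (if Nat.card (ann p H) ≠ p then 1 else 0) [MOD p] := by
    intro H hH
    have hH' : Nat.card H = p ^ a := (Finset.mem_filter.mp hH).2
    rw [Finset.bipartiteBelow, Finset.filter_filter, card_filter_eq_natCard, card_subgroups_le]
    obtain ⟨j, hj1, hj⟩ := ann_card hP H hH' (by omega)
    split_ifs with hc
    · have hj2 : 2 ≤ j := by
        by_contra hlt
        have hj1' : j = 1 := by omega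
        rw [hj1', pow_one] at hj
        exact hc hj
      exact Cfsg.Agent.S3975.result p 2 hpr (hj ▸ pow_dvd_pow p hj2)
    · have hc' : Nat.card (ann p H) = p := not_not.mp hc
      have : IsEmpty {H' : Subgroup ↥(ann p H) // Nat.card H' = p ^ 2} := by
        constructor
        rintro ⟨H', hH'2⟩
        have h3 := Subgroup.card_subgroup_dvd_card H'
        rw [hH'2, hc'] at h3
        have h4 := Nat.le_of_dvd hpr.pos h3
        nlinarith [hpr.two_le]
      rw [Nat.card_eq_zero.mpr (Or.inl this)]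
  have h1 := modEq_sum _ _ _ p hL
  have h2 := modEq_sum _ _ _ p hR
  rw [h] at h1
  have h3 : ∑ _B ∈ (Finset.univ.filter fun B : Subgroup (Hm p P) => Nat.card B = p ^ 2), 1 =
      Nat.card {B : Subgroup (Hm p P) // Nat.card B = p ^ 2} := by
    rw [Finset.sum_const, smul_eq_mul, mul_one, card_filter_eq_natCard]
  have h4 : ∑ H ∈ (Finset.univ.filter fun H : Subgroup P => Nat.card H = p ^ a),
      (if Nat.card (ann p H) ≠ p then 1 else 0) =
      Nat.card {H : Subgroup P // Nat.card H = p ^ a ∧ Nat.card (ann p H) ≠ p} := by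
    rw [Finset.sum_boole, Finset.filter_filter, card_filter_eq_natCard]
    rfl
  have h5 : Nat.card {B : Subgroup (Hm p P) // Nat.card B = p ^ 2} ≡ 1 [MOD p] :=
    Cfsg.Agent.S3975.result p 2 hpr (sq_dvd_card_Hm hP hnc)
  rw [← h4]
  rw [h3] at h1
  exact h2.symm.trans (h1.trans h5)


theorem step_case {p : ℕ} [hp : Fact p.Prime] (hp2 : p ≠ 2) {P : Type u} [Group P] [Finite P]
    {n a : ℕ} (hP : Nat.card P = p ^ (n + 1)) (hnc : ¬ IsCyclic P) (ha1 : 1 ≤ a) (han : a < n)
    (ih : ∀ K : Subgroup P, Nat.card K = p ^ n → ¬ IsCyclic K →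
      Nat.card {H : Subgroup K // Nat.card H = p ^ a} ≡ 1 + p [MOD p ^ 2]) :
    Nat.card {H : Subgroup P // Nat.card H = p ^ a} ≡ 1 + p [MOD p ^ 2] := by
  classical
  have hpr : p.Prime := hp.out
  haveI := Fintype.ofFinite (Hm p P)
  haveI := Fintype.ofFinite {H : Subgroup P // Nat.card H = p ^ a}
  have hdc := double_count (p := p) (P := P) (p ^ a)
  have hcardS : Fintype.card {H : Subgroup P // Nat.card H = p ^ a} =
      Nat.card {H : Subgroup P // Nat.card H = p ^ a} := by rw [Nat.card_eq_fintype_card]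
  have hker := card_ker_eq (p := p) hP
  have hpp : ((p : ZMod (p ^ 2))) ^ 2 = 0 := by
    have := ZMod.natCast_self (p ^ 2)
    push_cast at this
    exact this
  have hV0 : ((Nat.card (Hm p P) : ℕ) : ZMod (p ^ 2)) = 0 :=
    (ZMod.natCast_eq_zero_iff _ _).mpr (sq_dvd_card_Hm hP hnc)
  -- terms of the left hand side
  have hAφ : ∀ φ : Hm p P, φ ≠ 1 →
      ((Nat.card {H : Subgroup P // Nat.card H = p ^ a ∧ H ≤ φ.ker} : ℕ) : ZMod (p ^ 2)) =
        (1 + p) - p * (if IsCyclic ↥φ.ker then 1 else 0) := by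
    intro φ hφ
    rw [card_subgroups_le]
    split_ifs with hc
    · haveI := hc
      rw [card_subgroups_of_isCyclic a (by rw [hker φ hφ]; exact pow_dvd_pow p han.le)]
      push_cast; ring
    · have h1 := ih φ.ker (hker φ hφ) hc
      have h2 := (ZMod.natCast_eq_natCast_iff _ _ _).mpr h1
      rw [h2]; push_cast; ring
  have hcyc : (p : ZMod (p ^ 2)) *
      (((Finset.univ.erase (1 : Hm p P)).filter fun φ : Hm p P => IsCyclic ↥φ.ker).card :
        ZMod (p ^ 2)) = 0 := by
    have hdiv : p ∣ ((Finset.univ.erase (1 : Hm p P)).filter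
        fun φ : Hm p P => IsCyclic ↥φ.ker).card := by
      have h1 := cyc_count hp2 hP (by omega) hnc
      have h2 : ((Finset.univ.erase (1 : Hm p P)).filter fun φ : Hm p P => IsCyclic ↥φ.ker) =
          Finset.univ.filter fun φ : Hm p P => φ ≠ 1 ∧ IsCyclic ↥φ.ker := by
        ext φ
        simp [Finset.mem_erase]
      rw [h2, card_filter_eq_natCard]
      exact h1
    obtain ⟨c, hc⟩ := hdiv
    rw [hc]
    push_cast
    linear_combination (c : ZMod (p ^ 2)) * hpp
  have hT : ((∑ φ ∈ Finset.univ.erase (1 : Hm p P),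
      Nat.card {H : Subgroup P // Nat.card H = p ^ a ∧ H ≤ φ.ker} : ℕ) : ZMod (p ^ 2)) =
      -(1 + p) := by
    rw [Nat.cast_sum, Finset.sum_congr rfl (fun φ hφ => hAφ φ (Finset.ne_of_mem_erase hφ)),
      Finset.sum_sub_distrib, Finset.sum_const, ← Finset.mul_sum, Finset.sum_boole,
      Finset.card_erase_of_mem (Finset.mem_univ _), Finset.card_univ, Fintype.card_eq_nat_card,
      nsmul_eq_mul, Nat.cast_pred Nat.card_pos, hV0, hcyc]
    ring
  -- the right hand side
  have hann : ∀ H : {H : Subgroup P // Nat.card H = p ^ a},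
      ((Nat.card (ann p H.1) : ℕ) : ZMod (p ^ 2)) =
        (p : ZMod (p ^ 2)) * (if Nat.card (ann p H.1) = p then 1 else 0) := by
    rintro ⟨H, hH⟩
    obtain ⟨j, hj1, hj⟩ := ann_card hP H hH (by omega)
    split_ifs with hc
    · rw [hc, mul_one]
    · have hj2 : 2 ≤ j := by
        by_contra hlt
        have hj1' : j = 1 := by omega
        rw [hj1', pow_one] at hj
        exact hc hj
      rw [mul_zero, ZMod.natCast_eq_zero_iff]
      show p ^ 2 ∣ Nat.card (ann p H)
      rw [hj]; exact pow_dvd_pow p hj2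
  have hR : ((∑ H : {H : Subgroup P // Nat.card H = p ^ a}, Nat.card (ann p H.1) : ℕ) :
      ZMod (p ^ 2)) = (p : ZMod (p ^ 2)) *
      ((Finset.univ.filter fun H : {H : Subgroup P // Nat.card H = p ^ a} =>
        Nat.card (ann p H.1) = p).card : ZMod (p ^ 2)) := by
    rw [Nat.cast_sum, Finset.sum_congr rfl (fun H _ => hann H), ← Finset.mul_sum,
      Finset.sum_boole]
  have hN12 := Finset.card_filter_add_card_filter_not
    (s := (Finset.univ : Finset {H : Subgroup P // Nat.card H = p ^ a}))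
    (fun H : {H : Subgroup P // Nat.card H = p ^ a} => Nat.card (ann p H.1) = p)
  rw [Finset.card_univ, hcardS] at hN12
  have hN2 : ((Finset.univ.filter fun H : {H : Subgroup P // Nat.card H = p ^ a} =>
      ¬ Nat.card (ann p H.1) = p).card) ≡ 1 [MOD p] := by
    rw [card_filter_eq_natCard]
    have e : Nat.card {H : {H : Subgroup P // Nat.card H = p ^ a} // ¬ Nat.card (ann p H.1) = p} =
        Nat.card {H : Subgroup P // Nat.card H = p ^ a ∧ Nat.card (ann p H) ≠ p} :=
      Nat.card_congr (Equiv.subtypeSubtypeEquivSubtypeInter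
        (fun H : Subgroup P => Nat.card H = p ^ a) (fun H : Subgroup P => Nat.card (ann p H) ≠ p))
    rw [e]
    exact N2_mod hP hnc (by omega)
  have hN2z : (p : ZMod (p ^ 2)) *
      ((Finset.univ.filter fun H : {H : Subgroup P // Nat.card H = p ^ a} =>
        ¬ Nat.card (ann p H.1) = p).card : ZMod (p ^ 2)) = p := by
    have h1 : (Finset.univ.filter fun H : {H : Subgroup P // Nat.card H = p ^ a} =>
        ¬ Nat.card (ann p H.1) = p).card % p = 1 := by
      have := hN2
      unfold Nat.ModEq at this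
      rw [this, Nat.mod_eq_of_lt hpr.one_lt]
    have h2 := Nat.div_add_mod (Finset.univ.filter fun H : {H : Subgroup P // Nat.card H = p ^ a} =>
        ¬ Nat.card (ann p H.1) = p).card p
    rw [h1] at h2
    rw [← h2]
    push_cast
    linear_combination ((((Finset.univ.filter fun H : {H : Subgroup P // Nat.card H = p ^ a} =>
        ¬ Nat.card (ann p H.1) = p).card / p : ℕ)) : ZMod (p ^ 2)) * hpp
  -- assemble
  have hsplit := (Finset.add_sum_erase Finset.univ
    (fun φ : Hm p P => Nat.card {H : Subgroup P // Nat.card H = p ^ a ∧ H ≤ φ.ker})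
    (Finset.mem_univ (1 : Hm p P))).symm
  rw [hsplit, card_top_ker] at hdc
  have hdcz := congrArg (Nat.cast : ℕ → ZMod (p ^ 2)) hdc
  rw [Nat.cast_add, hT, hR] at hdcz
  have hN12z := congrArg (Nat.cast : ℕ → ZMod (p ^ 2)) hN12
  rw [Nat.cast_add] at hN12z
  apply final_alg
  linear_combination hdcz + (p : ZMod (p ^ 2)) * hN12z - hN2z

/-- **Kulakoff's theorem** for odd primes. -/
theorem kulakoff_odd {p : ℕ} [hp : Fact p.Prime] (hp2 : p ≠ 2) :
    ∀ (n : ℕ) (P : Type u) [Group P] [Finite P], Nat.card P = p ^ n → ¬ IsCyclic P →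
      ∀ a : ℕ, 1 ≤ a → a < n →
        Nat.card {H : Subgroup P // Nat.card H = p ^ a} ≡ 1 + p [MOD p ^ 2] := by
  intro n
  induction n with
  | zero =>
    intro P _ _ _ _ a h1 h2
    omega
  | succ n ih =>
    intro P _ _ hP hnc a ha1 ha2
    rcases Nat.lt_succ_iff_lt_or_eq.mp ha2 with h | rfl
    · exact step_case hp2 hP hnc ha1 h (fun K hK hKnc => ih ↥K hK hKnc a ha1 h)
    · exact top_case hP hnc

end Cfsg.Agent.Lib.Helper12.Kulakoff
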