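import Mathlib
import Cfsg.Agent.Lib.Helper12.Kulakoff

/-!
# Kulakoff's theorem for `p = 2`, part A (helper12)

Basic facts on homomorphisms to `C_2` and the generalized counting step `step2`:
for a non-cyclic group `P` of order `2 ^ (n + 1)` and `1 ≤ a < n`, the number of subgroups of order
`2 ^ a` is `3 + 2 c` modulo `4`, where `c` is the number of maximal subgroups whose number of
subgroups of order `2 ^ a` is `1` modulo `4`.
-/

set_option autoImplicit false
set_option linter.style.haveILetI false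

namespace Cfsg.Agent.Lib.Helper12.Kulakoff2

open Cfsg.Agent.Lib.Helper12.PGroupCount Cfsg.Agent.Lib.Helper12.Kulakoff

universe u

/-- the non-identity element of `C_2` -/
def sg : Multiplicative (ZMod 2) := Multiplicative.ofAdd 1

theorem sg_ne_one : sg ≠ 1 := by decide

theorem sg_mul_sg : sg * sg = 1 := by decide

theorem eq_one_or_sg (a : Multiplicative (ZMod 2)) : a = 1 ∨ a = sg := by
  revert a; decide

theorem c2_mul_self (a : Multiplicative (ZMod 2)) : a * a = 1 := by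
  revert a; decide

theorem c2_inv (a : Multiplicative (ZMod 2)) : a⁻¹ = a := by
  revert a; decide

theorem eq_sg_of_ne_one {a : Multiplicative (ZMod 2)} (h : a ≠ 1) : a = sg := by
  rcases eq_one_or_sg a with h1 | h1
  · exact absurd h1 h
  · exact h1

theorem sg_pow_even {i : ℕ} (h : i % 2 = 0) : sg ^ i = 1 := by
  obtain ⟨k, rfl⟩ : ∃ k, i = 2 * k := ⟨i / 2, by omega⟩
  rw [pow_mul, pow_two, sg_mul_sg, one_pow]

theorem sg_pow_odd {i : ℕ} (h : i % 2 = 1) : sg ^ i = sg := by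
  obtain ⟨k, rfl⟩ : ∃ k, i = 2 * k + 1 := ⟨i / 2, by omega⟩
  rw [pow_succ, pow_mul, pow_two, sg_mul_sg, one_pow, one_mul]

theorem hom_eq_of_ker_eq {P : Type u} [Group P] {φ ψ : Hm 2 P} (h : φ.ker = ψ.ker) : φ = ψ := by
  refine MonoidHom.ext fun x => ?_
  by_cases hx : x ∈ φ.ker
  · have hx' : x ∈ ψ.ker := h ▸ hx
    rw [MonoidHom.mem_ker.mp hx, MonoidHom.mem_ker.mp hx']
  · have hx' : x ∉ ψ.ker := h ▸ hx
    have h1 : φ x ≠ 1 := fun h1 => hx (MonoidHom.mem_ker.mpr h1)
    have h2 : ψ x ≠ 1 := fun h2 => hx' (MonoidHom.mem_ker.mpr h2)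
    rw [eq_sg_of_ne_one h1, eq_sg_of_ne_one h2]

theorem hm_mul_self {P : Type u} [Group P] (φ : Hm 2 P) : φ * φ = 1 := by
  refine MonoidHom.ext fun x => ?_
  rw [MonoidHom.mul_apply, c2_mul_self, MonoidHom.one_apply]

theorem card_and_split {α : Type*} [Finite α] (Q R : α → Prop) :
    Nat.card {x // Q x} = Nat.card {x // Q x ∧ R x} + Nat.card {x // Q x ∧ ¬ R x} := by
  rw [card_split (fun x : {x // Q x} => R x.1)]
  congr 1
  · exact Nat.card_congr (Equiv.subtypeSubtypeEquivSubtypeInter Q R)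
  · exact Nat.card_congr (Equiv.subtypeSubtypeEquivSubtypeInter Q fun x => ¬ R x)

theorem card_le_two_of {α : Type*} [Finite α] (a b : α) (h : ∀ x : α, x = a ∨ x = b) :
    Nat.card α ≤ 2 := by
  classical
  haveI := Fintype.ofFinite α
  rw [Nat.card_eq_fintype_card]
  have hsub : (Finset.univ : Finset α) ⊆ {a, b} := by
    intro x _
    rcases h x with rfl | rfl
    · exact Finset.mem_insert_self _ _
    · exact Finset.mem_insert_of_mem (Finset.mem_singleton_self _)
  calc Fintype.card α = (Finset.univ : Finset α).card := rfl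
    _ ≤ ({a, b} : Finset α).card := Finset.card_le_card hsub
    _ ≤ 2 := Finset.card_le_two

theorem even_card_of_involution {α : Type*} [Finite α] (ι : α → α) (h1 : ∀ x, ι (ι x) = x)
    (h2 : ∀ x, ι x ≠ x) : Even (Nat.card α) := by
  classical
  haveI := Fintype.ofFinite α
  rw [Nat.card_eq_fintype_card]
  let f : Function.End α := ι
  have hf : f ^ 2 ^ 1 = 1 := by
    rw [pow_one, pow_two]
    funext x
    exact h1 x
  have h3 := Equiv.Perm.card_fixedPoints_modEq (p := 2) (n := 1) (f := f) hf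
  have h4 : Fintype.card (Function.fixedPoints f) = 0 := by
    rw [Fintype.card_eq_zero_iff]
    exact ⟨fun x => h2 x.1 x.2⟩
  rw [h4] at h3
  exact Nat.even_iff.mpr h3

/-- the number of non-trivial homomorphisms to `C_2` of a non-cyclic `2`-group -/
theorem card_hm_ne_one {P : Type u} [Group P] [Finite P] {n : ℕ}
    (hP : Nat.card P = 2 ^ (n + 1)) (hnc : ¬ IsCyclic P) :
    Nat.card {φ : Hm 2 P // φ ≠ 1} % 4 = 3 := by
  have h1 : Nat.card (Hm 2 P) = Nat.card {φ : Hm 2 P // φ = 1} + Nat.card {φ : Hm 2 P // φ ≠ 1} :=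
    card_split (fun φ : Hm 2 P => φ = 1)
  have h2 : Nat.card {φ : Hm 2 P // φ = 1} = 1 := by
    rw [Nat.card_eq_one_iff_unique]
    exact ⟨⟨fun a b => Subtype.ext (a.2.trans b.2.symm)⟩, ⟨⟨1, rfl⟩⟩⟩
  have h3 : 2 ^ 2 ∣ Nat.card (Hm 2 P) := sq_dvd_card_Hm hP hnc
  have h4 : 0 < Nat.card (Hm 2 P) := Nat.card_pos
  rw [h2] at h1
  omega

/-- the counting step for `p = 2` -/
theorem step2 {P : Type u} [Group P] [Finite P] {n a : ℕ}
    (hP : Nat.card P = 2 ^ (n + 1)) (hnc : ¬ IsCyclic P) (han : a < n)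
    (bad : Hm 2 P → Prop)
    (hgood : ∀ φ : Hm 2 P, φ ≠ 1 → ¬ bad φ →
      Nat.card {H : Subgroup φ.ker // Nat.card H = 2 ^ a} ≡ 3 [MOD 4])
    (hbad : ∀ φ : Hm 2 P, φ ≠ 1 → bad φ →
      Nat.card {H : Subgroup φ.ker // Nat.card H = 2 ^ a} ≡ 1 [MOD 4]) :
    Nat.card {H : Subgroup P // Nat.card H = 2 ^ a} ≡
      3 + 2 * Nat.card {φ : Hm 2 P // φ ≠ 1 ∧ bad φ} [MOD 4] := by
  classical
  haveI := Fintype.ofFinite (Hm 2 P)
  haveI := Fintype.ofFinite {H : Subgroup P // Nat.card H = 2 ^ a}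
  have hdc := double_count (p := 2) (P := P) (2 ^ a)
  have hcardS : Fintype.card {H : Subgroup P // Nat.card H = 2 ^ a} =
      Nat.card {H : Subgroup P // Nat.card H = 2 ^ a} := by rw [Nat.card_eq_fintype_card]
  have hker := card_ker_eq (p := 2) hP
  have h4 : (4 : ZMod 4) = 0 := by decide
  have hV0 : ((Nat.card (Hm 2 P) : ℕ) : ZMod 4) = 0 := by
    have h := sq_dvd_card_Hm hP hnc
    rw [ZMod.natCast_eq_zero_iff]
    exact h
  -- terms of the left hand side
  have hAφ : ∀ φ : Hm 2 P, φ ≠ 1 →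
      ((Nat.card {H : Subgroup P // Nat.card H = 2 ^ a ∧ H ≤ φ.ker} : ℕ) : ZMod 4) =
        3 - 2 * (if bad φ then 1 else 0) := by
    intro φ hφ
    rw [card_subgroups_le]
    split_ifs with hc
    · have h2 := (ZMod.natCast_eq_natCast_iff _ _ _).mpr (hbad φ hφ hc)
      rw [h2]; decide
    · have h2 := (ZMod.natCast_eq_natCast_iff _ _ _).mpr (hgood φ hφ hc)
      rw [h2]; decide
  have hcnt : ((Finset.univ.erase (1 : Hm 2 P)).filter fun φ => bad φ).card =
      Nat.card {φ : Hm 2 P // φ ≠ 1 ∧ bad φ} := by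
    have h2 : ((Finset.univ.erase (1 : Hm 2 P)).filter fun φ => bad φ) =
        Finset.univ.filter fun φ : Hm 2 P => φ ≠ 1 ∧ bad φ := by
      ext φ
      simp [Finset.mem_erase]
    rw [h2, card_filter_eq_natCard]
  have hT : ((∑ φ ∈ Finset.univ.erase (1 : Hm 2 P),
      Nat.card {H : Subgroup P // Nat.card H = 2 ^ a ∧ H ≤ φ.ker} : ℕ) : ZMod 4) =
      1 + 2 * ((Nat.card {φ : Hm 2 P // φ ≠ 1 ∧ bad φ} : ℕ) : ZMod 4) := by
    rw [Nat.cast_sum, Finset.sum_congr rfl (fun φ hφ => hAφ φ (Finset.ne_of_mem_erase hφ)),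
      Finset.sum_sub_distrib, Finset.sum_const, ← Finset.mul_sum, Finset.sum_boole,
      Finset.card_erase_of_mem (Finset.mem_univ _), Finset.card_univ, Fintype.card_eq_nat_card,
      nsmul_eq_mul, Nat.cast_pred Nat.card_pos, hV0, hcnt]
    linear_combination (-1 - ((Nat.card {φ : Hm 2 P // φ ≠ 1 ∧ bad φ} : ℕ) : ZMod 4)) * h4
  -- the right hand side
  have hann : ∀ H : {H : Subgroup P // Nat.card H = 2 ^ a},
      ((Nat.card (ann 2 H.1) : ℕ) : ZMod 4) =
        (2 : ZMod 4) * (if Nat.card (ann 2 H.1) = 2 then 1 else 0) := by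
    rintro ⟨H, hH⟩
    obtain ⟨j, hj1, hj⟩ := ann_card hP H hH (by omega)
    split_ifs with hc
    · rw [hc, mul_one]; rfl
    · have hj2 : 2 ≤ j := by
        by_contra hlt
        have hj1' : j = 1 := by omega
        rw [hj1', pow_one] at hj
        exact hc hj
      rw [mul_zero, ZMod.natCast_eq_zero_iff]
      show 4 ∣ Nat.card (ann 2 H)
      rw [hj]
      exact pow_dvd_pow 2 hj2
  have hR : ((∑ H : {H : Subgroup P // Nat.card H = 2 ^ a}, Nat.card (ann 2 H.1) : ℕ) :
      ZMod 4) = (2 : ZMod 4) *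
      ((Finset.univ.filter fun H : {H : Subgroup P // Nat.card H = 2 ^ a} =>
        Nat.card (ann 2 H.1) = 2).card : ZMod 4) := by
    rw [Nat.cast_sum, Finset.sum_congr rfl (fun H _ => hann H), ← Finset.mul_sum,
      Finset.sum_boole]
  have hN12 := Finset.card_filter_add_card_filter_not
    (s := (Finset.univ : Finset {H : Subgroup P // Nat.card H = 2 ^ a}))
    (fun H : {H : Subgroup P // Nat.card H = 2 ^ a} => Nat.card (ann 2 H.1) = 2)
  rw [Finset.card_univ, hcardS] at hN12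
  have hN2 : ((Finset.univ.filter fun H : {H : Subgroup P // Nat.card H = 2 ^ a} =>
      ¬ Nat.card (ann 2 H.1) = 2).card) ≡ 1 [MOD 2] := by
    rw [card_filter_eq_natCard]
    have e : Nat.card {H : {H : Subgroup P // Nat.card H = 2 ^ a} // ¬ Nat.card (ann 2 H.1) = 2} =
        Nat.card {H : Subgroup P // Nat.card H = 2 ^ a ∧ Nat.card (ann 2 H) ≠ 2} :=
      Nat.card_congr (Equiv.subtypeSubtypeEquivSubtypeInter
        (fun H : Subgroup P => Nat.card H = 2 ^ a) (fun H : Subgroup P => Nat.card (ann 2 H) ≠ 2))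
    rw [e]
    exact N2_mod hP hnc (by omega)
  have hN2z : (2 : ZMod 4) *
      ((Finset.univ.filter fun H : {H : Subgroup P // Nat.card H = 2 ^ a} =>
        ¬ Nat.card (ann 2 H.1) = 2).card : ZMod 4) = 2 := by
    have h1 : (Finset.univ.filter fun H : {H : Subgroup P // Nat.card H = 2 ^ a} =>
        ¬ Nat.card (ann 2 H.1) = 2).card % 2 = 1 := by
      have := hN2
      unfold Nat.ModEq at this
      rw [this]
    have h2 := Nat.div_add_mod (Finset.univ.filter fun H : {H : Subgroup P // Nat.card H = 2 ^ a} =>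
        ¬ Nat.card (ann 2 H.1) = 2).card 2
    rw [h1] at h2
    rw [← h2]
    push_cast
    linear_combination ((((Finset.univ.filter fun H : {H : Subgroup P // Nat.card H = 2 ^ a} =>
        ¬ Nat.card (ann 2 H.1) = 2).card / 2 : ℕ)) : ZMod 4) * h4
  -- assemble
  have hsplit := (Finset.add_sum_erase Finset.univ
    (fun φ : Hm 2 P => Nat.card {H : Subgroup P // Nat.card H = 2 ^ a ∧ H ≤ φ.ker})
    (Finset.mem_univ (1 : Hm 2 P))).symm
  rw [hsplit, card_top_ker] at hdc
  have hdcz := congrArg (Nat.cast : ℕ → ZMod 4) hdc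
  rw [Nat.cast_add, hT, hR] at hdcz
  have hN12z := congrArg (Nat.cast : ℕ → ZMod 4) hN12
  rw [Nat.cast_add] at hN12z
  rw [← ZMod.natCast_eq_natCast_iff]
  push_cast
  linear_combination -hdcz - 2 * hN12z + hN2z

end Cfsg.Agent.Lib.Helper12.Kulakoff2
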