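import Mathlib
import Cfsg.Agent.Lib.Helper12.Kulakoff2A
import Cfsg.Agent.H5.CyclicMax
import Cfsg.Agent.Lib.Helper1.MaxClassTwo

/-!
# Kulakoff's theorem for `p = 2`, part B (helper12)

Groups of order `2 ^ (n + 1)` with a cyclic subgroup `⟨w⟩` of index `2`, `y ∉ ⟨w⟩`,
`y w y⁻¹ = w ^ r`, `y ^ 2 = w ^ t`: the index of the commutator subgroup (`4` iff `r ≡ 3 mod 4`),
the parity of the number of cyclic maximal subgroups, and the maximal subgroups of groups of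
maximal class.
-/

set_option autoImplicit false
set_option linter.style.haveILetI false

namespace Cfsg.Agent.Lib.Helper12.Kulakoff2

open Cfsg.Agent.Lib.Helper12.PGroupCount Cfsg.Agent.Lib.Helper12.Kulakoff
open scoped commutatorElement

universe u

theorem e_mod_three {r : ℕ} (h : r % 4 = 3) (i t : ℕ) : (i * (1 + r) + t) % 4 = t % 4 := by
  obtain ⟨q, rfl⟩ : ∃ q, r = 4 * q + 3 := ⟨r / 4, by omega⟩
  have : i * (1 + (4 * q + 3)) + t = t + 4 * (i * (q + 1)) := by ring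
  rw [this, Nat.add_mul_mod_self_left]

theorem e_mod_one {r : ℕ} (h : r % 4 = 1) (i t : ℕ) :
    (i * (1 + r) + t) % 4 = (2 * i + t) % 4 := by
  obtain ⟨q, rfl⟩ : ∃ q, r = 4 * q + 1 := ⟨r / 4, by omega⟩
  have : i * (1 + (4 * q + 1)) + t = 2 * i + t + 4 * (i * q) := by ring
  rw [this, Nat.add_mul_mod_self_left]

section CM

variable {X : Type u} [Group X]

theorem orderOf_sq_of {w : X} {m : ℕ} (hw : orderOf w = 2 ^ (m + 1)) : orderOf (w ^ 2) = 2 ^ m := by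
  rw [orderOf_pow' w two_ne_zero, hw, Nat.gcd_eq_right (dvd_pow_self 2 (Nat.succ_ne_zero m)),
    pow_succ, Nat.mul_div_cancel _ (by norm_num)]

theorem orderOf_four_of {w : X} {m : ℕ} (hw : orderOf w = 2 ^ (m + 2)) :
    orderOf (w ^ 4) = 2 ^ m := by
  have h4 : (4 : ℕ) ∣ 2 ^ (m + 2) := ⟨2 ^ m, by rw [pow_add]; ring⟩
  rw [orderOf_pow' w (by norm_num), hw, Nat.gcd_eq_right h4, pow_add]
  exact Nat.mul_div_cancel _ (by norm_num)

theorem cm_sq {w y : X} {r t : ℕ} (hr : y * w * y⁻¹ = w ^ r) (ht : y ^ 2 = w ^ t) (i : ℕ) :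
    (w ^ i * y) ^ 2 = w ^ (i * (1 + r) + t) := by
  have h1 : y * w ^ i * y⁻¹ = w ^ (r * i) := by rw [← conj_pow, hr, pow_mul]
  have h2 : y * w ^ i = w ^ (r * i) * y := by rw [← h1]; group
  calc (w ^ i * y) ^ 2 = w ^ i * (y * w ^ i) * y := by rw [pow_two]; group
    _ = w ^ i * (w ^ (r * i) * y) * y := by rw [h2]
    _ = w ^ i * w ^ (r * i) * y ^ 2 := by rw [pow_two]; group
    _ = w ^ (i * (1 + r) + t) := by
      rw [ht, ← pow_add, ← pow_add]
      congr 1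
      ring

theorem cm_r_odd {w y : X} {n r : ℕ} (hn : 1 ≤ n) (hw : orderOf w = 2 ^ n)
    (hr : y * w * y⁻¹ = w ^ r) : r % 2 = 1 := by
  by_contra hcon
  obtain ⟨k, hk⟩ : ∃ k, r = 2 * k := ⟨r / 2, by omega⟩
  obtain ⟨m, rfl⟩ : ∃ m, n = m + 1 := ⟨n - 1, by omega⟩
  have h0 : w ^ (2 ^ (m + 1)) = 1 := by rw [← hw]; exact pow_orderOf_eq_one w
  have h1 : (y * w * y⁻¹) ^ (2 ^ m) = 1 := by
    rw [hr, ← pow_mul, hk]
    have : 2 * k * 2 ^ m = 2 ^ (m + 1) * k := by rw [pow_succ]; ring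
    rw [this, pow_mul, h0, one_pow]
  rw [conj_pow, conj_eq_one_iff] at h1
  have h2 := orderOf_dvd_of_pow_eq_one h1
  rw [hw] at h2
  have h3 := Nat.le_of_dvd (pow_pos (by norm_num) m) h2
  rw [pow_succ] at h3
  have := pow_pos (show 0 < 2 by norm_num) m
  omega

theorem cm_order_iff {w y : X} {m r t : ℕ} (hw : orderOf w = 2 ^ (m + 2))
    (hr : y * w * y⁻¹ = w ^ r) (ht : y ^ 2 = w ^ t) (i : ℕ) :
    orderOf (w ^ i * y) = 2 ^ (m + 2) ↔ (i * (1 + r) + t) % 4 = 2 := by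
  have hsq := cm_sq hr ht i
  have hpow : ∀ k : ℕ, (w ^ i * y) ^ (2 * k) = w ^ ((i * (1 + r) + t) * k) := by
    intro k
    rw [pow_mul, hsq, ← pow_mul]
  have hone : ∀ j : ℕ, w ^ j = 1 ↔ 2 ^ (m + 2) ∣ j := by
    intro j
    rw [← hw]
    exact orderOf_dvd_iff_pow_eq_one.symm
  have e1 : 2 ^ (m + 2) = 2 * 2 ^ (m + 1) := by rw [pow_succ]; ring
  have e2 : 2 ^ (m + 1) = 2 * 2 ^ m := by rw [pow_succ]; ring
  have e3 : 2 ^ (m + 2) = 4 * 2 ^ m := by rw [pow_succ, pow_succ]; ring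
  have hA : (w ^ i * y) ^ (2 ^ (m + 2)) = 1 ↔ 2 ∣ (i * (1 + r) + t) := by
    rw [e1, hpow, hone, e1, Nat.mul_dvd_mul_iff_right (pow_pos (by norm_num) _)]
  have hB : (w ^ i * y) ^ (2 ^ (m + 1)) = 1 ↔ 4 ∣ (i * (1 + r) + t) := by
    rw [e2, hpow, hone, e3, Nat.mul_dvd_mul_iff_right (pow_pos (by norm_num) _)]
  constructor
  · intro h
    have h1 : (w ^ i * y) ^ (2 ^ (m + 2)) = 1 := by rw [← h]; exact pow_orderOf_eq_one _
    have h2 : ¬ (w ^ i * y) ^ (2 ^ (m + 1)) = 1 := by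
      intro h3
      have h4 := orderOf_dvd_of_pow_eq_one h3
      rw [h] at h4
      have h5 := Nat.le_of_dvd (pow_pos (by norm_num) _) h4
      rw [e1] at h5
      have := pow_pos (show 0 < 2 by norm_num) (m + 1)
      omega
    rw [hA] at h1
    rw [hB] at h2
    omega
  · intro h
    apply orderOf_eq_prime_pow (p := 2) (n := m + 1)
    · rw [hB]; omega
    · rw [hA]; omega

theorem cm_index {w : X} {n : ℕ} (hX : Nat.card X = 2 ^ (n + 1)) (hw : orderOf w = 2 ^ n) :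
    (Subgroup.zpowers w).index = 2 := by
  have h1 := (Subgroup.zpowers w).card_mul_index
  rw [Nat.card_zpowers, hw, hX, pow_succ] at h1
  exact Nat.eq_of_mul_eq_mul_left (pow_pos (by norm_num) n) h1

variable [Finite X]

theorem mem_zpowers_nat {w x : X} (hx : x ∈ Subgroup.zpowers w) : ∃ i : ℕ, x = w ^ i := by
  have h := (mem_powers_iff_mem_zpowers).mpr hx
  obtain ⟨i, hi⟩ := (Submonoid.mem_powers_iff _ _).mp h
  exact ⟨i, hi.symm⟩

theorem cm_cases {w y : X} {n : ℕ} (hX : Nat.card X = 2 ^ (n + 1)) (hw : orderOf w = 2 ^ n)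
    (hy : y ∉ Subgroup.zpowers w) (g : X) :
    (∃ i : ℕ, g = w ^ i) ∨ (∃ i : ℕ, g = w ^ i * y) := by
  by_cases hg : g ∈ Subgroup.zpowers w
  · exact Or.inl (mem_zpowers_nat hg)
  · right
    have h2 := cm_index hX hw
    have h3 : g * y⁻¹ ∈ Subgroup.zpowers w := by
      rw [Subgroup.mul_mem_iff_of_index_two h2]
      constructor
      · intro h; exact absurd h hg
      · intro h; exact absurd ((Subgroup.inv_mem_iff _).mp h) hy
    obtain ⟨i, hi⟩ := mem_zpowers_nat h3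
    exact ⟨i, by rw [← hi]; group⟩

theorem cm_conj_out {w y : X} {n r : ℕ} (hX : Nat.card X = 2 ^ (n + 1)) (hw : orderOf w = 2 ^ n)
    (hy : y ∉ Subgroup.zpowers w) (hr : y * w * y⁻¹ = w ^ r) {g : X}
    (hg : g ∉ Subgroup.zpowers w) : g * w * g⁻¹ = w ^ r := by
  rcases cm_cases hX hw hy g with ⟨i, rfl⟩ | ⟨i, rfl⟩
  · exact absurd (Subgroup.pow_mem _ (Subgroup.mem_zpowers w) i) hg
  · have : w ^ i * y * w * (w ^ i * y)⁻¹ = w ^ i * (y * w * y⁻¹) * (w ^ i)⁻¹ := by group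
    rw [this, hr, ← pow_add, add_comm, pow_add, mul_inv_cancel_right]

theorem cm_conj {w y : X} {n r : ℕ} (hX : Nat.card X = 2 ^ (n + 1)) (hw : orderOf w = 2 ^ n)
    (hy : y ∉ Subgroup.zpowers w) (hr : y * w * y⁻¹ = w ^ r) (g : X) :
    g * w * g⁻¹ = w ∨ g * w * g⁻¹ = w ^ r := by
  by_cases hg : g ∈ Subgroup.zpowers w
  · left
    obtain ⟨i, rfl⟩ := mem_zpowers_nat hg
    rw [← pow_succ, pow_succ', mul_inv_cancel_right]
  · exact Or.inr (cm_conj_out hX hw hy hr hg)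

theorem cm_normal_zpowers {w y : X} {n r : ℕ} (hX : Nat.card X = 2 ^ (n + 1))
    (hw : orderOf w = 2 ^ n) (hy : y ∉ Subgroup.zpowers w) (hr : y * w * y⁻¹ = w ^ r) (k : ℕ) :
    (Subgroup.zpowers (w ^ k)).Normal := by
  constructor
  intro x hx g
  obtain ⟨z, rfl⟩ := Subgroup.mem_zpowers_iff.mp hx
  have h1 : g * (w ^ k) ^ z * g⁻¹ = ((g * w * g⁻¹) ^ k) ^ z := by
    rw [conj_pow, conj_zpow]
  rw [h1]
  rcases cm_conj hX hw hy hr g with h | h
  · rw [h]; exact Subgroup.zpow_mem_zpowers _ _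
  · rw [h, ← pow_mul, mul_comm, pow_mul]
    exact Subgroup.zpow_mem _ (Subgroup.pow_mem _ (Subgroup.mem_zpowers _) r) z

theorem cm_comm_le {w y : X} {n r : ℕ} (hX : Nat.card X = 2 ^ (n + 1)) (hw : orderOf w = 2 ^ n)
    (hy : y ∉ Subgroup.zpowers w) (hr : y * w * y⁻¹ = w ^ r) (k s : ℕ) (hk : r = 1 + k * s) :
    commutator X ≤ Subgroup.zpowers (w ^ k) := by
  haveI hN := cm_normal_zpowers hX hw hy hr k
  have hWk : (QuotientGroup.mk w : X ⧸ Subgroup.zpowers (w ^ k)) ^ k = 1 := by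
    rw [← QuotientGroup.mk_pow, QuotientGroup.eq_one_iff]
    exact Subgroup.mem_zpowers _
  have hWY : Commute (QuotientGroup.mk w : X ⧸ Subgroup.zpowers (w ^ k)) (QuotientGroup.mk y) := by
    have h1 : (QuotientGroup.mk y : X ⧸ Subgroup.zpowers (w ^ k)) * QuotientGroup.mk w *
        (QuotientGroup.mk y)⁻¹ = QuotientGroup.mk w := by
      rw [← QuotientGroup.mk_mul, ← QuotientGroup.mk_inv, ← QuotientGroup.mk_mul, hr, hk, pow_add,
        pow_one, pow_mul, QuotientGroup.mk_mul, QuotientGroup.mk_pow, QuotientGroup.mk_pow, hWk,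
        one_pow, mul_one]
    exact (mul_inv_eq_iff_eq_mul.mp h1).symm
  have hrep : ∀ q : X ⧸ Subgroup.zpowers (w ^ k),
      (∃ i : ℕ, q = (QuotientGroup.mk w) ^ i) ∨
      (∃ i : ℕ, q = (QuotientGroup.mk w) ^ i * QuotientGroup.mk y) := by
    intro q
    obtain ⟨g, rfl⟩ := QuotientGroup.mk_surjective q
    rcases cm_cases hX hw hy g with ⟨i, rfl⟩ | ⟨i, rfl⟩
    · exact Or.inl ⟨i, QuotientGroup.mk_pow _ _ _⟩
    · exact Or.inr ⟨i, by rw [QuotientGroup.mk_mul, QuotientGroup.mk_pow]⟩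
  have hcomm : ∀ a b : X ⧸ Subgroup.zpowers (w ^ k), a * b = b * a := by
    intro a b
    have hWW := Commute.refl (QuotientGroup.mk w : X ⧸ Subgroup.zpowers (w ^ k))
    have hYY := Commute.refl (QuotientGroup.mk y : X ⧸ Subgroup.zpowers (w ^ k))
    rcases hrep a with ⟨i, rfl⟩ | ⟨i, rfl⟩ <;> rcases hrep b with ⟨j, rfl⟩ | ⟨j, rfl⟩
    · exact hWW.pow_pow i j
    · exact Commute.mul_right (hWW.pow_pow i j) (hWY.pow_left i)
    · exact Commute.mul_left (hWW.pow_pow i j) (hWY.symm.pow_right j)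
    · exact Commute.mul_left (Commute.mul_right (hWW.pow_pow i j) (hWY.pow_left i))
        (Commute.mul_right (hWY.symm.pow_right j) hYY)
  letI : CommGroup (X ⧸ Subgroup.zpowers (w ^ k)) :=
    { (QuotientGroup.Quotient.group (Subgroup.zpowers (w ^ k))) with mul_comm := hcomm }
  have h := Abelianization.commutator_subset_ker (QuotientGroup.mk' (Subgroup.zpowers (w ^ k)))
  rwa [QuotientGroup.ker_mk'] at h

theorem cm_index_four {w y : X} {m r : ℕ} (hX : Nat.card X = 2 ^ (m + 2 + 1))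
    (hw : orderOf w = 2 ^ (m + 2)) (hy : y ∉ Subgroup.zpowers w) (hr : y * w * y⁻¹ = w ^ r)
    (h3 : r % 4 = 3) : (commutator X).index = 4 := by
  obtain ⟨q, rfl⟩ : ∃ q, r = 4 * q + 3 := ⟨r / 4, by omega⟩
  have hle : commutator X ≤ Subgroup.zpowers (w ^ 2) :=
    cm_comm_le hX hw hy hr 2 (2 * q + 1) (by ring)
  have hord2 : orderOf (w ^ 2) = 2 ^ (m + 1) := orderOf_sq_of hw
  have hge : Subgroup.zpowers (w ^ 2) ≤ commutator X := by
    have hc : (w ^ 2) ^ (2 * q + 1) ∈ commutator X := by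
      have h1 : ⁅y, w⁆ = (w ^ 2) ^ (2 * q + 1) := by
        rw [commutatorElement_def, hr, ← pow_mul]
        have : 4 * q + 3 = 2 * (2 * q + 1) + 1 := by ring
        rw [this, pow_succ, mul_inv_cancel_right]
      rw [← h1, commutator_def]
      exact Subgroup.commutator_mem_commutator (Subgroup.mem_top y) (Subgroup.mem_top w)
    have hco : (orderOf (w ^ 2)).Coprime (2 * q + 1) := by
      rw [hord2]
      apply Nat.Coprime.pow_left
      rw [Nat.Prime.coprime_iff_not_dvd Nat.prime_two]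
      omega
    have hord' : orderOf ((w ^ 2) ^ (2 * q + 1)) = orderOf (w ^ 2) := hco.orderOf_pow
    have heq : Subgroup.zpowers ((w ^ 2) ^ (2 * q + 1)) = Subgroup.zpowers (w ^ 2) := by
      apply Subgroup.eq_of_le_of_card_ge
      · rw [Subgroup.zpowers_le]; exact Subgroup.pow_mem _ (Subgroup.mem_zpowers _) _
      · rw [Nat.card_zpowers, Nat.card_zpowers, hord']
    rw [← heq, Subgroup.zpowers_le]
    exact hc
  have heq : commutator X = Subgroup.zpowers (w ^ 2) := le_antisymm hle hge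
  have h1 := (Subgroup.zpowers (w ^ 2)).card_mul_index
  rw [Nat.card_zpowers, hord2, hX] at h1
  have h2 : 2 ^ (m + 2 + 1) = 2 ^ (m + 1) * 4 := by rw [pow_succ, pow_succ]; ring
  rw [h2] at h1
  rw [heq]
  exact Nat.eq_of_mul_eq_mul_left (pow_pos (by norm_num) _) h1

theorem cm_index_ne_four {w y : X} {m r : ℕ} (hX : Nat.card X = 2 ^ (m + 2 + 1))
    (hw : orderOf w = 2 ^ (m + 2)) (hy : y ∉ Subgroup.zpowers w) (hr : y * w * y⁻¹ = w ^ r)
    (h1 : r % 4 = 1) : (commutator X).index ≠ 4 := by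
  obtain ⟨q, rfl⟩ : ∃ q, r = 4 * q + 1 := ⟨r / 4, by omega⟩
  have hle : commutator X ≤ Subgroup.zpowers (w ^ 4) :=
    cm_comm_le hX hw hy hr 4 q (by ring)
  have hord4 : orderOf (w ^ 4) = 2 ^ m := orderOf_four_of hw
  have h2 := (Subgroup.zpowers (w ^ 4)).card_mul_index
  rw [Nat.card_zpowers, hord4, hX] at h2
  have h3 : 2 ^ (m + 2 + 1) = 2 ^ m * 8 := by rw [pow_succ, pow_succ, pow_succ]; ring
  rw [h3] at h2
  have h4 : (Subgroup.zpowers (w ^ 4)).index = 8 :=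
    Nat.eq_of_mul_eq_mul_left (pow_pos (by norm_num) _) h2
  have h5 := Subgroup.index_dvd_of_le hle
  rw [h4] at h5
  intro h6
  rw [h6] at h5
  omega

theorem cm_t_even {w y : X} {m t : ℕ} (hX : Nat.card X = 2 ^ (m + 2 + 1)) (hnc : ¬ IsCyclic X)
    (hw : orderOf w = 2 ^ (m + 2)) (ht : y ^ 2 = w ^ t) : t % 2 = 0 := by
  by_contra hcon
  apply hnc
  apply isCyclic_of_orderOf_eq_card y
  rw [hX]
  apply orderOf_eq_prime_pow (p := 2) (n := m + 2)
  · intro h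
    have h1 : 2 ^ (m + 2) = 2 * 2 ^ (m + 1) := by rw [pow_succ]; ring
    rw [h1, pow_mul, ht, ← pow_mul] at h
    have h2 := orderOf_dvd_of_pow_eq_one h
    rw [hw, h1] at h2
    have h3 := (Nat.mul_dvd_mul_iff_right (pow_pos (by norm_num) (m + 1))).mp h2
    omega
  · rw [← hX]; exact pow_card_eq_one'

theorem cm_cyclic_iff {w y : X} {m r t : ℕ} (hX : Nat.card X = 2 ^ (m + 2 + 1))
    (hw : orderOf w = 2 ^ (m + 2)) (hy : y ∉ Subgroup.zpowers w) (hr : y * w * y⁻¹ = w ^ r)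
    (ht : y ^ 2 = w ^ t) (φ : Hm 2 X) (hφw : φ w ≠ 1) :
    IsCyclic φ.ker ↔ ∃ i : ℕ, φ (w ^ i * y) = 1 ∧ (i * (1 + r) + t) % 4 = 2 := by
  have hφ1 : φ ≠ 1 := by
    intro h
    apply hφw
    rw [h, MonoidHom.one_apply]
  have hker : Nat.card φ.ker = 2 ^ (m + 2) := card_ker_eq (p := 2) hX φ hφ1
  constructor
  · intro hcyc
    obtain ⟨g, hg⟩ := hcyc.exists_generator
    have hord : orderOf (g : X) = 2 ^ (m + 2) := by
      rw [Subgroup.orderOf_coe, orderOf_eq_card_of_forall_mem_zpowers hg, hker]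
    have hgC : (g : X) ∉ Subgroup.zpowers w := by
      intro hmem
      apply hφw
      have hle : Subgroup.zpowers (g : X) ≤ Subgroup.zpowers w := Subgroup.zpowers_le.mpr hmem
      have heq : Subgroup.zpowers (g : X) = Subgroup.zpowers w :=
        Subgroup.eq_of_le_of_card_ge hle (by rw [Nat.card_zpowers, Nat.card_zpowers, hord, hw])
      have hwk : w ∈ φ.ker := by
        have h1 : w ∈ Subgroup.zpowers (g : X) := heq ▸ Subgroup.mem_zpowers w
        exact (Subgroup.zpowers_le.mpr g.2) h1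
      exact MonoidHom.mem_ker.mp hwk
    rcases cm_cases hX hw hy (g : X) with ⟨i, hi⟩ | ⟨i, hi⟩
    · exfalso
      apply hgC
      rw [hi]
      exact Subgroup.pow_mem _ (Subgroup.mem_zpowers w) i
    · refine ⟨i, ?_, ?_⟩
      · rw [← hi]; exact MonoidHom.mem_ker.mp g.2
      · rw [← cm_order_iff hw hr ht i, ← hi]; exact hord
  · rintro ⟨i, hi1, hi2⟩
    have hord := (cm_order_iff hw hr ht i).mpr hi2
    have hmem : w ^ i * y ∈ φ.ker := MonoidHom.mem_ker.mpr hi1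
    apply isCyclic_of_orderOf_eq_card (⟨w ^ i * y, hmem⟩ : φ.ker)
    rw [Subgroup.orderOf_mk, hord, hker]

theorem cm_cyc_parity {w y : X} {m r t : ℕ} (hX : Nat.card X = 2 ^ (m + 2 + 1))
    (hnc : ¬ IsCyclic X) (hw : orderOf w = 2 ^ (m + 2)) (hy : y ∉ Subgroup.zpowers w)
    (hr : y * w * y⁻¹ = w ^ r) (ht : y ^ 2 = w ^ t) :
    (r % 4 = 3 → Odd (Nat.card {φ : Hm 2 X // φ ≠ 1 ∧ IsCyclic φ.ker})) ∧
    (r % 4 = 1 → Even (Nat.card {φ : Hm 2 X // φ ≠ 1 ∧ IsCyclic φ.ker})) := by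
  obtain ⟨φC, hφC⟩ := exists_hom hX (Subgroup.zpowers w) (cm_index hX hw)
  have hCw : φC w = 1 := by
    rw [← MonoidHom.mem_ker, hφC]; exact Subgroup.mem_zpowers w
  have hCy : φC y = sg := by
    apply eq_sg_of_ne_one
    intro h
    apply hy
    rw [← hφC]; exact MonoidHom.mem_ker.mpr h
  have hC1 : φC ≠ 1 := by
    intro h
    rw [h, MonoidHom.one_apply] at hCy
    exact sg_ne_one hCy.symm
  have hCcyc : IsCyclic φC.ker := by rw [hφC]; infer_instance
  have hteven := cm_t_even hX hnc hw ht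
  have hker := card_ker_eq (p := 2) hX
  have hval : ∀ (φ : Hm 2 X) (i : ℕ), φ (w ^ i * y) = (φ w) ^ i * φ y := by
    intro φ i; rw [map_mul, map_pow]
  have hmulC : ∀ (φ : Hm 2 X) (i : ℕ), (φ * φC) (w ^ i * y) = φ (w ^ i * y) * sg := by
    intro φ i
    rw [MonoidHom.mul_apply, hval φC, hCw, one_pow, one_mul, hCy]
  have hmulCw : ∀ φ : Hm 2 X, (φ * φC) w = φ w := by
    intro φ; rw [MonoidHom.mul_apply, hCw, mul_one]
  have hw1 : ∀ φ : Hm 2 X, φ w = 1 → φ = 1 ∨ φ = φC := by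
    intro φ h
    by_cases h1 : φ = 1
    · exact Or.inl h1
    · right
      apply hom_eq_of_ker_eq
      rw [hφC]
      symm
      apply Subgroup.eq_of_le_of_card_ge
      · rw [Subgroup.zpowers_le]; exact MonoidHom.mem_ker.mpr h
      · rw [hker φ h1, Nat.card_zpowers, hw]
  have hshift : ∀ (φ : Hm 2 X), φ w ≠ 1 → ∀ i : ℕ,
      (φ * φC) (w ^ (i + 1) * y) = φ (w ^ i * y) := by
    intro φ hφw i
    rw [hmulC, hval, hval, eq_sg_of_ne_one hφw, pow_succ]
    generalize sg ^ i = a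
    generalize φ y = b
    revert a b
    decide
  have hcyc_iff : ∀ φ : Hm 2 X, φ w ≠ 1 →
      (IsCyclic φ.ker ↔ ∃ i : ℕ, φ (w ^ i * y) = 1 ∧ (i * (1 + r) + t) % 4 = 2) :=
    fun φ h => cm_cyclic_iff hX hw hy hr ht φ h
  have hsplit := card_and_split (α := Hm 2 X) (fun φ => φ ≠ 1 ∧ IsCyclic φ.ker)
    (fun φ => φ w = 1)
  have hfirst : Nat.card {φ : Hm 2 X // (φ ≠ 1 ∧ IsCyclic φ.ker) ∧ φ w = 1} = 1 := by
    rw [Nat.card_eq_one_iff_unique]
    constructor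
    · constructor
      rintro ⟨φ, ⟨hφ1, -⟩, hφw⟩ ⟨ψ, ⟨hψ1, -⟩, hψw⟩
      apply Subtype.ext
      show φ = ψ
      rcases hw1 φ hφw with h | h
      · exact absurd h hφ1
      · rcases hw1 ψ hψw with h' | h'
        · exact absurd h' hψ1
        · rw [h, h']
    · exact ⟨⟨φC, ⟨hC1, hCcyc⟩, hCw⟩⟩
  constructor
  · intro h3
    have hT : Even (Nat.card {φ : Hm 2 X // (φ ≠ 1 ∧ IsCyclic φ.ker) ∧ ¬ φ w = 1}) := by
      have hmem : ∀ φ : Hm 2 X, ((φ ≠ 1 ∧ IsCyclic φ.ker) ∧ ¬ φ w = 1) →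
          ((φ * φC ≠ 1 ∧ IsCyclic (φ * φC).ker) ∧ ¬ (φ * φC) w = 1) := by
        rintro φ ⟨⟨-, hcyc⟩, hφw⟩
        have hw' : ¬ (φ * φC) w = 1 := by rw [hmulCw]; exact hφw
        refine ⟨⟨?_, ?_⟩, hw'⟩
        · intro h
          apply hw'
          rw [h, MonoidHom.one_apply]
        · obtain ⟨i, hi1, hi2⟩ := (hcyc_iff φ hφw).mp hcyc
          rw [hcyc_iff (φ * φC) hw']
          refine ⟨i + 1, ?_, ?_⟩
          · rw [hshift φ hφw]; exact hi1
          · rw [e_mod_three h3] at hi2 ⊢; exact hi2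
      apply even_card_of_involution
        (fun φ : {φ : Hm 2 X // (φ ≠ 1 ∧ IsCyclic φ.ker) ∧ ¬ φ w = 1} =>
          (⟨φ.1 * φC, hmem φ.1 φ.2⟩ : {φ : Hm 2 X // (φ ≠ 1 ∧ IsCyclic φ.ker) ∧ ¬ φ w = 1}))
      · rintro ⟨φ, hφ⟩
        apply Subtype.ext
        show φ * φC * φC = φ
        rw [mul_assoc, hm_mul_self, mul_one]
      · rintro ⟨φ, hφ⟩ h
        have h' : φ * φC = φ := congrArg Subtype.val h
        exact hC1 (mul_left_cancel (h'.trans (mul_one φ).symm))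
    rw [hsplit, hfirst]
    obtain ⟨k, hk⟩ := hT
    exact ⟨k, by omega⟩
  · intro h1
    have hL : ∀ φ : Hm 2 X, φ w ≠ 1 → (IsCyclic (φ * φC).ker ↔ ¬ IsCyclic φ.ker) := by
      intro φ hφw
      have hw' : ¬ (φ * φC) w = 1 := by rw [hmulCw]; exact hφw
      rw [hcyc_iff φ hφw, hcyc_iff (φ * φC) hw']
      constructor
      · rintro ⟨j, hj1, hj2⟩ ⟨i, hi1, hi2⟩
        rw [hmulC, hval, eq_sg_of_ne_one hφw] at hj1
        rw [hval, eq_sg_of_ne_one hφw] at hi1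
        rw [e_mod_one h1] at hi2 hj2
        have hpar : i % 2 ≠ j % 2 := by
          intro heq
          have hpow : sg ^ i = sg ^ j := by
            rcases Nat.mod_two_eq_zero_or_one i with hi | hi
            · rw [sg_pow_even hi, sg_pow_even (by omega)]
            · rw [sg_pow_odd hi, sg_pow_odd (by omega)]
          rw [← hpow, hi1, one_mul] at hj1
          exact sg_ne_one hj1
        omega
      · intro hnot
        rcases eq_one_or_sg (φ y) with hy1 | hy1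
        · have h0 : φ (w ^ 0 * y) = 1 := by rw [hval, pow_zero, one_mul, hy1]
          have hne : ¬ (0 * (1 + r) + t) % 4 = 2 := fun h => hnot ⟨0, h0, h⟩
          refine ⟨1, ?_, ?_⟩
          · exact (hshift φ hφw 0).trans h0
          · rw [e_mod_one h1] at hne ⊢; omega
        · have h0 : φ (w ^ 1 * y) = 1 := by
            rw [hval, eq_sg_of_ne_one hφw, pow_one, hy1, sg_mul_sg]
          have hne : ¬ (1 * (1 + r) + t) % 4 = 2 := fun h => hnot ⟨1, h0, h⟩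
          refine ⟨2, ?_, ?_⟩
          · exact (hshift φ hφw 1).trans h0
          · rw [e_mod_one h1] at hne ⊢; omega
    have hT : Nat.card {φ : Hm 2 X // (φ ≠ 1 ∧ IsCyclic φ.ker) ∧ ¬ φ w = 1} = 1 := by
      obtain ⟨φ₁, hφ₁⟩ : ∃ φ₁ : Hm 2 X, φ₁ w ≠ 1 := by
        by_contra hcon
        push Not at hcon
        have hle := card_le_two_of (1 : Hm 2 X) φC (fun φ => hw1 φ (hcon φ))
        have h4 : 2 ^ 2 ∣ Nat.card (Hm 2 X) := sq_dvd_card_Hm hX hnc
        have hpos : 0 < Nat.card (Hm 2 X) := Nat.card_pos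
        have := Nat.le_of_dvd hpos h4
        omega
      obtain ⟨φ₂, hφ₂w, hφ₂c⟩ : ∃ φ₂ : Hm 2 X, φ₂ w ≠ 1 ∧ IsCyclic φ₂.ker := by
        by_cases hc : IsCyclic φ₁.ker
        · exact ⟨φ₁, hφ₁, hc⟩
        · exact ⟨φ₁ * φC, by rw [hmulCw]; exact hφ₁, (hL φ₁ hφ₁).mpr hc⟩
      rw [Nat.card_eq_one_iff_unique]
      constructor
      · constructor
        rintro ⟨φ, ⟨-, hφc⟩, hφw⟩ ⟨ψ, ⟨-, hψc⟩, hψw⟩
        apply Subtype.ext
        show φ = ψ
        have h2 : (φ * ψ) w = 1 := by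
          rw [MonoidHom.mul_apply, eq_sg_of_ne_one hφw, eq_sg_of_ne_one hψw, sg_mul_sg]
        rcases hw1 _ h2 with h | h
        · have h3 : φ * ψ = φ * φ := by rw [h, hm_mul_self]
          exact (mul_left_cancel h3).symm
        · exfalso
          have hψ : ψ = φ * φC := by
            have h3 : φ * ψ = φ * (φ * φC) := by rw [h, ← mul_assoc, hm_mul_self, one_mul]
            exact mul_left_cancel h3
          rw [hψ] at hψc
          exact (hL φ hφw).mp hψc hφc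
      · have hne : φ₂ ≠ 1 := by
          intro h
          apply hφ₂w
          rw [h, MonoidHom.one_apply]
        exact ⟨⟨φ₂, ⟨hne, hφ₂c⟩, hφ₂w⟩⟩
    rw [hsplit, hfirst, hT]
    exact ⟨1, rfl⟩

end CM

end Cfsg.Agent.Lib.Helper12.Kulakoff2
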