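import Mathlib
import Cfsg.Agent.Lib.Helper12.Kulakoff2B

/-!
# Kulakoff's theorem for `p = 2`, part C (helper12)

Parity of the number of cyclic maximal subgroups of a `2`-group, and of the number of maximal
subgroups of maximal class of a `2`-group of maximal class.  Here "maximal class" is expressed
as "non-cyclic with commutator subgroup of index `4`" (Taussky).
-/

set_option autoImplicit false
set_option linter.style.haveILetI false

namespace Cfsg.Agent.Lib.Helper12.Kulakoff2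

open Cfsg.Agent.Lib.Helper12.PGroupCount Cfsg.Agent.Lib.Helper12.Kulakoff
open scoped commutatorElement

universe u

variable {X : Type u} [Group X] [Finite X]

theorem exists_cm {n : ℕ} (hX : Nat.card X = 2 ^ (n + 1))
    (C : Subgroup X) (hC : IsCyclic C) (hCi : C.index = 2) :
    ∃ (w y : X) (r t : ℕ), orderOf w = 2 ^ n ∧ y ∉ Subgroup.zpowers w ∧
      y * w * y⁻¹ = w ^ r ∧ y ^ 2 = w ^ t ∧ C = Subgroup.zpowers w := by
  obtain ⟨c, hCz, hord, hCn, hpow, -⟩ :=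
    Cfsg.H5.exists_generator_of_cyclic_index Nat.prime_two (by omega) hX C hC hCi
  have hne : C ≠ ⊤ := by
    intro h
    rw [h, Subgroup.index_top] at hCi
    omega
  obtain ⟨y, hy⟩ : ∃ y, y ∉ C := by
    by_contra hcon
    push Not at hcon
    exact hne (eq_top_iff.mpr fun g _ => hcon g)
  have h1 : y * c * y⁻¹ ∈ C := hCn.conj_mem c (hCz ▸ Subgroup.mem_zpowers c) y
  have h2 := hpow y
  rw [hCz] at h1 hy h2
  obtain ⟨r, hr⟩ := mem_zpowers_nat h1
  obtain ⟨t, ht⟩ := mem_zpowers_nat h2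
  exact ⟨c, y, r, t, by simpa using hord, hy, hr, ht, hCz⟩

theorem exists_cm_of_mc {n : ℕ} (hn : 2 ≤ n) (hX : Nat.card X = 2 ^ (n + 1))
    (hidx : (commutator X).index = 4) :
    ∃ (w y : X) (r t : ℕ), orderOf w = 2 ^ n ∧ y ∉ Subgroup.zpowers w ∧
      y * w * y⁻¹ = w ^ r ∧ y ^ 2 = w ^ t ∧ r % 4 = 3 := by
  have hcl := Cfsg.Agent.Lib.Helper1.MaxClassTwo.maxClass_of_card_abelianization (n + 1)
    (by omega) X hX (by rw [← Subgroup.index_eq_card]; exact hidx)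
  obtain ⟨C, hC, hCi⟩ :=
    Cfsg.Agent.Lib.Helper1.MaxClassTwo.exists_cyclic_index_two (n + 1) (by omega) X hX hcl
  obtain ⟨w, y, r, t, hw, hy, hr, ht, -⟩ := exists_cm hX C hC hCi
  refine ⟨w, y, r, t, hw, hy, hr, ht, ?_⟩
  obtain ⟨m, rfl⟩ : ∃ m, n = m + 2 := ⟨n - 2, by omega⟩
  have hodd := cm_r_odd (by omega) hw hr
  by_contra h
  have h1 : r % 4 = 1 := by omega
  exact cm_index_ne_four hX hw hy hr h1 hidx

/-- a `2`-group of maximal class has an odd number of cyclic maximal subgroups -/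
theorem odd_cyc_of_mc {n : ℕ} (hn : 2 ≤ n) (hX : Nat.card X = 2 ^ (n + 1)) (hnc : ¬ IsCyclic X)
    (hidx : (commutator X).index = 4) :
    Odd (Nat.card {φ : Hm 2 X // φ ≠ 1 ∧ IsCyclic φ.ker}) := by
  obtain ⟨w, y, r, t, hw, hy, hr, ht, h3⟩ := exists_cm_of_mc hn hX hidx
  obtain ⟨m, rfl⟩ : ∃ m, n = m + 2 := ⟨n - 2, by omega⟩
  exact (cm_cyc_parity hX hnc hw hy hr ht).1 h3

/-- a non-cyclic `2`-group not of maximal class has an even number of cyclic maximal subgroups -/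
theorem even_cyc_of_oth {n : ℕ} (hn : 2 ≤ n) (hX : Nat.card X = 2 ^ (n + 1)) (hnc : ¬ IsCyclic X)
    (hidx : (commutator X).index ≠ 4) :
    Even (Nat.card {φ : Hm 2 X // φ ≠ 1 ∧ IsCyclic φ.ker}) := by
  by_cases hex : ∃ φ : Hm 2 X, φ ≠ 1 ∧ IsCyclic φ.ker
  · obtain ⟨φ, hφ, hcyc⟩ := hex
    obtain ⟨w, y, r, t, hw, hy, hr, ht, -⟩ := exists_cm hX φ.ker hcyc (ker_index hφ)
    obtain ⟨m, rfl⟩ : ∃ m, n = m + 2 := ⟨n - 2, by omega⟩
    have hodd := cm_r_odd (by omega) hw hr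
    have h1 : r % 4 = 1 := by
      by_contra h
      have h3 : r % 4 = 3 := by omega
      exact hidx (cm_index_four hX hw hy hr h3)
    exact (cm_cyc_parity hX hnc hw hy hr ht).2 h1
  · have : IsEmpty {φ : Hm 2 X // φ ≠ 1 ∧ IsCyclic φ.ker} := ⟨fun φ => hex ⟨φ.1, φ.2⟩⟩
    rw [Nat.card_eq_zero.mpr (Or.inl this)]
    exact ⟨0, rfl⟩

/-- in a `2`-group of maximal class every non-cyclic maximal subgroup is of maximal class -/
theorem cm_max_index_four {w y : X} {m r : ℕ} (hX : Nat.card X = 2 ^ (m + 3 + 1))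
    (hw : orderOf w = 2 ^ (m + 3)) (hy : y ∉ Subgroup.zpowers w) (hr : y * w * y⁻¹ = w ^ r)
    (h3 : r % 4 = 3) (φ : Hm 2 X) (hφ : φ ≠ 1) (hnc : ¬ IsCyclic φ.ker) :
    (commutator φ.ker).index = 4 := by
  have hK : Nat.card φ.ker = 2 ^ (m + 2 + 1) := by rw [card_ker_eq (p := 2) hX φ hφ]
  have hw2 : w ^ 2 ∈ φ.ker := by
    rw [MonoidHom.mem_ker, map_pow, pow_two, c2_mul_self]
  obtain ⟨g, hgK, hgC⟩ : ∃ g ∈ φ.ker, g ∉ Subgroup.zpowers w := by
    by_contra hcon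
    push Not at hcon
    have hle : φ.ker ≤ Subgroup.zpowers w := fun g hg => hcon g hg
    have heq : φ.ker = Subgroup.zpowers w :=
      Subgroup.eq_of_le_of_card_ge hle (by rw [Nat.card_zpowers, hw, hK])
    apply hnc
    rw [heq]
    infer_instance
  have hconj := cm_conj_out hX hw hy hr hgC
  have hw' : orderOf (⟨w ^ 2, hw2⟩ : φ.ker) = 2 ^ (m + 2) := by
    rw [Subgroup.orderOf_mk]
    exact orderOf_sq_of hw
  have hy' : (⟨g, hgK⟩ : φ.ker) ∉ Subgroup.zpowers (⟨w ^ 2, hw2⟩ : φ.ker) := by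
    intro hmem
    obtain ⟨z, hz⟩ := Subgroup.mem_zpowers_iff.mp hmem
    apply hgC
    have h1 : (w ^ 2) ^ z = g := by
      have := congrArg Subtype.val hz
      simpa using this
    rw [← h1]
    exact Subgroup.zpow_mem _ (Subgroup.pow_mem _ (Subgroup.mem_zpowers w) 2) z
  have hr' : (⟨g, hgK⟩ : φ.ker) * ⟨w ^ 2, hw2⟩ * (⟨g, hgK⟩ : φ.ker)⁻¹ =
      (⟨w ^ 2, hw2⟩ : φ.ker) ^ r := by
    apply Subtype.ext
    show g * w ^ 2 * g⁻¹ = (w ^ 2) ^ r
    rw [← conj_pow, hconj, ← pow_mul, mul_comm, pow_mul]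
  exact cm_index_four hK hw' hy' hr' h3

/-- a `2`-group of maximal class has an even number of maximal subgroups of maximal class -/
theorem even_mc_of_mc {n : ℕ} (hn : 3 ≤ n) (hX : Nat.card X = 2 ^ (n + 1)) (hnc : ¬ IsCyclic X)
    (hidx : (commutator X).index = 4) :
    Even (Nat.card {φ : Hm 2 X // φ ≠ 1 ∧
      (¬ IsCyclic φ.ker ∧ (commutator φ.ker).index = 4)}) := by
  obtain ⟨w, y, r, t, hw, hy, hr, ht, h3⟩ := exists_cm_of_mc (by omega) hX hidx
  have hodd := odd_cyc_of_mc (by omega) hX hnc hidx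
  obtain ⟨m, rfl⟩ : ∃ m, n = m + 3 := ⟨n - 3, by omega⟩
  have hall := card_hm_ne_one hX hnc
  have hsplit := card_and_split (α := Hm 2 X) (fun φ => φ ≠ 1) (fun φ => IsCyclic φ.ker)
  have hcongr : Nat.card {φ : Hm 2 X // φ ≠ 1 ∧
      (¬ IsCyclic φ.ker ∧ (commutator φ.ker).index = 4)} =
      Nat.card {φ : Hm 2 X // φ ≠ 1 ∧ ¬ IsCyclic φ.ker} := by
    apply Nat.card_congr
    apply Equiv.subtypeEquivRight
    intro φ
    constructor
    · rintro ⟨h1, h2, -⟩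
      exact ⟨h1, h2⟩
    · rintro ⟨h1, h2⟩
      exact ⟨h1, h2, cm_max_index_four hX hw hy hr h3 φ h1 h2⟩
  rw [hcongr]
  obtain ⟨k, hk⟩ := hodd
  rw [Nat.even_iff]
  omega

end Cfsg.Agent.Lib.Helper12.Kulakoff2
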