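import Mathlib
import Cfsg.Agent.Lib.Helper12.Kulakoff2C

/-!
# Kulakoff's theorem for `p = 2`, part D (helper12)

A non-cyclic `2`-group of order at least `16` that is not of maximal class has an even number of
maximal subgroups of maximal class.  The proof passes to a quotient of order `16` with commutator
subgroup of order `2`, where the maximal subgroups with abelian image form (together with the
trivial homomorphism) a non-trivial subgroup of `Hom(X, C_2)`.
-/

set_option autoImplicit false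
set_option linter.style.haveILetI false

namespace Cfsg.Agent.Lib.Helper12.Kulakoff2

open Cfsg.Agent.Lib.Helper12.PGroupCount Cfsg.Agent.Lib.Helper12.Kulakoff
open scoped commutatorElement

universe u

section Y1

variable {Y : Type u} [Group Y]

/-- homomorphisms to `C_2` with abelian kernel, together with the trivial homomorphism -/
def abSub (Y : Type u) [Group Y] : Subgroup (Hm 2 Y) where
  carrier := {φ | φ = 1 ∨ ∀ a ∈ φ.ker, ∀ b ∈ φ.ker, a * b = b * a}
  one_mem' := Or.inl rfl
  mul_mem' := by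
    intro φ ψ hφ hψ
    rcases hφ with rfl | hφ
    · rw [one_mul]; exact hψ
    rcases hψ with rfl | hψ
    · rw [mul_one]; exact Or.inr hφ
    by_cases heq : φ = ψ
    · left
      rw [heq, hm_mul_self]
    right
    have hkne : φ.ker ≠ ψ.ker := fun h => heq (hom_eq_of_ker_eq h)
    have hcen : ∀ r ∈ φ.ker, r ∈ ψ.ker → ∀ g : Y, g * r = r * g := by
      intro r hr1 hr2 g
      by_cases hg1 : g ∈ φ.ker
      · exact hφ g hg1 r hr1
      by_cases hg2 : g ∈ ψ.ker
      · exact hψ g hg2 r hr2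
      have hφg : φ g = sg := eq_sg_of_ne_one (fun h => hg1 (MonoidHom.mem_ker.mpr h))
      have hψg : ψ g = sg := eq_sg_of_ne_one (fun h => hg2 (MonoidHom.mem_ker.mpr h))
      obtain ⟨h, hh⟩ : ∃ h, (h ∈ φ.ker ∧ h ∉ ψ.ker) ∨ (h ∈ ψ.ker ∧ h ∉ φ.ker) := by
        by_contra hcon
        apply hkne
        ext h
        constructor
        · intro h1
          by_contra h2
          exact hcon ⟨h, Or.inl ⟨h1, h2⟩⟩
        · intro h1
          by_contra h2
          exact hcon ⟨h, Or.inr ⟨h1, h2⟩⟩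
      rcases hh with ⟨hh1, hh2⟩ | ⟨hh1, hh2⟩
      · have hψh : ψ h = sg := eq_sg_of_ne_one (fun h' => hh2 (MonoidHom.mem_ker.mpr h'))
        have hgh : g * h ∈ ψ.ker := by
          rw [MonoidHom.mem_ker, map_mul, hψg, hψh, sg_mul_sg]
        have e1 := hψ (g * h) hgh r hr2
        have e2 := hφ h hh1 r hr1
        have e3 : g * r * h = r * g * h := by
          calc g * r * h = g * (r * h) := mul_assoc _ _ _
            _ = g * (h * r) := by rw [e2]
            _ = g * h * r := (mul_assoc _ _ _).symm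
            _ = r * (g * h) := e1
            _ = r * g * h := (mul_assoc _ _ _).symm
        exact mul_right_cancel e3
      · have hφh : φ h = sg := eq_sg_of_ne_one (fun h' => hh2 (MonoidHom.mem_ker.mpr h'))
        have hgh : g * h ∈ φ.ker := by
          rw [MonoidHom.mem_ker, map_mul, hφg, hφh, sg_mul_sg]
        have e1 := hφ (g * h) hgh r hr1
        have e2 := hψ h hh1 r hr2
        have e3 : g * r * h = r * g * h := by
          calc g * r * h = g * (r * h) := mul_assoc _ _ _
            _ = g * (h * r) := by rw [e2]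
            _ = g * h * r := (mul_assoc _ _ _).symm
            _ = r * (g * h) := e1
            _ = r * g * h := (mul_assoc _ _ _).symm
        exact mul_right_cancel e3
    intro a ha b hb
    have ha' : φ a * ψ a = 1 := MonoidHom.mem_ker.mp ha
    have hb' : φ b * ψ b = 1 := MonoidHom.mem_ker.mp hb
    by_cases ha1 : φ a = 1
    · have ha2 : ψ a = 1 := by rw [ha1, one_mul] at ha'; exact ha'
      exact (hcen a (MonoidHom.mem_ker.mpr ha1) (MonoidHom.mem_ker.mpr ha2) b).symm
    by_cases hb1 : φ b = 1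
    · have hb2 : ψ b = 1 := by rw [hb1, one_mul] at hb'; exact hb'
      exact hcen b (MonoidHom.mem_ker.mpr hb1) (MonoidHom.mem_ker.mpr hb2) a
    have hφa := eq_sg_of_ne_one ha1
    have hφb := eq_sg_of_ne_one hb1
    have hψa : ψ a = sg := by
      apply eq_sg_of_ne_one
      intro h
      rw [h, mul_one] at ha'
      exact ha1 ha'
    have hψb : ψ b = sg := by
      apply eq_sg_of_ne_one
      intro h
      rw [h, mul_one] at hb'
      exact hb1 hb'
    have hr1 : a⁻¹ * b ∈ φ.ker := by
      rw [MonoidHom.mem_ker, map_mul, map_inv, hφa, hφb, inv_mul_cancel]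
    have hr2 : a⁻¹ * b ∈ ψ.ker := by
      rw [MonoidHom.mem_ker, map_mul, map_inv, hψa, hψb, inv_mul_cancel]
    have hc := hcen (a⁻¹ * b) hr1 hr2 a
    calc a * b = a * (a * (a⁻¹ * b)) := by rw [mul_inv_cancel_left]
      _ = a * ((a⁻¹ * b) * a) := by rw [hc]
      _ = b * a := by rw [← mul_assoc, mul_inv_cancel_left]
  inv_mem' := by
    intro φ hφ
    have h : φ⁻¹ = φ := by
      refine MonoidHom.ext fun x => ?_
      rw [MonoidHom.inv_apply, c2_inv]
    rw [h]
    exact hφ

theorem mem_abSub {φ : Hm 2 Y} :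
    φ ∈ abSub Y ↔ (φ = 1 ∨ ∀ a ∈ φ.ker, ∀ b ∈ φ.ker, a * b = b * a) := Iff.rfl

theorem normal_two_le_center {N : Subgroup Y} [hN : N.Normal] (hc : Nat.card N = 2) :
    N ≤ Subgroup.center Y := by
  intro x hx
  rw [Subgroup.mem_center_iff]
  intro g
  by_cases hx1 : x = 1
  · rw [hx1, mul_one, one_mul]
  · obtain ⟨u, -, huniq⟩ := (Nat.card_eq_two_iff' (1 : N)).mp hc
    have h1 : (⟨x, hx⟩ : N) = u := huniq _ (fun h => hx1 (congrArg Subtype.val h))
    have hconj : g * x * g⁻¹ ∈ N := hN.conj_mem x hx g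
    have h2 : (⟨g * x * g⁻¹, hconj⟩ : N) = u := huniq _ (fun h => hx1 (by
      have h' : g * x * g⁻¹ = 1 := congrArg Subtype.val h
      exact conj_eq_one_iff.mp h'))
    have h3 : g * x * g⁻¹ = x := congrArg Subtype.val (h2.trans h1.symm)
    exact mul_inv_eq_iff_eq_mul.mp h3

/-- a group of order `16` with commutator subgroup of order `2` has an odd number of abelian
maximal subgroups -/
theorem odd_abelian_max [Finite Y] (hY : Nat.card Y = 2 ^ (3 + 1))
    (hc : Nat.card (commutator Y) = 2) :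
    Odd (Nat.card {φ : Hm 2 Y // φ ≠ 1 ∧ ∀ a ∈ φ.ker, ∀ b ∈ φ.ker, a * b = b * a}) := by
  have hcen : commutator Y ≤ Subgroup.center Y := normal_two_le_center hc
  obtain ⟨x, hx⟩ : ∃ x : Y, x ∉ Subgroup.center Y := by
    by_contra hcon
    push Not at hcon
    have htop : Subgroup.center Y = ⊤ := eq_top_iff.mpr fun g _ => hcon g
    have hbot : commutator Y = ⊥ := (commutator_eq_bot_iff_center_eq_top (G := Y)).mpr htop
    rw [hbot, Subgroup.card_bot] at hc
    omega
  have hAle : (Subgroup.centralizer ({x} : Set Y)).index ≤ 2 := by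
    rw [Subgroup.index_eq_card]
    have e := Subgroup.quotientCentralizerEmbedding x
    have h1 : Nat.card (Y ⧸ Subgroup.centralizer ({x} : Set Y)) ≤ Nat.card (commutatorSet Y) :=
      Nat.card_le_card_of_injective e e.injective
    have hsub : commutatorSet Y ⊆ (commutator Y : Set Y) := by
      rw [commutator_eq_closure]
      exact Subgroup.subset_closure
    have h2 : Nat.card (commutatorSet Y) ≤ Nat.card (commutator Y) :=
      Nat.card_le_card_of_injective (Set.inclusion hsub) (Set.inclusion_injective hsub)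
    omega
  have hAne : Subgroup.centralizer ({x} : Set Y) ≠ ⊤ := by
    intro h
    apply hx
    rw [Subgroup.mem_center_iff]
    intro g
    have hg : g ∈ Subgroup.centralizer ({x} : Set Y) := h ▸ Subgroup.mem_top g
    exact Subgroup.mem_centralizer_singleton_iff.mp hg
  have hAi : (Subgroup.centralizer ({x} : Set Y)).index = 2 := by
    have h1 : (Subgroup.centralizer ({x} : Set Y)).index ≠ 1 :=
      fun h => hAne (Subgroup.index_eq_one.mp h)
    have h0 : (Subgroup.centralizer ({x} : Set Y)).index ≠ 0 := Subgroup.index_ne_zero_of_finite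
    omega
  have hAcard : Nat.card (Subgroup.centralizer ({x} : Set Y)) = 8 := by
    have h1 := (Subgroup.centralizer ({x} : Set Y)).card_mul_index
    rw [hAi, hY] at h1
    norm_num at h1
    omega
  -- the centralizer is abelian
  have hAab : ∀ a ∈ Subgroup.centralizer ({x} : Set Y),
      ∀ b ∈ Subgroup.centralizer ({x} : Set Y), a * b = b * a := by
    set A := Subgroup.centralizer ({x} : Set Y) with hA
    have hxA : x ∈ A := Subgroup.mem_centralizer_singleton_iff.mpr rfl
    have hcA : commutator Y ≤ A := by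
      intro z hz
      rw [hA, Subgroup.mem_centralizer_singleton_iff]
      exact (Subgroup.mem_center_iff.mp (hcen hz) x).symm
    have hBcard : Nat.card ((commutator Y).subgroupOf A) = 2 := by
      rw [Nat.card_congr (Subgroup.subgroupOfEquivOfLe hcA).toEquiv, hc]
    have hBle : (commutator Y).subgroupOf A ≤ Subgroup.center A := by
      intro z hz
      rw [Subgroup.mem_center_iff]
      intro g
      apply Subtype.ext
      have hz' : (z : Y) ∈ commutator Y := hz
      exact Subgroup.mem_center_iff.mp (hcen hz') (g : Y)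
    have hxc : (⟨x, hxA⟩ : A) ∈ Subgroup.center A := by
      rw [Subgroup.mem_center_iff]
      intro g
      apply Subtype.ext
      exact Subgroup.mem_centralizer_singleton_iff.mp g.2
    have hxB : (⟨x, hxA⟩ : A) ∉ (commutator Y).subgroupOf A := by
      intro h
      have h' : x ∈ commutator Y := h
      exact hx (hcen h')
    have hdvd1 : Nat.card ((commutator Y).subgroupOf A) ∣ Nat.card (Subgroup.center A) :=
      Subgroup.card_dvd_of_le hBle
    have hdvd2 : Nat.card (Subgroup.center A) ∣ Nat.card A :=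
      Subgroup.card_subgroup_dvd_card _
    have hne : Nat.card (Subgroup.center A) ≠ 2 := by
      intro h
      have h' : (commutator Y).subgroupOf A = Subgroup.center A :=
        Subgroup.eq_of_le_of_card_ge hBle (by rw [h, hBcard])
      exact hxB (h' ▸ hxc)
    have hidx : (Subgroup.center A).index ∣ 2 := by
      have h1 := (Subgroup.center A).card_mul_index
      rw [hAcard] at h1 hdvd2
      rw [hBcard] at hdvd1
      generalize Nat.card (Subgroup.center A) = c at *
      generalize (Subgroup.center A).index = i at *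
      have hc8 : c ≤ 8 := Nat.le_of_dvd (by norm_num) hdvd2
      have hi : i = 1 ∨ i = 2 := by
        interval_cases c <;> omega
      rcases hi with rfl | rfl <;> norm_num
    haveI : IsCyclic (A ⧸ Subgroup.center A) :=
      isCyclic_of_card_dvd_prime (p := 2) (by rw [← Subgroup.index_eq_card]; exact hidx)
    have hker : (QuotientGroup.mk' (Subgroup.center A)).ker ≤ Subgroup.center A := by
      rw [QuotientGroup.ker_mk']
    intro a ha b hb
    have h1 := ((QuotientGroup.mk' (Subgroup.center A)).isMulCommutative_of_isCyclic_of_ker_le_center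
      hker).is_comm.comm (⟨a, ha⟩ : A) ⟨b, hb⟩
    exact congrArg Subtype.val h1
  obtain ⟨ψ, hψ⟩ := exists_hom hY (Subgroup.centralizer ({x} : Set Y)) hAi
  have hψ1 : ψ ≠ 1 := by
    intro h
    rw [h, MonoidHom.ker_one] at hψ
    exact hAne hψ.symm
  have hψmem : ψ ∈ abSub Y := Or.inr (by rw [hψ]; exact hAab)
  obtain ⟨j, hj⟩ := (IsPGroup.iff_card).mp
    ((isPGroup_Hm (p := 2) (P := Y)).to_subgroup (abSub Y))
  have hj1 : j ≠ 0 := by
    rintro rfl
    rw [pow_zero] at hj
    have hbot : abSub Y = ⊥ := Subgroup.card_eq_one.mp hj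
    rw [hbot, Subgroup.mem_bot] at hψmem
    exact hψ1 hψmem
  have hsplit : Nat.card (abSub Y) =
      Nat.card {φ : abSub Y // φ = 1} + Nat.card {φ : abSub Y // φ ≠ 1} := card_split _
  have h1 : Nat.card {φ : abSub Y // φ = 1} = 1 := by
    rw [Nat.card_eq_one_iff_unique]
    exact ⟨⟨fun a b => Subtype.ext (a.2.trans b.2.symm)⟩, ⟨⟨1, rfl⟩⟩⟩
  have hcongr : Nat.card {φ : Hm 2 Y // φ ≠ 1 ∧ ∀ a ∈ φ.ker, ∀ b ∈ φ.ker, a * b = b * a} =
      Nat.card {φ : abSub Y // φ ≠ 1} := by
    apply Nat.card_congr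
    exact
      { toFun := fun φ => ⟨⟨φ.1, Or.inr φ.2.2⟩, fun h => φ.2.1 (congrArg Subtype.val h)⟩
        invFun := fun φ => ⟨φ.1.1, fun h => φ.2 (Subtype.ext h),
          (mem_abSub.mp φ.1.2).resolve_left (fun h => φ.2 (Subtype.ext h))⟩
        left_inv := fun _ => rfl
        right_inv := fun _ => rfl }
  rw [hcongr]
  obtain ⟨j', rfl⟩ : ∃ j', j = j' + 1 := ⟨j - 1, by omega⟩
  rw [hj, h1, pow_succ] at hsplit
  have hpos := pow_pos (show 0 < 2 by norm_num) j'
  exact ⟨2 ^ j' - 1, by omega⟩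

end Y1

section P2

variable {X : Type u} [Group X] [Finite X]

theorem index_commutator_not_dvd_two {n : ℕ} (hX : Nat.card X = 2 ^ (n + 1)) (hnc : ¬ IsCyclic X) :
    ¬ (commutator X).index ∣ 2 := by
  intro hdvd
  have hker := card_ker_eq (p := 2) hX
  have hall : ∀ φ : Hm 2 X, φ ≠ 1 → φ.ker = commutator X := by
    intro φ hφ
    have hle : commutator X ≤ φ.ker := Abelianization.commutator_subset_ker φ
    symm
    apply Subgroup.eq_of_le_of_card_ge hle
    have h1 := (commutator X).card_mul_index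
    rw [hX, pow_succ] at h1
    have h2 := Nat.le_of_dvd (by norm_num) hdvd
    rw [hker φ hφ]
    have h3 : Nat.card (commutator X) * (commutator X).index ≤ Nat.card (commutator X) * 2 :=
      Nat.mul_le_mul_left _ h2
    omega
  have h4 : 2 ^ 2 ∣ Nat.card (Hm 2 X) := sq_dvd_card_Hm hX hnc
  have h5 := Nat.le_of_dvd Nat.card_pos h4
  by_cases h : ∃ φ₁ : Hm 2 X, φ₁ ≠ 1
  · obtain ⟨φ₁, h1⟩ := h
    have hle := card_le_two_of (1 : Hm 2 X) φ₁ (fun φ => by
      by_cases hφ : φ = 1
      · exact Or.inl hφ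
      · exact Or.inr (hom_eq_of_ker_eq ((hall φ hφ).trans (hall φ₁ h1).symm)))
    omega
  · push Not at h
    have hle := card_le_two_of (1 : Hm 2 X) 1 (fun φ => Or.inl (h φ))
    omega

/-- a non-cyclic `2`-group, not of maximal class, has an even number of maximal subgroups of
maximal class -/
theorem even_mc_of_oth {n : ℕ} (hn : 3 ≤ n) (hX : Nat.card X = 2 ^ (n + 1)) (hnc : ¬ IsCyclic X)
    (hidx : (commutator X).index ≠ 4) :
    Even (Nat.card {φ : Hm 2 X // φ ≠ 1 ∧
      (¬ IsCyclic φ.ker ∧ (commutator φ.ker).index = 4)}) := by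
  by_cases hex : ∃ φ₀ : Hm 2 X, φ₀ ≠ 1 ∧ (¬ IsCyclic φ₀.ker ∧ (commutator φ₀.ker).index = 4)
  swap
  · have : IsEmpty {φ : Hm 2 X // φ ≠ 1 ∧
        (¬ IsCyclic φ.ker ∧ (commutator φ.ker).index = 4)} := ⟨fun φ => hex ⟨φ.1, φ.2⟩⟩
    rw [Nat.card_eq_zero.mpr (Or.inl this)]
    exact ⟨0, rfl⟩
  obtain ⟨φ₀, hφ₀, hM1, hM2⟩ := hex
  obtain ⟨m, rfl⟩ : ∃ m, n = m + 3 := ⟨n - 3, by omega⟩
  have hker := card_ker_eq (p := 2) hX
  have hMcard : Nat.card φ₀.ker = 2 ^ (m + 3) := hker φ₀ hφ₀
  have e1 : 2 ^ (m + 3) = 2 ^ (m + 1) * 4 := by rw [pow_succ, pow_succ]; ring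
  have e2 : 2 ^ (m + 3 + 1) = 2 ^ (m + 1) * 8 := by rw [pow_succ, pow_succ, pow_succ]; ring
  have hcM : Nat.card (commutator φ₀.ker) = 2 ^ (m + 1) := by
    have h1 := (commutator φ₀.ker).card_mul_index
    rw [hM2, hMcard, e1] at h1
    exact Nat.eq_of_mul_eq_mul_right (by norm_num) h1
  have hcardcomm : ∀ K : Subgroup X, Nat.card (⁅K, K⁆ : Subgroup X) = Nat.card (commutator K) := by
    intro K
    rw [← Subgroup.map_subtype_commutator, Subgroup.card_map_of_injective K.subtype_injective]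
  have hcomm_le : ∀ K : Subgroup X, ⁅K, K⁆ ≤ commutator X := by
    intro K
    rw [commutator_def]
    exact Subgroup.commutator_mono le_top le_top
  -- the commutator subgroup of `X` is that of `M`
  have hcX : Nat.card (commutator X) = 2 ^ (m + 1) := by
    have h1 := (commutator X).card_mul_index
    have h2 := Subgroup.card_le_of_le (hcomm_le φ₀.ker)
    rw [hcardcomm, hcM] at h2
    have h3 := index_commutator_not_dvd_two hX hnc
    have h4 : ⁅φ₀.ker, φ₀.ker⁆.index = 8 := by
      have h5 := ⁅φ₀.ker, φ₀.ker⁆.card_mul_index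
      rw [hcardcomm, hcM, hX, e2] at h5
      exact Nat.eq_of_mul_eq_mul_left (pow_pos (by norm_num) _) h5
    have h6 := Subgroup.index_dvd_of_le (hcomm_le φ₀.ker)
    rw [h4] at h6
    rw [hX, e2] at h1
    generalize (commutator X).index = i at *
    have hi8 : i ≤ 8 := Nat.le_of_dvd (by norm_num) h6
    have hi : i = 8 := by
      interval_cases i <;> omega
    rw [hi] at h1
    exact Nat.eq_of_mul_eq_mul_right (by norm_num) h1
  have hD : ⁅φ₀.ker, φ₀.ker⁆ = commutator X :=
    Subgroup.eq_of_le_of_card_ge (hcomm_le φ₀.ker) (by rw [hcardcomm, hcM, hcX])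
  -- it is cyclic
  have hDcyc : IsCyclic (commutator X) := by
    have h4M : Nat.card (φ₀.ker ⧸ commutator φ₀.ker) = 4 := by
      rw [← Subgroup.index_eq_card]; exact hM2
    have hcl := Cfsg.Agent.Lib.Helper1.MaxClassTwo.maxClass_of_card_abelianization (m + 3)
      (by omega) φ₀.ker hMcard h4M
    obtain ⟨C₀, hC₀, hC₀i⟩ := Cfsg.Agent.Lib.Helper1.MaxClassTwo.exists_cyclic_index_two (m + 3)
      (by omega) φ₀.ker hMcard hcl
    haveI : C₀.Normal := Subgroup.normal_of_index_eq_two hC₀i
    have hle : commutator φ₀.ker ≤ C₀ := by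
      haveI : IsCyclic (φ₀.ker ⧸ C₀) :=
        isCyclic_of_prime_card (p := 2) (by rw [← Subgroup.index_eq_card]; exact hC₀i)
      letI : CommGroup (φ₀.ker ⧸ C₀) := IsCyclic.commGroup
      have h := Abelianization.commutator_subset_ker (QuotientGroup.mk' C₀)
      rwa [QuotientGroup.ker_mk'] at h
    haveI := hC₀
    haveI : IsCyclic (commutator φ₀.ker) := Subgroup.isCyclic_of_le hle
    rw [← hD, ← Subgroup.map_subtype_commutator]
    exact isCyclic_of_surjective
      ((commutator φ₀.ker).equivMapOfInjective φ₀.ker.subtype φ₀.ker.subtype_injective)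
      (MulEquiv.surjective _)
  obtain ⟨⟨d₀, hd₀⟩, hgen⟩ := hDcyc.exists_generator
  have hDz : commutator X = Subgroup.zpowers d₀ := by
    apply le_antisymm
    · intro z hz
      obtain ⟨k, hk⟩ := Subgroup.mem_zpowers_iff.mp (hgen ⟨z, hz⟩)
      rw [Subgroup.mem_zpowers_iff]
      refine ⟨k, ?_⟩
      have := congrArg Subtype.val hk
      simpa using this
    · rw [Subgroup.zpowers_le]
      exact hd₀
  have hd₀ord : orderOf d₀ = 2 ^ (m + 1) := by rw [← Nat.card_zpowers, ← hDz, hcX]
  have hNcard : Nat.card (Subgroup.zpowers (d₀ ^ 2)) = 2 ^ m := by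
    rw [Nat.card_zpowers]; exact orderOf_sq_of hd₀ord
  have hNle : Subgroup.zpowers (d₀ ^ 2) ≤ commutator X := by
    rw [hDz, Subgroup.zpowers_le]
    exact Subgroup.pow_mem _ (Subgroup.mem_zpowers _) 2
  haveI hNn : (Subgroup.zpowers (d₀ ^ 2)).Normal := by
    constructor
    intro x hx g
    obtain ⟨z, rfl⟩ := Subgroup.mem_zpowers_iff.mp hx
    have hconj : g * d₀ * g⁻¹ ∈ Subgroup.zpowers d₀ := by
      rw [← hDz]
      exact (inferInstance : (commutator X).Normal).conj_mem d₀ hd₀ g
    obtain ⟨j, hj⟩ := mem_zpowers_nat hconj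
    have h1 : g * (d₀ ^ 2) ^ z * g⁻¹ = ((g * d₀ * g⁻¹) ^ 2) ^ z := by
      rw [conj_pow, conj_zpow]
    rw [h1, hj, ← pow_mul, mul_comm, pow_mul]
    exact Subgroup.zpow_mem _ (Subgroup.pow_mem _ (Subgroup.mem_zpowers _) j) z
  -- dichotomy for derived subgroups
  have hdich : ∀ K : Subgroup X, ⁅K, K⁆ ≤ Subgroup.zpowers (d₀ ^ 2) ∨ ⁅K, K⁆ = commutator X := by
    intro K
    by_cases hK : ⁅K, K⁆ ≤ Subgroup.zpowers (d₀ ^ 2)
    · exact Or.inl hK
    · right
      obtain ⟨h, hhK, hhN⟩ : ∃ h ∈ ⁅K, K⁆, h ∉ Subgroup.zpowers (d₀ ^ 2) := by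
        by_contra hcon
        push Not at hcon
        exact hK (fun h hh => hcon h hh)
      have hh : h ∈ Subgroup.zpowers d₀ := hDz ▸ hcomm_le K hhK
      obtain ⟨j, rfl⟩ := mem_zpowers_nat hh
      have hjodd : j % 2 = 1 := by
        by_contra hcon
        apply hhN
        obtain ⟨k, rfl⟩ : ∃ k, j = 2 * k := ⟨j / 2, by omega⟩
        rw [pow_mul]
        exact Subgroup.pow_mem _ (Subgroup.mem_zpowers _) k
      have hco : (orderOf d₀).Coprime j := by
        rw [hd₀ord]
        apply Nat.Coprime.pow_left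
        rw [Nat.Prime.coprime_iff_not_dvd Nat.prime_two]
        omega
      have heq : Subgroup.zpowers (d₀ ^ j) = Subgroup.zpowers d₀ := by
        apply Subgroup.eq_of_le_of_card_ge
        · rw [Subgroup.zpowers_le]
          exact Subgroup.pow_mem _ (Subgroup.mem_zpowers _) _
        · rw [Nat.card_zpowers, Nat.card_zpowers, hco.orderOf_pow]
      apply le_antisymm (hcomm_le K)
      rw [hDz, ← heq, Subgroup.zpowers_le]
      exact hhK
  -- maximal class in terms of `N`
  have hmc_iff : ∀ φ : Hm 2 X, φ ≠ 1 →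
      ((¬ IsCyclic φ.ker ∧ (commutator φ.ker).index = 4) ↔
        ¬ ⁅φ.ker, φ.ker⁆ ≤ Subgroup.zpowers (d₀ ^ 2)) := by
    intro φ hφ
    have hKcard := hker φ hφ
    constructor
    · rintro ⟨-, h4⟩ hle
      have h1 := (commutator φ.ker).card_mul_index
      rw [h4, hKcard, e1] at h1
      have h3 : Nat.card (commutator φ.ker) = 2 ^ (m + 1) :=
        Nat.eq_of_mul_eq_mul_right (by norm_num) h1
      have h5 := Subgroup.card_le_of_le hle
      rw [hcardcomm, h3, hNcard, pow_succ] at h5
      have := pow_pos (show 0 < 2 by norm_num) m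
      omega
    · intro hnle
      have heq : ⁅φ.ker, φ.ker⁆ = commutator X := (hdich φ.ker).resolve_left hnle
      have h3 : Nat.card (commutator φ.ker) = 2 ^ (m + 1) := by rw [← hcardcomm, heq, hcX]
      constructor
      · intro hcyc
        have hcomm := Cfsg.Agent.Lib.Helper1.MaxClassTwo.commute_of_isCyclic hcyc
        have hbot : commutator φ.ker = ⊥ := by
          rw [commutator_eq_bot_iff_center_eq_top, eq_top_iff]
          intro g _
          rw [Subgroup.mem_center_iff]
          intro h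
          apply Subtype.ext
          exact hcomm h.1 h.2 g.1 g.2
        rw [hbot, Subgroup.card_bot] at h3
        have := Nat.one_lt_two_pow (n := m + 1) (by omega)
        omega
      · have h1 := (commutator φ.ker).card_mul_index
        rw [h3, hKcard, e1] at h1
        exact Nat.eq_of_mul_eq_mul_left (pow_pos (by norm_num) _) h1
  -- the quotient of order 16
  have hYcard : Nat.card (X ⧸ Subgroup.zpowers (d₀ ^ 2)) = 2 ^ (3 + 1) := by
    have h1 := Subgroup.card_eq_card_quotient_mul_card_subgroup (Subgroup.zpowers (d₀ ^ 2))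
    rw [hX, hNcard] at h1
    have h2 : 2 ^ (m + 3 + 1) = 2 ^ (3 + 1) * 2 ^ m := by
      rw [← pow_add]; congr 1; omega
    rw [h2] at h1
    exact (Nat.eq_of_mul_eq_mul_right (pow_pos (by norm_num) m) h1).symm
  have hYc : Nat.card (commutator (X ⧸ Subgroup.zpowers (d₀ ^ 2))) = 2 := by
    have hmap : commutator (X ⧸ Subgroup.zpowers (d₀ ^ 2)) =
        (commutator X).map (QuotientGroup.mk' (Subgroup.zpowers (d₀ ^ 2))) := by
      rw [commutator_def, commutator_def, Subgroup.map_commutator,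
        Subgroup.map_top_of_surjective _ (QuotientGroup.mk'_surjective _)]
    have hi : (commutator (X ⧸ Subgroup.zpowers (d₀ ^ 2))).index = 8 := by
      rw [hmap, Subgroup.index_map_eq _ (QuotientGroup.mk'_surjective _)
        (by rw [QuotientGroup.ker_mk']; exact hNle)]
      have h1 := (commutator X).card_mul_index
      rw [hcX, hX, e2] at h1
      exact Nat.eq_of_mul_eq_mul_left (pow_pos (by norm_num) _) h1
    have h2 := (commutator (X ⧸ Subgroup.zpowers (d₀ ^ 2))).card_mul_index
    rw [hi, hYcard] at h2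
    norm_num at h2
    omega
  -- transfer of homomorphisms
  have hpull_inj : Function.Injective (fun ψ : Hm 2 (X ⧸ Subgroup.zpowers (d₀ ^ 2)) =>
      ψ.comp (QuotientGroup.mk' (Subgroup.zpowers (d₀ ^ 2)))) := by
    intro ψ₁ ψ₂ h
    exact (MonoidHom.cancel_right (QuotientGroup.mk'_surjective _)).mp h
  have hpull_surj : Function.Surjective (fun ψ : Hm 2 (X ⧸ Subgroup.zpowers (d₀ ^ 2)) =>
      ψ.comp (QuotientGroup.mk' (Subgroup.zpowers (d₀ ^ 2)))) := by
    intro φ
    have hNk : Subgroup.zpowers (d₀ ^ 2) ≤ φ.ker :=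
      hNle.trans (Abelianization.commutator_subset_ker φ)
    refine ⟨QuotientGroup.lift (Subgroup.zpowers (d₀ ^ 2)) φ hNk, ?_⟩
    ext x
    rfl
  have hpull_one : ∀ ψ : Hm 2 (X ⧸ Subgroup.zpowers (d₀ ^ 2)),
      ψ.comp (QuotientGroup.mk' (Subgroup.zpowers (d₀ ^ 2))) = 1 ↔ ψ = 1 := by
    intro ψ
    constructor
    · intro h
      apply hpull_inj
      show ψ.comp (QuotientGroup.mk' (Subgroup.zpowers (d₀ ^ 2))) =
        (1 : Hm 2 (X ⧸ Subgroup.zpowers (d₀ ^ 2))).comp
          (QuotientGroup.mk' (Subgroup.zpowers (d₀ ^ 2)))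
      rw [h, MonoidHom.one_comp]
    · rintro rfl
      exact MonoidHom.one_comp _
  have hpull_ab : ∀ ψ : Hm 2 (X ⧸ Subgroup.zpowers (d₀ ^ 2)),
      (⁅(ψ.comp (QuotientGroup.mk' (Subgroup.zpowers (d₀ ^ 2)))).ker,
        (ψ.comp (QuotientGroup.mk' (Subgroup.zpowers (d₀ ^ 2)))).ker⁆ ≤
          Subgroup.zpowers (d₀ ^ 2) ↔
        ∀ a ∈ ψ.ker, ∀ b ∈ ψ.ker, a * b = b * a) := by
    intro ψ
    rw [Subgroup.commutator_le]
    constructor
    · intro h a ha b hb
      obtain ⟨a', rfl⟩ := QuotientGroup.mk_surjective a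
      obtain ⟨b', rfl⟩ := QuotientGroup.mk_surjective b
      have ha' : a' ∈ (ψ.comp (QuotientGroup.mk' (Subgroup.zpowers (d₀ ^ 2)))).ker := ha
      have hb' : b' ∈ (ψ.comp (QuotientGroup.mk' (Subgroup.zpowers (d₀ ^ 2)))).ker := hb
      have h1 := h a' ha' b' hb'
      have h2 : (QuotientGroup.mk' (Subgroup.zpowers (d₀ ^ 2))) ⁅a', b'⁆ = 1 :=
        (QuotientGroup.eq_one_iff _).mpr h1
      rw [map_commutatorElement] at h2
      exact commutatorElement_eq_one_iff_mul_comm.mp h2
    · intro h a' ha' b' hb'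
      have h1 := h (QuotientGroup.mk a') ha' (QuotientGroup.mk b') hb'
      have h2 : (QuotientGroup.mk' (Subgroup.zpowers (d₀ ^ 2))) ⁅a', b'⁆ = 1 := by
        rw [map_commutatorElement]
        exact commutatorElement_eq_one_iff_mul_comm.mpr h1
      exact (QuotientGroup.eq_one_iff _).mp h2
  -- counting
  have hY1 := odd_abelian_max hYcard hYc
  have hcount1 : Nat.card {φ : Hm 2 X // φ ≠ 1 ∧ ⁅φ.ker, φ.ker⁆ ≤ Subgroup.zpowers (d₀ ^ 2)} =
      Nat.card {ψ : Hm 2 (X ⧸ Subgroup.zpowers (d₀ ^ 2)) //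
        ψ ≠ 1 ∧ ∀ a ∈ ψ.ker, ∀ b ∈ ψ.ker, a * b = b * a} := by
    symm
    apply Nat.card_congr
    have hbij : Function.Bijective (fun ψ : Hm 2 (X ⧸ Subgroup.zpowers (d₀ ^ 2)) =>
        ψ.comp (QuotientGroup.mk' (Subgroup.zpowers (d₀ ^ 2)))) := ⟨hpull_inj, hpull_surj⟩
    refine Equiv.subtypeEquiv (Equiv.ofBijective _ hbij) ?_
    intro ψ
    rw [Equiv.ofBijective_apply, hpull_ab ψ, Ne, Ne, hpull_one ψ]
  have hcount2 : Nat.card {φ : Hm 2 X // φ ≠ 1 ∧
      (¬ IsCyclic φ.ker ∧ (commutator φ.ker).index = 4)} =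
      Nat.card {φ : Hm 2 X // φ ≠ 1 ∧ ¬ ⁅φ.ker, φ.ker⁆ ≤ Subgroup.zpowers (d₀ ^ 2)} := by
    apply Nat.card_congr
    apply Equiv.subtypeEquivRight
    intro φ
    constructor
    · rintro ⟨h1, h2⟩
      exact ⟨h1, (hmc_iff φ h1).mp h2⟩
    · rintro ⟨h1, h2⟩
      exact ⟨h1, (hmc_iff φ h1).mpr h2⟩
  have hsplit := card_and_split (α := Hm 2 X) (fun φ => φ ≠ 1)
    (fun φ => ⁅φ.ker, φ.ker⁆ ≤ Subgroup.zpowers (d₀ ^ 2))
  have hall := card_hm_ne_one hX hnc
  rw [hcount2]
  rw [hcount1] at hsplit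
  obtain ⟨k, hk⟩ := hY1
  rw [Nat.even_iff]
  omega

end P2

end Cfsg.Agent.Lib.Helper12.Kulakoff2
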