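import Mathlib
import Cfsg.Agent.Lib.Helper12.Kulakoff2D

/-!
# Kulakoff's theorem for `p = 2`, part E (helper12)

`kulakoff_two`: for a non-cyclic group `X` of order `2 ^ m`,
* if the commutator subgroup does not have index `4` (i.e. `X` is not of maximal class), the number
  of subgroups of order `2 ^ a`, `1 ≤ a < m`, is `3` modulo `4`;
* if it has index `4`, the number of subgroups of order `2 ^ a`, `1 ≤ a`, `a + 1 < m`, is `1`
  modulo `4`.
-/

set_option autoImplicit false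
set_option linter.style.haveILetI false

namespace Cfsg.Agent.Lib.Helper12.Kulakoff2

open Cfsg.Agent.Lib.Helper12.PGroupCount Cfsg.Agent.Lib.Helper12.Kulakoff

universe u

/-- the maximal subgroups with `1` modulo `4` subgroups of order `2 ^ a` -/
def badHom {X : Type u} [Group X] (a n : ℕ) (φ : Hm 2 X) : Prop :=
  IsCyclic φ.ker ∨ ((¬ IsCyclic φ.ker ∧ (commutator φ.ker).index = 4) ∧ a + 1 < n)

theorem kulakoff_two_step {X : Type u} [Group X] [Finite X] {n a : ℕ}
    (hX : Nat.card X = 2 ^ (n + 1)) (hnc : ¬ IsCyclic X) (ha1 : 1 ≤ a) (han : a < n)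
    (ih : ∀ (K : Type u) [Group K] [Finite K], Nat.card K = 2 ^ n → ¬ IsCyclic K →
      ((commutator K).index ≠ 4 → ∀ a, 1 ≤ a → a < n →
        Nat.card {H : Subgroup K // Nat.card H = 2 ^ a} ≡ 3 [MOD 4]) ∧
      ((commutator K).index = 4 → ∀ a, 1 ≤ a → a + 1 < n →
        Nat.card {H : Subgroup K // Nat.card H = 2 ^ a} ≡ 1 [MOD 4])) :
    ((commutator X).index ≠ 4 → Nat.card {H : Subgroup X // Nat.card H = 2 ^ a} ≡ 3 [MOD 4]) ∧
    ((commutator X).index = 4 → Nat.card {H : Subgroup X // Nat.card H = 2 ^ a} ≡ 1 [MOD 4]) := by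
  have hker := card_ker_eq (p := 2) hX
  have hgood : ∀ φ : Hm 2 X, φ ≠ 1 → ¬ badHom a n φ →
      Nat.card {H : Subgroup φ.ker // Nat.card H = 2 ^ a} ≡ 3 [MOD 4] := by
    intro φ hφ hb
    have hnc' : ¬ IsCyclic φ.ker := fun h => hb (Or.inl h)
    by_cases h4 : (commutator φ.ker).index = 4
    · have hlt : ¬ a + 1 < n := fun h => hb (Or.inr ⟨⟨hnc', h4⟩, h⟩)
      have han' : a + 1 = n := by omega
      have hK : Nat.card φ.ker = 2 ^ (a + 1) := by rw [hker φ hφ, han']
      exact top_case hK hnc'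
    · exact (ih φ.ker (hker φ hφ) hnc').1 h4 a ha1 han
  have hbad : ∀ φ : Hm 2 X, φ ≠ 1 → badHom a n φ →
      Nat.card {H : Subgroup φ.ker // Nat.card H = 2 ^ a} ≡ 1 [MOD 4] := by
    intro φ hφ hb
    rcases hb with hc | ⟨⟨hnc', h4⟩, hlt⟩
    · haveI := hc
      rw [card_subgroups_of_isCyclic (p := 2) a
        (by rw [hker φ hφ]; exact pow_dvd_pow 2 han.le)]
    · exact (ih φ.ker (hker φ hφ) hnc').2 h4 a ha1 hlt
  have hstep := step2 hX hnc han (badHom a n) hgood hbad
  have hs1 := card_and_split (α := Hm 2 X) (fun φ => φ ≠ 1 ∧ badHom a n φ)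
    (fun φ => IsCyclic φ.ker)
  have hc1 : Nat.card {φ : Hm 2 X // (φ ≠ 1 ∧ badHom a n φ) ∧ IsCyclic φ.ker} =
      Nat.card {φ : Hm 2 X // φ ≠ 1 ∧ IsCyclic φ.ker} := by
    apply Nat.card_congr
    apply Equiv.subtypeEquivRight
    intro φ
    constructor
    · rintro ⟨⟨h1, -⟩, h2⟩
      exact ⟨h1, h2⟩
    · rintro ⟨h1, h2⟩
      exact ⟨⟨h1, Or.inl h2⟩, h2⟩
  have hc2 : Nat.card {φ : Hm 2 X // (φ ≠ 1 ∧ badHom a n φ) ∧ ¬ IsCyclic φ.ker} =
      if a + 1 < n then Nat.card {φ : Hm 2 X // φ ≠ 1 ∧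
        (¬ IsCyclic φ.ker ∧ (commutator φ.ker).index = 4)} else 0 := by
    split_ifs with hlt
    · apply Nat.card_congr
      apply Equiv.subtypeEquivRight
      intro φ
      constructor
      · rintro ⟨⟨h1, hb⟩, h2⟩
        rcases hb with hc | ⟨hmc, -⟩
        · exact absurd hc h2
        · exact ⟨h1, hmc⟩
      · rintro ⟨h1, hmc⟩
        exact ⟨⟨h1, Or.inr ⟨hmc, hlt⟩⟩, hmc.1⟩
    · rw [Nat.card_eq_zero]
      left
      constructor
      rintro ⟨φ, ⟨h1, hb⟩, h2⟩
      rcases hb with hc | ⟨-, hlt'⟩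
      · exact h2 hc
      · exact hlt hlt'
  rw [hs1, hc1, hc2] at hstep
  constructor
  · intro hidx
    obtain ⟨k1, hk1⟩ := even_cyc_of_oth (by omega) hX hnc hidx
    split_ifs at hstep with hlt
    · obtain ⟨k2, hk2⟩ := even_mc_of_oth (by omega) hX hnc hidx
      rw [hk1, hk2] at hstep
      unfold Nat.ModEq at hstep ⊢
      omega
    · rw [hk1] at hstep
      unfold Nat.ModEq at hstep ⊢
      omega
  · intro hidx
    obtain ⟨k1, hk1⟩ := odd_cyc_of_mc (by omega) hX hnc hidx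
    split_ifs at hstep with hlt
    · obtain ⟨k2, hk2⟩ := even_mc_of_mc (by omega) hX hnc hidx
      rw [hk1, hk2] at hstep
      unfold Nat.ModEq at hstep ⊢
      omega
    · rw [hk1] at hstep
      unfold Nat.ModEq at hstep ⊢
      omega

/-- **Kulakoff's theorem** for `p = 2` (with the maximal class case). -/
theorem kulakoff_two : ∀ (m : ℕ) (X : Type u) [Group X] [Finite X], Nat.card X = 2 ^ m →
    ¬ IsCyclic X →
    ((commutator X).index ≠ 4 → ∀ a, 1 ≤ a → a < m →
      Nat.card {H : Subgroup X // Nat.card H = 2 ^ a} ≡ 3 [MOD 4]) ∧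
    ((commutator X).index = 4 → ∀ a, 1 ≤ a → a + 1 < m →
      Nat.card {H : Subgroup X // Nat.card H = 2 ^ a} ≡ 1 [MOD 4]) := by
  intro m
  induction m with
  | zero =>
    intro X _ _ _ _
    exact ⟨fun _ a h1 h2 => by omega, fun _ a h1 h2 => by omega⟩
  | succ n ih =>
    intro X _ _ hX hnc
    constructor
    · intro hidx a ha1 han
      rcases Nat.lt_succ_iff_lt_or_eq.mp han with h | rfl
      · exact (kulakoff_two_step hX hnc ha1 h ih).1 hidx
      · exact top_case hX hnc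
    · intro hidx a ha1 han
      exact (kulakoff_two_step hX hnc ha1 (by omega) ih).2 hidx

end Cfsg.Agent.Lib.Helper12.Kulakoff2
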