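import Mathlib
import Cfsg.Agent.Lib.Helper29.Law.Defs

/-!
# S2355 farm, piece [UF] `frob_facts`

For a finite field `F` with `|F| = q²`: `x ↦ x^q` is additive, an involution, and has at least `q`
fixed points (the image of the norm `x ↦ x^(q+1)` consists of fixed points and has `≥ q` elements,
since each fibre of the norm has at most `q+1` elements).
-/

set_option autoImplicit false

namespace Cfsg.Agent.Lib.Helper29.Law

namespace Helper12

/-- the image of the norm map `x ↦ x^(q+1)` has at least `q` elements when `|F| = q²` -/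
theorem norm_image_card (F : Type) [Field F] [Fintype F] [DecidableEq F] (q : ℕ)
    (hF : Fintype.card F = q ^ 2) :
    q ≤ (Finset.univ.image fun x : F => x ^ (q + 1)).card := by
  have h1 : (Finset.univ : Finset F).card
      ≤ (q + 1) * (Finset.univ.image fun x : F => x ^ (q + 1)).card := by
    apply Finset.card_le_mul_card_image
    intro c _
    calc (Finset.univ.filter fun x : F => x ^ (q + 1) = c).card
        ≤ (Polynomial.nthRoots (q + 1) c).toFinset.card := by
          apply Finset.card_le_card
          intro x hx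
          rw [Finset.mem_filter] at hx
          rw [Multiset.mem_toFinset, Polynomial.mem_nthRoots (Nat.succ_pos q)]
          exact hx.2
      _ ≤ Multiset.card (Polynomial.nthRoots (q + 1) c) := Multiset.toFinset_card_le _
      _ ≤ q + 1 := Polynomial.card_nthRoots _ _
  rw [Finset.card_univ, hF] at h1
  by_contra hcon
  push Not at hcon
  nlinarith

/-- `x ↦ x^q` is an involution when `|F| = q²` -/
theorem frob_invol (F : Type) [Field F] [Fintype F] (q : ℕ)
    (hF : Fintype.card F = q ^ 2) (x : F) : (x ^ q) ^ q = x := by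
  rw [← pow_mul, ← sq, ← hF, FiniteField.pow_card]

/-- `x ↦ x^q` is additive when `|F| = q²` -/
theorem frob_add (F : Type) [Field F] [Fintype F] (q : ℕ)
    (hF : Fintype.card F = q ^ 2) (x y : F) : (x + y) ^ q = x ^ q + y ^ q := by
  obtain ⟨p, hp⟩ := CharP.exists F
  have := hp
  obtain ⟨n, hpp, hn⟩ := FiniteField.card F p
  have : Fact p.Prime := ⟨hpp⟩
  have hq : q ∣ p ^ (n : ℕ) := by
    rw [← hn, hF]
    exact dvd_pow_self q two_ne_zero
  obtain ⟨k, _, rfl⟩ := (Nat.dvd_prime_pow hpp).1 hq
  exact add_pow_char_pow x y p k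

/-- norms are fixed by `x ↦ x^q` -/
theorem norm_fixed (F : Type) [Field F] [Fintype F] (q : ℕ)
    (hF : Fintype.card F = q ^ 2) (x : F) : (x ^ (q + 1)) ^ q = x ^ (q + 1) := by
  rw [← pow_mul, mul_comm, pow_mul, pow_succ (x ^ q) q, frob_invol F q hF x, pow_succ x q, mul_comm]

end Helper12

/-- [UF] `x ↦ x^q` is additive and has at least `q` fixed points when `|F| = q²`. -/
theorem frob_facts (F : Type) [Field F] [Fintype F] [DecidableEq F] (q : ℕ)
    (hF : Fintype.card F = q ^ 2) :
    (∀ x y : F, (x + y) ^ q = x ^ q + y ^ q) ∧ (∀ x : F, (x ^ q) ^ q = x) ∧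
      q ≤ (Finset.univ.filter fun x : F => x ^ q = x).card := by
  refine ⟨Helper12.frob_add F q hF, Helper12.frob_invol F q hF, ?_⟩
  refine le_trans (Helper12.norm_image_card F q hF) (Finset.card_le_card ?_)
  intro y hy
  rw [Finset.mem_image] at hy
  obtain ⟨x, _, rfl⟩ := hy
  rw [Finset.mem_filter]
  exact ⟨Finset.mem_univ _, Helper12.norm_fixed F q hF x⟩

end Cfsg.Agent.Lib.Helper29.Law
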