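import Mathlib
import Cfsg.Prelude.Def_Classical
import Cfsg.Agent.Lib.Helper29.Law.Defs
import Cfsg.Agent.Lib.Helper12.LawUF

/-!
# S2355 farm, piece [UB] `exists_hyperbolic_pair`

For a finite field `F` with `|F| = q²` the Hermitian form `x₀y₀^q + x₁y₁^q` on `F²` has a hyperbolic
pair `e₁ = (1, l)`, `e₂ = c • (1, m)` with `l^(q+1) = m^(q+1) = -1`, `l ≠ m`.
-/

set_option autoImplicit false

namespace Cfsg.Agent.Lib.Helper29.Law

namespace Helper12

/-- the fixed points of `x ↦ x^q` are at most `q` -/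
theorem fix_card_le (F : Type) [Field F] [Fintype F] [DecidableEq F] (q : ℕ) (hq : 1 < q) :
    (Finset.univ.filter fun x : F => x ^ q = x).card ≤ q := by
  have hne : (Polynomial.X ^ q - Polynomial.X : Polynomial F) ≠ 0 :=
    FiniteField.X_pow_card_sub_X_ne_zero F hq
  calc (Finset.univ.filter fun x : F => x ^ q = x).card
      ≤ (Polynomial.X ^ q - Polynomial.X : Polynomial F).roots.toFinset.card := by
        apply Finset.card_le_card
        intro x hx
        rw [Finset.mem_filter] at hx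
        rw [Multiset.mem_toFinset, Polynomial.mem_roots hne, Polynomial.IsRoot.def]
        simp [hx.2]
    _ ≤ Multiset.card (Polynomial.X ^ q - Polynomial.X : Polynomial F).roots :=
        Multiset.toFinset_card_le _
    _ ≤ (Polynomial.X ^ q - Polynomial.X : Polynomial F).natDegree := Polynomial.card_roots' _
    _ = q := FiniteField.X_pow_card_sub_X_natDegree_eq F hq

theorem one_lt_of_card (F : Type) [Field F] [Fintype F] (q : ℕ)
    (hF : Fintype.card F = q ^ 2) : 1 < q := by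
  have h1 : 1 < Fintype.card F := Fintype.one_lt_card
  rw [hF] at h1
  by_contra h
  push Not at h
  interval_cases q <;> simp at h1

/-- there is a non-fixed element -/
theorem exists_not_fixed (F : Type) [Field F] [Fintype F] (q : ℕ)
    (hF : Fintype.card F = q ^ 2) : ∃ x : F, x ^ q ≠ x := by
  classical
  have hq := one_lt_of_card F q hF
  by_contra hcon
  push Not at hcon
  have h1 := fix_card_le F q hq
  have h2 : (Finset.univ.filter fun x : F => x ^ q = x) = Finset.univ := by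
    apply Finset.filter_true_of_mem
    intro x _
    exact hcon x
  rw [h2, Finset.card_univ, hF] at h1
  nlinarith

/-- the norm `x ↦ x^(q+1)` is onto the fixed points -/
theorem exists_norm_eq (F : Type) [Field F] [Fintype F] (q : ℕ)
    (hF : Fintype.card F = q ^ 2) (y : F) (hy : y ^ q = y) : ∃ x : F, x ^ (q + 1) = y := by
  classical
  have hq := one_lt_of_card F q hF
  have hsub : (Finset.univ.image fun x : F => x ^ (q + 1)) ⊆
      (Finset.univ.filter fun x : F => x ^ q = x) := by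
    intro y hy
    rw [Finset.mem_image] at hy
    obtain ⟨x, _, rfl⟩ := hy
    rw [Finset.mem_filter]
    exact ⟨Finset.mem_univ _, norm_fixed F q hF x⟩
  have heq := Finset.eq_of_subset_of_card_le hsub
    (le_trans (fix_card_le F q hq) (norm_image_card F q hF))
  have hy' : y ∈ (Finset.univ.filter fun x : F => x ^ q = x) := by
    rw [Finset.mem_filter]
    exact ⟨Finset.mem_univ _, hy⟩
  rw [← heq, Finset.mem_image] at hy'
  obtain ⟨x, _, hx⟩ := hy'
  exact ⟨x, hx⟩

/-- `(-x)^q = -x^q` -/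
theorem frob_neg (F : Type) [Field F] [Fintype F] (q : ℕ)
    (hF : Fintype.card F = q ^ 2) (x : F) : (-x) ^ q = -(x ^ q) := by
  have hq := one_lt_of_card F q hF
  have h := frob_add F q hF (-x) x
  rw [neg_add_cancel, zero_pow (by omega)] at h
  exact eq_neg_of_add_eq_zero_left h.symm

end Helper12

/-- [UB] a hyperbolic pair for the Hermitian form `x₁y₁^q + x₂y₂^q` on `F²`, `|F| = q²`. -/
theorem exists_hyperbolic_pair (F : Type) [Field F] [Fintype F] (q : ℕ)
    (hF : Fintype.card F = q ^ 2) :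
    ∃ (e₁ e₂ : Fin 2 → F) (ε : F), ε ≠ 0 ∧ ε ^ q = -ε ∧ e₁ 0 * e₂ 1 - e₁ 1 * e₂ 0 ≠ 0 ∧
      Cfsg.hermForm 2 F q e₁ e₁ = 0 ∧ Cfsg.hermForm 2 F q e₂ e₂ = 0 ∧
      Cfsg.hermForm 2 F q e₁ e₂ = ε ∧ Cfsg.hermForm 2 F q e₂ e₁ = -ε := by
  have hq := Helper12.one_lt_of_card F q hF
  have hadd := Helper12.frob_add F q hF
  have hinv := Helper12.frob_invol F q hF
  have hneg := Helper12.frob_neg F q hF
  -- a non-fixed element
  obtain ⟨x, hx⟩ := Helper12.exists_not_fixed F q hF
  have hx0 : x ≠ 0 := by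
    rintro rfl
    exact hx (zero_pow (by omega))
  have hxq0 : x ^ q ≠ 0 := pow_ne_zero _ hx0
  -- `ε = x^q - x`
  have hε0 : x ^ q - x ≠ 0 := sub_ne_zero.2 hx
  have hεq : (x ^ q - x) ^ q = -(x ^ q - x) := by
    rw [sub_eq_add_neg, hadd, hneg, hinv]
    ring
  -- `l` of norm `-1`
  obtain ⟨l, hl⟩ := Helper12.exists_norm_eq F q hF (-1) (by rw [hneg, one_pow])
  have hl0 : l ≠ 0 := by
    rintro rfl
    rw [zero_pow (by omega)] at hl
    exact one_ne_zero (neg_eq_zero.1 hl.symm)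
  have hl' : l ^ q * l = -1 := by rw [← pow_succ]; exact hl
  -- `ζ = x^q / x` of norm `1`, `ζ ≠ 1`; `m = l ζ`
  have hζ1 : x ^ q * x⁻¹ ≠ 1 := by
    intro h
    apply hx
    have := congrArg (· * x) h
    simpa [mul_assoc, inv_mul_cancel₀ hx0] using this
  have hζq : (x ^ q * x⁻¹) ^ q = x * (x ^ q)⁻¹ := by
    rw [mul_pow, hinv, inv_pow]
  have hm' : (l * (x ^ q * x⁻¹)) ^ q * (l * (x ^ q * x⁻¹)) = -1 := by
    rw [mul_pow, hζq]
    have : l ^ q * (x * (x ^ q)⁻¹) * (l * (x ^ q * x⁻¹)) = (l ^ q * l) * ((x * x⁻¹) * (x ^ q * (x ^ q)⁻¹)) := by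
      ring
    rw [this, mul_inv_cancel₀ hx0, mul_inv_cancel₀ hxq0, hl']
    ring
  have hml : l * (x ^ q * x⁻¹) ≠ l := by
    intro h
    apply hζ1
    have h2 : l * (x ^ q * x⁻¹) = l * 1 := by rw [mul_one]; exact h
    exact mul_left_cancel₀ hl0 h2
  generalize l * (x ^ q * x⁻¹) = m at hm' hml
  generalize x ^ q - x = ε at hε0 hεq
  -- `D = 1 + l m^q`, `D' = 1 + m l^q`
  have hD : (1 + l * m ^ q) * m = m - l := by
    have : (1 + l * m ^ q) * m = m + l * (m ^ q * m) := by ring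
    rw [this, hm']
    ring
  have hD0 : 1 + l * m ^ q ≠ 0 := by
    intro h
    rw [h, zero_mul] at hD
    exact hml (sub_eq_zero.1 hD.symm)
  have hDq : (1 + l * m ^ q) ^ q = 1 + m * l ^ q := by
    rw [hadd, one_pow, mul_pow, hinv]
    ring
  have hD'0 : 1 + m * l ^ q ≠ 0 := by
    rw [← hDq]
    exact pow_ne_zero _ hD0
  have hD'q : (1 + m * l ^ q) ^ q = 1 + l * m ^ q := by
    rw [hadd, one_pow, mul_pow, hinv]
    ring
  -- `c = -ε / D'`
  have hc1 : (-ε * (1 + m * l ^ q)⁻¹) * (1 + m * l ^ q) = -ε := by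
    rw [mul_assoc, inv_mul_cancel₀ hD'0, mul_one]
  have hc2 : (-ε * (1 + m * l ^ q)⁻¹) ^ q * (1 + l * m ^ q) = ε := by
    rw [mul_pow, inv_pow, hD'q, hneg, hεq, neg_neg, mul_assoc, inv_mul_cancel₀ hD0, mul_one]
  have hc0 : -ε * (1 + m * l ^ q)⁻¹ ≠ 0 :=
    mul_ne_zero (neg_ne_zero.2 hε0) (inv_ne_zero hD'0)
  generalize -ε * (1 + m * l ^ q)⁻¹ = c at hc1 hc2 hc0
  refine ⟨![1, l], ![c, c * m], ε, hε0, hεq, ?_, ?_, ?_, ?_, ?_⟩
  · have : (![1, l] : Fin 2 → F) 0 * (![c, c * m] : Fin 2 → F) 1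
        - (![1, l] : Fin 2 → F) 1 * (![c, c * m] : Fin 2 → F) 0 = c * (m - l) := by
      simp
      ring
    rw [this]
    exact mul_ne_zero hc0 (sub_ne_zero.2 hml)
  · simp only [Cfsg.hermForm, Fin.sum_univ_two, Matrix.cons_val_zero, Matrix.cons_val_one, one_pow]
    linear_combination hl'
  · simp only [Cfsg.hermForm, Fin.sum_univ_two, Matrix.cons_val_zero, Matrix.cons_val_one, mul_pow]
    linear_combination (c * c ^ q) * hm'
  · simp only [Cfsg.hermForm, Fin.sum_univ_two, Matrix.cons_val_zero, Matrix.cons_val_one, mul_pow]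
    linear_combination hc2
  · simp only [Cfsg.hermForm, Fin.sum_univ_two, Matrix.cons_val_zero, Matrix.cons_val_one, one_pow]
    linear_combination hc1

end Cfsg.Agent.Lib.Helper29.Law
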