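import Mathlib
import Cfsg.Prelude.Def_Classical
import Cfsg.Agent.Lib.Helper29.Law.Defs

/-!
# S2355 farm, piece [UD] `psu_q_le_of` (SPARE)

If the `F₀`-rational `SL₂` embeds into `SUₙ` and `w` is a law in `PSUₙ`, then `q ≤ D`.
-/

set_option autoImplicit false

namespace Cfsg.Agent.Lib.Helper29.Law

namespace Helper12

open Matrix

/-- [UD] (spare) derivation of `q ≤ D` from the embedding of the rational `SL₂` into `SUₙ`. -/
theorem psu_q_le_of_spare {w : FreeGroup ℕ} {D : ℕ} (hS : SLBound w D) (F : Type) [Field F] [Fintype F]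
    [DecidableEq F] (q n : ℕ)
    (φ : Matrix.SpecialLinearGroup (Fin 2) F →* Matrix.SpecialLinearGroup (Fin n) F)
    (hφ : Function.Injective φ)
    (hmem : ∀ g : Matrix.SpecialLinearGroup (Fin 2) F,
        (∀ a b, ((g : Matrix (Fin 2) (Fin 2) F) a b) ^ q = (g : Matrix (Fin 2) (Fin 2) F) a b) →
        φ g ∈ Cfsg.SU n F q)
    (hadd : ∀ x y : F, (x + y) ^ q = x ^ q + y ^ q)
    (hcard : q ≤ (Finset.univ.filter fun x : F => x ^ q = x).card)
    (hlaw : IsLaw w (Cfsg.PSU n F q)) : q ≤ D := by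
  by_contra hcon
  push Not at hcon
  have hq0 : q ≠ 0 := by omega
  obtain ⟨τ, hτ, a, b, hab, hne⟩ :=
    hS F (Finset.univ.filter fun x : F => x ^ q = x) (lt_of_lt_of_le hcon hcard)
  rw [Finset.mem_filter] at hτ
  have hτq : τ ^ q = τ := hτ.2
  have hpow : ∀ k : ℕ, (τ ^ k) ^ q = τ ^ k := by
    intro k
    rw [← pow_mul, mul_comm, pow_mul, hτq]
  have hgen : ∀ (i : ℕ) (a b : Fin 2), ((gen F τ i : Matrix (Fin 2) (Fin 2) F) a b) ^ q
      = (gen F τ i : Matrix (Fin 2) (Fin 2) F) a b := by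
    intro i a b
    fin_cases a <;> fin_cases b <;> simp [gen, hadd, mul_pow, hpow]
  have hE12 : ∀ (a b : Fin 2), ((E12 F : Matrix (Fin 2) (Fin 2) F) a b) ^ q
      = (E12 F : Matrix (Fin 2) (Fin 2) F) a b := by
    intro a b
    fin_cases a <;> fin_cases b <;> simp [E12, hq0]
  have hE21 : ∀ (a b : Fin 2), ((E21 F : Matrix (Fin 2) (Fin 2) F) a b) ^ q
      = (E21 F : Matrix (Fin 2) (Fin 2) F) a b := by
    intro a b
    fin_cases a <;> fin_cases b <;> simp [E21, hq0]
  -- the images in `SU`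
  let f : ℕ → Cfsg.SU n F q := fun i => ⟨φ (gen F τ i), hmem _ (hgen i)⟩
  have hcen : FreeGroup.lift f w ∈ Subgroup.center (Cfsg.SU n F q) := hlaw.lift_mem_center f
  have hz : ((FreeGroup.lift f w : Cfsg.SU n F q) : Matrix.SpecialLinearGroup (Fin n) F)
      = φ (FreeGroup.lift (fun i => gen F τ i) w) := by
    have h1 := lift_comp (Cfsg.SU n F q).subtype f w
    have h2 := lift_comp φ (fun i => gen F τ i) w
    have h3 : (fun i => (Cfsg.SU n F q).subtype (f i)) = fun i => φ (gen F τ i) := rfl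
    rw [h3] at h1
    rw [← h2, h1]
    rfl
  rw [Subgroup.mem_center_iff] at hcen
  have key : ∀ g : Matrix.SpecialLinearGroup (Fin 2) F,
      (∀ a b, ((g : Matrix (Fin 2) (Fin 2) F) a b) ^ q = (g : Matrix (Fin 2) (Fin 2) F) a b) →
      FreeGroup.lift (fun i => gen F τ i) w * g = g * FreeGroup.lift (fun i => gen F τ i) w := by
    intro g hg
    have h := hcen ⟨φ g, hmem g hg⟩
    have h' := congrArg (Cfsg.SU n F q).subtype h
    rw [map_mul, map_mul] at h'
    change φ g * ((FreeGroup.lift f w : Cfsg.SU n F q) : Matrix.SpecialLinearGroup (Fin n) F)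
      = ((FreeGroup.lift f w : Cfsg.SU n F q) : Matrix.SpecialLinearGroup (Fin n) F) * φ g at h'
    rw [hz, ← map_mul, ← map_mul] at h'
    exact (hφ h').symm
  exact hne (offDiag_eq_zero_of_commute _ (key _ hE12) (key _ hE21) a b hab)

end Helper12

end Cfsg.Agent.Lib.Helper29.Law
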