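import Cfsg.Agent.Lib.Helper23.L34T
import Cfsg.Agent.Lib.Helper12.McLWC
import Cfsg.Agent.Lib.Helper16.McLWP
import Cfsg.Agent.Lib.Helper16.McLWE
import Cfsg.Agent.Lib.Helper23.McLWUP
import Cfsg.Agent.Lib.Helper3.McLWCEN
import Cfsg.Agent.Lib.Helper3.McLWT
import Cfsg.Agent.Lib.Helper21.McLWODD
import Cfsg.Agent.Lib.Helper17.McLWM
import Cfsg.Agent.Lib.Helper28.McLWB

/-!
# S2047 (Schur multiplier of the McLaughlin group is `C₃`): assembly (helper12)

Method: see `Lib/Helper12/McLWData.lean`.  Pieces: [C]/[CAB]/[CU] helper12 (certificates by helper24's tool for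
helper4's checker), [P], [E] helper16, [UP] helper23, [CEN], [T] helper3, [ODD] helper21, [M] helper17,
[B] helper28 (order certificates helper8).
-/

set_option autoImplicit false

namespace Cfsg.Agent.Lib.Helper12.McLW

open Cfsg Cfsg.H5.TCk

theorem main : Cfsg.HasCyclicSchurMultiplier ↥Cfsg.Spor.McL 3 := by
  obtain ⟨g, u, hg⟩ := exists_tuple
  have : Finite ↥Cfsg.Spor.McL := Nat.finite_of_card_ne_zero (by rw [hg.1]; norm_num)
  have hOdd : ∀ {G : Type} [Group G] (g u : ℕ → G), IsMcLTuple g u →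
      ∀ {Δ : Type} [Group Δ] [Finite Δ] (τ : Δ →* G), IsStemExtension τ → Odd (Nat.card τ.ker) :=
    fun {G} _ g u hg {Δ} _ _ τ hτ =>
      odd_card_ker_of (fun δ h1 h2 => card_le_of_relsU δ h1 h2) g u hg τ hτ
  have hUP : ∀ {G : Type} [Group G] (g u : ℕ → G), IsMcLTuple g u →
      ∀ {Δ : Type} [Group Δ] [Finite Δ] (τ : Δ →* G), IsStemExtension τ → Nat.card τ.ker ∣ 3 :=
    fun {G} _ g u hg {Δ} _ _ τ hτ => card_ker_dvd_three_of
      (fun h h1 h2 => commutator_eq_top_of_relsW h h1 h2)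
      (fun δ h1 h2 => card_le_of_relsW δ h1 h2)
      (fun τ ho g δ h1 h2 h3 w hw hgw =>
        tight_of_odd (fun δ h1 h2 => card_le_of_relsAB δ h1 h2) τ ho g δ h1 h2 h3 w hw hgw)
      (fun {G} _ g u hg {Δ} _ _ τ hτ => hOdd g u hg τ hτ) exists_model g u hg τ hτ
  refine Cfsg.Agent.Lib.Helper7.L34.hasSchurMultiplier_of_card_le
    (exists_cover_of (fun δ h1 h2 => card_le_of_relsW δ h1 h2) exists_model
      (fun h h1 h2 => commutator_eq_top_of_relsW h h1 h2)
      (fun hp N _ _ Z h1 h2 h3 => normal_le_center_of_perfect hp N Z h1 h2 h3)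
      (fun {G} _ g u hg {Δ} _ _ τ hτ => hUP g u hg τ hτ) g u hg) ?_
  intro Γ _ _ σ hσ
  have h3 : Nat.card (Multiplicative (ZMod 3)) = 3 := by
    rw [Nat.card_eq_fintype_card, Fintype.card_multiplicative, ZMod.card]
  rw [h3]
  exact Nat.le_of_dvd (by norm_num) (hUP g u hg σ hσ)

end Cfsg.Agent.Lib.Helper12.McLW
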