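import Mathlib
import Cfsg.Agent.H5.NearQ8
import Cfsg.Agent.S0684

/-!
# Minimal non-abelian normal subgroups centralising a maximal normal abelian subgroup

In a finite group all of whose abelian subgroups are cyclic, let `A` be a maximal normal abelian
subgroup and `N` a normal subgroup centralising `A`, minimal among the non-abelian normal subgroups.
Then `N` is perfect or quaternion of order `8`.
-/

set_option autoImplicit false

namespace Cfsg.Agent.Lib.Helper12.MinNonab

open Cfsg.H5.NearQ8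
open Cfsg.Agent.Lib.Helper10
open scoped commutatorElement

theorem quat_of_min_nonabelian {G : Type*} [Group G] [Finite G] (hAC : AbCyc G)
    (A : Subgroup G) (hAn : A.Normal) (hAc : IsMulCommutative A)
    (hAmax : ∀ B : Subgroup G, B.Normal → IsMulCommutative B → A ≤ B → B = A)
    (N : Subgroup G) (hNn : N.Normal) (hNC : N ≤ Subgroup.centralizer (A : Set G))
    (hNna : ¬ IsMulCommutative N)
    (hNmin : ∀ M : Subgroup G, M.Normal → M ≤ N → ¬ IsMulCommutative M → M = N)
    (hnp : ⁅N, N⁆ ≠ N) : Nonempty (N ≃* QuaternionGroup 2) := by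
  classical
  haveI := hAn
  haveI := hNn
  have hDn : (⁅N, N⁆ : Subgroup G).Normal := Subgroup.commutator_normal N N
  have hDle : ⁅N, N⁆ ≤ N := Subgroup.commutator_le_left N N
  have hDc : IsMulCommutative (⁅N, N⁆ : Subgroup G) := by
    by_contra h
    exact hnp (hNmin _ hDn hDle h)
  have hAcomm : ∀ a ∈ A, ∀ b ∈ A, a * b = b * a := fun a ha b hb =>
    congrArg Subtype.val (hAc.is_comm.comm ⟨a, ha⟩ ⟨b, hb⟩)
  have hAN : ∀ a ∈ A, ∀ m ∈ N, a * m = m * a := by
    intro a ha m hm
    exact Subgroup.mem_centralizer_iff.1 (hNC hm) a ha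
  have hDcomm : ∀ d ∈ ⁅N, N⁆, ∀ e ∈ ⁅N, N⁆, d * e = e * d := fun d hd e he =>
    congrArg Subtype.val (hDc.is_comm.comm ⟨d, hd⟩ ⟨e, he⟩)
  have hN' : ⁅N, N⁆ ≤ A := by
    have hBn : (A ⊔ ⁅N, N⁆).Normal := Subgroup.sup_normal _ _
    have hBc : IsMulCommutative (A ⊔ ⁅N, N⁆ : Subgroup G) := by
      constructor
      constructor
      rintro ⟨x, hx⟩ ⟨y, hy⟩
      apply Subtype.ext
      have hx' : x ∈ (↑(A ⊔ ⁅N, N⁆) : Set G) := hx
      have hy' : y ∈ (↑(A ⊔ ⁅N, N⁆) : Set G) := hy
      rw [Subgroup.normal_mul] at hx' hy'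
      obtain ⟨a, ha, d, hd, rfl⟩ := Set.mem_mul.1 hx'
      obtain ⟨b, hb, e, he, rfl⟩ := Set.mem_mul.1 hy'
      have c1 : Commute a b := hAcomm a ha b hb
      have c2 : Commute a e := hAN a ha e (hDle he)
      have c3 : Commute d b := (hAN b hb d (hDle hd)).symm
      have c4 : Commute d e := hDcomm d hd e he
      exact ((c1.mul_right c2).mul_left (c3.mul_right c4)).eq
    have := hAmax _ hBn hBc le_sup_left
    rw [← this]
    exact le_sup_right
  -- `N` is nilpotent
  have hNnil : Group.IsNilpotent N := by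
    rw [Subgroup.isNilpotent_iff_lowerCentralSeries]
    refine ⟨2, ?_⟩
    rw [Subgroup.lowerCentralSeries_succ, Subgroup.lowerCentralSeries_succ,
      Subgroup.lowerCentralSeries_zero, Subgroup.commutator_eq_bot_iff_le_centralizer]
    intro x hx
    rw [Subgroup.mem_centralizer_iff]
    intro y hy
    exact (hAN x (hN' hx) y hy).symm
  -- Sylow subgroups of `N`
  have hACN : AbCyc N := hAC.subgroup N
  have hsyl : ∀ (r : ℕ) [Fact r.Prime] (S : Sylow r N),
      IsCyclic S ∨ (r = 2 ∧ ∃ n : ℕ, Nonempty (S ≃* QuaternionGroup (2 ^ n))) := by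
    intro r _ S
    exact (hACN.subgroup (S : Subgroup N)).cyclic_or_quat r S.isPGroup'
  have hex : ∃ (P : Sylow 2 N) (n : ℕ), Nonempty (P ≃* QuaternionGroup (2 ^ n)) ∧
      ¬ IsCyclic P := by
    by_contra hcon
    push Not at hcon
    apply hNna
    have hall : ∀ (r : ℕ) [Fact r.Prime] (S : Sylow r N), IsCyclic S := by
      intro r _ S
      rcases hsyl r S with h | ⟨rfl, n, hn⟩
      · exact h
      · exact hcon S n hn
    have := isCyclic_of_isNilpotent_of_sylow_cyclic hNnil hall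
    exact IsCyclic.isMulCommutative
  obtain ⟨P, n, ⟨e⟩, hPnc⟩ := hex
  have hPn : (P : Subgroup N).Normal :=
    ((Group.isNilpotent_of_finite_tfae (G := N)).out 0 3 rfl rfl).mp hNnil 2 inferInstance P
  haveI : (P : Subgroup N).Characteristic := Sylow.characteristic_of_normal P hPn
  have hQn : ((P : Subgroup N).map N.subtype).Normal :=
    ConjAct.normal_of_characteristic_of_normal
  have eQ : (P : Subgroup N) ≃* ((P : Subgroup N).map N.subtype) :=
    (P : Subgroup N).equivMapOfInjective N.subtype N.subtype_injective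
  have hQle : (P : Subgroup N).map N.subtype ≤ N := Subgroup.map_subtype_le _
  have hQna : ¬ IsMulCommutative ((P : Subgroup N).map N.subtype) := by
    intro hc
    apply hPnc
    have := hAC _ hc
    exact isCyclic_of_surjective eQ.symm.toMonoidHom eQ.symm.surjective
  have hQN : (P : Subgroup N).map N.subtype = N := hNmin _ hQn hQle hQna
  have eN : N ≃* (P : Subgroup N) := (MulEquiv.subgroupCongr hQN).symm.trans eQ.symm
  -- the standard generators
  obtain ⟨α₀, hα₀⟩ : ∃ α₀ : (P : Subgroup N), e α₀ = QuaternionGroup.a 1 :=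
    ⟨e.symm _, e.apply_symm_apply _⟩
  obtain ⟨ξ₀, hξ₀⟩ : ∃ ξ₀ : (P : Subgroup N), e ξ₀ = QuaternionGroup.xa 0 :=
    ⟨e.symm _, e.apply_symm_apply _⟩
  have hαN : ((α₀ : N) : G) ∈ N := (α₀ : N).2
  have hξN : ((ξ₀ : N) : G) ∈ N := (ξ₀ : N).2
  have hcA : ⁅((ξ₀ : N) : G), ((α₀ : N) : G)⁆ ∈ A :=
    hN' (Subgroup.commutator_mem_commutator hξN hαN)
  have hcoe : ((⁅ξ₀, α₀⁆ : (P : Subgroup N)) : N) = ⁅(ξ₀ : N), (α₀ : N)⁆ := by
    simp [commutatorElement_def]
  have hcoe2 : (((⁅ξ₀, α₀⁆ : (P : Subgroup N)) : N) : G) = ⁅((ξ₀ : N) : G), ((α₀ : N) : G)⁆ := by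
    rw [hcoe]
    simp [commutatorElement_def]
  have hcomm : ⁅ξ₀, α₀⁆ * ξ₀ = ξ₀ * ⁅ξ₀, α₀⁆ := by
    apply Subtype.ext
    apply Subtype.ext
    rw [Subgroup.coe_mul, Subgroup.coe_mul, Subgroup.coe_mul, Subgroup.coe_mul, hcoe2]
    exact hAN _ hcA _ hξN
  have hecomm : e ⁅ξ₀, α₀⁆ = ⁅(QuaternionGroup.xa 0 : QuaternionGroup (2 ^ n)),
      (QuaternionGroup.a 1 : QuaternionGroup (2 ^ n))⁆ := by
    rw [map_commutatorElement, hα₀, hξ₀]
  have hn2 : 2 ^ n ∣ 2 := by
    apply quat_central_comm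
    rw [← hecomm, ← hξ₀, ← map_mul, ← map_mul, hcomm]
  have hn1 : n = 1 := by
    have h1 : n ≤ 1 := by
      by_contra h
      have : 2 ^ 2 ≤ 2 ^ n := Nat.pow_le_pow_right (by norm_num) (by omega)
      have := Nat.le_of_dvd (by norm_num) hn2
      omega
    have h0 : n ≠ 0 := by
      rintro rfl
      apply hPnc
      have := QuaternionGroup.quaternionGroup_one_isCyclic
      exact isCyclic_of_surjective e.symm.toMonoidHom e.symm.surjective
    omega
  subst hn1
  have e2 : (P : Subgroup N) ≃* QuaternionGroup 2 := e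
  exact ⟨eN.trans e2⟩

variable {p : ℕ} [Fact p.Prime] {V : Type*} [AddCommGroup V] [Module (ZMod p) V]

theorem toMulAut_injective (H : Subgroup (V ≃ₗ[ZMod p] V)) (N : Subgroup H) :
    Function.Injective (Cfsg.Agent.S0684.toMulAut H N) := by
  intro a b hab
  apply Subtype.ext
  apply Subtype.ext
  apply LinearEquiv.ext
  intro v
  have := congrArg (fun f => f (Multiplicative.ofAdd v)) hab
  simp only [Cfsg.Agent.S0684.toMulAut_apply] at this
  exact Multiplicative.ofAdd.injective this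

/-- a perfect subgroup of a semiregular linear group is `SL(2,5)`, given Zassenhaus' theorem
for automorphism groups of `Multiplicative V` -/
theorem sl25_of_perfect [Finite V]
    (hZ : ∀ (B : Subgroup (MulAut (Multiplicative V))),
      (∀ φ ∈ B, φ ≠ 1 → ∀ k : Multiplicative V, φ k = k → k = 1) → commutator B = ⊤ → B ≠ ⊥ →
        Nonempty (B ≃* Matrix.SpecialLinearGroup (Fin 2) (ZMod 5)))
    (H : Subgroup (V ≃ₗ[ZMod p] V))
    (hfree : ∀ h : H, ∀ v : V, v ≠ 0 → (h : V ≃ₗ[ZMod p] V) v = v → h = 1)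
    (N : Subgroup H) (hperf : commutator N = ⊤) (hne : N ≠ ⊥) :
    Nonempty (N ≃* Matrix.SpecialLinearGroup (Fin 2) (ZMod 5)) := by
  obtain ⟨g, hg⟩ : ∃ g : N →* MulAut (Multiplicative V), g = Cfsg.Agent.S0684.toMulAut H N :=
    ⟨_, rfl⟩
  have hginj : Function.Injective g := by rw [hg]; exact toMulAut_injective H N
  have e : N ≃* g.range := MonoidHom.ofInjective hginj
  have hfpf : ∀ φ ∈ g.range, φ ≠ 1 → ∀ k : Multiplicative V, φ k = k → k = 1 := by
    rintro φ ⟨a, rfl⟩ hφ k hk
    by_contra hk1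
    have hv : Multiplicative.toAdd k ≠ 0 := fun h => hk1 (Multiplicative.toAdd.injective h)
    have h1 : ((a : H) : V ≃ₗ[ZMod p] V) (Multiplicative.toAdd k) = Multiplicative.toAdd k := by
      have := congrArg Multiplicative.toAdd hk
      rw [hg] at this
      exact this
    have h2 := hfree (a : H) _ hv h1
    apply hφ
    have : a = 1 := Subtype.ext h2
    rw [this, map_one]
  have hperf' : commutator g.range = ⊤ := by
    rw [commutator_def] at hperf ⊢
    have h1 : (⊤ : Subgroup g.range) = Subgroup.map e.toMonoidHom ⊤ :=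
      (Subgroup.map_top_of_surjective e.toMonoidHom e.surjective).symm
    rw [h1, ← Subgroup.map_commutator, hperf]
  have hne' : g.range ≠ ⊥ := by
    intro hb
    obtain ⟨⟨x, hxN⟩, hx⟩ := Subgroup.ne_bot_iff_exists_ne_one.mp hne
    have : g ⟨x, hxN⟩ ∈ g.range := ⟨_, rfl⟩
    rw [hb, Subgroup.mem_bot] at this
    exact hx (hginj (this.trans (map_one g).symm))
  obtain ⟨e'⟩ := hZ g.range hfpf hperf' hne'
  exact ⟨e.trans e'⟩

end Cfsg.Agent.Lib.Helper12.MinNonab
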