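import Mathlib
import Cfsg.Agent.Lib.Helper12.NF3

/-!
# Solvable exceptional near-field groups: subgroups of index two, or `SL(2,3)`, `SL(2,3) × C₅`
-/

set_option autoImplicit false

namespace Cfsg.Agent.Lib.Helper12.NF

open Cfsg.Agent.Lib.Helper12.NearIrr
open Cfsg.H5.NearQ8

/-- a normal `Q₈` whose centraliser has order divisible by `3`, in a group of order `24` or
`120`: there is a normal subgroup of index `2` -/
theorem index_two_of_three_dvd_centralizer {G : Type*} [Group G] [Finite G] (Q : Subgroup G)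
    [Q.Normal] (e : Q ≃* QuaternionGroup 2) (hG : Nat.card G = 24 ∨ Nat.card G = 120)
    (h3 : 3 ∣ Nat.card (Subgroup.centralizer (Q : Set G))) :
    ∃ N : Subgroup G, N.Normal ∧ N.index = 2 := by
  obtain ⟨C, hC⟩ : ∃ C : Subgroup G, C = Subgroup.centralizer (Q : Set G) := ⟨_, rfl⟩
  have hCn : C.Normal := by rw [hC]; infer_instance
  rw [← hC] at h3
  have hidx24 : C.index ∣ 24 := by
    rw [hC, ← card_mulAut_of_equiv_q8 e]
    have : Finite (MulAut Q) := Nat.finite_of_card_ne_zero (by rw [card_mulAut_of_equiv_q8 e]; norm_num)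
    exact index_centralizer_dvd_card_mulAut Q
  have hmul : C.index * Nat.card C = Nat.card G := Subgroup.index_mul_card C
  have hidx8 : C.index ∣ 8 := by
    obtain ⟨c, hc⟩ := h3
    rw [hc] at hmul
    have hmul' : 3 * (C.index * c) = Nat.card G := by rw [← hmul]; ring
    rcases hG with h | h
    · rw [h] at hmul'
      exact ⟨c, by omega⟩
    · rw [h] at hmul'
      have h40 : C.index ∣ 40 := ⟨c, by omega⟩
      exact Nat.dvd_gcd hidx24 h40
  have hCtop : C ≠ ⊤ := by
    intro htop
    apply quat2_noncomm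
    obtain ⟨x, hx⟩ := e.surjective (QuaternionGroup.xa 0)
    obtain ⟨y, hy⟩ := e.surjective (QuaternionGroup.a 1)
    rw [← hx, ← hy, ← map_mul, ← map_mul]
    congr 1
    apply Subtype.ext
    rw [Subgroup.coe_mul, Subgroup.coe_mul]
    have hyC : (y : G) ∈ C := by rw [htop]; trivial
    rw [hC, Subgroup.mem_centralizer_iff] at hyC
    exact hyC x x.2
  obtain ⟨m, -, hm⟩ := (Nat.dvd_prime_pow Nat.prime_two).1 (show C.index ∣ 2 ^ 3 from hidx8)
  have hpg : IsPGroup 2 (G ⧸ C) := IsPGroup.of_card (n := m) (by rw [← Subgroup.index_eq_card, hm])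
  have hnt : Nontrivial (G ⧸ C) := by
    rw [← Finite.one_lt_card_iff_nontrivial, ← Subgroup.index_eq_card]
    have h1 : C.index ≠ 1 := fun h => hCtop (Subgroup.index_eq_one.mp h)
    have h0 : C.index ≠ 0 := Subgroup.index_ne_zero_of_finite
    omega
  exact exists_index_two_of_quotient C (exists_index_two_of_isPGroup hpg hnt)

theorem card_sup_of_coprime {G : Type*} [Group G] [Finite G] (Q P : Subgroup G) [Q.Normal]
    (hcop : (Nat.card Q).Coprime (Nat.card P)) :
    Nat.card (Q ⊔ P : Subgroup G) = Nat.card Q * Nat.card P := by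
  apply Nat.dvd_antisymm
  · have h1 : Q.relIndex (Q ⊔ P) = Q.relIndex P := by
      rw [sup_comm]; exact Subgroup.relIndex_sup_right P Q
    have h2 : Q.relIndex P ∣ Nat.card P := Subgroup.relIndex_dvd_card Q P
    have h3 : Q.relIndex (Q ⊔ P) * Nat.card (Q.subgroupOf (Q ⊔ P)) = Nat.card (Q ⊔ P : Subgroup G) :=
      Subgroup.index_mul_card _
    have h4 : Nat.card (Q.subgroupOf (Q ⊔ P)) = Nat.card Q :=
      Nat.card_congr (Subgroup.subgroupOfEquivOfLe (le_sup_left : Q ≤ Q ⊔ P)).toEquiv
    rw [← h3, h4, h1, mul_comm]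
    exact Nat.mul_dvd_mul_left _ h2
  · exact hcop.mul_dvd_of_dvd_of_dvd (Subgroup.card_dvd_of_le le_sup_left)
      (Subgroup.card_dvd_of_le le_sup_right)

/-- order `24` -/
theorem caseII_24 {G : Type*} [Group G] [Finite G] (Q : Subgroup G) [Q.Normal]
    (e : Q ≃* QuaternionGroup 2) (hG : Nat.card G = 24) :
    (∃ N : Subgroup G, N.Normal ∧ N.index = 2) ∨
      Nonempty (G ≃* Matrix.SpecialLinearGroup (Fin 2) (ZMod 3)) := by
  have : Fact (Nat.Prime 3) := ⟨Nat.prime_three⟩
  have hQcard : Nat.card Q = 8 := by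
    rw [Nat.card_congr e.toEquiv, Nat.card_eq_fintype_card, QuaternionGroup.card]
  obtain ⟨P3⟩ : Nonempty (Sylow 3 G) := inferInstance
  have hP3 : Nat.card P3 = 3 := sylow_card_of_exact P3 (by rw [hG]; norm_num) (by rw [hG]; norm_num)
  by_cases hc : (P3 : Subgroup G) ≤ Subgroup.centralizer (Q : Set G)
  · left
    apply index_two_of_three_dvd_centralizer Q e (Or.inl hG)
    rw [← hP3]
    exact Subgroup.card_dvd_of_le hc
  · right
    have hsup : Q ⊔ (P3 : Subgroup G) = ⊤ := by
      apply eq_top_of_dvd_card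
      rw [card_sup_of_coprime Q P3 (by rw [hQcard, hP3]; norm_num), hQcard, hP3, hG]
    exact Cfsg.Agent.Lib.Helper23.SL23Recog.nonempty_mulEquiv_SL23 Q (P3 : Subgroup G) e hP3 hsup hc

/-- order `120`, solvable-type configuration with a normal `Q₈` -/
theorem caseII_120 {G : Type*} [Group G] [Finite G] (Q : Subgroup G) [Q.Normal]
    (e : Q ≃* QuaternionGroup 2) (hG : Nat.card G = 120) :
    (∃ N : Subgroup G, N.Normal ∧ N.index = 2) ∨
      Nonempty (G ≃* Matrix.SpecialLinearGroup (Fin 2) (ZMod 3) × Multiplicative (ZMod 5)) := by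
  have : Fact (Nat.Prime 3) := ⟨Nat.prime_three⟩
  have : Fact (Nat.Prime 5) := ⟨Nat.prime_five⟩
  have hQcard : Nat.card Q = 8 := by
    rw [Nat.card_congr e.toEquiv, Nat.card_eq_fintype_card, QuaternionGroup.card]
  obtain ⟨P3⟩ : Nonempty (Sylow 3 G) := inferInstance
  have hP3 : Nat.card P3 = 3 := sylow_card_of_exact P3 (by rw [hG]; norm_num) (by rw [hG]; norm_num)
  obtain ⟨P5⟩ : Nonempty (Sylow 5 G) := inferInstance
  have hP5 : Nat.card P5 = 5 := sylow_card_of_exact P5 (by rw [hG]; norm_num) (by rw [hG]; norm_num)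
  by_cases hc : (P3 : Subgroup G) ≤ Subgroup.centralizer (Q : Set G)
  · left
    apply index_two_of_three_dvd_centralizer Q e (Or.inr hG)
    rw [← hP3]
    exact Subgroup.card_dvd_of_le hc
  right
  obtain ⟨C, hC⟩ : ∃ C : Subgroup G, C = Subgroup.centralizer (Q : Set G) := ⟨_, rfl⟩
  have hCn : C.Normal := by rw [hC]; infer_instance
  have hidx24 : C.index ∣ 24 := by
    rw [hC, ← card_mulAut_of_equiv_q8 e]
    have : Finite (MulAut Q) := Nat.finite_of_card_ne_zero (by rw [card_mulAut_of_equiv_q8 e]; norm_num)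
    exact index_centralizer_dvd_card_mulAut Q
  -- `P5` centralises `Q`
  have hP5C : (P5 : Subgroup G) ≤ C := by
    intro y hy
    rw [← QuotientGroup.eq_one_iff]
    have h1 : orderOf (QuotientGroup.mk' C y) ∣ 24 :=
      (orderOf_dvd_natCard _).trans (by rw [← Subgroup.index_eq_card]; exact hidx24)
    have h2 : orderOf (QuotientGroup.mk' C y) ∣ 5 := by
      refine (orderOf_map_dvd _ y).trans ?_
      have : orderOf (⟨y, hy⟩ : (P5 : Subgroup G)) ∣ Nat.card P5 := orderOf_dvd_natCard _
      rwa [Subgroup.orderOf_mk, hP5] at this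
    have h3 : orderOf (QuotientGroup.mk' C y) ∣ Nat.gcd 24 5 := Nat.dvd_gcd h1 h2
    have h4 : orderOf (QuotientGroup.mk' C y) = 1 := Nat.dvd_one.mp (by simpa using h3)
    exact orderOf_eq_one_iff.mp h4
  have hQP5 : ∀ q ∈ Q, ∀ y ∈ (P5 : Subgroup G), q * y = y * q := by
    intro q hq y hy
    have := hP5C hy
    rw [hC, Subgroup.mem_centralizer_iff] at this
    exact this q hq
  -- `P5` is normal
  have h40 : ∀ K : Subgroup G, Q ≤ K → (P5 : Subgroup G) ≤ K → K.index ∣ 3 := by
    intro K hQK hPK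
    have h8 : 8 ∣ Nat.card K := hQcard ▸ Subgroup.card_dvd_of_le hQK
    have h5 : 5 ∣ Nat.card K := hP5 ▸ Subgroup.card_dvd_of_le hPK
    have h40 : 40 ∣ Nat.card K :=
      (show Nat.Coprime 8 5 by norm_num).mul_dvd_of_dvd_of_dvd h8 h5
    obtain ⟨c, hc⟩ := h40
    have h1 := Subgroup.index_mul_card K
    rw [hc, hG] at h1
    have h2 : 40 * (K.index * c) = 120 := by rw [← h1]; ring
    exact ⟨c, by omega⟩
  have hP5n : (P5 : Subgroup G).Normal := by
    rw [← Subgroup.normalizer_eq_top_iff]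
    have hQN : Q ≤ Subgroup.normalizer ((P5 : Subgroup G) : Set G) := by
      intro q hq
      rw [Subgroup.mem_normalizer_iff]
      intro y
      constructor
      · intro hy
        have : q * y * q⁻¹ = y := by rw [hQP5 q hq y hy]; group
        rw [this]; exact hy
      · intro hy
        have h1 : q⁻¹ * (q * y * q⁻¹) * q = y := by group
        have h2 := hQP5 q⁻¹ (Q.inv_mem hq) _ hy
        rw [← h1, h2]
        have : q * y * q⁻¹ * q⁻¹ * q = q * y * q⁻¹ := by group
        rw [this]; exact hy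
    have hidx := h40 _ hQN Subgroup.le_normalizer
    have hmod : Nat.card (Sylow 5 G) ≡ 1 [MOD 5] := card_sylow_modEq_one 5 G
    rw [P5.card_eq_index_normalizer] at hmod
    have hle : (Subgroup.normalizer ((P5 : Subgroup G) : Set G)).index ≤ 3 :=
      Nat.le_of_dvd (by norm_num) hidx
    have h1 : (Subgroup.normalizer ((P5 : Subgroup G) : Set G)).index = 1 := by
      unfold Nat.ModEq at hmod
      interval_cases h : (Subgroup.normalizer ((P5 : Subgroup G) : Set G)).index <;> simp_all
    exact Subgroup.index_eq_one.mp h1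
  -- `P5` is central
  have hP5Z : ∀ g : G, ∀ y ∈ (P5 : Subgroup G), y * g = g * y := by
    have hcyc : IsCyclic (P5 : Subgroup G) := isCyclic_of_prime_card hP5
    have h4 : (Subgroup.centralizer ((P5 : Subgroup G) : Set G)).index ∣ 4 := by
      have h := index_centralizer_dvd_card_mulAut (P5 : Subgroup G)
      rw [IsCyclic.card_mulAut, hP5] at h
      exact h
    have hQC : Q ≤ Subgroup.centralizer ((P5 : Subgroup G) : Set G) := by
      intro q hq
      rw [Subgroup.mem_centralizer_iff]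
      intro y hy
      exact (hQP5 q hq y hy).symm
    have hPC : (P5 : Subgroup G) ≤ Subgroup.centralizer ((P5 : Subgroup G) : Set G) := by
      intro x hx
      rw [Subgroup.mem_centralizer_iff]
      intro y hy
      have := (IsCyclic.isMulCommutative (α := (P5 : Subgroup G))).is_comm.comm ⟨y, hy⟩ ⟨x, hx⟩
      exact congrArg Subtype.val this
    have h3 := h40 _ hQC hPC
    have h1 : (Subgroup.centralizer ((P5 : Subgroup G) : Set G)).index ∣ Nat.gcd 3 4 :=
      Nat.dvd_gcd h3 h4
    have h1' : (Subgroup.centralizer ((P5 : Subgroup G) : Set G)).index = 1 :=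
      Nat.dvd_one.mp (by simpa using h1)
    have htop := Subgroup.index_eq_one.mp h1'
    intro g y hy
    have hg : g ∈ Subgroup.centralizer ((P5 : Subgroup G) : Set G) := by rw [htop]; trivial
    exact Subgroup.mem_centralizer_iff.mp hg y hy
  -- `L = Q P3 ≅ SL(2,3)`
  obtain ⟨L, hL⟩ : ∃ L : Subgroup G, L = Q ⊔ (P3 : Subgroup G) := ⟨_, rfl⟩
  have hLcard : Nat.card L = 24 := by
    rw [hL, card_sup_of_coprime Q P3 (by rw [hQcard, hP3]; norm_num), hQcard, hP3]
  have hQL : Q ≤ L := by rw [hL]; exact le_sup_left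
  have hPL : (P3 : Subgroup G) ≤ L := by rw [hL]; exact le_sup_right
  have hLiso : Nonempty (L ≃* Matrix.SpecialLinearGroup (Fin 2) (ZMod 3)) := by
    have hn : (Q.subgroupOf L).Normal := Subgroup.Normal.subgroupOf inferInstance L
    have e' : Q.subgroupOf L ≃* QuaternionGroup 2 := (Subgroup.subgroupOfEquivOfLe hQL).trans e
    have hc3 : Nat.card ((P3 : Subgroup G).subgroupOf L) = 3 := by
      rw [Nat.card_congr (Subgroup.subgroupOfEquivOfLe hPL).toEquiv, hP3]
    have hsup : Q.subgroupOf L ⊔ (P3 : Subgroup G).subgroupOf L = ⊤ := by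
      rw [← Subgroup.subgroupOf_sup hQL hPL, ← hL, Subgroup.subgroupOf_self]
    refine Cfsg.Agent.Lib.Helper23.SL23Recog.nonempty_mulEquiv_SL23 (Q.subgroupOf L)
      ((P3 : Subgroup G).subgroupOf L) e' hc3 hsup ?_
    intro hle
    apply hc
    intro x hx
    rw [Subgroup.mem_centralizer_iff]
    intro q hq
    have h1 : (⟨x, hPL hx⟩ : L) ∈ (P3 : Subgroup G).subgroupOf L := Subgroup.mem_subgroupOf.mpr hx
    have h2 := hle h1
    rw [Subgroup.mem_centralizer_iff] at h2
    have h3 := h2 (⟨q, hQL hq⟩ : L) (Subgroup.mem_subgroupOf.mpr hq)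
    exact congrArg Subtype.val h3
  obtain ⟨eL⟩ := hLiso
  -- the direct product
  obtain ⟨f, hf⟩ : ∃ f : L × (P5 : Subgroup G) →* G, ∀ x, f x = (x.1 : G) * (x.2 : G) :=
    ⟨MonoidHom.noncommCoprod L.subtype (P5 : Subgroup G).subtype
      (fun l y => show Commute (L.subtype l) ((P5 : Subgroup G).subtype y) from
        (hP5Z (l : G) (y : G) y.2).symm), fun x => rfl⟩
  have hdisj : L ⊓ (P5 : Subgroup G) = ⊥ :=
    (Subgroup.disjoint_of_coprime_natCard (by rw [hLcard, hP5]; norm_num)).eq_bot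
  have hfinj : Function.Injective f := by
    rw [injective_iff_map_eq_one]
    rintro ⟨l, y⟩ hx
    rw [hf] at hx
    have h1 : (l : G) = (y : G)⁻¹ := eq_inv_of_mul_eq_one_left hx
    have h2 : (l : G) ∈ L ⊓ (P5 : Subgroup G) :=
      ⟨l.2, by rw [h1]; exact (P5 : Subgroup G).inv_mem y.2⟩
    rw [hdisj, Subgroup.mem_bot] at h2
    have h3 : (y : G) = 1 := by rw [h2] at h1; exact inv_eq_one.mp h1.symm
    exact Prod.ext (Subtype.ext h2) (Subtype.ext h3)
  have hfbij : Function.Bijective f := by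
    apply hfinj.bijective_of_nat_card_le
    rw [Nat.card_prod, hLcard, hP5, hG]
  have e5 : (P5 : Subgroup G) ≃* Multiplicative (ZMod 5) :=
    mulEquivOfPrimeCardEq (p := 5) hP5 (by rw [Nat.card_eq_fintype_card]; rfl)
  exact ⟨(MulEquiv.ofBijective f hfbij).symm.trans (MulEquiv.prodCongr eL e5)⟩

end Cfsg.Agent.Lib.Helper12.NF
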