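import Mathlib
import Cfsg.Agent.Lib.Helper12.NF2
import Cfsg.Agent.Lib.Helper12.NF4

/-!
# Solvable linear groups regular on the non-zero vectors (Zassenhaus, solvable near-fields)
-/

set_option autoImplicit false

namespace Cfsg.Agent.Lib.Helper12.NF

open Cfsg.Agent.Lib.Helper12.NearIrr
open Cfsg.H5.NearQ8

variable {p : ℕ} [Fact p.Prime] {V : Type*} [AddCommGroup V] [Module (ZMod p) V]

theorem main_linear [Finite V] [Nontrivial V] (H : Subgroup (V ≃ₗ[ZMod p] V))
    (hreg : ∀ v w : V, v ≠ 0 → w ≠ 0 → ∃! h : H, (h : V ≃ₗ[ZMod p] V) v = w)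
    (hsolv : Group.IsSolvable H) :
    ((∃ (F : Type) (_ : Field F) (_ : Fintype F) (e : V ≃+ F),
        ∀ h : H, ∃ (a : F) (σ : F ≃+* F), ∀ v : V, e ((h : V ≃ₗ[ZMod p] V) v) = a * σ (e v)) ∨
      Nat.card V ∈ ({25, 49, 121, 529} : Set ℕ)) ∧
    (p ≠ 2 → (∃ N : Subgroup H, N.Normal ∧ N.index = 2) ∨
      (Nat.card V = 25 ∧ Nonempty (H ≃* Matrix.SpecialLinearGroup (Fin 2) (ZMod 3))) ∨
      (Nat.card V = 121 ∧
        Nonempty (H ≃* Matrix.SpecialLinearGroup (Fin 2) (ZMod 3) × Multiplicative (ZMod 5)))) := by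
  classical
  have hp : p.Prime := Fact.out
  have hfree : ∀ h : H, ∀ v : V, v ≠ 0 → (h : V ≃ₗ[ZMod p] V) v = v → h = 1 := by
    intro h v hv hhv
    obtain ⟨h₀, -, huniq⟩ := hreg v v hv hv
    rw [huniq h hhv, huniq 1 rfl]
  have : Finite H := Cfsg.H5.NearFinal.finite_H
  have hHV := Cfsg.H5.NearFinal.card_add_one hreg
  by_cases hI : ∀ A : Subgroup H, A.Normal → IsCyclic A → ∃ W : Submodule (ZMod p) V,
      W ≠ ⊥ ∧ W ≠ ⊤ ∧ ∀ a ∈ A, ∀ v ∈ W, ((a : H) : V ≃ₗ[ZMod p] V) v ∈ W
  · -- the exceptional case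
    have hV := Cfsg.Agent.S0688.result H hreg hI hsolv
    refine ⟨Or.inr ?_, ?_⟩
    · rcases hV with h | h | h | h <;> rw [h] <;> simp
    intro _
    have hAC : AbCyc H := fun B hB => Cfsg.Agent.S0684.isCyclic_of_semiregular H hfree B hB
    obtain ⟨A, hAn, hAc, hAmax⟩ := Cfsg.Agent.Lib.Helper10.exists_maximal_normal_abelian H
    obtain ⟨hlt, -⟩ := Cfsg.Agent.S0685.result H hreg hI A hAn hAc hAmax
    have := hAn
    have hCn : (Subgroup.centralizer (A : Set H)).Normal := Subgroup.normal_centralizer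
    obtain ⟨Q, hQn, -, ⟨e⟩, -, -⟩ := exists_normal_q8 hAC A hAn hAc hAmax
      (Subgroup.centralizer (A : Set H)) hCn le_rfl (not_le_of_gt hlt)
    have := hQn
    have hQcard : Nat.card Q = 8 := by
      rw [Nat.card_congr e.toEquiv, Nat.card_eq_fintype_card, QuaternionGroup.card]
    have hquot : Nat.card (H ⧸ Q) * 8 = Nat.card H := by
      rw [← hQcard, ← Subgroup.index_eq_card, Subgroup.index_mul_card]
    rcases hV with h | h | h | h
    · -- 25
      have hH : Nat.card H = 24 := by omega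
      rcases caseII_24 Q e hH with h1 | h1
      · exact Or.inl h1
      · exact Or.inr (Or.inl ⟨h, h1⟩)
    · -- 49
      left
      have hq : Nat.card (H ⧸ Q) = 2 * 3 := by omega
      exact exists_index_two_of_quotient Q (exists_index_two_of_card 3 (by decide) hq)
    · -- 121
      have hH : Nat.card H = 120 := by omega
      rcases caseII_120 Q e hH with h1 | h1
      · exact Or.inl h1
      · exact Or.inr (Or.inr ⟨h, h1⟩)
    · -- 529
      left
      have hq : Nat.card (H ⧸ Q) = 2 * 33 := by omega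
      exact exists_index_two_of_quotient Q (exists_index_two_of_card 33 (by decide) hq)
  · -- an irreducible cyclic normal subgroup
    push Not at hI
    obtain ⟨A, hAn, hAcyc, hA⟩ := hI
    have hirr : ∀ W : Submodule (ZMod p) V,
        (∀ n ∈ A, ∀ v ∈ W, ((n : H) : V ≃ₗ[ZMod p] V) v ∈ W) → W = ⊥ ∨ W = ⊤ := by
      intro W hW
      by_contra hcon
      push Not at hcon
      obtain ⟨a, ha, v, hv, hav⟩ := hA W hcon.1 hcon.2
      exact hav (hW a ha v hv)
    have hAc : ∀ a ∈ A, ∀ b ∈ A, a * b = b * a := by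
      intro a ha b hb
      have := (IsCyclic.isMulCommutative (α := A)).is_comm.comm ⟨a, ha⟩ ⟨b, hb⟩
      exact congrArg Subtype.val this
    refine ⟨Or.inl (semilinear_of_irreducible_abelian H A hAn hAc hirr), ?_⟩
    intro hp2
    left
    apply exists_index_two_caseI H hfree A hAn hAcyc hirr
    have hcardV : Nat.card V = p ^ Module.finrank (ZMod p) V := by
      rw [Module.natCard_eq_pow_finrank (K := ZMod p), Nat.card_zmod]
    have hodd : Odd (Nat.card V) := by
      rw [hcardV]
      exact (hp.odd_of_ne_two hp2).pow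
    rw [← even_iff_two_dvd]
    have : Odd (Nat.card H + 1) := by rw [hHV]; exact hodd
    rcases Nat.even_or_odd (Nat.card H) with h | h
    · exact h
    · exfalso
      have := h.add_odd (show Odd 1 from odd_one)
      rw [← Nat.not_odd_iff_even] at this
      exact this ‹Odd (Nat.card H + 1)›

end Cfsg.Agent.Lib.Helper12.NF
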