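import Mathlib
import Cfsg.Prelude.Def_GeometricClasses
import Cfsg.Agent.Lib.Helper7.AschDefs
import Cfsg.Agent.Lib.Helper16.SpADefs
import Cfsg.Agent.Lib.Helper14.S5630CoreF45
import Cfsg.Agent.Lib.Helper23.S5630CoreF1

/-!
# S5662 SpI8-Q (helper12): the absolutely irreducible normal subgroup `L` fixes a quadratic form: class 8 (`q` even; impossible for
`q` odd)

* `eq_zero_of_additive_sq` : in characteristic 2, an additive map `D : F^n → F` with `D (a v) = a² D v` whose zero set is stable under an
  irreducible set of matrices vanishes (`n ≥ 2`);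
* `exists_polar_eq` : a non-degenerate quadratic form fixed by an absolutely irreducible group of isometries of a symplectic form `f`
  can be rescaled to have polar form `f`, and `2 = 0`;
* `sp_s_quadratic` : exact stub of `Lib/Helper16/SpATop.lean`.
-/

set_option autoImplicit false
set_option linter.unusedSectionVars false
set_option linter.unusedVariables false

namespace Cfsg.Agent.Lib.Helper12.S5662I8Q

open Matrix Cfsg.Geo Cfsg.Agent.Lib.Helper7.Asch Cfsg.Agent.Lib.Helper16.SpA

section general

variable {F : Type*} [Field F] {n : ℕ}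

/-- in characteristic 2, an additive, square-homogeneous map whose zero set is stable under an irreducible set of matrices is zero -/
theorem eq_zero_of_additive_sq [Finite F] (h2 : (2 : F) = 0) (hn : 2 ≤ n)
    (S : Set (Matrix (Fin n) (Fin n) F)) (hirr : ActsIrreducibly S)
    (D : (Fin n → F) → F) (hadd : ∀ u v, D (u + v) = D u + D v) (hsm : ∀ (a : F) v, D (a • v) = a ^ 2 * D v)
    (hinv : ∀ s ∈ S, ∀ v, D v = 0 → D (s *ᵥ v) = 0) (v : Fin n → F) : D v = 0 := by
  classical
  have hD0 : D 0 = 0 := by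
    have := hsm 0 0
    rw [zero_smul] at this
    rw [this]
    ring
  let W : Submodule F (Fin n → F) :=
    { carrier := {u | D u = 0}
      add_mem' := by
        intro a b ha hb
        show D (a + b) = 0
        rw [hadd, ha, hb, add_zero]
      zero_mem' := hD0
      smul_mem' := by
        intro c a ha
        show D (c • a) = 0
        rw [hsm, ha, mul_zero] }
  have hW : ∀ u, u ∈ W ↔ D u = 0 := fun u => Iff.rfl
  have hinvW : ∀ s ∈ S, W.map (Matrix.toLin' s) ≤ W := by
    intro s hs
    rintro _ ⟨u, hu, rfl⟩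
    rw [hW, Matrix.toLin'_apply]
    exact hinv s hs u ((hW u).mp hu)
  rcases hirr W hinvW with hbot | htop
  · exfalso
    have hneg : ∀ u : Fin n → F, D (-u) = D u := by
      intro u
      have := hsm (-1) u
      rw [neg_one_smul] at this
      rw [this]
      ring
    have hinj : Function.Injective D := by
      intro a b hab
      have h3 : a + (-b) ∈ W := by
        rw [hW, hadd, hneg, hab]
        have : D b + D b = 2 * D b := by ring
        rw [this, h2, zero_mul]
      rw [hbot, Submodule.mem_bot] at h3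
      exact add_neg_eq_zero.mp h3
    have : Fintype F := Fintype.ofFinite F
    have hcard := Fintype.card_le_of_injective _ hinj
    rw [Fintype.card_fun, Fintype.card_fin] at hcard
    have h1F : 1 < Fintype.card F := Fintype.one_lt_card
    have : Fintype.card F ^ 2 ≤ Fintype.card F ^ n := Nat.pow_le_pow_right (by omega) hn
    have h5 : Fintype.card F ^ 2 = Fintype.card F * Fintype.card F := sq _
    nlinarith
  · have : v ∈ W := by rw [htop]; trivial
    exact (hW v).mp this

end general

variable {F : Type*} [Field F] [Fintype F] {n : ℕ} {f : (Fin n → F) → (Fin n → F) → F}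

/-- the quadratic form can be rescaled to have polar form `f`; the characteristic is 2 -/
theorem exists_polar_eq (hf : IsSymplecticForm f) (hn : 1 ≤ n) (L : Subgroup (GL (Fin n) F)) (hLI : L ≤ Iso f)
    (hL : AbsIrr L) (Q : (Fin n → F) → F) (hQ : IsNondegenerateQuadraticForm Q)
    (hfix : FixesQuadForm (matrixSet L) Q) :
    (2 : F) = 0 ∧ ∃ c : F, c ≠ 0 ∧ ∀ u v, QuadraticMap.polar Q u v = c * f u v := by
  have hfixf : FixesForm (matrixSet L) f := by
    rintro _ ⟨x, hx, rfl⟩ u v
    exact hLI hx u v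
  obtain ⟨c, hc⟩ := Cfsg.Agent.Lib.Helper23.S5630CoreF.sesq_unique L hL (RingEquiv.refl F) f (QuadraticMap.polar Q)
    (Cfsg.Agent.Lib.Helper23.S5630CoreF.isSesq_of_isBilinearForm f hf.bilinear)
    (Cfsg.Agent.Lib.Helper23.S5630CoreF.isSesq_of_isBilinearForm _ hQ.polar_bilinear) hf.nondegenerate hfixf
    (Cfsg.Agent.Lib.Helper14.S5630Core.fixesForm_polar _ Q hfix)
  -- a non-zero vector
  obtain ⟨v₀, hv₀⟩ : ∃ v₀ : Fin n → F, v₀ ≠ 0 := by
    refine ⟨Pi.single ⟨0, by omega⟩ 1, ?_⟩
    intro h
    have := congrFun h ⟨0, by omega⟩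
    rw [Pi.single_eq_same, Pi.zero_apply] at this
    exact one_ne_zero this
  obtain ⟨⟨x, hx⟩, -⟩ := hQ.nondegenerate v₀ hv₀
  have hc0 : c ≠ 0 := by
    intro h0
    apply hx
    rw [hc, h0, zero_mul]
  refine ⟨?_, c, hc0, hc⟩
  -- `2 Q = 0`
  by_contra h2
  have hQ2 : ∀ v, Q v = 0 := by
    intro v
    have h3 : QuadraticMap.polar Q v v = 2 * Q v := by
      unfold QuadraticMap.polar
      have : v + v = (2 : F) • v := (two_smul F v).symm
      rw [this, hQ.smul]
      ring
    rw [hc, hf.alternating, mul_zero] at h3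
    rcases mul_eq_zero.mp h3.symm with h | h
    · exact absurd h h2
    · exact h
  apply hx
  unfold QuadraticMap.polar
  rw [hQ2, hQ2, hQ2]
  ring

/-- **SpI8-Q** -/
theorem sp_s_quadratic (hf : IsSymplecticForm f) (hn : 4 ≤ n) (H L : Subgroup (GL (Fin n) F)) (hHI : H ≤ Iso f)
    (hLH : L ≤ H) (hL : AbsIrr L) (hnorm : NormBy H L) (Q : (Fin n → F) → F) (hQ : IsNondegenerateQuadraticForm Q)
    (hfix : FixesQuadForm (matrixSet L) Q) : InSp f H := by
  obtain ⟨h2, c, hc0, hc⟩ := exists_polar_eq hf (by omega) L (hLH.trans hHI) hL Q hQ hfix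
  -- `q` is even
  have hq : ¬ Odd (Fintype.card F) := by
    intro hodd
    have h3 : ringChar F = 2 := CharP.ringChar_of_prime_eq_zero Nat.prime_two (by exact_mod_cast h2)
    have h4 := FiniteField.even_card_iff_char_two.mp h3
    rcases hodd with ⟨k, hk⟩
    omega
  -- the rescaled form
  obtain ⟨Q', hQ'def⟩ : ∃ Q' : (Fin n → F) → F, Q' = fun v => c⁻¹ * Q v := ⟨_, rfl⟩
  have hQ'app : ∀ v, Q' v = c⁻¹ * Q v := by
    intro v; rw [hQ'def]
  have hpolar : ∀ u v, QuadraticMap.polar Q' u v = f u v := by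
    intro u v
    have h3 := hc u v
    unfold QuadraticMap.polar at h3 ⊢
    rw [hQ'app, hQ'app, hQ'app, ← mul_sub, ← mul_sub, h3, ← mul_assoc, inv_mul_cancel₀ hc0, one_mul]
  have hpolar' : QuadraticMap.polar Q' = f := by
    funext u v
    exact hpolar u v
  have hQ' : IsNondegenerateQuadraticForm Q' := by
    refine ⟨?_, ?_, ?_⟩
    · intro a v
      rw [hQ'app, hQ'app, hQ.smul]
      ring
    · rw [hpolar']; exact hf.bilinear
    · rw [hpolar']; exact hf.nondegenerate
  have hQ'add : ∀ u v, Q' (u + v) = Q' u + Q' v + f u v := by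
    intro u v
    have := hpolar u v
    unfold QuadraticMap.polar at this
    rw [← this]
    ring
  have hfix' : ∀ x ∈ L, ∀ v, Q' ((x : Matrix (Fin n) (Fin n) F) *ᵥ v) = Q' v := by
    intro x hx v
    rw [hQ'app, hQ'app, hfix _ ⟨x, hx, rfl⟩]
  refine .quadratic Q' hq hQ' hpolar ?_
  intro h hh
  refine ⟨1, fun v => ?_⟩
  rw [Units.val_one, one_mul]
  have hhI := hHI hh
  have key := eq_zero_of_additive_sq h2 (by omega) (matrixSet L) hL.1
    (fun v => Q' ((h : Matrix (Fin n) (Fin n) F) *ᵥ v) - Q' v)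
    (by
      intro u v
      rw [Matrix.mulVec_add, hQ'add, hQ'add u v, hhI u v]
      ring)
    (by
      intro a v
      rw [Matrix.mulVec_smul, hQ'.smul, hQ'.smul]
      ring)
    (by
      rintro _ ⟨x, hx, rfl⟩ v hv
      simp only at hv ⊢
      have hy : h * x * h⁻¹ ∈ L := hnorm h hh x hx
      have e : (h : Matrix (Fin n) (Fin n) F) *ᵥ ((x : Matrix (Fin n) (Fin n) F) *ᵥ v) =
          ((h * x * h⁻¹ : GL (Fin n) F) : Matrix (Fin n) (Fin n) F) *ᵥ ((h : Matrix (Fin n) (Fin n) F) *ᵥ v) := by
        rw [Matrix.mulVec_mulVec, Matrix.mulVec_mulVec, ← Units.val_mul, ← Units.val_mul]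
        congr 2
        group
      rw [e, hfix' _ hy, hfix' _ hx]
      exact hv) v
  exact sub_eq_zero.mp key

end Cfsg.Agent.Lib.Helper12.S5662I8Q
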