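import Mathlib
import Cfsg.Prelude.Def_GeometricClasses
import Cfsg.Agent.Lib.Helper7.AschDefs
import Cfsg.Agent.Lib.Helper12.AschG3
import Cfsg.Agent.Lib.Helper12.FormDescent
import Cfsg.Agent.Lib.Helper12.S5662I8Q

/-!
# Descent of a QUADRATIC form to a subfield, any characteristic (class-5 exit of an even-dimensional orthogonal hub)   (helper12)

* `irr_conj` : a conjugate of an irreducible set of matrices is irreducible;
* `quad_rational` : Galois descent.  `Q'` a quadratic form on `F^n` (`n ≥ 2`) whose polar form has its Gram matrix over the subfield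
  `F₁`, fixed by an irreducible set `S` of matrices with entries in `F₁`  ⟹  `Q' u ∈ F₁` for every `u` with entries in `F₁`.
  (For `τ ∈ Gal(F/F₁)` the map `D v = τ⁻¹ (Q' (τ v)) - Q' v` is additive, `D (c v) = c² D v`, `S`-invariant; so `D = 0`:
  trivially if `2 ≠ 0`, by `S5662I8Q.eq_zero_of_additive_sq` in characteristic 2.)
* `exists_quad_subfield_data` : `R` absolutely irreducible, fixing the non-degenerate quadratic form `Q`, realisable over a proper
  subfield, normalised by `H`  ⟹  the data of a class-5 member for `Q`: `F₁` of prime index, `P`, `ζ ≠ 0` with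
  `IsQuadFormRationalStructure (ζ • Q) F₁ P`, `IsFormRationalStructure (polar Q) F₁ ζ P`, `H ≤ subfieldSubgroup F₁ P`.
-/

set_option autoImplicit false
set_option linter.unusedSectionVars false

namespace Cfsg.Agent.Lib.Helper12.QuadDescent

open Matrix Cfsg Cfsg.Geo Cfsg.Agent.Lib.Helper7.Asch Cfsg.Agent.Lib.Helper23.S5630CoreF

variable {F : Type*} [Field F] {n : ℕ}

/-- a conjugate of an irreducible set of matrices is irreducible -/
theorem irr_conj (S : Set (Matrix (Fin n) (Fin n) F)) (hirr : ActsIrreducibly S) (B : GL (Fin n) F) :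
    ActsIrreducibly ((fun s : Matrix (Fin n) (Fin n) F => (B : Matrix (Fin n) (Fin n) F) * s *
      ((B⁻¹ : GL (Fin n) F) : Matrix (Fin n) (Fin n) F)) '' S) := by
  have hB1 : (B : Matrix (Fin n) (Fin n) F) * ((B⁻¹ : GL (Fin n) F) : Matrix (Fin n) (Fin n) F) = 1 := by
    rw [← Units.val_mul, mul_inv_cancel, Units.val_one]
  have hB2 : ((B⁻¹ : GL (Fin n) F) : Matrix (Fin n) (Fin n) F) * (B : Matrix (Fin n) (Fin n) F) = 1 := by
    rw [← Units.val_mul, inv_mul_cancel, Units.val_one]
  intro W hW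
  have h1 := hirr (W.comap (Matrix.toLin' (B : Matrix (Fin n) (Fin n) F))) (by
    intro s hs
    rintro _ ⟨v, hv, rfl⟩
    rw [Submodule.mem_comap, Matrix.toLin'_apply, Matrix.toLin'_apply]
    have hv' : (B : Matrix (Fin n) (Fin n) F) *ᵥ v ∈ W := by
      have := hv
      rw [SetLike.mem_coe, Submodule.mem_comap, Matrix.toLin'_apply] at this
      exact this
    have h2 := hW _ ⟨s, hs, rfl⟩ ⟨_, hv', rfl⟩
    rw [Matrix.toLin'_apply, Matrix.mulVec_mulVec] at h2
    have e : (B : Matrix (Fin n) (Fin n) F) * s * ((B⁻¹ : GL (Fin n) F) : Matrix (Fin n) (Fin n) F) *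
        (B : Matrix (Fin n) (Fin n) F) = (B : Matrix (Fin n) (Fin n) F) * s := by
      rw [Matrix.mul_assoc, hB2, Matrix.mul_one]
    rw [e] at h2
    rw [Matrix.mulVec_mulVec]
    exact h2)
  rcases h1 with h | h
  · left
    rw [Submodule.eq_bot_iff]
    intro w hw
    have : ((B⁻¹ : GL (Fin n) F) : Matrix (Fin n) (Fin n) F) *ᵥ w ∈
        W.comap (Matrix.toLin' (B : Matrix (Fin n) (Fin n) F)) := by
      rw [Submodule.mem_comap, Matrix.toLin'_apply, Matrix.mulVec_mulVec, hB1, Matrix.one_mulVec]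
      exact hw
    rw [h, Submodule.mem_bot] at this
    have h3 := congrArg (fun x => (B : Matrix (Fin n) (Fin n) F) *ᵥ x) this
    simp only [Matrix.mulVec_mulVec, hB1, Matrix.one_mulVec, Matrix.mulVec_zero] at h3
    exact h3
  · right
    rw [Submodule.eq_top_iff']
    intro w
    have : ((B⁻¹ : GL (Fin n) F) : Matrix (Fin n) (Fin n) F) *ᵥ w ∈
        W.comap (Matrix.toLin' (B : Matrix (Fin n) (Fin n) F)) := by
      rw [h]
      exact Submodule.mem_top
    rw [Submodule.mem_comap, Matrix.toLin'_apply, Matrix.mulVec_mulVec, hB1, Matrix.one_mulVec] at this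
    exact this

variable [Fintype F]

/-- **Galois descent of a quadratic form** (any characteristic) -/
theorem quad_rational (hn : 2 ≤ n) (Q' : (Fin n → F) → F) (hsm : ∀ (c : F) v, Q' (c • v) = c ^ 2 * Q' v)
    (hbil : IsBilinearForm (QuadraticMap.polar Q')) (F₁ : Subfield F)
    (hG : ∀ i j, gramMatrix (QuadraticMap.polar Q') i j ∈ F₁)
    (S : Set (Matrix (Fin n) (Fin n) F)) (hS : ∀ s ∈ S, ∀ i j, s i j ∈ F₁) (hirr : ActsIrreducibly S)
    (hfix : ∀ s ∈ S, ∀ v, Q' (s *ᵥ v) = Q' v) (u : Fin n → F) (hu : ∀ i, u i ∈ F₁) : Q' u ∈ F₁ := by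
  classical
  have key : ∀ τ : F ≃ₐ[F₁] F, τ (Q' u) = Q' u := by
    intro τ
    have hτ1 : ∀ x : F, x ∈ F₁ → τ x = x := fun x hx => τ.commutes ⟨x, hx⟩
    -- compatibility of the polar form with `τ`
    have hpol : ∀ x y : Fin n → F, QuadraticMap.polar Q' (fun i => τ (x i)) (fun i => τ (y i)) =
        τ (QuadraticMap.polar Q' x y) := by
      intro x y
      have hs := isSesq_of_isBilinearForm _ hbil
      rw [sesq_repr (RingEquiv.refl F) _ hs, sesq_repr (RingEquiv.refl F) _ hs]
      simp only [dotProduct, mulVec, RingEquiv.refl_apply, map_sum, map_mul]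
      refine Finset.sum_congr rfl (fun a _ => ?_)
      congr 1
      refine Finset.sum_congr rfl (fun b _ => ?_)
      rw [hτ1 _ (hG a b)]
    have hexp : ∀ a b : Fin n → F, Q' (a + b) = Q' a + Q' b + QuadraticMap.polar Q' a b := by
      intro a b
      unfold QuadraticMap.polar
      ring
    let D : (Fin n → F) → F := fun v => τ.symm (Q' (fun i => τ (v i))) - Q' v
    have hD : ∀ v, D v = τ.symm (Q' (fun i => τ (v i))) - Q' v := fun v => rfl
    have hadd : ∀ x y, D (x + y) = D x + D y := by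
      intro x y
      rw [hD, hD, hD]
      have e1 : (fun i => τ ((x + y) i)) = (fun i => τ (x i)) + (fun i => τ (y i)) := by
        ext i
        simp
      rw [e1, hexp, hexp, hpol, map_add, map_add, AlgEquiv.symm_apply_apply]
      ring
    have hsmD : ∀ (a : F) v, D (a • v) = a ^ 2 * D v := by
      intro a v
      rw [hD, hD]
      have e1 : (fun i => τ ((a • v) i)) = τ a • (fun i => τ (v i)) := by
        ext i
        simp
      rw [e1, hsm, hsm, map_mul, map_pow, AlgEquiv.symm_apply_apply]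
      ring
    have hinvD : ∀ s ∈ S, ∀ v, D (s *ᵥ v) = D v := by
      intro s hs v
      rw [hD, hD]
      have e1 : (fun i => τ ((s *ᵥ v) i)) = s *ᵥ (fun i => τ (v i)) := by
        ext i
        simp only [mulVec, dotProduct, map_sum, map_mul]
        refine Finset.sum_congr rfl (fun j _ => ?_)
        rw [hτ1 _ (hS s hs i j)]
      rw [e1, hfix s hs, hfix s hs]
    have hD0 : ∀ v, D v = 0 := by
      intro v
      by_cases h2 : (2 : F) = 0
      · exact Cfsg.Agent.Lib.Helper12.S5662I8Q.eq_zero_of_additive_sq h2 hn S hirr D hadd hsmD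
          (fun s hs v hv => by rw [hinvD s hs v]; exact hv) v
      · have h3 := hsmD 2 v
        rw [two_smul, hadd] at h3
        have h4 : (2 : F) * D v = 0 := by linear_combination (-1 : F) * h3
        rcases mul_eq_zero.mp h4 with h | h
        · exact absurd h h2
        · exact h
    have h5 := hD0 u
    rw [hD] at h5
    have e2 : (fun i => τ (u i)) = u := by
      ext i
      exact hτ1 _ (hu i)
    rw [e2, sub_eq_zero] at h5
    have h6 := congrArg τ h5
    rw [AlgEquiv.apply_symm_apply] at h6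
    exact h6.symm
  obtain ⟨y, hy⟩ := (IsGalois.mem_range_algebraMap_iff_fixed (F := F₁) (E := F) (Q' u)).2 key
  rw [← hy]
  exact y.2

/-- **quadratic class-5 data**: `R` absolutely irreducible, fixing the non-degenerate quadratic form `Q`, realisable over a proper
subfield and normalised by `H` -/
theorem exists_quad_subfield_data {Q : (Fin n → F) → F} (hQ : IsNondegenerateQuadraticForm Q) (hn : 2 ≤ n)
    (H R : Subgroup (GL (Fin n) F)) (hR : AbsIrr R) (hnorm : NormBy H R)
    (hfix : FixesQuadForm (matrixSet R) Q)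
    (F₀ : Subfield F) (h0 : F₀ ≠ ⊤) (hreal : RealisableOver F₀ (matrixSet R)) :
    ∃ (F₁ : Subfield F) (r : ℕ) (P : GL (Fin n) F) (ζ : F), r.Prime ∧ Fintype.card F = Nat.card F₁ ^ r ∧ ζ ≠ 0 ∧
      IsQuadFormRationalStructure (fun v => ζ * Q v) F₁ P ∧
      IsFormRationalStructure (QuadraticMap.polar Q) F₁ ζ P ∧ H ≤ subfieldSubgroup F₁ P := by
  classical
  obtain ⟨F₁, r, h01, hr, hcard⟩ := Cfsg.Agent.Lib.Helper12.AschG3.exists_prime_index_subfield F₀ h0
  obtain ⟨B, hB⟩ := hreal
  have hB1 : ∀ s ∈ matrixSet R, ∀ i j,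
      ((B : Matrix (Fin n) (Fin n) F) * s * ((B⁻¹ : GL (Fin n) F) : Matrix (Fin n) (Fin n) F)) i j ∈ F₁ :=
    fun s hs i j => h01 (hB s hs i j)
  have hBB1 : (B : Matrix (Fin n) (Fin n) F) * ((B⁻¹ : GL (Fin n) F) : Matrix (Fin n) (Fin n) F) = 1 := by
    rw [← Units.val_mul, mul_inv_cancel, Units.val_one]
  have hBB2 : ((B⁻¹ : GL (Fin n) F) : Matrix (Fin n) (Fin n) F) * (B : Matrix (Fin n) (Fin n) F) = 1 := by
    rw [← Units.val_mul, inv_mul_cancel, Units.val_one]
  -- `R` fixes the polar form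
  have hfixp : ∀ s ∈ matrixSet R, ∀ u v, QuadraticMap.polar Q (s *ᵥ u) (s *ᵥ v) = QuadraticMap.polar Q u v := by
    intro s hs u v
    unfold QuadraticMap.polar
    rw [← Matrix.mulVec_add, hfix s hs, hfix s hs, hfix s hs]
  obtain ⟨ζ, hζ, hform⟩ := Cfsg.Agent.Lib.Helper12.FormDescent.exists_formRational (RingEquiv.refl F)
    (QuadraticMap.polar Q) (isSesq_of_isBilinearForm _ hQ.polar_bilinear) hQ.nondegenerate F₁ (fun x hx => hx) R hR B hB1
    (fun g hg => ⟨1, F₁.one_mem, fun u v => by
      rw [one_mul]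
      exact hfixp _ ⟨g, hg, rfl⟩ u v⟩)
  refine ⟨F₁, r, B⁻¹, ζ, hr, hcard, hζ, ?_, hform, ?_⟩
  · -- the quadratic form itself is rational
    have hpolQ' : QuadraticMap.polar (fun u : Fin n → F => ζ * Q (((B⁻¹ : GL (Fin n) F) : Matrix (Fin n) (Fin n) F) *ᵥ u)) =
        fun x y => ζ * QuadraticMap.polar Q (((B⁻¹ : GL (Fin n) F) : Matrix (Fin n) (Fin n) F) *ᵥ x)
          (((B⁻¹ : GL (Fin n) F) : Matrix (Fin n) (Fin n) F) *ᵥ y) := by
      funext x y
      simp only [QuadraticMap.polar, Matrix.mulVec_add]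
      ring
    have single_mem : ∀ i : Fin n, ∀ k, (Pi.single i (1 : F) : Fin n → F) k ∈ F₁ := by
      intro i k
      rw [Pi.single_apply]
      split_ifs
      · exact F₁.one_mem
      · exact F₁.zero_mem
    intro u hu
    apply quad_rational hn (fun u : Fin n → F => ζ * Q (((B⁻¹ : GL (Fin n) F) : Matrix (Fin n) (Fin n) F) *ᵥ u)) ?_ ?_ F₁ ?_
      ((fun s : Matrix (Fin n) (Fin n) F => (B : Matrix (Fin n) (Fin n) F) * s *
        ((B⁻¹ : GL (Fin n) F) : Matrix (Fin n) (Fin n) F)) '' matrixSet R) ?_ (irr_conj _ hR.1 B) ?_ u hu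
    · intro c v
      show ζ * Q (_ *ᵥ (c • v)) = c ^ 2 * (ζ * Q (_ *ᵥ v))
      rw [Matrix.mulVec_smul, hQ.smul]
      ring
    · rw [hpolQ']
      have hb := hQ.polar_bilinear
      constructor
      · intro x y v
        show ζ * _ = ζ * _ + ζ * _
        rw [Matrix.mulVec_add, hb.add_left]
        ring
      · intro c x v
        show ζ * _ = c * (ζ * _)
        rw [Matrix.mulVec_smul, hb.smul_left]
        ring
      · intro v x y
        show ζ * _ = ζ * _ + ζ * _
        rw [Matrix.mulVec_add, hb.add_right]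
        ring
      · intro c v x
        show ζ * _ = c * (ζ * _)
        rw [Matrix.mulVec_smul, hb.smul_right]
        ring
    · intro i j
      rw [hpolQ']
      exact hform _ _ (single_mem i) (single_mem j)
    · rintro _ ⟨s, hs, rfl⟩ i j
      exact hB1 s hs i j
    · rintro _ ⟨s, hs, rfl⟩ v
      show ζ * Q (_ *ᵥ (_ *ᵥ v)) = ζ * Q (_ *ᵥ v)
      rw [Matrix.mulVec_mulVec, ← Matrix.mul_assoc, ← Matrix.mul_assoc, hBB2, Matrix.one_mul, ← Matrix.mulVec_mulVec,
        hfix s hs]
  · exact (Cfsg.Agent.Lib.Helper12.AschG3.le_normalizer_of_forall H R hnorm).trans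
      (Cfsg.Agent.Lib.Helper12.AschG3.normalizer_le_subfieldSubgroup F₁ R hR B hB1)

end Cfsg.Agent.Lib.Helper12.QuadDescent
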