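import Mathlib
import Cfsg.Prelude.Def_GeometricClasses
import Cfsg.Agent.Lib.Helper7.AschDefs
import Cfsg.Agent.Lib.Helper7.AschWrap
import Cfsg.Agent.Lib.Helper7.AschCore

/-!
# S5630 block I8 `s_case` (helper12): the almost simple case

`L` perfect, simple modulo scalars, normalised by the absolutely irreducible `H` with `QP H`: then `H` lies in a class-8 member
(if `L` fixes a form) or is in the residual class with `P := L`.  Uses the shared lemmas of `AschCore`
(CORE-ND, CORE-F1, F2, F3, F4, F5).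
-/

set_option autoImplicit false

namespace Cfsg.Agent.Lib.Helper12.S5630I8

open Matrix Cfsg.Geo Cfsg.Agent.Lib.Helper7.Asch
open scoped commutatorElement

variable {F : Type*} [Field F] {n : ℕ}

/-- commutators do not see central factors -/
theorem commutatorElement_mul_central {G : Type*} [Group G] (u v a b : G) (hu : ∀ g, u * g = g * u)
    (hv : ∀ g, v * g = g * v) : ⁅u * a, v * b⁆ = ⁅a, b⁆ := by
  rw [commutatorElement_def, commutatorElement_def]
  have h1 : u * a * (v * b) * (u * a)⁻¹ = v * (a * b * a⁻¹) := by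
    calc u * a * (v * b) * (u * a)⁻¹ = u * (a * v * b * a⁻¹) * u⁻¹ := by group
      _ = (a * v * b * a⁻¹) * u * u⁻¹ := by rw [hu]
      _ = a * v * b * a⁻¹ := by group
      _ = v * a * b * a⁻¹ := by rw [← hv a]
      _ = v * (a * b * a⁻¹) := by group
  rw [h1]
  calc v * (a * b * a⁻¹) * (v * b)⁻¹ = v * (a * b * a⁻¹ * b⁻¹) * v⁻¹ := by group
    _ = (a * b * a⁻¹ * b⁻¹) * v * v⁻¹ := by rw [hv]
    _ = a * b * a⁻¹ * b⁻¹ := by group

/-- scalar matrices are central in `GL` -/
theorem scalars_comm (z : GL (Fin n) F) (hz : z ∈ scalars (Fin n) F) (g : GL (Fin n) F) : z * g = g * z := by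
  obtain ⟨c, hc⟩ := (mem_scalars_iff z).1 hz
  apply Units.ext
  rw [Units.val_mul, Units.val_mul, hc, Matrix.smul_mul, Matrix.one_mul, Matrix.mul_smul, Matrix.mul_one]

/-- an element acting trivially modulo scalars on a perfect group centralises it -/
theorem comm_of_perfect (L : Subgroup (GL (Fin n) F)) (hperf : ⁅L, L⁆ = L) (h : GL (Fin n) F)
    (hh : ∀ x ∈ L, h * x * h⁻¹ * x⁻¹ ∈ scalars (Fin n) F) : ∀ x ∈ L, h * x = x * h := by
  have hle : ⁅L, L⁆ ≤ Subgroup.centralizer {h} := by
    rw [Subgroup.commutator_le]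
    intro a ha b hb
    rw [Subgroup.mem_centralizer_iff]
    intro k hk
    rw [Set.mem_singleton_iff] at hk
    subst hk
    have h1 : k * ⁅a, b⁆ * k⁻¹ = ⁅k * a * k⁻¹, k * b * k⁻¹⁆ := by
      rw [commutatorElement_def, commutatorElement_def]
      group
    have h2 : k * a * k⁻¹ = (k * a * k⁻¹ * a⁻¹) * a := by group
    have h3 : k * b * k⁻¹ = (k * b * k⁻¹ * b⁻¹) * b := by group
    rw [h2, h3, commutatorElement_mul_central _ _ a b (scalars_comm _ (hh a ha)) (scalars_comm _ (hh b hb))] at h1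
    calc k * ⁅a, b⁆ = k * ⁅a, b⁆ * k⁻¹ * k := by group
      _ = ⁅a, b⁆ * k := by rw [h1]
  intro x hx
  rw [← hperf] at hx
  have := hle hx
  rw [Subgroup.mem_centralizer_iff] at this
  exact this h rfl

/-- an invertible matrix commuting with an absolutely irreducible group is a scalar -/
theorem mem_scalars_of_comm (hn : 1 ≤ n) (L : Subgroup (GL (Fin n) F)) (hL : AbsIrr L) (h : GL (Fin n) F)
    (hh : ∀ x ∈ L, h * x = x * h) : h ∈ scalars (Fin n) F := by
  obtain ⟨c, hc⟩ := hL.2 (h : Matrix (Fin n) (Fin n) F) (by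
    rintro _ ⟨x, hx, rfl⟩
    have := congrArg (fun g : GL (Fin n) F => (g : Matrix (Fin n) (Fin n) F)) (hh x hx)
    simpa only [Units.val_mul] using this)
  have hc0 : c ≠ 0 := by
    intro h0
    rw [h0, zero_smul] at hc
    have h1 : (h : Matrix (Fin n) (Fin n) F) * ((h⁻¹ : GL (Fin n) F) : Matrix (Fin n) (Fin n) F) = 1 := by
      rw [← Units.val_mul, mul_inv_cancel, Units.val_one]
    rw [hc, Matrix.zero_mul] at h1
    have h2 := congrFun (congrFun h1 ⟨0, by omega⟩) ⟨0, by omega⟩
    simp at h2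
  rw [mem_scalars_iff]
  exact ⟨Units.mk0 c hc0, hc⟩

/-- abstract form: correspondence theorem for simplicity -/
theorem isSimpleGroup_quotient_aux {G : Type*} [Group G] (Z : Subgroup G) [Z.Normal] (hZ : Z ≠ ⊤)
    (hs : ∀ K : Subgroup G, K.Normal → Z ≤ K → K = Z ∨ K = ⊤) : IsSimpleGroup (G ⧸ Z) := by
  have hnt : Nontrivial (G ⧸ Z) := by
    by_contra hcon
    rw [not_nontrivial_iff_subsingleton] at hcon
    exact hZ (QuotientGroup.subsingleton_iff.mp hcon)
  refine { toNontrivial := hnt, eq_bot_or_eq_top_of_normal := ?_ }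
  intro K hK
  have hsurj := QuotientGroup.mk'_surjective Z
  rcases hs (K.comap (QuotientGroup.mk' Z)) (hK.comap _) (by
      intro z hz
      rw [Subgroup.mem_comap]
      have : (QuotientGroup.mk' Z) z = 1 := (QuotientGroup.eq_one_iff z).2 hz
      rw [this]
      exact K.one_mem) with h | h
  · left
    rw [← Subgroup.map_comap_eq_self_of_surjective hsurj K, h]
    rw [eq_bot_iff]
    rintro _ ⟨z, hz, rfl⟩
    rw [Subgroup.mem_bot]
    exact (QuotientGroup.eq_one_iff z).2 hz
  · right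
    rw [← Subgroup.map_comap_eq_self_of_surjective hsurj K, h]
    rw [eq_top_iff]
    intro y _
    obtain ⟨x, rfl⟩ := hsurj y
    exact ⟨x, Subgroup.mem_top _, rfl⟩

theorem normBy_map (L : Subgroup (GL (Fin n) F)) (K : Subgroup L) (hK : K.Normal) : NormBy L (K.map L.subtype) := by
  intro l hl y hy
  rw [Subgroup.mem_map] at hy ⊢
  obtain ⟨x, hx, hxy⟩ := hy
  have h1 : (⟨l, hl⟩ : L) * x * (⟨l, hl⟩ : L)⁻¹ ∈ K := hK.conj_mem x hx ⟨l, hl⟩
  refine ⟨(⟨l, hl⟩ : L) * x * (⟨l, hl⟩ : L)⁻¹, h1, ?_⟩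
  rw [← hxy, map_mul, map_mul, map_inv]
  rfl

/-- `L` modulo its scalars is simple -/
theorem isSimpleGroup_quotient (L : Subgroup (GL (Fin n) F)) (hLs : ¬ L ≤ scalars (Fin n) F)
    (hqs : SimpleModScal L) : IsSimpleGroup (L ⧸ (scalars (Fin n) F).subgroupOf L) := by
  apply isSimpleGroup_quotient_aux
  · intro htop
    apply hLs
    intro x hx
    have : (⟨x, hx⟩ : L) ∈ (scalars (Fin n) F).subgroupOf L := by
      rw [htop]
      exact Subgroup.mem_top _
    exact Subgroup.mem_subgroupOf.1 this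
  · intro K hK hZK
    rcases hqs (K.map L.subtype)
      (by
        intro y hy
        rw [Subgroup.mem_map] at hy
        obtain ⟨x, _, hxy⟩ := hy
        rw [← hxy]
        exact x.2)
      (normBy_map L K hK) with h | h
    · left
      apply le_antisymm _ hZK
      intro x hx
      exact Subgroup.mem_subgroupOf.2 (h ⟨x, hx, rfl⟩)
    · right
      rw [eq_top_iff]
      intro x _
      have hx : (x : GL (Fin n) F) ∈ K.map L.subtype := by
        rw [h]
        exact x.2
      obtain ⟨x', hx', hxx'⟩ := hx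
      have : x' = x := Subtype.ext hxx'
      rw [this] at hx'
      exact hx'

/-- `L` modulo its scalars is not commutative -/
theorem not_comm_quotient (L : Subgroup (GL (Fin n) F)) (hLs : ¬ L ≤ scalars (Fin n) F) (hperf : ⁅L, L⁆ = L) :
    ¬ IsMulCommutative (L ⧸ (scalars (Fin n) F).subgroupOf L) := by
  intro hc
  apply hLs
  rw [← hperf, Subgroup.commutator_le]
  intro a ha b hb
  have h1 : ((⟨⁅a, b⁆, Subgroup.commutator_le.1 (le_of_eq hperf) a ha b hb⟩ : L) :
      L ⧸ (scalars (Fin n) F).subgroupOf L) = 1 := by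
    have h2 : (⟨⁅a, b⁆, Subgroup.commutator_le.1 (le_of_eq hperf) a ha b hb⟩ : L) = ⁅(⟨a, ha⟩ : L), ⟨b, hb⟩⁆ := by
      apply Subtype.ext
      simp [commutatorElement_def]
    rw [h2, commutatorElement_def]
    simp only [QuotientGroup.mk_mul, QuotientGroup.mk_inv]
    have h3 := hc.is_comm.comm ((⟨a, ha⟩ : L) : L ⧸ (scalars (Fin n) F).subgroupOf L)
      ((⟨b, hb⟩ : L) : L ⧸ (scalars (Fin n) F).subgroupOf L)
    rw [h3]
    group
  exact Subgroup.mem_subgroupOf.1 ((QuotientGroup.eq_one_iff _).1 h1)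

set_option linter.unusedVariables false in
/-- **I8** the almost simple case: class 8 or the residual class -/
theorem s_case [Fintype F] (hn : 3 ≤ n) (H L : Subgroup (GL (Fin n) F)) (hH : AbsIrr H) (hQP : QP H)
    (hsub : ∀ F₀ : Subfield F, F₀ ≠ ⊤ → ¬ RealModScal F₀ H)
    (hLH : L ≤ H) (hLs : ¬ L ≤ scalars (Fin n) F) (hperf : ⁅L, L⁆ = L) (hqs : SimpleModScal L)
    (hnorm : NormBy H L) : InClass H ∨ InLinearResidualClass H := by
  have hLabs : AbsIrr L := (hQP L hLH hnorm).resolve_left hLs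
  by_cases hsym : ∃ f : (Fin n → F) → (Fin n → F) → F, IsSymplecticForm f ∧ FixesForm (matrixSet L) f
  · obtain ⟨f, hf, hfix⟩ := hsym
    left
    have he : Even n := even_of_isSymplecticForm f hf
    have h4 : 4 ≤ n := by
      obtain ⟨k, hk⟩ := he
      omega
    refine InClass.of_symplectic H f hf he h4 (fun h hh => ?_)
    exact mem_similarityGroup_of_normalizes L hLabs f hf.bilinear hf.nondegenerate hfix h
      (fun x hx => hnorm h hh x hx)
  by_cases huni : ∃ (σ : F ≃+* F) (f : (Fin n → F) → (Fin n → F) → F), IsUnitaryForm σ f ∧ FixesForm (matrixSet L) f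
  · obtain ⟨σ, f, hf, hfix⟩ := huni
    left
    refine InClass.of_unitary H σ f hf hn (fun h hh => ?_)
    exact mem_similarityGroup_of_normalizes_unitary L hLabs σ f hf hfix h (fun x hx => hnorm h hh x hx)
  by_cases hquad : ∃ Q : (Fin n → F) → F, IsNondegenerateQuadraticForm Q ∧ FixesQuadForm (matrixSet L) Q
  · obtain ⟨Q, hQ, hfix⟩ := hquad
    by_cases ho : Odd (Fintype.card F)
    · left
      refine InClass.of_quadratic H Q hQ ho hn (fun h hh => ?_)
      exact mem_quadSimilarityGroup_of_normalizes L hLabs Q hQ ho hfix h (fun x hx => hnorm h hh x hx)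
    · exact absurd ⟨QuadraticMap.polar Q, isSymplecticForm_polar Q hQ ho, fixesForm_polar _ Q hfix⟩ hsym
  right
  refine ⟨L, ⟨hLH, hnorm, hperf, isSimpleGroup_quotient L hLs hqs, not_comm_quotient L hLs hperf, ?_, hLabs, ?_⟩,
    hquad, hsym, huni⟩
  · intro h _ hh
    exact mem_scalars_of_comm (by omega) L hLabs h (comm_of_perfect L hperf h hh)
  · intro F₀ h0 hreal
    exact hsub F₀ h0 (realModScal_of_normalizes H L hnorm hLabs F₀ hreal)

end Cfsg.Agent.Lib.Helper12.S5630I8
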