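import Mathlib
import Cfsg.Prelude.Def_GeometricClasses
import Cfsg.Agent.Lib.Helper7.AschDefs
import Cfsg.Agent.Lib.Helper12.S5630I8
import Cfsg.Agent.Lib.Helper12.AschDescent
import Cfsg.Agent.Lib.Helper12.QuadDescent

/-!
# The almost simple case (block OE8) of an Aschbacher theorem for the isometry group of a non-degenerate quadratic form,
ANY dimension `n ≥ 2`, ANY characteristic   (helper12)

* `fixesQuad_of_le_isometryGroup`, `fixesForm_polar_of_le_isometryGroup` : isometries of `Q` fix `Q` and its polar form;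
* `exists_subfield_of_realisable` (**OE8a**) : `L` absolutely irreducible, realisable over a proper subfield, normalised by
  `H ≤ I(Q)`, `L ≤ H`  ⟹  the class-5 data with the scalar `ζ` (row shape);
* `s_case_core` (**OE8**) : the whole S-case: class-5 data, or `InOrthogonalResidualClass H`.
-/

set_option autoImplicit false
set_option linter.unusedSectionVars false

namespace Cfsg.Agent.Lib.Helper12.OE8

open Matrix Cfsg Cfsg.Geo Cfsg.Agent.Lib.Helper7.Asch
open scoped commutatorElement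

variable {F : Type*} [Field F] {n : ℕ} {Q : (Fin n → F) → F}

theorem fixesQuad_of_le_isometryGroup (H : Subgroup (GL (Fin n) F)) (hHI : H ≤ isometryGroup F Q) :
    FixesQuadForm (matrixSet H) Q := by
  rintro _ ⟨g, hg, rfl⟩ v
  exact hHI hg v v

theorem fixesForm_polar_of_le_isometryGroup (H : Subgroup (GL (Fin n) F)) (hHI : H ≤ isometryGroup F Q) :
    FixesForm (matrixSet H) (QuadraticMap.polar Q) := by
  intro s hs u v
  have h := fixesQuad_of_le_isometryGroup H hHI
  unfold QuadraticMap.polar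
  rw [← Matrix.mulVec_add, h s hs, h s hs, h s hs]

variable [Fintype F]

/-- **OE8a** (descent of the quadratic form, any characteristic) -/
theorem exists_subfield_of_realisable (hQ : IsNondegenerateQuadraticForm Q) (hn : 2 ≤ n)
    (L H : Subgroup (GL (Fin n) F)) (hLabs : AbsIrr L) (hLH : L ≤ H) (hnorm : NormBy H L)
    (hHI : H ≤ isometryGroup F Q) (F₀ : Subfield F) (h0 : F₀ ≠ ⊤) (hreal : RealisableOver F₀ (matrixSet L)) :
    ∃ (F₁ : Subfield F) (r : ℕ) (P : GL (Fin n) F) (ζ : F), r.Prime ∧ Fintype.card F = Nat.card F₁ ^ r ∧ ζ ≠ 0 ∧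
      IsQuadFormRationalStructure (fun v => ζ * Q v) F₁ P ∧ H ≤ subfieldSubgroup F₁ P := by
  obtain ⟨F₁, r, P, ζ, hr, hcard, hζ, hrat, -, hle⟩ :=
    Cfsg.Agent.Lib.Helper12.QuadDescent.exists_quad_subfield_data hQ hn H L hLabs hnorm
      (fixesQuad_of_le_isometryGroup L (hLH.trans hHI)) F₀ h0 hreal
  exact ⟨F₁, r, P, ζ, hr, hcard, hζ, hrat, hle⟩

/-- **OE8** the almost simple case -/
theorem s_case_core (hQ : IsNondegenerateQuadraticForm Q) (hn : 2 ≤ n) (H L : Subgroup (GL (Fin n) F))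
    (hHI : H ≤ isometryGroup F Q) (hQP : QP H)
    (hLH : L ≤ H) (hLs : ¬ L ≤ scalars (Fin n) F) (hperf : ⁅L, L⁆ = L) (hqs : SimpleModScal L)
    (hnorm : NormBy H L) :
    (∃ (F₁ : Subfield F) (r : ℕ) (P : GL (Fin n) F) (ζ : F), r.Prime ∧ Fintype.card F = Nat.card F₁ ^ r ∧ ζ ≠ 0 ∧
      IsQuadFormRationalStructure (fun v => ζ * Q v) F₁ P ∧ H ≤ subfieldSubgroup F₁ P) ∨
    InOrthogonalResidualClass H := by
  have hLabs : AbsIrr L := (hQP L hLH hnorm).resolve_left hLs
  by_cases hex : ∃ F₀ : Subfield F, F₀ ≠ ⊤ ∧ RealisableOver F₀ (matrixSet L)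
  · obtain ⟨F₀, h0, hreal⟩ := hex
    exact Or.inl (exists_subfield_of_realisable hQ hn L H hLabs hLH hnorm hHI F₀ h0 hreal)
  right
  refine ⟨L, ⟨hLH, hnorm, hperf, Cfsg.Agent.Lib.Helper12.S5630I8.isSimpleGroup_quotient L hLs hqs,
    Cfsg.Agent.Lib.Helper12.S5630I8.not_comm_quotient L hLs hperf, ?_, hLabs, ?_⟩, ?_⟩
  · intro h _ hh
    exact Cfsg.Agent.Lib.Helper12.S5630I8.mem_scalars_of_comm (by omega) L hLabs h
      (Cfsg.Agent.Lib.Helper12.S5630I8.comm_of_perfect L hperf h hh)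
  · intro F₀ h0 hreal
    exact hex ⟨F₀, h0, hreal⟩
  · rintro ⟨σ, u, hu, hufix⟩
    exact hex ⟨Cfsg.Agent.Lib.Helper12.AschDescent.fixedField σ,
      Cfsg.Agent.Lib.Helper12.AschDescent.fixedField_ne_top σ hu.ne_refl,
      Cfsg.Agent.Lib.Helper12.AschDescent.realisable_of_bilinear_unitary (by omega) L hLabs _ hQ.polar_bilinear
        hQ.nondegenerate (fixesForm_polar_of_le_isometryGroup L (hLH.trans hHI)) σ u hu hufix⟩

end Cfsg.Agent.Lib.Helper12.OE8
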