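import Mathlib
import Cfsg.Prelude.Def_GeometricClasses
import Cfsg.Agent.Lib.Helper13.OrthMax
import Cfsg.Agent.Lib.Helper9.HubCorA1
import Cfsg.Agent.Lib.Helper16.FieldEmbed
import Cfsg.Agent.Lib.Helper29.S5775Q4B

/-!
# Even-dimensional orthogonal rows : E-FRAME-SUBFIELD

The stabiliser in the isometry group of an orthogonal frame of pairwise isometric non-degenerate lines (`O₁ ≀ Sₙ`) consists of
signed permutation matrices in a suitable basis, hence lies in the subfield group of EVERY subfield; for a field of non-prime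
order this is a member of class 5.
-/

set_option autoImplicit false
set_option linter.unusedSectionVars false
set_option linter.unusedVariables false

namespace Cfsg.Agent.Lib.Helper12.OECorFrame

open Matrix Cfsg Cfsg.Geo Module QuadraticMap
open Cfsg.Agent.Lib.Helper13 (toQF toQF_nondegenerate)

variable {F : Type*} [Field F] [Fintype F] {n : ℕ}

/-! ## subfields of prime index -/

/-- a subfield of index `r` for every divisor `r` of the degree -/
theorem exists_subfield_of_dvd (p a r : ℕ) (hp : p.Prime) (hcard : Fintype.card F = p ^ a) (hr : r ∣ a)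
    (ha : 0 < a) : ∃ F₀ : Subfield F, Fintype.card F = Nat.card F₀ ^ r := by
  obtain ⟨b, rfl⟩ := hr
  have hb : b ≠ 0 := by
    rintro rfl
    simp at ha
  have hr0 : r ≠ 0 := by
    rintro rfl
    simp at ha
  have : Fact p.Prime := ⟨hp⟩
  have : Fintype (GaloisField p b) := Fintype.ofFinite _
  have hK : Fintype.card (GaloisField p b) = p ^ b := by
    rw [← Nat.card_eq_fintype_card]
    exact GaloisField.card p b hb
  have hF : Fintype.card F = (p ^ b) ^ r := by rw [hcard, ← pow_mul, mul_comm]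
  obtain ⟨φ⟩ := Cfsg.Agent.Lib.Helper16.exists_ringHom_of_card_pow (F := GaloisField p b) (K := F) hr0 hK hF
  refine ⟨φ.fieldRange, ?_⟩
  have hcardR : Nat.card φ.fieldRange = p ^ b := by
    rw [← GaloisField.card p b hb]
    exact (Nat.card_congr (Equiv.ofInjective φ φ.injective)).symm
  rw [hcardR, hF]

/-- a field whose order is not a prime has a subfield of prime index -/
theorem exists_subfield_of_not_prime (hq : ¬ (Fintype.card F).Prime) :
    ∃ (F₀ : Subfield F) (r : ℕ), r.Prime ∧ Fintype.card F = Nat.card F₀ ^ r := by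
  obtain ⟨p, hpc⟩ := CharP.exists F
  have hp : p.Prime := CharP.char_is_prime F p
  have : Fact p.Prime := ⟨hp⟩
  obtain ⟨a, -, ha⟩ := FiniteField.card F p
  have ha1 : (a : ℕ) ≠ 1 := by
    intro h
    rw [h, pow_one] at ha
    exact hq (ha ▸ hp)
  obtain ⟨r, hr, hra⟩ := Nat.exists_prime_and_dvd ha1
  obtain ⟨F₀, hF₀⟩ := exists_subfield_of_dvd p a r hp ha hra a.pos
  exact ⟨F₀, r, hr, hF₀⟩

/-- the same with `r` odd, when `q ≡ 3 mod 4` -/
theorem exists_subfield_odd_of_not_prime (hnp : ¬ (Fintype.card F).Prime) (h3 : Fintype.card F % 4 = 3) :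
    ∃ (F₀ : Subfield F) (r : ℕ), r.Prime ∧ Odd r ∧ Fintype.card F = Nat.card F₀ ^ r := by
  obtain ⟨p, hpc⟩ := CharP.exists F
  have hp : p.Prime := CharP.char_is_prime F p
  have : Fact p.Prime := ⟨hp⟩
  obtain ⟨a, -, ha⟩ := FiniteField.card F p
  have ha1 : (a : ℕ) ≠ 1 := by
    intro h
    rw [h, pow_one] at ha
    exact hnp (ha ▸ hp)
  obtain ⟨r, hr, hra⟩ := Nat.exists_prime_and_dvd ha1
  obtain ⟨F₀, hF₀⟩ := exists_subfield_of_dvd p a r hp ha hra a.pos
  refine ⟨F₀, r, hr, ?_, hF₀⟩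
  rcases hr.eq_two_or_odd' with rfl | hodd
  · exfalso
    obtain ⟨b, hb⟩ := hra
    rw [ha, hb, pow_mul] at h3
    have h4 : p ^ 2 % 4 = 0 ∨ p ^ 2 % 4 = 1 := by
      have h5 : p % 4 < 4 := Nat.mod_lt _ (by norm_num)
      rw [Nat.pow_mod]
      interval_cases p % 4 <;> simp
    rcases h4 with h4 | h4
    · rw [Nat.pow_mod, h4] at h3
      rcases Nat.eq_zero_or_pos b with rfl | hb0
      · simp at h3
      · rw [zero_pow hb0.ne'] at h3
        simp at h3
    · rw [Nat.pow_mod, h4, one_pow] at h3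
      simp at h3
  · exact hodd

/-! ## the quadratic form on an orthogonal family -/

theorem quad_zero {Q : (Fin n → F) → F} (hQ : IsNondegenerateQuadraticForm Q) : Q 0 = 0 := by
  have := hQ.smul 0 (0 : Fin n → F)
  rw [zero_smul] at this
  rw [this]
  ring

theorem polar_sum_right {Q : (Fin n → F) → F} (hQ : IsNondegenerateQuadraticForm Q) {κ : Type*} (s : Finset κ)
    (x : Fin n → F) (y : κ → Fin n → F) : polar Q x (∑ i ∈ s, y i) = ∑ i ∈ s, polar Q x (y i) :=
  map_sum (polarBilin (toQF Q hQ) x) y s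

theorem polar_self {Q : (Fin n → F) → F} (hQ : IsNondegenerateQuadraticForm Q) (x : Fin n → F) :
    polar Q x x = 2 * Q x := by
  unfold QuadraticMap.polar
  have h3 : x + x = (2 : F) • x := by rw [two_smul]
  rw [h3, hQ.smul]
  ring

theorem quad_sum {Q : (Fin n → F) → F} (hQ : IsNondegenerateQuadraticForm Q) {κ : Type*} [DecidableEq κ]
    (s : Finset κ) (v : κ → Fin n → F) (c : κ → F) (horth : ∀ i j, i ≠ j → polar Q (v i) (v j) = 0) :
    Q (∑ i ∈ s, c i • v i) = ∑ i ∈ s, c i ^ 2 * Q (v i) := by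
  induction s using Finset.induction_on with
  | empty => simp [quad_zero hQ]
  | insert a s ha ih =>
    rw [Finset.sum_insert ha, Finset.sum_insert ha]
    have hadd : ∀ x y : Fin n → F, Q (x + y) = Q x + Q y + polar Q x y := by
      intro x y
      unfold QuadraticMap.polar
      ring
    rw [hadd, ih, hQ.smul, polar_sum_right hQ]
    have hz : ∑ i ∈ s, polar Q (c a • v a) (c i • v i) = 0 := by
      apply Finset.sum_eq_zero
      intro i hi
      have hne : a ≠ i := by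
        rintro rfl
        exact ha hi
      rw [hQ.polar_bilinear.smul_left, hQ.polar_bilinear.smul_right, horth a i hne]
      ring
    rw [hz, add_zero]

/-! ## the frame -/

/-- **E-FRAME-SUBFIELD**, core : one basis and one scalar for all subfields -/
theorem frame_core {Q : (Fin n → F) → F} (hQ : IsNondegenerateQuadraticForm Q) {t : ℕ}
    (D : Fin t → Submodule F (Fin n → F)) (hD : IsOrthogonalMDecomposition Q 1 D) :
    ∃ (P : GL (Fin n) F) (ζ : F), ζ ≠ 0 ∧ ∀ F₀ : Subfield F,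
      IsQuadFormRationalStructure (fun v => ζ * Q v) F₀ P ∧
      decompositionStabilizer D ⊓ isometryGroup F Q ≤ subfieldSubgroup F₀ P := by
  have htn := Cfsg.Agent.Lib.Helper9.HubCor.mul_eq_card_of_isMDecomposition D hD.decomp.decomp
  rw [mul_one, Fintype.card_fin] at htn
  subst htn
  have ht2 := hD.decomp.decomp.two_le
  have hB := hQ.polar_bilinear
  -- the base vector
  obtain ⟨v₀, hv₀D, hv₀0⟩ : ∃ v₀ ∈ D ⟨0, by omega⟩, v₀ ≠ 0 := by
    have hne : D ⟨0, by omega⟩ ≠ ⊥ := by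
      intro h
      have h1 := hD.decomp.decomp.finrank_eq ⟨0, by omega⟩
      rw [h, finrank_bot] at h1
      exact zero_ne_one h1
    exact Submodule.exists_mem_ne_zero_of_ne_bot hne
  choose e he using fun i => hD.isometric ⟨0, by omega⟩ i
  have hvD : ∀ i, ((e i ⟨v₀, hv₀D⟩ : D i) : Fin t → F) ∈ D i := fun i => (e i ⟨v₀, hv₀D⟩).2
  have hv0 : ∀ i, ((e i ⟨v₀, hv₀D⟩ : D i) : Fin t → F) ≠ 0 := by
    intro i h
    have h1 : e i ⟨v₀, hv₀D⟩ = 0 := Subtype.ext h
    have h2 : (⟨v₀, hv₀D⟩ : D ⟨0, by omega⟩) = 0 := (e i).map_eq_zero_iff.mp h1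
    exact hv₀0 (congrArg Subtype.val h2)
  have hQv : ∀ i, Q ((e i ⟨v₀, hv₀D⟩ : D i) : Fin t → F) = Q v₀ := fun i => he i ⟨v₀, hv₀D⟩
  have hspan : ∀ i, ∀ w ∈ D i, ∃ c : F, w = c • ((e i ⟨v₀, hv₀D⟩ : D i) : Fin t → F) := by
    intro i w hw
    have hne : e i ⟨v₀, hv₀D⟩ ≠ 0 := fun h => hv0 i (congrArg Subtype.val h)
    obtain ⟨c, hc⟩ := exists_smul_eq_of_finrank_eq_one (hD.decomp.decomp.finrank_eq i) hne ⟨w, hw⟩
    exact ⟨c, (congrArg Subtype.val hc).symm⟩
  have horth : ∀ i j, i ≠ j →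
      polar Q ((e i ⟨v₀, hv₀D⟩ : D i) : Fin t → F) ((e j ⟨v₀, hv₀D⟩ : D j) : Fin t → F) = 0 :=
    fun i j hij => hD.decomp.orthogonal i j hij _ (hvD i) _ (hvD j)
  -- `Q v₀ ≠ 0` and `2 ≠ 0`
  have h2lam : (2 : F) * Q v₀ ≠ 0 := by
    obtain ⟨⟨x, hx, hxv⟩, -⟩ := hD.decomp.nondegenerate ⟨0, by omega⟩ v₀ hv₀D hv₀0
    have hne : (⟨v₀, hv₀D⟩ : D ⟨0, by omega⟩) ≠ 0 := fun h => hv₀0 (congrArg Subtype.val h)
    obtain ⟨c, hc⟩ := exists_smul_eq_of_finrank_eq_one (hD.decomp.decomp.finrank_eq ⟨0, by omega⟩) hne ⟨x, hx⟩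
    have hc' : x = c • v₀ := (congrArg Subtype.val hc).symm
    rw [hc', hB.smul_left, polar_self hQ] at hxv
    exact right_ne_zero_of_mul hxv
  have hlam : Q v₀ ≠ 0 := right_ne_zero_of_mul h2lam
  have h2 : (2 : F) ≠ 0 := left_ne_zero_of_mul h2lam
  -- the basis matrix
  have hPmul : ∀ u : Fin t → F,
      (Matrix.of fun a i => ((e i ⟨v₀, hv₀D⟩ : D i) : Fin t → F) a) *ᵥ u =
        ∑ i, u i • ((e i ⟨v₀, hv₀D⟩ : D i) : Fin t → F) := by
    intro u
    funext a
    rw [Matrix.mulVec, dotProduct, Finset.sum_apply]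
    apply Finset.sum_congr rfl
    intro i _
    rw [Matrix.of_apply, Pi.smul_apply, smul_eq_mul, mul_comm]
  have hinj : Function.Injective
      (Matrix.of fun a i => ((e i ⟨v₀, hv₀D⟩ : D i) : Fin t → F) a).mulVec := by
    intro u u' huu
    have hsub : (Matrix.of fun a i => ((e i ⟨v₀, hv₀D⟩ : D i) : Fin t → F) a) *ᵥ (u - u') = 0 := by
      rw [Matrix.mulVec_sub]
      exact sub_eq_zero.mpr huu
    rw [hPmul] at hsub
    have hz : ∀ j, (u - u') j = 0 := by
      intro j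
      have h1 : polar Q ((e j ⟨v₀, hv₀D⟩ : D j) : Fin t → F)
          (∑ i, (u - u') i • ((e i ⟨v₀, hv₀D⟩ : D i) : Fin t → F)) = (u - u') j * (2 * Q v₀) := by
        rw [polar_sum_right hQ, Finset.sum_eq_single j]
        · rw [hB.smul_right, polar_self hQ, hQv]
        · intro i _ hij
          rw [hB.smul_right, horth j i (Ne.symm hij), mul_zero]
        · intro hj
          exact absurd (Finset.mem_univ j) hj
      rw [hsub] at h1
      have h0 : polar Q ((e j ⟨v₀, hv₀D⟩ : D j) : Fin t → F) 0 = 0 := by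
        have := hB.smul_right (0 : F) ((e j ⟨v₀, hv₀D⟩ : D j) : Fin t → F) 0
        rw [zero_smul, zero_mul] at this
        exact this
      rw [h0] at h1
      rcases mul_eq_zero.mp h1.symm with h | h
      · exact h
      · exact absurd h h2lam
    funext j
    have := hz j
    rw [Pi.sub_apply] at this
    exact sub_eq_zero.mp this
  have hunit : IsUnit (Matrix.of fun a i => ((e i ⟨v₀, hv₀D⟩ : D i) : Fin t → F) a) :=
    Matrix.mulVec_injective_iff_isUnit.mp hinj
  obtain ⟨P, hPu⟩ : ∃ P : GL (Fin t) F, (P : Matrix (Fin t) (Fin t) F) =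
      Matrix.of fun a i => ((e i ⟨v₀, hv₀D⟩ : D i) : Fin t → F) a := ⟨hunit.unit, rfl⟩
  refine ⟨P, (Q v₀)⁻¹, inv_ne_zero hlam, fun F₀ => ⟨?_, ?_⟩⟩
  · -- the rational structure
    intro u hu
    change (Q v₀)⁻¹ * Q ((P : Matrix (Fin t) (Fin t) F) *ᵥ u) ∈ F₀
    rw [hPu, hPmul, quad_sum hQ _ _ _ horth]
    have h1 : (Q v₀)⁻¹ * ∑ i, u i ^ 2 * Q ((e i ⟨v₀, hv₀D⟩ : D i) : Fin t → F) = ∑ i, u i ^ 2 := by
      rw [Finset.mul_sum]
      apply Finset.sum_congr rfl
      intro i _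
      rw [hQv]
      field_simp
    rw [h1]
    exact F₀.sum_mem fun i _ => F₀.pow_mem (hu i) 2
  · -- the stabiliser
    rintro g ⟨⟨σ, hσ⟩, hgI⟩
    have hgv : ∀ i, ∃ c : F, (c = 1 ∨ c = -1) ∧
        (g : Matrix (Fin t) (Fin t) F) *ᵥ ((e i ⟨v₀, hv₀D⟩ : D i) : Fin t → F) =
          c • ((e (σ i) ⟨v₀, hv₀D⟩ : D (σ i)) : Fin t → F) := by
      intro i
      have hmem : (g : Matrix (Fin t) (Fin t) F) *ᵥ ((e i ⟨v₀, hv₀D⟩ : D i) : Fin t → F) ∈ D (σ i) := by
        rw [← hσ i, ← Matrix.toLin'_apply]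
        exact Submodule.mem_map_of_mem (hvD i)
      obtain ⟨c, hc⟩ := hspan (σ i) _ hmem
      refine ⟨c, ?_, hc⟩
      have hQg : Q ((g : Matrix (Fin t) (Fin t) F) *ᵥ ((e i ⟨v₀, hv₀D⟩ : D i) : Fin t → F)) =
          Q ((e i ⟨v₀, hv₀D⟩ : D i) : Fin t → F) :=
        hgI ((e i ⟨v₀, hv₀D⟩ : D i) : Fin t → F) ((e i ⟨v₀, hv₀D⟩ : D i) : Fin t → F)
      rw [hc, hQ.smul, hQv, hQv] at hQg
      have hc2 : c ^ 2 = 1 := by
        have h3 : (c ^ 2 - 1) * Q v₀ = 0 := by linear_combination hQg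
        rcases mul_eq_zero.mp h3 with h | h
        · exact sub_eq_zero.mp h
        · exact absurd h hlam
      have h4 : (c - 1) * (c + 1) = 0 := by linear_combination hc2
      rcases mul_eq_zero.mp h4 with h | h
      · exact Or.inl (sub_eq_zero.mp h)
      · exact Or.inr (eq_neg_of_add_eq_zero_left h)
    choose c hc1 hc using hgv
    have hcF : ∀ i, c i ∈ F₀ := by
      intro i
      rcases hc1 i with h | h
      · rw [h]
        exact F₀.one_mem
      · rw [h]
        exact F₀.neg_mem F₀.one_mem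
    apply Cfsg.Agent.Lib.Helper29.S5775Q4.mem_subfieldSubgroup_of_map F₀ P g 1 one_ne_zero
      (Matrix.of fun a i => if a = σ i then (⟨c i, hcF i⟩ : F₀) else 0)
    rw [one_smul]
    have hkey : (g : Matrix (Fin t) (Fin t) F) * (P : Matrix (Fin t) (Fin t) F) =
        (P : Matrix (Fin t) (Fin t) F) *
          (Matrix.of fun a i => if a = σ i then (⟨c i, hcF i⟩ : F₀) else 0).map F₀.subtype := by
      rw [hPu]
      ext a i
      rw [Matrix.mul_apply, Matrix.mul_apply]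
      have h1 : ∑ b, (g : Matrix (Fin t) (Fin t) F) a b *
          (Matrix.of fun a i => ((e i ⟨v₀, hv₀D⟩ : D i) : Fin t → F) a) b i =
          ((g : Matrix (Fin t) (Fin t) F) *ᵥ ((e i ⟨v₀, hv₀D⟩ : D i) : Fin t → F)) a := rfl
      rw [h1, hc i, Finset.sum_eq_single (σ i)]
      · rw [Matrix.map_apply, Matrix.of_apply, Matrix.of_apply, if_pos rfl, Pi.smul_apply, smul_eq_mul,
          mul_comm]
        rfl
      · intro b _ hb
        rw [Matrix.map_apply, Matrix.of_apply, Matrix.of_apply, if_neg hb, map_zero, mul_zero]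
      · intro h
        exact absurd (Finset.mem_univ _) h
    rw [Units.val_mul, Units.val_mul, mul_assoc, hkey, ← mul_assoc, ← Units.val_mul,
      inv_mul_cancel, Units.val_one, one_mul]

/-- **E-FRAME** (exact shape of helper1's skeleton v2) -/
theorem frame_le_subfield {Q : (Fin n → F) → F} (hQ : IsNondegenerateQuadraticForm Q)
    (D : Fin n → Submodule F (Fin n → F)) (hD : IsOrthogonalMDecomposition Q 1 D) (F₀ : Subfield F) :
    ∃ (P : GL (Fin n) F) (ζ : F), ζ ≠ 0 ∧ IsQuadFormRationalStructure (fun v : Fin n → F => ζ * Q v) F₀ P ∧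
      decompositionStabilizer D ⊓ isometryGroup F Q ≤ subfieldSubgroup F₀ P := by
  obtain ⟨P, ζ, hζ, h⟩ := frame_core hQ D hD
  exact ⟨P, ζ, hζ, (h F₀).1, (h F₀).2⟩

/-- **E-FRAME-SUBFIELD** : over a field of non-prime order, `O₁ ≀ Sₙ` lies in a member of class 5 -/
theorem frame_le_subfield_of_not_prime {Q : (Fin n → F) → F} (hQ : IsNondegenerateQuadraticForm Q) {t : ℕ}
    (D : Fin t → Submodule F (Fin n → F)) (hD : IsOrthogonalMDecomposition Q 1 D)
    (hnp : ¬ (Fintype.card F).Prime) :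
    ∃ (F₀ : Subfield F) (r : ℕ) (P : GL (Fin n) F) (ζ : F), r.Prime ∧ Fintype.card F = Nat.card F₀ ^ r ∧
      ζ ≠ 0 ∧ IsQuadFormRationalStructure (fun v => ζ * Q v) F₀ P ∧
      decompositionStabilizer D ⊓ isometryGroup F Q ≤ subfieldSubgroup F₀ P := by
  obtain ⟨P, ζ, hζ, h⟩ := frame_core hQ D hD
  obtain ⟨F₀, r, hr, hc⟩ := exists_subfield_of_not_prime (F := F) hnp
  exact ⟨F₀, r, P, ζ, hr, hc, hζ, (h F₀).1, (h F₀).2⟩

/-- the same with `r` odd, for `q ≡ 3 mod 4` (the minus rows) -/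
theorem frame_le_subfield_odd {Q : (Fin n → F) → F} (hQ : IsNondegenerateQuadraticForm Q) {t : ℕ}
    (D : Fin t → Submodule F (Fin n → F)) (hD : IsOrthogonalMDecomposition Q 1 D)
    (hnp : ¬ (Fintype.card F).Prime) (h3 : Fintype.card F % 4 = 3) :
    ∃ (F₀ : Subfield F) (r : ℕ) (P : GL (Fin n) F) (ζ : F), r.Prime ∧ Odd r ∧
      Fintype.card F = Nat.card F₀ ^ r ∧
      ζ ≠ 0 ∧ IsQuadFormRationalStructure (fun v => ζ * Q v) F₀ P ∧
      decompositionStabilizer D ⊓ isometryGroup F Q ≤ subfieldSubgroup F₀ P := by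
  obtain ⟨P, ζ, hζ, h⟩ := frame_core hQ D hD
  obtain ⟨F₀, r, hr, hodd, hc⟩ := exists_subfield_odd_of_not_prime (F := F) hnp h3
  exact ⟨F₀, r, P, ζ, hr, hodd, hc, hζ, (h F₀).1, (h F₀).2⟩

end Cfsg.Agent.Lib.Helper12.OECorFrame
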