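import Mathlib
import Cfsg.Prelude.Def_GeometricClasses
import Cfsg.Agent.Lib.Helper12.FormDescent

/-!
# Type calculus TC6 (helper12): a quadratic form rational over a subfield of index 2 is of PLUS type

`plus_of_index_two_subfield` : `Q` non-degenerate quadratic on `F^n`, `n` even, `ζ Q ∘ P` taking values in `F₀` on the
`F₀`-rational vectors, `|F| = |F₀|²`  ⟹  `IsPlusTypeOn Q ⊤`.  (Kills the `r = 2` subfield clause in the minus-type rows.)

Route: `exists_ts` = induction on rationally spanned non-degenerate subspaces `W` of dimension `2k`: for `2k ≥ 3` Chevalley-Warning over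
`F₀` (`exists_nontrivial_zero`) gives a rational singular vector, `step` splits off a rational hyperbolic plane; for `2k = 2` a binary
form over `F₀` has a non-trivial zero over the quadratic extension (`exists_root_quadratic`).
Tools: `Rat F₀ u` (rational vectors), `RQ F₀ Q'` (rational quadratic form), `RQ.mat` (upper triangular matrix, entries in `F₀`,
`Q' v = v ⬝ᵥ mat *ᵥ v`), `RQ.map_sum`, `exists_rat_basis`.
-/

set_option autoImplicit false
set_option linter.unusedSectionVars false
set_option linter.unusedVariables false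

namespace Cfsg.Agent.Lib.Helper12.OETypeSub

section root
open Polynomial
open Polynomial

variable {F : Type*} [Field F] [Fintype F]

theorem finrank_eq_two (F₀ : Subfield F) (hcard : Fintype.card F = Nat.card F₀ ^ 2) :
    Module.finrank F₀ F = 2 := by
  have h := Module.natCard_eq_pow_finrank (K := F₀) (V := F)
  rw [Nat.card_eq_fintype_card, hcard] at h
  have h1 : 1 < Nat.card F₀ := Finite.one_lt_card
  exact (Nat.pow_right_injective h1 h).symm

/-- every monic quadratic polynomial over `F₀` has a root in the quadratic extension `F` -/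
theorem exists_root_quadratic (F₀ : Subfield F) (hcard : Fintype.card F = Nat.card F₀ ^ 2) (b c : F)
    (hb : b ∈ F₀) (hc : c ∈ F₀) : ∃ ρ : F, ρ ^ 2 + b * ρ + c = 0 := by
  classical
  let g : F₀[X] := X ^ 2 + C (⟨b, hb⟩ : F₀) * X + C (⟨c, hc⟩ : F₀)
  have hdeg : g.natDegree = 2 := by
    show (X ^ 2 + C (⟨b, hb⟩ : F₀) * X + C (⟨c, hc⟩ : F₀)).natDegree = 2
    compute_degree!
  have hmonic : g.Monic := by
    show (X ^ 2 + C (⟨b, hb⟩ : F₀) * X + C (⟨c, hc⟩ : F₀)).Monic
    monicity!
  have heval : ∀ ρ : F, aeval ρ g = ρ ^ 2 + b * ρ + c := by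
    intro ρ
    show aeval ρ (X ^ 2 + C (⟨b, hb⟩ : F₀) * X + C (⟨c, hc⟩ : F₀)) = _
    simp only [map_add, map_mul, map_pow, aeval_X, aeval_C]
    rfl
  by_cases hr : g.roots = 0
  · have hirr : Irreducible g :=
      (Polynomial.Monic.irreducible_iff_roots_eq_zero_of_degree_le_three hmonic (by omega) (by omega)).2 hr
    have : Fact (Irreducible g) := ⟨hirr⟩
    have hfr : Module.finrank F₀ (AdjoinRoot g) = 2 := by
      rw [← hdeg]
      exact (AdjoinRoot.powerBasis hirr.ne_zero).finrank.trans (AdjoinRoot.powerBasis_dim hirr.ne_zero)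
    obtain ⟨φ⟩ := FiniteField.nonempty_algHom_of_finrank_dvd (F := F₀) (K := AdjoinRoot g) (L := F)
      (by rw [hfr, finrank_eq_two F₀ hcard])
    refine ⟨φ (AdjoinRoot.root g), ?_⟩
    rw [← heval, aeval_algHom_apply, AdjoinRoot.aeval_eq, AdjoinRoot.mk_self, map_zero]
  · obtain ⟨r, hr'⟩ := Multiset.exists_mem_of_ne_zero hr
    rw [mem_roots hmonic.ne_zero] at hr'
    refine ⟨(r : F), ?_⟩
    have h1 : r ^ 2 + (⟨b, hb⟩ : F₀) * r + (⟨c, hc⟩ : F₀) = 0 := by
      have h2 : eval r (X ^ 2 + C (⟨b, hb⟩ : F₀) * X + C (⟨c, hc⟩ : F₀)) = 0 := hr'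
      simpa using h2
    have h3 := congrArg (fun x : F₀ => (x : F)) h1
    simpa using h3


end root

section cw
open MvPolynomial
open MvPolynomial

/-- Chevalley–Warning for a quadratic form in at least three variables -/
theorem exists_nontrivial_zero {K : Type*} [Field K] [Fintype K] {d : ℕ} (hd : 3 ≤ d) (c : Fin d → Fin d → K) :
    ∃ x : Fin d → K, x ≠ 0 ∧ ∑ k, ∑ l, c k l * x k * x l = 0 := by
  classical
  obtain ⟨p, hp⟩ := CharP.exists K
  have hpp : p.Prime := (CharP.char_is_prime_or_zero K p).resolve_right (by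
    intro h0
    rw [h0] at hp
    have := CharP.charP_to_charZero K
    exact not_finite K)
  let f : MvPolynomial (Fin d) K := ∑ k, ∑ l, C (c k l) * X k * X l
  have hdeg : f.totalDegree < Fintype.card (Fin d) := by
    rw [Fintype.card_fin]
    have h2 : f.totalDegree ≤ 2 := by
      apply (totalDegree_finsetSum _ _).trans
      apply Finset.sup_le
      intro k _
      apply (totalDegree_finsetSum _ _).trans
      apply Finset.sup_le
      intro l _
      calc (C (c k l) * X k * X l).totalDegree ≤ (C (c k l) * X k).totalDegree + (X l).totalDegree :=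
            totalDegree_mul _ _
        _ ≤ ((C (c k l)).totalDegree + (X k).totalDegree) + (X l).totalDegree :=
            Nat.add_le_add_right (totalDegree_mul _ _) _
        _ ≤ (0 + 1) + 1 := by
            rw [totalDegree_C, totalDegree_X, totalDegree_X]
        _ = 2 := rfl
    omega
  have hdvd := char_dvd_card_solutions p hdeg
  have heval : ∀ x : Fin d → K, eval x f = ∑ k, ∑ l, c k l * x k * x l := by
    intro x
    simp only [f, map_sum, map_mul, eval_C, eval_X]
  have h0 : eval (0 : Fin d → K) f = 0 := by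
    rw [heval]
    simp
  have hpos : 0 < Fintype.card { x : Fin d → K // eval x f = 0 } := Fintype.card_pos_iff.2 ⟨⟨0, h0⟩⟩
  have h1 : 1 < Fintype.card { x : Fin d → K // eval x f = 0 } :=
    lt_of_lt_of_le hpp.one_lt (Nat.le_of_dvd hpos hdvd)
  obtain ⟨⟨x, hx⟩, hne⟩ := Fintype.exists_ne_of_one_lt_card h1 ⟨0, h0⟩
  refine ⟨x, ?_, ?_⟩
  · intro h
    apply hne
    exact Subtype.ext h
  · rw [← heval]
    exact hx


end cw

open Matrix Cfsg Cfsg.Geo
open Matrix Cfsg Cfsg.Geo

variable {F : Type*} [Field F] {n : ℕ}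

/-- a vector with all coordinates in `F₀` -/
def Rat (F₀ : Subfield F) (u : Fin n → F) : Prop := ∀ i, u i ∈ F₀

theorem Rat.add {F₀ : Subfield F} {u v : Fin n → F} (hu : Rat F₀ u) (hv : Rat F₀ v) : Rat F₀ (u + v) :=
  fun i => F₀.add_mem (hu i) (hv i)

theorem Rat.sub {F₀ : Subfield F} {u v : Fin n → F} (hu : Rat F₀ u) (hv : Rat F₀ v) : Rat F₀ (u - v) :=
  fun i => F₀.sub_mem (hu i) (hv i)

theorem Rat.smul {F₀ : Subfield F} {c : F} {u : Fin n → F} (hc : c ∈ F₀) (hu : Rat F₀ u) : Rat F₀ (c • u) :=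
  fun i => F₀.mul_mem hc (hu i)

theorem Rat.zero (F₀ : Subfield F) : Rat F₀ (0 : Fin n → F) := fun _ => F₀.zero_mem

theorem Rat.sum {F₀ : Subfield F} {κ : Type*} (s : Finset κ) (u : κ → Fin n → F) (hu : ∀ k ∈ s, Rat F₀ (u k)) :
    Rat F₀ (∑ k ∈ s, u k) := by
  intro i
  rw [Finset.sum_apply]
  exact F₀.sum_mem (fun k hk => hu k hk i)

theorem Rat.single (F₀ : Subfield F) (i : Fin n) : Rat F₀ (Pi.single i (1 : F)) := by
  intro k
  rw [Pi.single_apply]
  split_ifs
  · exact F₀.one_mem
  · exact F₀.zero_mem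

/-- a quadratic form on `F^n` taking values in `F₀` on the `F₀`-rational vectors -/
structure RQ (F₀ : Subfield F) (Q' : (Fin n → F) → F) : Prop where
  smul : ∀ (c : F) (v : Fin n → F), Q' (c • v) = c ^ 2 * Q' v
  bil : IsBilinearForm (QuadraticMap.polar Q')
  rat : ∀ u, Rat F₀ u → Q' u ∈ F₀

section basic
variable {F₀ : Subfield F} {Q' : (Fin n → F) → F}

theorem RQ.map_add (h : RQ F₀ Q') (u v : Fin n → F) : Q' (u + v) = Q' u + Q' v + QuadraticMap.polar Q' u v := by
  unfold QuadraticMap.polar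
  ring

theorem RQ.polar_symm (h : RQ F₀ Q') (u v : Fin n → F) : QuadraticMap.polar Q' u v = QuadraticMap.polar Q' v u := by
  unfold QuadraticMap.polar
  rw [add_comm u v]
  ring

theorem RQ.polar_self (h : RQ F₀ Q') (v : Fin n → F) : QuadraticMap.polar Q' v v = 2 * Q' v := by
  unfold QuadraticMap.polar
  rw [← two_smul F v, h.smul]
  ring

theorem RQ.polar_rat (h : RQ F₀ Q') {u v : Fin n → F} (hu : Rat F₀ u) (hv : Rat F₀ v) :
    QuadraticMap.polar Q' u v ∈ F₀ := by
  unfold QuadraticMap.polar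
  exact F₀.sub_mem (F₀.sub_mem (h.rat _ (hu.add hv)) (h.rat _ hu)) (h.rat _ hv)

/-- the Mathlib quadratic form -/
def RQ.qf (h : RQ F₀ Q') : QuadraticForm F (Fin n → F) where
  toFun := Q'
  toFun_smul := by
    intro c v
    rw [h.smul, smul_eq_mul, pow_two]
  exists_companion' :=
    ⟨LinearMap.mk₂ F (QuadraticMap.polar Q') h.bil.add_left h.bil.smul_left h.bil.add_right h.bil.smul_right,
      fun x y => by
        rw [LinearMap.mk₂_apply]
        exact h.map_add x y⟩

theorem RQ.qf_apply (h : RQ F₀ Q') (v : Fin n → F) : h.qf v = Q' v := rfl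

/-- the upper triangular matrix of `Q'` -/
noncomputable def RQ.mat (h : RQ F₀ Q') : Matrix (Fin n) (Fin n) F :=
  LinearMap.toMatrix₂' F (h.qf.toBilin (Pi.basisFun F (Fin n)))

theorem RQ.mat_mem (h : RQ F₀ Q') (i j : Fin n) : h.mat i j ∈ F₀ := by
  unfold RQ.mat
  rw [LinearMap.toMatrix₂'_apply]
  have e : ∀ k : Fin n, (Pi.single k (1 : F) : Fin n → F) = Pi.basisFun F (Fin n) k := by
    intro k
    rw [Pi.basisFun_apply]
  rw [e i, e j, QuadraticMap.toBilin_apply]
  split_ifs
  · rw [Pi.basisFun_apply]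
    exact h.rat _ (Rat.single F₀ i)
  · rw [Pi.basisFun_apply, Pi.basisFun_apply]
    exact h.polar_rat (Rat.single F₀ i) (Rat.single F₀ j)
  · exact F₀.zero_mem

theorem RQ.eq_mat (h : RQ F₀ Q') (v : Fin n → F) : Q' v = v ⬝ᵥ (h.mat *ᵥ v) := by
  unfold RQ.mat
  rw [← Matrix.toLinearMap₂'_apply', Matrix.toLinearMap₂'_toMatrix']
  have := congrArg (fun q : QuadraticMap F (Fin n → F) F => q v)
    (QuadraticMap.toQuadraticMap_toBilin h.qf (Pi.basisFun F (Fin n)))
  simp only [LinearMap.BilinMap.toQuadraticMap_apply] at this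
  rw [this]
  rfl

/-- `Q'` on a linear combination -/
theorem RQ.map_sum (h : RQ F₀ Q') {d : ℕ} (b : Fin d → Fin n → F) (x : Fin d → F) :
    Q' (∑ k, x k • b k) = ∑ k, ∑ l, (b k ⬝ᵥ (h.mat *ᵥ b l)) * x k * x l := by
  rw [h.eq_mat, Matrix.mulVec_sum, sum_dotProduct]
  refine Finset.sum_congr rfl (fun k _ => ?_)
  rw [dotProduct_sum]
  refine Finset.sum_congr rfl (fun l _ => ?_)
  rw [Matrix.mulVec_smul, smul_dotProduct, dotProduct_smul, smul_eq_mul, smul_eq_mul]
  ring

theorem RQ.coef_mem (h : RQ F₀ Q') {u v : Fin n → F} (hu : Rat F₀ u) (hv : Rat F₀ v) :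
    u ⬝ᵥ (h.mat *ᵥ v) ∈ F₀ := by
  simp only [dotProduct, mulVec]
  exact F₀.sum_mem (fun i _ => F₀.mul_mem (hu i) (F₀.sum_mem (fun j _ => F₀.mul_mem (h.mat_mem i j) (hv j))))

end basic


section main

variable [Fintype F] {F₀ : Subfield F} {Q' : (Fin n → F) → F}

/-- a rational basis of a rationally spanned subspace -/
theorem exists_rat_basis (F₀ : Subfield F) (W : Submodule F (Fin n → F))
    (hW : W = Submodule.span F {u | u ∈ W ∧ Rat F₀ u}) (d : ℕ) (hd : Module.finrank F W = d) :
    ∃ b : Fin d → Fin n → F, LinearIndependent F b ∧ (∀ i, b i ∈ W ∧ Rat F₀ (b i)) ∧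
      Submodule.span F (Set.range b) = W := by
  classical
  subst hd
  obtain ⟨t, hts, hspan, hli⟩ := exists_linearIndependent F {u | u ∈ W ∧ Rat F₀ u}
  have hfin : t.Finite := hli.setFinite
  have : Fintype t := hfin.fintype
  have hcard : Fintype.card t = Module.finrank F W := by
    have h1 := finrank_span_set_eq_card hli
    rw [hspan, ← hW] at h1
    rw [h1, Set.toFinset_card]
  let e : Fin (Module.finrank F W) ≃ t := (Fintype.equivFinOfCardEq hcard).symm
  refine ⟨fun i => (e i : Fin n → F), hli.comp e e.injective, fun i => hts (e i).2, ?_⟩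
  have hr : Set.range (fun i => (e i : Fin n → F)) = t := by
    ext v
    constructor
    · rintro ⟨i, rfl⟩
      exact (e i).2
    · intro hv
      exact ⟨e.symm ⟨v, hv⟩, by simp⟩
  rw [hr, hspan, ← hW]


/-- the linear functional `x ↦ B x y` -/
def RQ.Bl (h : RQ F₀ Q') (y : Fin n → F) : (Fin n → F) →ₗ[F] F where
  toFun x := QuadraticMap.polar Q' x y
  map_add' a b := h.bil.add_left a b y
  map_smul' c a := by
    rw [h.bil.smul_left, RingHom.id_apply, smul_eq_mul]

theorem RQ.Bl_apply (h : RQ F₀ Q') (y x : Fin n → F) : h.Bl y x = QuadraticMap.polar Q' x y := rfl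

/-- splitting off a rational hyperbolic plane -/
theorem step (h : RQ F₀ Q') (W : Submodule F (Fin n → F))
    (hnd : ∀ x ∈ W, (∀ y ∈ W, QuadraticMap.polar Q' x y = 0) → x = 0)
    (hW : W = Submodule.span F {u | u ∈ W ∧ Rat F₀ u})
    (s : Fin n → F) (hsW : s ∈ W) (hs0 : s ≠ 0) (hsr : Rat F₀ s) (hsQ : Q' s = 0) :
    ∃ W₁ : Submodule F (Fin n → F), W₁ ≤ W ∧ Module.finrank F W₁ + 2 = Module.finrank F W ∧
      (∀ x ∈ W₁, (∀ y ∈ W₁, QuadraticMap.polar Q' x y = 0) → x = 0) ∧
      W₁ = Submodule.span F {u | u ∈ W₁ ∧ Rat F₀ u} ∧ (∀ u ∈ W₁, QuadraticMap.polar Q' u s = 0) ∧ s ∉ W₁ := by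
  classical
  -- a rational partner
  have h1 : ∃ w₀, w₀ ∈ W ∧ Rat F₀ w₀ ∧ QuadraticMap.polar Q' s w₀ ≠ 0 := by
    by_contra hcon
    push Not at hcon
    apply hs0
    apply hnd s hsW
    intro y hy
    rw [hW] at hy
    have hle : Submodule.span F {u | u ∈ W ∧ Rat F₀ u} ≤ LinearMap.ker (h.Bl s) := by
      rw [Submodule.span_le]
      rintro u ⟨huW, hur⟩
      rw [SetLike.mem_coe, LinearMap.mem_ker, h.Bl_apply, h.polar_symm]
      exact hcon u huW hur
    have := hle hy
    rw [LinearMap.mem_ker, h.Bl_apply, h.polar_symm] at this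
    exact this
  obtain ⟨w₀, hw₀W, hw₀r, hw₀⟩ := h1
  have hss : QuadraticMap.polar Q' s s = 0 := by rw [h.polar_self, hsQ, mul_zero]
  -- normalise: `B s w₁ = 1`
  have hc : QuadraticMap.polar Q' s w₀ ∈ F₀ := h.polar_rat hsr hw₀r
  have hw₁r : Rat F₀ ((QuadraticMap.polar Q' s w₀)⁻¹ • w₀) := Rat.smul (F₀.inv_mem hc) hw₀r
  have hw₁W : (QuadraticMap.polar Q' s w₀)⁻¹ • w₀ ∈ W := W.smul_mem _ hw₀W
  have hw₁ : QuadraticMap.polar Q' s ((QuadraticMap.polar Q' s w₀)⁻¹ • w₀) = 1 := by
    rw [h.bil.smul_right, inv_mul_cancel₀ hw₀]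
  generalize (QuadraticMap.polar Q' s w₀)⁻¹ • w₀ = w₁ at hw₁r hw₁W hw₁
  -- make the partner singular
  have ha : Q' w₁ ∈ F₀ := h.rat _ hw₁r
  have hwr : Rat F₀ (w₁ - Q' w₁ • s) := hw₁r.sub (Rat.smul ha hsr)
  have hwW : w₁ - Q' w₁ • s ∈ W := W.sub_mem hw₁W (W.smul_mem _ hsW)
  have hsw : QuadraticMap.polar Q' s (w₁ - Q' w₁ • s) = 1 := by
    have e : w₁ - Q' w₁ • s = w₁ + (-Q' w₁) • s := by rw [neg_smul, sub_eq_add_neg]
    rw [e, h.bil.add_right, h.bil.smul_right, hw₁, hss, mul_zero, add_zero]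
  have hwQ : Q' (w₁ - Q' w₁ • s) = 0 := by
    have e : w₁ - Q' w₁ • s = w₁ + (-Q' w₁) • s := by rw [neg_smul, sub_eq_add_neg]
    rw [e, h.map_add, h.smul, hsQ, h.bil.smul_right, h.polar_symm w₁ s, hw₁]
    ring
  generalize w₁ - Q' w₁ • s = w at hwr hwW hsw hwQ
  have hws : QuadraticMap.polar Q' w s = 1 := by rw [h.polar_symm, hsw]
  have hww : QuadraticMap.polar Q' w w = 0 := by rw [h.polar_self, hwQ, mul_zero]
  -- the projection
  let π : (Fin n → F) →ₗ[F] (Fin n → F) :=
    LinearMap.id - (h.Bl w).smulRight s - (h.Bl s).smulRight w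
  have hπ : ∀ x, π x = x - QuadraticMap.polar Q' x w • s - QuadraticMap.polar Q' x s • w := by
    intro x
    simp only [π, LinearMap.sub_apply, LinearMap.id_apply, LinearMap.smulRight_apply, RQ.Bl_apply]
  have hdec : ∀ x, x = π x + QuadraticMap.polar Q' x w • s + QuadraticMap.polar Q' x s • w := by
    intro x
    rw [hπ]
    abel
  have hπs : ∀ x, QuadraticMap.polar Q' (π x) s = 0 := by
    intro x
    have e : π x = x + (-QuadraticMap.polar Q' x w) • s + (-QuadraticMap.polar Q' x s) • w := by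
      rw [hπ, neg_smul, neg_smul, sub_eq_add_neg, sub_eq_add_neg]
    rw [e, h.bil.add_left, h.bil.add_left, h.bil.smul_left, h.bil.smul_left, hss, hws]
    ring
  have hπw : ∀ x, QuadraticMap.polar Q' (π x) w = 0 := by
    intro x
    have e : π x = x + (-QuadraticMap.polar Q' x w) • s + (-QuadraticMap.polar Q' x s) • w := by
      rw [hπ, neg_smul, neg_smul, sub_eq_add_neg, sub_eq_add_neg]
    rw [e, h.bil.add_left, h.bil.add_left, h.bil.smul_left, h.bil.smul_left, hsw, hww]
    ring
  have hπW : ∀ x ∈ W, π x ∈ W := by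
    intro x hx
    rw [hπ]
    exact W.sub_mem (W.sub_mem hx (W.smul_mem _ hsW)) (W.smul_mem _ hwW)
  let W₁ : Submodule F (Fin n → F) := W ⊓ LinearMap.ker (h.Bl s) ⊓ LinearMap.ker (h.Bl w)
  have hmem : ∀ x, x ∈ W₁ ↔ x ∈ W ∧ QuadraticMap.polar Q' x s = 0 ∧ QuadraticMap.polar Q' x w = 0 := by
    intro x
    simp only [W₁, Submodule.mem_inf, LinearMap.mem_ker, RQ.Bl_apply, and_assoc]
  have hπW₁ : ∀ x ∈ W, π x ∈ W₁ := fun x hx => (hmem _).2 ⟨hπW x hx, hπs x, hπw x⟩
  have hπid : ∀ x ∈ W₁, π x = x := by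
    intro x hx
    obtain ⟨_, h1, h2⟩ := (hmem x).1 hx
    rw [hπ, h1, h2, zero_smul, zero_smul, sub_zero, sub_zero]
  refine ⟨W₁, fun x hx => ((hmem x).1 hx).1, ?_, ?_, ?_, fun u hu => ((hmem u).1 hu).2.1, ?_⟩
  · -- dimension: rank-nullity for `x ↦ (B x s, B x w)` on `W`
    let ψ : W →ₗ[F] F × F := ((h.Bl s).prod (h.Bl w)).comp W.subtype
    have hψ : ∀ y : W, ψ y = (QuadraticMap.polar Q' (y : Fin n → F) s, QuadraticMap.polar Q' (y : Fin n → F) w) :=
      fun y => rfl
    have hsurj : Function.Surjective ψ := by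
      rintro ⟨a, c⟩
      refine ⟨⟨a • w + c • s, W.add_mem (W.smul_mem _ hwW) (W.smul_mem _ hsW)⟩, ?_⟩
      rw [hψ]
      show (QuadraticMap.polar Q' (a • w + c • s) s, QuadraticMap.polar Q' (a • w + c • s) w) = (a, c)
      rw [h.bil.add_left, h.bil.add_left, h.bil.smul_left, h.bil.smul_left, h.bil.smul_left, h.bil.smul_left,
        hws, hss, hww, hsw]
      simp
    have hrn := LinearMap.finrank_range_add_finrank_ker ψ
    rw [LinearMap.range_eq_top.2 hsurj, finrank_top, Module.finrank_prod, Module.finrank_self] at hrn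
    have hker : Module.finrank F (LinearMap.ker ψ) = Module.finrank F W₁ := by
      have e : (LinearMap.ker ψ).map W.subtype = W₁ := by
        ext x
        rw [Submodule.mem_map, hmem]
        constructor
        · rintro ⟨y, hy, rfl⟩
          rw [LinearMap.mem_ker, hψ, Prod.mk_eq_zero] at hy
          exact ⟨y.2, hy.1, hy.2⟩
        · rintro ⟨hxW, h1, h2⟩
          refine ⟨⟨x, hxW⟩, ?_, rfl⟩
          rw [LinearMap.mem_ker, hψ, Prod.mk_eq_zero]
          exact ⟨h1, h2⟩
      rw [← e, Submodule.finrank_map_subtype_eq]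
    omega
  · -- non-degenerate
    intro x hx hxy
    obtain ⟨hxW, hxs, hxw⟩ := (hmem x).1 hx
    apply hnd x hxW
    intro y hy
    rw [hdec y, h.bil.add_right, h.bil.add_right, h.bil.smul_right, h.bil.smul_right, hxs, hxw,
      hxy _ (hπW₁ y hy)]
    ring
  · -- rationally spanned
    apply le_antisymm
    · intro x hx
      have hxW : x ∈ W := ((hmem x).1 hx).1
      have hle : Submodule.span F {u | u ∈ W ∧ Rat F₀ u} ≤
          (Submodule.span F {u | u ∈ W₁ ∧ Rat F₀ u}).comap π := by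
        rw [Submodule.span_le]
        rintro u ⟨huW, hur⟩
        rw [SetLike.mem_coe, Submodule.mem_comap]
        apply Submodule.subset_span
        refine ⟨hπW₁ u huW, ?_⟩
        rw [hπ]
        exact (hur.sub (Rat.smul (h.polar_rat hur hwr) hsr)).sub (Rat.smul (h.polar_rat hur hsr) hwr)
      rw [hW] at hxW
      have := hle hxW
      rw [Submodule.mem_comap, hπid x hx] at this
      exact this
    · rw [Submodule.span_le]
      rintro u ⟨hu, -⟩
      exact hu
  · intro hs
    have := ((hmem s).1 hs).2.2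
    rw [hsw] at this
    exact one_ne_zero this

end main


section final

variable {F : Type*} [Field F] {n : ℕ} [Fintype F] {F₀ : Subfield F} {Q' : (Fin n → F) → F}

/-- **Witt index over the quadratic extension**: a rationally spanned non-degenerate subspace of dimension `2k` contains a totally
singular subspace of dimension `k` -/
theorem exists_ts (hcard : Fintype.card F = Nat.card F₀ ^ 2) (h : RQ F₀ Q') :
    ∀ (k : ℕ) (W : Submodule F (Fin n → F)), Module.finrank F W = 2 * k →
      (∀ x ∈ W, (∀ y ∈ W, QuadraticMap.polar Q' x y = 0) → x = 0) →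
      W = Submodule.span F {u | u ∈ W ∧ Rat F₀ u} →
      ∃ U : Submodule F (Fin n → F), U ≤ W ∧ (∀ u ∈ U, Q' u = 0) ∧ Module.finrank F U = k := by
  classical
  have hQ0 : Q' 0 = 0 := by
    have := h.smul 0 0
    rw [zero_smul] at this
    rw [this]
    ring
  intro k
  induction k with
  | zero =>
    intro W _ _ _
    refine ⟨⊥, bot_le, ?_, finrank_bot F _⟩
    intro u hu
    rw [Submodule.mem_bot] at hu
    rw [hu, hQ0]
  | succ k ih =>
    intro W hdim hnd hW
    obtain ⟨b, hbli, hb, hbspan⟩ := exists_rat_basis F₀ W hW (2 * (k + 1)) hdim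
    rcases Nat.eq_zero_or_pos k with hk | hk
    · -- a plane
      subst hk
      have hli := Fintype.linearIndependent_iff.1 hbli
      have hs : ∃ s, s ∈ W ∧ s ≠ 0 ∧ Q' s = 0 := by
        by_cases hα : Q' (b 0) = 0
        · exact ⟨b 0, (hb 0).1, hbli.ne_zero 0, hα⟩
        · obtain ⟨ρ, hρ⟩ := exists_root_quadratic F₀ hcard
            (QuadraticMap.polar Q' (b 0) (b 1) * (Q' (b 0))⁻¹) (Q' (b 1) * (Q' (b 0))⁻¹)
            (F₀.mul_mem (h.polar_rat (hb 0).2 (hb 1).2) (F₀.inv_mem (h.rat _ (hb 0).2)))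
            (F₀.mul_mem (h.rat _ (hb 1).2) (F₀.inv_mem (h.rat _ (hb 0).2)))
          refine ⟨ρ • b 0 + b 1, W.add_mem (W.smul_mem _ (hb 0).1) (hb 1).1, ?_, ?_⟩
          · intro h0
            have := hli ![ρ, 1] (by
              rw [Fin.sum_univ_two]
              simpa using h0) 1
            simp at this
          · rw [h.map_add, h.smul, h.bil.smul_left]
            have : ρ ^ 2 * Q' (b 0) + Q' (b 1) + ρ * QuadraticMap.polar Q' (b 0) (b 1) =
                Q' (b 0) * (ρ ^ 2 + QuadraticMap.polar Q' (b 0) (b 1) * (Q' (b 0))⁻¹ * ρ +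
                  Q' (b 1) * (Q' (b 0))⁻¹) := by
              field_simp
              ring
            rw [this, hρ, mul_zero]
      obtain ⟨s, hsW, hs0, hsQ⟩ := hs
      refine ⟨Submodule.span F {s}, ?_, ?_, finrank_span_singleton hs0⟩
      · rw [Submodule.span_singleton_le_iff_mem]
        exact hsW
      · intro u hu
        obtain ⟨c, rfl⟩ := Submodule.mem_span_singleton.1 hu
        rw [h.smul, hsQ, mul_zero]
    · -- dimension at least 4: Chevalley-Warning
      have : Fintype F₀ := Fintype.ofFinite _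
      obtain ⟨x, hx0, hx⟩ := exists_nontrivial_zero (K := F₀) (d := 2 * (k + 1)) (by omega)
        (fun i j => ⟨b i ⬝ᵥ (h.mat *ᵥ b j), h.coef_mem (hb i).2 (hb j).2⟩)
      have hsW : ∑ i, (x i : F) • b i ∈ W := W.sum_mem (fun i _ => W.smul_mem _ (hb i).1)
      have hsr : Rat F₀ (∑ i, (x i : F) • b i) := Rat.sum _ _ (fun i _ => Rat.smul (x i).2 (hb i).2)
      have hs0 : ∑ i, (x i : F) • b i ≠ 0 := by
        intro h0
        apply hx0
        funext i
        have := Fintype.linearIndependent_iff.1 hbli (fun i => (x i : F)) h0 i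
        exact Subtype.ext this
      have hsQ : Q' (∑ i, (x i : F) • b i) = 0 := by
        rw [h.map_sum b (fun i => (x i : F))]
        have := congrArg (fun y : F₀ => (y : F)) hx
        simpa using this
      obtain ⟨W₁, hW₁W, hdim₁, hnd₁, hW₁, hW₁s, hsW₁⟩ := step h W hnd hW _ hsW hs0 hsr hsQ
      generalize ∑ i, (x i : F) • b i = s at hsW hsr hs0 hsQ hW₁s hsW₁
      obtain ⟨U₁, hU₁, hU₁Q, hU₁d⟩ := ih W₁ (by omega) hnd₁ hW₁
      refine ⟨U₁ ⊔ Submodule.span F {s}, ?_, ?_, ?_⟩
      · apply sup_le (hU₁.trans hW₁W)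
        rw [Submodule.span_singleton_le_iff_mem]
        exact hsW
      · intro u hu
        obtain ⟨u₁, hu₁, u₂, hu₂, rfl⟩ := Submodule.mem_sup.1 hu
        obtain ⟨c, rfl⟩ := Submodule.mem_span_singleton.1 hu₂
        rw [h.map_add, hU₁Q u₁ hu₁, h.smul, hsQ, h.bil.smul_right, hW₁s u₁ (hU₁ hu₁)]
        ring
      · have hinf : U₁ ⊓ Submodule.span F {s} = ⊥ := by
          rw [Submodule.eq_bot_iff]
          rintro u ⟨hu₁, hu₂⟩
          obtain ⟨c, rfl⟩ := Submodule.mem_span_singleton.1 hu₂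
          by_cases hc : c = 0
          · rw [hc, zero_smul]
          · exfalso
            apply hsW₁
            have := W₁.smul_mem c⁻¹ (hU₁ hu₁)
            rwa [smul_smul, inv_mul_cancel₀ hc, one_smul] at this
        have := Submodule.finrank_sup_add_finrank_inf_eq U₁ (Submodule.span F {s})
        rw [hinf, finrank_bot, finrank_span_singleton hs0, hU₁d] at this
        omega

/-- **TC6** a non-degenerate quadratic form in even dimension which is rational (up to a scalar) over a subfield of index 2 is of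
plus type -/
theorem plus_of_index_two_subfield {Q : (Fin n → F) → F} (hQ : IsNondegenerateQuadraticForm Q) (hn : Even n)
    (F₀ : Subfield F) (P : GL (Fin n) F) (ζ : F) (hζ : ζ ≠ 0) (hcard : Fintype.card F = Nat.card F₀ ^ 2)
    (hrat : IsQuadFormRationalStructure (fun v => ζ * Q v) F₀ P) : IsPlusTypeOn Q ⊤ := by
  classical
  obtain ⟨m, hm⟩ := hn
  have hpolQ' : QuadraticMap.polar (fun u : Fin n → F => ζ * Q ((P : Matrix (Fin n) (Fin n) F) *ᵥ u)) =
      fun x y => ζ * QuadraticMap.polar Q ((P : Matrix (Fin n) (Fin n) F) *ᵥ x)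
        ((P : Matrix (Fin n) (Fin n) F) *ᵥ y) := by
    funext x y
    simp only [QuadraticMap.polar, Matrix.mulVec_add]
    ring
  have h : RQ F₀ (fun u : Fin n → F => ζ * Q ((P : Matrix (Fin n) (Fin n) F) *ᵥ u)) := by
    refine ⟨?_, ?_, fun u hu => hrat u hu⟩
    · intro c v
      show ζ * Q (_ *ᵥ (c • v)) = c ^ 2 * (ζ * Q (_ *ᵥ v))
      rw [Matrix.mulVec_smul, hQ.smul]
      ring
    · rw [hpolQ']
      have hb := hQ.polar_bilinear
      constructor
      · intro x y v
        show ζ * _ = ζ * _ + ζ * _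
        rw [Matrix.mulVec_add, hb.add_left]
        ring
      · intro c x v
        show ζ * _ = c * (ζ * _)
        rw [Matrix.mulVec_smul, hb.smul_left]
        ring
      · intro v x y
        show ζ * _ = ζ * _ + ζ * _
        rw [Matrix.mulVec_add, hb.add_right]
        ring
      · intro c v x
        show ζ * _ = c * (ζ * _)
        rw [Matrix.mulVec_smul, hb.smul_right]
        ring
  have hnd := Cfsg.Agent.Lib.Helper12.FormDescent.nondegenerate_comp _ hQ.nondegenerate P
  obtain ⟨U, -, hUQ, hUd⟩ := exists_ts hcard h m ⊤ (by rw [finrank_top, Module.finrank_fin_fun, hm]; ring)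
    (by
      intro x _ hx
      by_contra hx0
      obtain ⟨-, ⟨y, hy⟩⟩ := hnd x hx0
      apply hy
      have := hx y Submodule.mem_top
      rw [hpolQ'] at this
      exact (mul_eq_zero.1 this).resolve_left hζ)
    (by
      symm
      rw [eq_top_iff]
      intro v _
      rw [pi_eq_sum_univ' v]
      exact Submodule.sum_mem _ (fun i _ => Submodule.smul_mem _ _
        (Submodule.subset_span ⟨Submodule.mem_top, Rat.single F₀ i⟩)))
  refine ⟨U.map (Matrix.toLin' (P : Matrix (Fin n) (Fin n) F)), le_top, ?_, ?_⟩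
  · rintro _ ⟨u, hu, rfl⟩
    rw [Matrix.toLin'_apply]
    exact (mul_eq_zero.1 (hUQ u hu)).resolve_left hζ
  · have hinj : Function.Injective (Matrix.toLin' (P : Matrix (Fin n) (Fin n) F)) := by
      rw [← LinearMap.ker_eq_bot, LinearMap.ker_eq_bot']
      intro v hv
      rw [Matrix.toLin'_apply] at hv
      have := congrArg (fun w => ((P⁻¹ : GL (Fin n) F) : Matrix (Fin n) (Fin n) F) *ᵥ w) hv
      simp only [Matrix.mulVec_mulVec, Matrix.mulVec_zero] at this
      rwa [← Units.val_mul, inv_mul_cancel, Units.val_one, Matrix.one_mulVec] at this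
    rw [← (Submodule.equivMapOfInjective _ hinj U).finrank_eq, hUd, finrank_top, Module.finrank_fin_fun, hm]
    ring

end final

end Cfsg.Agent.Lib.Helper12.OETypeSub
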