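import Mathlib
import Cfsg.Agent.Lib.Helper3.SpTDefs

/-!
# S5709, EXIT-B (`O_4^- ⊗ O_b`): `U`-level algebra, part 1  (helper12)

`J` a symmetric Gram matrix on `κ → F`, `f = bf J`, `2 ≠ 0`.  Eichler transformations
`eich J e z = 1 + N + N²/2`, `N = E_{e,z} - E_{z,e}` (`e` singular, `z ⊥ e`), the wedge operators
`Wd u u' = E_{u,u'} - E_{u',u}`, conjugation formulas.
-/

set_option autoImplicit false
set_option linter.unusedSectionVars false
set_option linter.unusedVariables false

namespace Cfsg.Agent.Lib.Helper12.OTExitBU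

open Matrix Module
open Cfsg.Agent.Lib.Helper3.SpT (bf E E_mulVec E_mul_E mat_ext_mulVec bf_add_left bf_add_right bf_smul_left
  bf_smul_right bf_neg_left bf_neg_right bf_sub_left bf_sub_right bf_zero_left bf_zero_right)

variable {F : Type*} [Field F] {κ : Type} [Fintype κ] [DecidableEq κ] {J : Matrix κ κ F}

/-- the wedge operator `x ↦ f(x,u') u - f(x,u) u'` -/
def Wd (J : Matrix κ κ F) (u u' : κ → F) : Matrix κ κ F := E J u u' - E J u' u

theorem Wd_mulVec (u u' x : κ → F) : Wd J u u' *ᵥ x = bf J x u' • u - bf J x u • u' := by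
  unfold Wd
  rw [Matrix.sub_mulVec, E_mulVec, E_mulVec]

theorem Wd_self (u : κ → F) : Wd J u u = 0 := by
  unfold Wd
  rw [sub_self]

theorem Wd_swap (u u' : κ → F) : Wd J u' u = - Wd J u u' := by
  unfold Wd
  rw [neg_sub]

/-- the Eichler transformation with centre `e` (singular) and direction `z ⊥ e` -/
def eich (J : Matrix κ κ F) (e z : κ → F) : Matrix κ κ F :=
  1 + E J e z - E J z e - (bf J z z / 2) • E J e e

theorem eich_mulVec (e z x : κ → F) :
    eich J e z *ᵥ x = x + bf J x z • e - bf J x e • z - (bf J z z / 2 * bf J x e) • e := by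
  unfold eich
  rw [Matrix.sub_mulVec, Matrix.sub_mulVec, Matrix.add_mulVec, Matrix.one_mulVec, Matrix.smul_mulVec,
    E_mulVec, E_mulVec, E_mulVec, smul_smul]

theorem eich_zero (e : κ → F) : eich J e 0 = 1 := by
  apply mat_ext_mulVec
  intro x
  rw [eich_mulVec, Matrix.one_mulVec]
  simp

/-- `ρ_z - ρ_{-z} = 2 N_z` -/
theorem eich_sub_eich_neg (e z : κ → F) : eich J e z - eich J e (-z) = (2 : F) • Wd J e z := by
  apply mat_ext_mulVec
  intro x
  rw [Matrix.sub_mulVec, eich_mulVec, eich_mulVec, Matrix.smul_mulVec, Wd_mulVec]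
  simp only [bf_neg_left, bf_neg_right, neg_neg]
  ext i
  simp only [Pi.add_apply, Pi.sub_apply, Pi.smul_apply, Pi.neg_apply, smul_eq_mul]
  ring

variable (hs : ∀ x y, bf J x y = bf J y x) (h2 : (2 : F) ≠ 0)
include hs h2

theorem bf_eich_e {e z : κ → F} (he : bf J e e = 0) (hz : bf J e z = 0) (x : κ → F) :
    bf J (eich J e z *ᵥ x) e = bf J x e := by
  rw [eich_mulVec]
  simp only [bf_sub_left, bf_add_left, bf_smul_left, he, hs z e, hz]
  ring

theorem eich_mul {e z z' : κ → F} (he : bf J e e = 0) (hz : bf J e z = 0) (hz' : bf J e z' = 0) :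
    eich J e z * eich J e z' = eich J e (z + z') := by
  apply mat_ext_mulVec
  intro x
  rw [← Matrix.mulVec_mulVec, eich_mulVec e z, bf_eich_e hs h2 he hz', eich_mulVec e z', eich_mulVec e (z + z')]
  simp only [bf_sub_left, bf_add_left, bf_add_right, bf_smul_left, hz, hs z' z]
  ext i
  simp only [Pi.add_apply, Pi.sub_apply, Pi.smul_apply, smul_eq_mul]
  field_simp
  ring

theorem eich_mul_neg {e z : κ → F} (he : bf J e e = 0) (hz : bf J e z = 0) :
    eich J e z * eich J e (-z) = 1 := by
  rw [eich_mul hs h2 he hz (by rw [bf_neg_right, hz, neg_zero]), add_neg_cancel, eich_zero]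

theorem eich_neg_mul {e z : κ → F} (he : bf J e e = 0) (hz : bf J e z = 0) :
    eich J e (-z) * eich J e z = 1 := by
  rw [eich_mul hs h2 he (by rw [bf_neg_right, hz, neg_zero]) hz, neg_add_cancel, eich_zero]

/-- Eichler transformations are isometries -/
theorem eich_pres {e z : κ → F} (he : bf J e e = 0) (hz : bf J e z = 0) (x y : κ → F) :
    bf J (eich J e z *ᵥ x) (eich J e z *ᵥ y) = bf J x y := by
  rw [eich_mulVec, eich_mulVec]
  simp only [bf_sub_left, bf_add_left, bf_sub_right, bf_add_right, bf_smul_left, bf_smul_right, he, hs z e, hz,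
    hs e y, hs z y]
  field_simp
  ring

theorem bf_eich_neg {e z : κ → F} (he : bf J e e = 0) (hz : bf J e z = 0) (x y : κ → F) :
    bf J (eich J e (-z) *ᵥ x) y = bf J x (eich J e z *ᵥ y) := by
  have h := eich_pres hs h2 he hz (eich J e (-z) *ᵥ x) y
  rw [Matrix.mulVec_mulVec, eich_mul_neg hs h2 he hz, Matrix.one_mulVec] at h
  exact h.symm

/-- conjugation of rank-one operators by Eichler transformations -/
theorem eich_conj_E {e z : κ → F} (he : bf J e e = 0) (hz : bf J e z = 0) (u u' : κ → F) :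
    eich J e z * E J u u' * eich J e (-z) = E J (eich J e z *ᵥ u) (eich J e z *ᵥ u') := by
  apply mat_ext_mulVec
  intro x
  rw [← Matrix.mulVec_mulVec, ← Matrix.mulVec_mulVec, E_mulVec, E_mulVec, Matrix.mulVec_smul,
    bf_eich_neg hs h2 he hz]

theorem eich_conj_Wd {e z : κ → F} (he : bf J e e = 0) (hz : bf J e z = 0) (u u' : κ → F) :
    eich J e z * Wd J u u' * eich J e (-z) = Wd J (eich J e z *ᵥ u) (eich J e z *ᵥ u') := by
  unfold Wd
  rw [mul_sub, sub_mul, eich_conj_E hs h2 he hz, eich_conj_E hs h2 he hz]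

end Cfsg.Agent.Lib.Helper12.OTExitBU
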