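import Mathlib
import Cfsg.Agent.Lib.Helper12.OTExitBU1

/-!
# S5709, EXIT-B (`O_4^- ⊗ O_b`): `U`-level algebra, part 2  (helper12)

Frames `e, f, z₁, z₂` of the 4-dimensional space of minus type; the operators commuting with all Eichler
nilpotents `N_z` (`z ⊥ e`): skew-adjoint ones are `w ∧ e`, self-adjoint ones are `μ + ν E_{e,e}`; the fixed
point lemma for the `p`-group of Eichler transformations with centre `e`.
-/

set_option autoImplicit false
set_option linter.unusedSectionVars false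
set_option linter.unusedVariables false

namespace Cfsg.Agent.Lib.Helper12.OTExitBU

open Matrix Module
open Cfsg.Agent.Lib.Helper3.SpT (bf E E_mulVec E_mul_E mat_ext_mulVec bf_add_left bf_add_right bf_smul_left
  bf_smul_right bf_neg_left bf_neg_right bf_sub_left bf_sub_right bf_zero_left bf_zero_right)

variable {F : Type*} [Field F] {κ : Type} [Fintype κ] [DecidableEq κ]

/-- a frame: hyperbolic pair `e, f` and an orthogonal anisotropic basis `z₁, z₂` of `⟨e,f⟩^⊥` -/
structure Fr (J : Matrix κ κ F) (e f z1 z2 : κ → F) : Prop where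
  symm : ∀ x y, bf J x y = bf J y x
  two : (2 : F) ≠ 0
  ee : bf J e e = 0
  ff : bf J f f = 0
  ef : bf J e f = 1
  ez1 : bf J e z1 = 0
  ez2 : bf J e z2 = 0
  fz1 : bf J f z1 = 0
  fz2 : bf J f z2 = 0
  z12 : bf J z1 z2 = 0
  q1 : bf J z1 z1 ≠ 0
  q2 : bf J z2 z2 ≠ 0
  dec : ∀ x, x = bf J x f • e + bf J x e • f + (bf J x z1 / bf J z1 z1) • z1 + (bf J x z2 / bf J z2 z2) • z2

variable {J : Matrix κ κ F} {e f z1 z2 : κ → F}

theorem Fr.fe (h : Fr J e f z1 z2) : bf J f e = 1 := by rw [h.symm, h.ef]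

theorem Fr.swap (h : Fr J e f z1 z2) : Fr J f e z1 z2 where
  symm := h.symm
  two := h.two
  ee := h.ff
  ff := h.ee
  ef := h.fe
  ez1 := h.fz1
  ez2 := h.fz2
  fz1 := h.ez1
  fz2 := h.ez2
  z12 := h.z12
  q1 := h.q1
  q2 := h.q2
  dec := fun x => by
    have := h.dec x
    rw [add_comm (bf J x f • e)] at this
    exact this

theorem Fr.e_ne (h : Fr J e f z1 z2) : e ≠ 0 := by
  intro h0
  have := h.ef
  rw [h0, bf_zero_left] at this
  exact zero_ne_one this

/-- matrices agreeing on the frame are equal -/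
theorem Fr.ext (h : Fr J e f z1 z2) {A B : Matrix κ κ F} (he : A *ᵥ e = B *ᵥ e) (hf : A *ᵥ f = B *ᵥ f)
    (h1 : A *ᵥ z1 = B *ᵥ z1) (h2 : A *ᵥ z2 = B *ᵥ z2) : A = B := by
  apply mat_ext_mulVec
  intro x
  rw [h.dec x]
  simp only [Matrix.mulVec_add, Matrix.mulVec_smul, he, hf, h1, h2]

/-- a vector orthogonal to the frame is zero -/
theorem Fr.eq_zero (h : Fr J e f z1 z2) {x : κ → F} (he : bf J x e = 0) (hf : bf J x f = 0)
    (h1 : bf J x z1 = 0) (h2 : bf J x z2 = 0) : x = 0 := by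
  rw [h.dec x, he, hf, h1, h2]
  simp

/-- the skew-adjoint operators commuting with all `N_z`, `z ⊥ e`, are the `w ∧ e`, `w ⊥ e, f` -/
theorem Fr.skew_comm (h : Fr J e f z1 z2) (K : Matrix κ κ F)
    (hsk : ∀ x y, bf J (K *ᵥ x) y = - bf J x (K *ᵥ y))
    (hc1 : Wd J e z1 * K = K * Wd J e z1) (hc2 : Wd J e z2 * K = K * Wd J e z2) :
    bf J (K *ᵥ f) e = 0 ∧ bf J (K *ᵥ f) f = 0 ∧ K = Wd J (K *ᵥ f) e := by
  have hxx : ∀ x, bf J (K *ᵥ x) x = 0 := by
    intro x
    have := hsk x x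
    rw [h.symm x (K *ᵥ x)] at this
    have h2 : (2 : F) * bf J (K *ᵥ x) x = 0 := by linear_combination this
    exact (mul_eq_zero.mp h2).resolve_left h.two
  -- the commutation relations applied to vectors
  have key : ∀ z, (Wd J e z * K = K * Wd J e z) → ∀ x,
      bf J (K *ᵥ x) z • e - bf J (K *ᵥ x) e • z = bf J x z • K *ᵥ e - bf J x e • K *ᵥ z := by
    intro z hz x
    have := congrArg (fun A => A *ᵥ x) hz
    simp only [← Matrix.mulVec_mulVec, Wd_mulVec, Matrix.mulVec_sub, Matrix.mulVec_smul] at this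
    exact this
  -- `K e ⊥ z₁, z₂, e`
  have a1 := key z1 hc1 e
  rw [h.ez1, h.ee, zero_smul, zero_smul, sub_zero] at a1
  have a2 := key z2 hc2 e
  rw [h.ez2, h.ee, zero_smul, zero_smul, sub_zero] at a2
  have e1 : bf J (K *ᵥ e) z1 = 0 := by
    have := congrArg (fun v => bf J v f) a1
    simp only [bf_sub_left, bf_smul_left, h.ef, h.symm z1 f, h.fz1, bf_zero_left] at this
    linear_combination this
  have e2 : bf J (K *ᵥ e) z2 = 0 := by
    have := congrArg (fun v => bf J v f) a2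
    simp only [bf_sub_left, bf_smul_left, h.ef, h.symm z2 f, h.fz2, bf_zero_left] at this
    linear_combination this
  have e3 : bf J (K *ᵥ e) e = 0 := hxx e
  -- `K e = μ e`
  have hKe : K *ᵥ e = bf J (K *ᵥ e) f • e := by
    have := h.dec (K *ᵥ e)
    rw [e1, e2, e3] at this
    simpa using this
  -- `μ = 0`
  have b1 := key z1 hc1 z1
  have hKz1e : bf J (K *ᵥ z1) e = 0 := by
    rw [hsk, hKe, bf_smul_right, h.symm z1 e, h.ez1, mul_zero, neg_zero]
  rw [hxx z1, hKz1e, zero_smul, zero_smul, sub_zero, h.symm z1 e, h.ez1, zero_smul, sub_zero] at b1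
  have hμ : bf J (K *ᵥ e) f = 0 := by
    have := congrArg (fun v => bf J v f) b1
    simp only [bf_smul_left, bf_zero_left] at this
    rw [hKe, bf_smul_left, h.ef, mul_one] at this
    rcases mul_eq_zero.mp this.symm with h' | h'
    · exact absurd h' h.q1
    · rw [hKe, bf_smul_left, h.ef, mul_one] at h'
      exact h'
  have hKe0 : K *ᵥ e = 0 := by rw [hKe, hμ, zero_smul]
  have hfe : bf J (K *ᵥ f) e = 0 := by
    rw [hsk, hKe0, bf_zero_right, neg_zero]
  -- `K z = - f(K f, z) e`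
  have c1 := key z1 hc1 f
  rw [hfe, zero_smul, sub_zero, h.fz1, zero_smul, zero_sub, h.fe, one_smul] at c1
  have c2 := key z2 hc2 f
  rw [hfe, zero_smul, sub_zero, h.fz2, zero_smul, zero_sub, h.fe, one_smul] at c2
  refine ⟨hfe, hxx f, ?_⟩
  apply h.ext
  · rw [hKe0, Wd_mulVec, h.ee, zero_smul, h.symm e (K *ᵥ f), hfe, zero_smul, sub_zero]
  · rw [Wd_mulVec, h.fe, one_smul, h.symm f (K *ᵥ f), hxx f, zero_smul, sub_zero]
  · rw [Wd_mulVec, h.symm z1 e, h.ez1, zero_smul, zero_sub, h.symm z1 (K *ᵥ f)]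
    exact (neg_eq_iff_eq_neg.mp c1.symm)
  · rw [Wd_mulVec, h.symm z2 e, h.ez2, zero_smul, zero_sub, h.symm z2 (K *ᵥ f)]
    exact (neg_eq_iff_eq_neg.mp c2.symm)

/-- the self-adjoint operators commuting with all `N_z`, `z ⊥ e`, are the `μ + ν E_{e,e}` -/
theorem Fr.symm_comm (h : Fr J e f z1 z2) (C : Matrix κ κ F)
    (hsa : ∀ x y, bf J (C *ᵥ x) y = bf J x (C *ᵥ y))
    (hc1 : Wd J e z1 * C = C * Wd J e z1) (hc2 : Wd J e z2 * C = C * Wd J e z2) :
    C = bf J (C *ᵥ e) f • (1 : Matrix κ κ F) + bf J (C *ᵥ f) f • E J e e := by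
  have key : ∀ z, (Wd J e z * C = C * Wd J e z) → ∀ x,
      bf J (C *ᵥ x) z • e - bf J (C *ᵥ x) e • z = bf J x z • C *ᵥ e - bf J x e • C *ᵥ z := by
    intro z hz x
    have := congrArg (fun A => A *ᵥ x) hz
    simp only [← Matrix.mulVec_mulVec, Wd_mulVec, Matrix.mulVec_sub, Matrix.mulVec_smul] at this
    exact this
  have a1 := key z1 hc1 e
  rw [h.ez1, h.ee, zero_smul, zero_smul, sub_zero] at a1
  have a2 := key z2 hc2 e
  rw [h.ez2, h.ee, zero_smul, zero_smul, sub_zero] at a2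
  have e1 : bf J (C *ᵥ e) z1 = 0 := by
    have := congrArg (fun v => bf J v f) a1
    simp only [bf_sub_left, bf_smul_left, h.ef, h.symm z1 f, h.fz1, bf_zero_left] at this
    linear_combination this
  have e2 : bf J (C *ᵥ e) z2 = 0 := by
    have := congrArg (fun v => bf J v f) a2
    simp only [bf_sub_left, bf_smul_left, h.ef, h.symm z2 f, h.fz2, bf_zero_left] at this
    linear_combination this
  have e3 : bf J (C *ᵥ e) e = 0 := by
    have := congrArg (fun v => bf J v z1) a1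
    simp only [bf_sub_left, bf_smul_left, h.ez1, bf_zero_left, e1] at this
    have h' : bf J (C *ᵥ e) e * bf J z1 z1 = 0 := by linear_combination -this
    exact (mul_eq_zero.mp h').resolve_right h.q1
  have hCe : C *ᵥ e = bf J (C *ᵥ e) f • e := by
    have := h.dec (C *ᵥ e)
    rw [e1, e2, e3] at this
    simpa using this
  have hfe : bf J (C *ᵥ f) e = bf J (C *ᵥ e) f := by
    rw [hsa, h.symm]
  have c1 := key z1 hc1 f
  rw [hfe, h.fz1, zero_smul, zero_sub, h.fe, one_smul] at c1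
  have c2 := key z2 hc2 f
  rw [hfe, h.fz2, zero_smul, zero_sub, h.fe, one_smul] at c2
  -- `f(C f, z) = 0`
  have d1 : bf J (C *ᵥ f) z1 = 0 := by
    have h1 : bf J (C *ᵥ z1) f = bf J (C *ᵥ f) z1 := by rw [hsa, h.symm]
    have h2 := congrArg (fun v => bf J v f) c1
    simp only [bf_sub_left, bf_smul_left, bf_neg_left, h.ef, h.symm z1 f, h.fz1, mul_zero, sub_zero, mul_one] at h2
    have h3 : (2 : F) * bf J (C *ᵥ f) z1 = 0 := by rw [← h1]; linear_combination h2 + h1
    exact (mul_eq_zero.mp h3).resolve_left h.two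
  have d2 : bf J (C *ᵥ f) z2 = 0 := by
    have h1 : bf J (C *ᵥ z2) f = bf J (C *ᵥ f) z2 := by rw [hsa, h.symm]
    have h2 := congrArg (fun v => bf J v f) c2
    simp only [bf_sub_left, bf_smul_left, bf_neg_left, h.ef, h.symm z2 f, h.fz2, mul_zero, sub_zero, mul_one] at h2
    have h3 : (2 : F) * bf J (C *ᵥ f) z2 = 0 := by rw [← h1]; linear_combination h2 + h1
    exact (mul_eq_zero.mp h3).resolve_left h.two
  rw [d1, zero_smul, zero_sub] at c1
  rw [d2, zero_smul, zero_sub] at c2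
  have hCf : C *ᵥ f = bf J (C *ᵥ f) f • e + bf J (C *ᵥ e) f • f := by
    have := h.dec (C *ᵥ f)
    rw [d1, d2, hfe] at this
    simpa using this
  apply h.ext
  · rw [Matrix.add_mulVec, Matrix.smul_mulVec, Matrix.smul_mulVec, Matrix.one_mulVec, E_mulVec, h.ee, zero_smul,
      smul_zero, add_zero]
    exact hCe
  · rw [Matrix.add_mulVec, Matrix.smul_mulVec, Matrix.smul_mulVec, Matrix.one_mulVec, E_mulVec, h.fe, one_smul,
      add_comm]
    exact hCf
  · rw [Matrix.add_mulVec, Matrix.smul_mulVec, Matrix.smul_mulVec, Matrix.one_mulVec, E_mulVec, h.symm z1 e, h.ez1,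
      zero_smul, smul_zero, add_zero]
    exact neg_eq_iff_eq_neg.mp c1.symm |>.trans (by rw [neg_neg])
  · rw [Matrix.add_mulVec, Matrix.smul_mulVec, Matrix.smul_mulVec, Matrix.one_mulVec, E_mulVec, h.symm z2 e, h.ez2,
      zero_smul, smul_zero, add_zero]
    exact neg_eq_iff_eq_neg.mp c2.symm |>.trans (by rw [neg_neg])

end Cfsg.Agent.Lib.Helper12.OTExitBU
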