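import Mathlib
import Cfsg.Agent.Lib.Helper12.OTExitBU2

/-!
# S5709, EXIT-B: `U`-level algebra, part 3  (helper12): the fixed point lemma

A non-zero subspace of matrices invariant under conjugation by all Eichler transformations `ρ_{e,z}`, `z ⊥ e`,
contains a non-zero matrix fixed by all of them (`{ρ_{e,z}}` is a `p`-group).
-/

set_option autoImplicit false
set_option linter.unusedSectionVars false
set_option linter.unusedVariables false
set_option linter.style.haveILetI false

namespace Cfsg.Agent.Lib.Helper12.OTExitBU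

open Matrix Module
open Cfsg.Agent.Lib.Helper3.SpT (bf E E_mulVec E_mul_E mat_ext_mulVec bf_add_left bf_add_right bf_smul_left
  bf_smul_right bf_neg_left bf_neg_right bf_sub_left bf_sub_right bf_zero_left bf_zero_right)

variable {F : Type*} [Field F] {κ : Type} [Fintype κ] [DecidableEq κ] {J : Matrix κ κ F}

/-- the additive group `e^⊥` -/
def perpA (J : Matrix κ κ F) (e : κ → F) : AddSubgroup (κ → F) where
  carrier := {z | bf J e z = 0}
  add_mem' := fun {a b} ha hb => by
    change bf J e (a + b) = 0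
    rw [bf_add_right, ha, hb, add_zero]
  zero_mem' := bf_zero_right J e
  neg_mem' := fun {a} ha => by
    change bf J e (-a) = 0
    rw [bf_neg_right, ha, neg_zero]

theorem perpA_prop (e : κ → F) (z : ↥(perpA J e)) : bf J e (z : κ → F) = 0 := z.2

/-- conjugation by `ρ_{e,z}` -/
def cj (J : Matrix κ κ F) (e : κ → F) (z : κ → F) (K : Matrix κ κ F) : Matrix κ κ F :=
  eich J e z * K * eich J e (-z)

theorem cj_zero (e : κ → F) (K : Matrix κ κ F) : cj J e 0 K = K := by
  unfold cj
  rw [neg_zero, eich_zero, one_mul, mul_one]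

theorem cj_add (hs : ∀ x y, bf J x y = bf J y x) (h2 : (2 : F) ≠ 0) {e z z' : κ → F} (he : bf J e e = 0)
    (hz : bf J e z = 0) (hz' : bf J e z' = 0) (K : Matrix κ κ F) :
    cj J e (z + z') K = cj J e z (cj J e z' K) := by
  unfold cj
  have hnz : bf J e (-z) = 0 := by rw [bf_neg_right, hz, neg_zero]
  have hnz' : bf J e (-z') = 0 := by rw [bf_neg_right, hz', neg_zero]
  rw [← eich_mul hs h2 he hz hz', neg_add_rev, ← eich_mul hs h2 he hnz' hnz]
  simp only [mul_assoc]

/-- the action of `e^⊥` on an invariant subspace -/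
def actS (hs : ∀ x y, bf J x y = bf J y x) (h2 : (2 : F) ≠ 0) {e : κ → F} (he : bf J e e = 0)
    (S : Submodule F (Matrix κ κ F)) (hinv : ∀ z, bf J e z = 0 → ∀ K ∈ S, cj J e z K ∈ S) :
    MulAction (Multiplicative ↥(perpA J e)) ↥S where
  smul := fun g K => ⟨cj J e ((Multiplicative.toAdd g : ↥(perpA J e)) : κ → F) (K : Matrix κ κ F),
    hinv _ (Multiplicative.toAdd g : ↥(perpA J e)).2 _ K.2⟩
  one_smul := fun K => by
    apply Subtype.ext
    exact cj_zero e _
  mul_smul := fun g g' K => by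
    apply Subtype.ext
    exact cj_add hs h2 he (Multiplicative.toAdd g : ↥(perpA J e)).2 (Multiplicative.toAdd g' : ↥(perpA J e)).2 _

theorem exists_fixed [Fintype F] (hs : ∀ x y, bf J x y = bf J y x) (h2 : (2 : F) ≠ 0)
    {e : κ → F} (he : bf J e e = 0) (S : Submodule F (Matrix κ κ F))
    (hinv : ∀ z, bf J e z = 0 → ∀ K ∈ S, eich J e z * K * eich J e (-z) ∈ S)
    (hne : ∃ K ∈ S, K ≠ 0) :
    ∃ K ∈ S, K ≠ 0 ∧ ∀ z, bf J e z = 0 → eich J e z * K * eich J e (-z) = K := by
  classical
  obtain ⟨p, hp⟩ := CharP.exists F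
  haveI := hp
  haveI : Fact p.Prime := ⟨CharP.char_is_prime F p⟩
  letI : MulAction (Multiplicative ↥(perpA J e)) ↥S := actS hs h2 he S hinv
  have hsmul : ∀ (g : Multiplicative ↥(perpA J e)) (K : ↥S),
      ((g • K : ↥S) : Matrix κ κ F) = cj J e ((Multiplicative.toAdd g : ↥(perpA J e)) : κ → F) (K : Matrix κ κ F) :=
    fun g K => rfl
  have hG : IsPGroup p (Multiplicative ↥(perpA J e)) := by
    intro g
    refine ⟨1, ?_⟩
    rw [pow_one]
    apply Multiplicative.toAdd.injective
    rw [toAdd_pow, toAdd_one]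
    apply Subtype.ext
    rw [AddSubgroup.coe_nsmul, AddSubgroup.coe_zero]
    funext i
    rw [Pi.smul_apply, Pi.zero_apply, nsmul_eq_mul, CharP.cast_eq_zero F p, zero_mul]
  have hcard : p ∣ Nat.card ↥S := by
    rw [Module.natCard_eq_pow_finrank (K := F) (V := ↥S)]
    have hpos : 0 < finrank F ↥S := by
      rw [Module.finrank_pos_iff_exists_ne_zero]
      obtain ⟨K, hK, hK0⟩ := hne
      exact ⟨⟨K, hK⟩, fun h => hK0 (congrArg Subtype.val h)⟩
    have hpF : p ∣ Nat.card F := by
      rw [Nat.card_eq_fintype_card]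
      obtain ⟨n, _, hn⟩ := FiniteField.card F p
      rw [hn]
      exact dvd_pow_self p n.ne_zero
    exact dvd_trans hpF (dvd_pow_self _ hpos.ne')
  have h0 : (0 : ↥S) ∈ MulAction.fixedPoints (Multiplicative ↥(perpA J e)) ↥S := by
    intro g
    apply Subtype.ext
    rw [hsmul]
    unfold cj
    rw [Submodule.coe_zero, mul_zero, zero_mul]
  obtain ⟨K, hK, hK0⟩ := hG.exists_fixed_point_of_prime_dvd_card_of_fixed_point _ hcard h0
  refine ⟨(K : Matrix κ κ F), K.2, fun h => hK0 (Subtype.ext h).symm, fun z hz => ?_⟩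
  have := hK (Multiplicative.ofAdd (⟨z, hz⟩ : ↥(perpA J e)))
  have h3 := congrArg Subtype.val this
  rw [hsmul] at h3
  exact h3

end Cfsg.Agent.Lib.Helper12.OTExitBU
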