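import Mathlib
import Cfsg.Agent.Lib.Helper28.OTDefs
import Cfsg.Agent.Lib.Helper28.OTExitDefs
import Cfsg.Agent.Lib.Helper16.OTRootC
import Cfsg.Agent.Lib.Helper3.OTT4
import Cfsg.Agent.Lib.Helper8.OTRel
import Cfsg.Agent.Lib.Helper12.OTExitBU3
import Cfsg.Agent.Lib.Helper13.OTAllLong
import Cfsg.Agent.Lib.Helper13.OTAllLongB
import Cfsg.Agent.Lib.Helper13.OTStruct
import Cfsg.Agent.Lib.Helper20.OTSkewMul
import Cfsg.Agent.Lib.Helper20.OTTorus

/-!
# OT EXIT, step T3 : the assembly  (helper12)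

`V = U ⊗ W`, `U = F^a`, `W = F^b` orthogonal, `π = ⟨k₁,k₂⟩ ≤ W` totally singular, `L = U ⊗ π`.
`z(K₁,C,K₂) = gZ … K₁ C K₂` are the elements of `Z_L ≅ Λ²L` in coordinates (helper8 `OTRel`).

* `InZM J1 hJ2 M h K₁ C K₂` : `K₁, K₂` skew-adjoint and `z(K₁,C,K₂) ∈ M`;
* `Bad J1 hJ2 M h K₁ C K₂` : `z(K₁,C,K₂) = g n⁻¹` with `g ∈ M`, `n ∈ N0 ⊓ IsoG`;
* `Glue hS M h` : the closure properties of `InZM` / `Bad` (proved by helper22, helper2, helper18, helper25 in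
  `OTGlueA`, `OTGlueB`, `OTComm`, `OTGlueC`), bundled as ONE hypothesis so that this file does not depend on them;
* `SLemma J1`, `KSpread J1` : the two `U`-level inputs (helper8 / helper21), with Eichler invariance `eich J1 e z`;
* `t3_core` : `Glue → SLemma → KSpread → ¬ B0s → AllLong`.
-/

set_option autoImplicit false
set_option linter.unusedSectionVars false
set_option linter.unusedVariables false

namespace Cfsg.Agent.Lib.Helper12.OTT3

open Matrix Module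
open Cfsg.Agent.Lib.Helper16.Tens Cfsg.Agent.Lib.Helper10.TensFund
open Cfsg.Agent.Lib.Helper3.SpT (bf E adj uni Over)
open Cfsg.Agent.Lib.Helper13.TensSO (OrthG IsoG)
open Cfsg.Agent.Lib.Helper28.OT Cfsg.Agent.Lib.Helper28.OTX
open Cfsg.Agent.Lib.Helper16.OTRootC (oneK oneK_val oneK_mem_IsoG rho oneK_rho Om_le_IsoG)
open Cfsg.Agent.Lib.Helper8.OTRel (TO zL gTO gK gZ)
open Cfsg.Agent.Lib.Helper12.OTExitBU (eich Wd)
open scoped Kronecker

variable {F : Type*} [Field F] [Fintype F] {a b : ℕ}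
variable {J1 : Matrix (Fin a) (Fin a) F} {J2 : Matrix (Fin b) (Fin b) F}
variable {Q : QuadraticForm F (Fin a × Fin b → F)}
variable {M : Subgroup (GL (Fin a × Fin b) F)}
variable {k1 k2 : Fin b → F}

/-- `(K₁, C, K₂)` are the `Z_L`-coordinates of an element of `M` (`K₁, K₂` skew-adjoint) -/
def InZM (J1 : Matrix (Fin a) (Fin a) F) {J2 : Matrix (Fin b) (Fin b) F} (hJ2 : OrthG J2)
    (M : Subgroup (GL (Fin a × Fin b) F)) {k1 k2 : Fin b → F} (h : Ts2 J2 k1 k2)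
    (K1 C K2 : Matrix (Fin a) (Fin a) F) : Prop :=
  adj J1 K1 = -K1 ∧ adj J1 K2 = -K2 ∧ gZ J1 J2 hJ2 K1 C K2 k1 k2 h.h11 h.h12 h.h22 ∈ M

/-- the bad element: `g ∈ M`, `n ∈ N0 ⊓ IsoG`, `g n⁻¹ = z(K₁,C,K₂)` -/
structure Bad (J1 : Matrix (Fin a) (Fin a) F) {J2 : Matrix (Fin b) (Fin b) F} (hJ2 : OrthG J2)
    (M : Subgroup (GL (Fin a × Fin b) F)) {k1 k2 : Fin b → F} (h : Ts2 J2 k1 k2)
    (K1 C K2 : Matrix (Fin a) (Fin a) F) : Prop where
  sk1 : adj J1 K1 = -K1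
  sk2 : adj J1 K2 = -K2
  ex : ∃ g ∈ M, ∃ n ∈ Cfsg.Geo.kroneckerSubgroup a b F, n ∈ IsoG (J1 ⊗ₖ J2) ∧
    g * n⁻¹ = gZ J1 J2 hJ2 K1 C K2 k1 k2 h.h11 h.h12 h.h22

/-- the closure properties of `InZM` and `Bad` used by the assembly -/
structure Glue (hS : SetupO J1 J2 Q) (M : Subgroup (GL (Fin a × Fin b) F)) (h : Ts2 J2 k1 k2) : Prop where
  zero : InZM J1 hS.h2 M h 0 0 0
  add : ∀ {K1 C K2 K1' C' K2' : Matrix (Fin a) (Fin a) F}, InZM J1 hS.h2 M h K1 C K2 →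
    InZM J1 hS.h2 M h K1' C' K2' → InZM J1 hS.h2 M h (K1 + K1') (C + C') (K2 + K2')
  neg : ∀ {K1 C K2 : Matrix (Fin a) (Fin a) F}, InZM J1 hS.h2 M h K1 C K2 → InZM J1 hS.h2 M h (-K1) (-C) (-K2)
  one : ∀ c : F, InZM J1 hS.h2 M h 0 (c • (1 : Matrix (Fin a) (Fin a) F)) 0
  smul : ∀ (c : F) {K1 C K2 : Matrix (Fin a) (Fin a) F}, InZM J1 hS.h2 M h K1 C K2 →
    InZM J1 hS.h2 M h (c • K1) (c • C) (c • K2)
  shear : ∀ (s : F) {K1 C K2 : Matrix (Fin a) (Fin a) F}, InZM J1 hS.h2 M h K1 C K2 →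
    InZM J1 hS.h2 M h (K1 + s • (C - adj J1 C) + (s * s) • K2) (C + s • K2) K2
  lshear : ∀ (s : F) {K1 C K2 : Matrix (Fin a) (Fin a) F}, InZM J1 hS.h2 M h K1 C K2 →
    InZM J1 hS.h2 M h K1 (C + s • K1) (K2 + s • (C - adj J1 C) + (s * s) • K1)
  econj : ∀ (e z : Fin a → F), bf J1 e e = 0 → bf J1 e z = 0 → ∀ {K1 C K2 : Matrix (Fin a) (Fin a) F},
    InZM J1 hS.h2 M h K1 C K2 →
    InZM J1 hS.h2 M h (eich J1 e z * K1 * eich J1 e (-z)) (eich J1 e z * C * eich J1 e (-z))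
      (eich J1 e z * K2 * eich J1 e (-z))
  R2 : ∀ {C D : Matrix (Fin a) (Fin a) F}, InZM J1 hS.h2 M h 0 C 0 → InZM J1 hS.h2 M h 0 D 0 →
    InZM J1 hS.h2 M h (D * adj J1 C - C * adj J1 D) 0 0
  R3 : ∀ {K' D : Matrix (Fin a) (Fin a) F}, InZM J1 hS.h2 M h K' 0 0 → InZM J1 hS.h2 M h 0 D 0 →
    InZM J1 hS.h2 M h 0 (K' * D) (-(adj J1 D * K' * D))
  bad_shear : ∀ (s : F) {K1 C K2 : Matrix (Fin a) (Fin a) F}, Bad J1 hS.h2 M h K1 C K2 →
    InZM J1 hS.h2 M h (-(s • (C - adj J1 C) + (s * s) • K2)) (-(s • K2)) 0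
  bad_lshear : ∀ (s : F) {K1 C K2 : Matrix (Fin a) (Fin a) F}, Bad J1 hS.h2 M h K1 C K2 →
    InZM J1 hS.h2 M h 0 (-(s • K1)) (-(s • (C - adj J1 C) + (s * s) • K1))
  bad_eich : ∀ (e z : Fin a → F), bf J1 e e = 0 → bf J1 e z = 0 → ∀ {K1 C K2 : Matrix (Fin a) (Fin a) F},
    Bad J1 hS.h2 M h K1 C K2 →
    InZM J1 hS.h2 M h (K1 - eich J1 e z * K1 * eich J1 e (-z)) (C - eich J1 e z * C * eich J1 e (-z))
      (K2 - eich J1 e z * K2 * eich J1 e (-z))

/-- the `U`-level S-lemma: a commutative Eichler-invariant space of self-adjoint operators containing `1` is scalar -/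
def SLemma (J1 : Matrix (Fin a) (Fin a) F) : Prop :=
  ∀ S : Submodule F (Matrix (Fin a) (Fin a) F), (∀ C ∈ S, adj J1 C = C) → (1 : Matrix (Fin a) (Fin a) F) ∈ S →
    (∀ C ∈ S, ∀ D ∈ S, C * D = D * C) →
    (∀ e z : Fin a → F, bf J1 e e = 0 → bf J1 e z = 0 → ∀ C ∈ S, eich J1 e z * C * eich J1 e (-z) ∈ S) →
    ∀ C ∈ S, ∃ c : F, C = c • (1 : Matrix (Fin a) (Fin a) F)

/-- the `U`-level K-spread: a nonzero Eichler-invariant space of skew-adjoint operators contains all of them -/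
def KSpread (J1 : Matrix (Fin a) (Fin a) F) : Prop :=
  ∀ D : Submodule F (Matrix (Fin a) (Fin a) F), (∀ K' ∈ D, adj J1 K' = -K') → (∃ K' ∈ D, K' ≠ 0) →
    (∀ e z : Fin a → F, bf J1 e e = 0 → bf J1 e z = 0 → ∀ K' ∈ D, eich J1 e z * K' * eich J1 e (-z) ∈ D) →
    ∀ K', adj J1 K' = -K' → K' ∈ D

theorem exists_bad (hS : SetupO J1 J2 Q) (hM : Over Q M) (h : Ts2 J2 k1 k2) (hB : ¬ B0s J1 J2 M k1 k2) :
    ∃ K1 C K2 : Matrix (Fin a) (Fin a) F, Bad J1 hS.h2 M h K1 C K2 ∧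
      ¬ (K1 = 0 ∧ K2 = 0 ∧ ∃ c : F, C = c • (1 : Matrix (Fin a) (Fin a) F)) := by
  unfold B0s at hB
  push Not at hB
  obtain ⟨g, hg, n, hnK, hnI, hZ, hne⟩ := hB
  have hMI : M ≤ IsoG (J1 ⊗ₖ J2) := hM.le_Om.trans (Om_le_IsoG hS)
  have hζI : g * n⁻¹ ∈ IsoG (J1 ⊗ₖ J2) := Subgroup.mul_mem _ (hMI hg) (Subgroup.inv_mem _ hnI)
  obtain ⟨K1, C, K2, hK1, hK2, hζ⟩ := Cfsg.Agent.Lib.Helper13.OTStruct.exists_gZ_of_InZ hS h (g * n⁻¹) hζI hZ
  refine ⟨K1, C, K2, ⟨hK1, hK2, g, hg, n, hnK, hnI, hζ⟩, ?_⟩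
  rintro ⟨h1, h2, c, hc⟩
  apply hne c
  rw [hζ, Cfsg.Agent.Lib.Helper8.OTRel.gZ_val, h1, h2, hc,
    Cfsg.Agent.Lib.Helper8.OTRel.nL_eq_zL J1 J2 (Cfsg.Agent.Lib.Helper13.OTAllLong.adj_one_orth hS.h1),
    ← Cfsg.Agent.Lib.Helper8.OTRel.zL_smul_coeff, smul_zero]

section asm
variable (hS : SetupO J1 J2 Q) (ha : 3 ≤ a) (h : Ts2 J2 k1 k2) (G : Glue hS M h)
include hS ha h G

theorem adj_sub_skew {K' : Matrix (Fin a) (Fin a) F} (hK : adj J1 K' = -K') : K' - adj J1 K' = (2 : F) • K' := by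
  rw [hK, sub_neg_eq_add, two_smul]

/-- if no `K`-type element lies in `M`, the third coordinate vanishes -/
theorem third_zero (hno : ∀ K', InZM J1 hS.h2 M h K' 0 0 → K' = 0) {A1 A2 A3 : Matrix (Fin a) (Fin a) F}
    (hX : InZM J1 hS.h2 M h A1 A2 A3) : A3 = 0 := by
  have hA3 : adj J1 A3 = -A3 := hX.2.1
  have h1 := G.add (G.shear 1 hX) (G.neg hX)
  have h2 := G.add (G.shear 1 h1) (G.neg h1)
  have e1 : A1 + (1 : F) • (A2 - adj J1 A2) + ((1 : F) * 1) • A3 + -A1 = A2 - adj J1 A2 + A3 := by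
    rw [one_smul, mul_one, one_smul]; abel
  have e2 : A2 + (1 : F) • A3 + -A2 = A3 := by rw [one_smul]; abel
  have e3 : A3 + -A3 = 0 := add_neg_cancel A3
  rw [e1, e2, e3] at h1 h2
  have e4 : A2 - adj J1 A2 + A3 + (1 : F) • (A3 - adj J1 A3) + ((1 : F) * 1) • (0 : Matrix (Fin a) (Fin a) F) +
      -(A2 - adj J1 A2 + A3) = (2 : F) • A3 := by
    rw [one_smul, smul_zero, adj_sub_skew hS ha h G hA3]; abel
  have e5 : A3 + (1 : F) • (0 : Matrix (Fin a) (Fin a) F) + -A3 = 0 := by rw [smul_zero]; abel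
  have e6 : (0 : Matrix (Fin a) (Fin a) F) + -0 = 0 := by simp
  rw [e4, e5, e6] at h2
  have := hno _ h2
  rcases smul_eq_zero.mp this with h' | h'
  · exact absurd h' hS.two
  · exact h'

/-- if no `K`-type element lies in `M`, the middle coordinate of `z(0,C,0)` is self-adjoint -/
theorem mid_selfadj (hno : ∀ K', InZM J1 hS.h2 M h K' 0 0 → K' = 0) {A2 : Matrix (Fin a) (Fin a) F}
    (hX : InZM J1 hS.h2 M h 0 A2 0) : adj J1 A2 = A2 := by
  have h1 := G.add (G.shear 1 hX) (G.neg hX)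
  have e1 : (0 : Matrix (Fin a) (Fin a) F) + (1 : F) • (A2 - adj J1 A2) + ((1 : F) * 1) • (0 : Matrix (Fin a) (Fin a) F) + -0 =
      A2 - adj J1 A2 := by rw [one_smul, smul_zero]; abel
  have e2 : A2 + (1 : F) • (0 : Matrix (Fin a) (Fin a) F) + -A2 = 0 := by rw [smul_zero]; abel
  have e3 : (0 : Matrix (Fin a) (Fin a) F) + -0 = 0 := by simp
  rw [e1, e2, e3] at h1
  have := hno _ h1
  exact (sub_eq_zero.mp this).symm

/-- if no `K`-type element lies in `M`, the first coordinate vanishes -/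
theorem first_zero (hno : ∀ K', InZM J1 hS.h2 M h K' 0 0 → K' = 0) {A1 A2 A3 : Matrix (Fin a) (Fin a) F}
    (hX : InZM J1 hS.h2 M h A1 A2 A3) : A1 = 0 := by
  have hA3 : A3 = 0 := third_zero hS ha h G hno hX
  subst hA3
  have h1 := third_zero hS ha h G hno (G.lshear 1 hX)
  have h2 := third_zero hS ha h G hno (G.lshear (-1) hX)
  have e : (2 : F) • A1 = ((0 : Matrix (Fin a) (Fin a) F) + (1 : F) • (A2 - adj J1 A2) + ((1 : F) * 1) • A1) +
      (0 + (-1 : F) • (A2 - adj J1 A2) + ((-1 : F) * (-1)) • A1) := by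
    module
  rw [h1, h2, add_zero] at e
  rcases smul_eq_zero.mp e with h' | h'
  · exact absurd h' hS.two
  · exact h'

end asm

/-- the `F`-subspace of the `C` with `z(0,C,0) ∈ M` -/
def midSub (hS : SetupO J1 J2 Q) (h : Ts2 J2 k1 k2) (G : Glue hS M h) :
    Submodule F (Matrix (Fin a) (Fin a) F) where
  carrier := {D | InZM J1 hS.h2 M h 0 D 0}
  add_mem' := by
    intro x y hx hy
    have := G.add hx hy
    rw [add_zero] at this
    exact this
  zero_mem' := G.zero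
  smul_mem' := by
    intro c x hx
    have := G.smul c hx
    rw [smul_zero] at this
    exact this

/-- the `F`-subspace of the `K'` with `z(K',0,0) ∈ M` -/
def firstSub (hS : SetupO J1 J2 Q) (h : Ts2 J2 k1 k2) (G : Glue hS M h) :
    Submodule F (Matrix (Fin a) (Fin a) F) where
  carrier := {D | InZM J1 hS.h2 M h D 0 0}
  add_mem' := by
    intro x y hx hy
    have := G.add hx hy
    rw [add_zero] at this
    exact this
  zero_mem' := G.zero
  smul_mem' := by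
    intro c x hx
    have := G.smul c hx
    rw [smul_zero] at this
    exact this

section asm2
variable (hS : SetupO J1 J2 Q) (ha : 3 ≤ a) (h : Ts2 J2 k1 k2) (G : Glue hS M h)
include hS ha h G

/-- S-case, first application: with no `K`-type element, every `z(0,D,0) ∈ M` has `D` scalar -/
theorem mid_scalar (hSl : SLemma J1) (hno : ∀ K', InZM J1 hS.h2 M h K' 0 0 → K' = 0)
    {D : Matrix (Fin a) (Fin a) F} (hD : InZM J1 hS.h2 M h 0 D 0) : ∃ c : F, D = c • (1 : Matrix (Fin a) (Fin a) F) := by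
  refine hSl (midSub hS h G) ?_ ?_ ?_ ?_ D hD
  · intro C hC
    exact mid_selfadj hS ha h G hno hC
  · have := G.one 1
    rw [one_smul] at this
    exact this
  · intro C hC D' hD'
    have hC' := mid_selfadj hS ha h G hno hC
    have hD'' := mid_selfadj hS ha h G hno hD'
    have := hno _ (G.R2 hC hD')
    rw [hC', hD'', sub_eq_zero] at this
    exact this.symm
  · intro e z he hz C hC
    have := G.econj e z he hz hC
    rw [mul_zero, zero_mul] at this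
    exact this

/-- K-START : a non-trivial bad element produces a nonzero `K`-type element of `M` -/
theorem exists_K (hSl : SLemma J1) {K1 C K2 : Matrix (Fin a) (Fin a) F} (hX : Bad J1 hS.h2 M h K1 C K2)
    (hns : ¬ (K1 = 0 ∧ K2 = 0 ∧ ∃ c : F, C = c • (1 : Matrix (Fin a) (Fin a) F))) :
    ∃ K', K' ≠ 0 ∧ InZM J1 hS.h2 M h K' 0 0 := by
  by_contra hcon
  push Not at hcon
  have hno : ∀ K', InZM J1 hS.h2 M h K' 0 0 → K' = 0 := fun K' hK' => by
    by_contra hne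
    exact hcon K' hne hK'
  have hsym : ∀ x y, bf J1 x y = bf J1 y x := hS.h1.symm
  have s1 := G.bad_shear 1 hX
  have f1 := first_zero hS ha h G hno s1
  rw [f1] at s1
  have m1 := mid_selfadj hS ha h G hno s1
  have hK2 : K2 = 0 := by
    rw [one_smul, Cfsg.Agent.Lib.Helper3.SpT.adj_neg, hX.sk2, neg_neg] at m1
    have e : (2 : F) • K2 = 0 := by
      rw [two_smul]
      nth_rewrite 1 [m1]
      exact neg_add_cancel K2
    rcases smul_eq_zero.mp e with h' | h'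
    · exact absurd h' hS.two
    · exact h'
  have hCsa : adj J1 C = C := by
    rw [hK2, smul_zero, add_zero, one_smul, neg_eq_zero, sub_eq_zero] at f1
    exact f1.symm
  have s2 := G.bad_lshear 1 hX
  have t2 := third_zero hS ha h G hno s2
  have hK1 : K1 = 0 := by
    rw [hCsa, sub_self, smul_zero, zero_add, mul_one, one_smul, neg_eq_zero] at t2
    exact t2
  have hCns : ¬ ∃ c : F, C = c • (1 : Matrix (Fin a) (Fin a) F) := fun hc => hns ⟨hK1, hK2, hc⟩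
  -- every Eichler conjugate of `C` differs from `C` by a scalar
  have hdiff : ∀ e z : Fin a → F, bf J1 e e = 0 → bf J1 e z = 0 →
      ∃ d : F, eich J1 e z * C * eich J1 e (-z) = C - d • (1 : Matrix (Fin a) (Fin a) F) := by
    intro e z he hz
    have hb' := G.bad_eich e z he hz hX
    rw [hK1, hK2, mul_zero, zero_mul, sub_zero] at hb'
    obtain ⟨d, hd⟩ := mid_scalar hS ha h G hSl hno hb'
    exact ⟨d, by rw [← hd]; abel⟩
  apply hCns
  refine hSl (Submodule.span F {C, 1}) ?_ ?_ ?_ ?_ C (Submodule.subset_span (by simp))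
  · intro X hX'
    obtain ⟨s, t, rfl⟩ := Submodule.mem_span_pair.mp hX'
    rw [Cfsg.Agent.Lib.Helper3.SpT.adj_add, Cfsg.Agent.Lib.Helper3.SpT.adj_smul, Cfsg.Agent.Lib.Helper3.SpT.adj_smul, hCsa,
      Cfsg.Agent.Lib.Helper13.OTAllLong.adj_one_orth hS.h1]
  · exact Submodule.subset_span (by simp)
  · intro X hX' Y hY'
    obtain ⟨s, t, rfl⟩ := Submodule.mem_span_pair.mp hX'
    obtain ⟨s', t', rfl⟩ := Submodule.mem_span_pair.mp hY'
    simp only [add_mul, mul_add, smul_mul_assoc, mul_smul_comm, mul_one, one_mul]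
    module
  · intro e z he hz X hX'
    obtain ⟨s, t, rfl⟩ := Submodule.mem_span_pair.mp hX'
    obtain ⟨d, hd⟩ := hdiff e z he hz
    have e1 : eich J1 e z * (s • C + t • (1 : Matrix (Fin a) (Fin a) F)) * eich J1 e (-z) =
        s • C + (t - s * d) • (1 : Matrix (Fin a) (Fin a) F) := by
      rw [mul_add, add_mul, mul_smul_comm, smul_mul_assoc, hd, mul_smul_comm, mul_one, smul_mul_assoc,
        Cfsg.Agent.Lib.Helper12.OTExitBU.eich_mul_neg hsym hS.two he hz, smul_sub, smul_smul, sub_smul]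
      abel
    rw [e1]
    exact Submodule.mem_span_pair.mpr ⟨s, t - s * d, rfl⟩

/-- K-SPREAD : all `K`-type elements lie in `M` -/
theorem all_K (hKs : KSpread J1) {K0 : Matrix (Fin a) (Fin a) F} (hK0 : K0 ≠ 0) (hX : InZM J1 hS.h2 M h K0 0 0)
    (K' : Matrix (Fin a) (Fin a) F) (hK' : adj J1 K' = -K') : InZM J1 hS.h2 M h K' 0 0 := by
  refine hKs (firstSub hS h G) ?_ ⟨K0, hX, hK0⟩ ?_ K' hK'
  · intro D hD
    exact hD.1
  · intro e z he hz D hD
    have := G.econj e z he hz hD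
    rw [mul_zero, zero_mul] at this
    exact this

/-- Step 3 : `z(0,0,K), z(0,K,0) ∈ M` for all skew-adjoint `K` -/
theorem step3 (hK : ∀ K', adj J1 K' = -K' → InZM J1 hS.h2 M h K' 0 0) (K' : Matrix (Fin a) (Fin a) F)
    (hK' : adj J1 K' = -K') : InZM J1 hS.h2 M h 0 0 K' ∧ InZM J1 hS.h2 M h 0 K' 0 := by
  have h1 := G.one 1
  rw [one_smul] at h1
  have r3 := G.R3 (hK K' hK') h1
  rw [mul_one, Cfsg.Agent.Lib.Helper13.OTAllLong.adj_one_orth hS.h1, one_mul, mul_one] at r3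
  -- r3 : InZM 0 K' (-K')
  have sh := G.shear 1 r3
  have e1 : (0 : Matrix (Fin a) (Fin a) F) + (1 : F) • (K' - adj J1 K') + ((1 : F) * 1) • (-K') = K' := by
    rw [adj_sub_skew hS ha h G hK', one_smul, mul_one, one_smul, two_smul]; abel
  have e2 : K' + (1 : F) • (-K') = 0 := by rw [one_smul]; abel
  rw [e1, e2] at sh
  -- sh : InZM K' 0 (-K')
  have d := G.add (hK K' hK') (G.neg sh)
  have e3 : K' + -K' = 0 := add_neg_cancel K'
  have e4 : (0 : Matrix (Fin a) (Fin a) F) + -0 = 0 := by simp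
  have e5 : (0 : Matrix (Fin a) (Fin a) F) + - -K' = K' := by simp
  rw [e3, e4, e5] at d
  refine ⟨d, ?_⟩
  have d2 := G.add r3 d
  have e6 : (0 : Matrix (Fin a) (Fin a) F) + 0 = 0 := add_zero 0
  have e7 : K' + (0 : Matrix (Fin a) (Fin a) F) = K' := add_zero K'
  have e8 : -K' + K' = 0 := neg_add_cancel K'
  rw [e6, e7, e8] at d2
  exact d2

/-- Step 4 : `z(0,C,0) ∈ M` for all `C` -/
theorem step4 (hK : ∀ K', adj J1 K' = -K' → InZM J1 hS.h2 M h K' 0 0) (C : Matrix (Fin a) (Fin a) F) :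
    InZM J1 hS.h2 M h 0 C 0 := by
  refine Cfsg.Agent.Lib.Helper20.OTSkewMul.mem_of_skew_mul hS.h1 hS.two ha (midSub hS h G) ?_ C
  intro K' D hK' hD
  have hD' := (step3 hS ha h G hK D hD).2
  have r3 := G.R3 (hK K' hK') hD'
  -- r3 : InZM 0 (K' * D) (-(adj D * K' * D))
  have hsk : adj J1 (-(adj J1 D * K' * D)) = -(-(adj J1 D * K' * D)) := r3.2.1
  have t := (step3 hS ha h G hK _ hsk).1
  have d := G.add r3 (G.neg t)
  have e1 : (0 : Matrix (Fin a) (Fin a) F) + -0 = 0 := by simp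
  have e2 : K' * D + -(0 : Matrix (Fin a) (Fin a) F) = K' * D := by simp
  have e3 : -(adj J1 D * K' * D) + - -(adj J1 D * K' * D) = 0 := by simp
  rw [e1, e2, e3] at d
  exact d

end asm2

/-- **T3 core** : from the glue and the two `U`-level inputs -/
theorem t3_core (hS : SetupO J1 J2 Q) (ha : 3 ≤ a) (hb : 5 ≤ b) (hM : Over Q M) (h : Ts2 J2 k1 k2)
    (G : Glue hS M h) (hSl : SLemma J1) (hKs : KSpread J1) (hB : ¬ B0s J1 J2 M k1 k2) :
    Cfsg.Agent.Lib.Helper3.OTT.AllLong J2 Q M := by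
  obtain ⟨K1, C, K2, hX, hns⟩ := exists_bad hS hM h hB
  obtain ⟨K0, hK0, hXK⟩ := exists_K hS ha h G hSl hX hns
  have hK := all_K hS ha h G hKs hK0 hXK
  apply Cfsg.Agent.Lib.Helper13.OTAllLongB.allLong_of_pair hS hb hM h
  · intro K' hK'
    rw [Cfsg.Agent.Lib.Helper20.OTTorus.gK_eq_gZ (J1 := J1) hS.h2 K' h.h11 h.h12 h.h22]
    exact (hK K' hK').2.2
  · intro K' hK'
    rw [Cfsg.Agent.Lib.Helper20.OTTorus.gK2_eq_gZ (J1 := J1) hS.h2 K' h.h11 h.h12 h.h22]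
    exact (step3 hS ha h G hK K' hK').1.2.2
  · intro C'
    rw [Cfsg.Agent.Lib.Helper20.OTTorus.gTO_eq_gZ hS.h2 C' h.h11 h.h12 h.h22]
    exact (step4 hS ha h G hK C').2.2

end Cfsg.Agent.Lib.Helper12.OTT3
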