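import Mathlib
import Cfsg.Agent.Lib.Helper12.OTT3Core
import Cfsg.Agent.Lib.Helper22.OTGlueA
import Cfsg.Agent.Lib.Helper18.OTComm
import Cfsg.Agent.Lib.Helper21.OTKSpread
import Cfsg.Agent.Lib.Helper21.OTSFour
import Cfsg.Agent.Lib.Helper2.OTGlueB
import Cfsg.Agent.Lib.Helper25.OTKone

/-!
# OT EXIT, step T3 : the glue instance, `t3_four` (`a = 4` of minus type) and `t3_of_sLemma`  (helper12)

`glue : Glue hS M h` from helper22 `OTGlueA`, helper2 `OTGlueB`, helper18 `OTComm`, helper25 `OTKone`;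
`kSpread_of` from helper21 `OTKSpread.k_spread`; `sLemma_four` from helper21 `OTSFour.s_lemma_four`.
-/

set_option autoImplicit false
set_option linter.unusedSectionVars false
set_option linter.unusedVariables false

namespace Cfsg.Agent.Lib.Helper12.OTT3

open Matrix Module
open Cfsg.Agent.Lib.Helper16.Tens Cfsg.Agent.Lib.Helper10.TensFund
open Cfsg.Agent.Lib.Helper3.SpT (bf E adj uni Over)
open Cfsg.Agent.Lib.Helper13.TensSO (OrthG IsoG)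
open Cfsg.Agent.Lib.Helper28.OT Cfsg.Agent.Lib.Helper28.OTX
open Cfsg.Agent.Lib.Helper16.OTRootC (oneK oneK_val oneK_mem_IsoG rho oneK_rho Om_le_IsoG)
open Cfsg.Agent.Lib.Helper8.OTRel (TO zL gTO gK gZ)
open Cfsg.Agent.Lib.Helper12.OTExitBU (eich Wd)
open scoped Kronecker

variable {F : Type*} [Field F] [Fintype F] {a b : ℕ}
variable {J1 : Matrix (Fin a) (Fin a) F} {J2 : Matrix (Fin b) (Fin b) F}
variable {Q : QuadraticForm F (Fin a × Fin b → F)}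
variable {M : Subgroup (GL (Fin a × Fin b) F)}
variable {k1 k2 : Fin b → F}

/-! ## bridges between the three spellings of the Eichler transformation -/

theorem eich_eq_SgN (J : Matrix (Fin a) (Fin a) F) (e z : Fin a → F) : eich J e z = 1 + SgN J e z := by
  unfold eich SgN
  abel

theorem eich_eq_eichM (J : Matrix (Fin a) (Fin a) F) (e z : Fin a → F) :
    eich J e z = Cfsg.Agent.Lib.Helper21.OTKSpread.eichM J e z := by
  unfold eich Cfsg.Agent.Lib.Helper21.OTKSpread.eichM Cfsg.Agent.Lib.Helper21.OTKSpread.wd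
  rw [div_eq_inv_mul]
  abel

/-! ## the `U`-level inputs -/

theorem kSpread_of (hJ : OrthG J1) (h2 : (2 : F) ≠ 0) (ha : 3 ≤ a)
    (hplus : ¬ (a = 4 ∧ ∃ u1 u2 : Fin a → F, Ts2 J1 u1 u2)) : KSpread J1 := by
  intro D hskew hne hinv K' hK'
  refine Cfsg.Agent.Lib.Helper21.OTKSpread.k_spread hJ h2 ha hplus D hskew ?_ ?_ K' hK'
  · obtain ⟨K0, hK0, hK0ne⟩ := hne
    intro hbot
    rw [hbot, Submodule.mem_bot] at hK0
    exact hK0ne hK0
  · intro e z he hz K0 hK0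
    rw [← eich_eq_eichM, ← eich_eq_eichM]
    exact hinv e z he hz K0 hK0

/-- transport of an S-lemma stated with helper21's `eichM` -/
theorem sLemma_of_eichM
    (H : ∀ S : Submodule F (Matrix (Fin a) (Fin a) F), (∀ C ∈ S, adj J1 C = C) → (1 : Matrix (Fin a) (Fin a) F) ∈ S →
      (∀ C ∈ S, ∀ D ∈ S, C * D = D * C) →
      (∀ e z, bf J1 e e = 0 → bf J1 e z = 0 → ∀ C ∈ S, Cfsg.Agent.Lib.Helper21.OTKSpread.eichM J1 e z * C *
        Cfsg.Agent.Lib.Helper21.OTKSpread.eichM J1 e (-z) ∈ S) →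
      ∀ C ∈ S, ∃ c : F, C = c • (1 : Matrix (Fin a) (Fin a) F)) : SLemma J1 := by
  intro S hsa h1 hcomm hinv C hC
  refine H S hsa h1 hcomm ?_ C hC
  intro e z he hz C' hC'
  rw [← eich_eq_eichM, ← eich_eq_eichM]
  exact hinv e z he hz C' hC'

/-- S-lemma for `a = 4` (helper21 `OTSFour`) -/
theorem sLemma_four (hJ : OrthG J1) (h2 : (2 : F) ≠ 0) (ha : a = 4)
    (hU : ¬ ∃ u1 u2 : Fin a → F, Ts2 J1 u1 u2) : SLemma J1 :=
  sLemma_of_eichM fun S hsa h1 hcomm hinv =>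
    Cfsg.Agent.Lib.Helper21.OTSFour.s_lemma_four hJ h2 ha hU S hsa h1 hcomm hinv

/-! ## the glue -/

theorem inZM_eich (hS : SetupO J1 J2 Q) (hb : 5 ≤ b) (hM : Over Q M) (h : Ts2 J2 k1 k2)
    (ha : 3 ≤ a) (e z : Fin a → F) (he : bf J1 e e = 0) (hz : bf J1 e z = 0)
    {K1 C K2 : Matrix (Fin a) (Fin a) F} (hX : InZM J1 hS.h2 M h K1 C K2) :
    InZM J1 hS.h2 M h (eich J1 e z * K1 * eich J1 e (-z)) (eich J1 e z * C * eich J1 e (-z))
      (eich J1 e z * K2 * eich J1 e (-z)) := by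
  rw [eich_eq_SgN, eich_eq_SgN]
  exact ⟨Cfsg.Agent.Lib.Helper25.OTKone.siegel_skew hS.h1 hS.two e z he hz hX.1,
    Cfsg.Agent.Lib.Helper25.OTKone.siegel_skew hS.h1 hS.two e z he hz hX.2.1,
    Cfsg.Agent.Lib.Helper25.OTKone.gZ_siegel_mem hS hM e z he hz K1 C K2 k1 k2 h.h11 h.h12 h.h22 hX.2.2⟩

theorem bad_eich (hS : SetupO J1 J2 Q) (hb : 5 ≤ b) (hM : Over Q M) (h : Ts2 J2 k1 k2)
    (ha : 3 ≤ a) (e z : Fin a → F) (he : bf J1 e e = 0) (hz : bf J1 e z = 0)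
    {K1 C K2 : Matrix (Fin a) (Fin a) F} (hX : Bad J1 hS.h2 M h K1 C K2) :
    InZM J1 hS.h2 M h (K1 - eich J1 e z * K1 * eich J1 e (-z)) (C - eich J1 e z * C * eich J1 e (-z))
      (K2 - eich J1 e z * K2 * eich J1 e (-z)) := by
  rw [eich_eq_SgN, eich_eq_SgN]
  obtain ⟨g, hg, n, hnK, hnI, hgn⟩ := hX.ex
  refine ⟨?_, ?_, ?_⟩
  · rw [Cfsg.Agent.Lib.Helper8.OTRel.adj_sub', Cfsg.Agent.Lib.Helper25.OTKone.siegel_skew hS.h1 hS.two e z he hz hX.sk1,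
      hX.sk1]
    abel
  · rw [Cfsg.Agent.Lib.Helper8.OTRel.adj_sub', Cfsg.Agent.Lib.Helper25.OTKone.siegel_skew hS.h1 hS.two e z he hz hX.sk2,
      hX.sk2]
    abel
  · have hA := Cfsg.Agent.Lib.Helper9.OTX1.rhoW_mem_IsoG hS.h1 hS.two e z he hz
    have hc := Cfsg.Agent.Lib.Helper18.OTComm.comm_mem hS hM g n
      (Cfsg.Agent.Lib.Helper25.OTKone.Kone (b := b) (rhoW hS.h1 hS.two e z he hz)) hg hnK hnI
      (Cfsg.Agent.Lib.Helper25.OTKone.Kone_mem_kron _) (Cfsg.Agent.Lib.Helper25.OTKone.Kone_rhoW_mem_Om hS e z he hz)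
    rw [hgn, mul_assoc, mul_assoc, ← mul_assoc (Cfsg.Agent.Lib.Helper25.OTKone.Kone (b := b) _),
      Cfsg.Agent.Lib.Helper18.OTComm.gZ_inv,
      Cfsg.Agent.Lib.Helper25.OTKone.conj_Kone_gZ hS.h1 hS.h2 _ hA, Cfsg.Agent.Lib.Helper8.OTRel.gZ_mul,
      Cfsg.Agent.Lib.Helper25.OTKone.cj_neg, Cfsg.Agent.Lib.Helper25.OTKone.cj_neg, Cfsg.Agent.Lib.Helper25.OTKone.cj_neg,
      Cfsg.Agent.Lib.Helper25.OTKone.cj_rhoW, Cfsg.Agent.Lib.Helper25.OTKone.cj_rhoW, Cfsg.Agent.Lib.Helper25.OTKone.cj_rhoW,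
      ← sub_eq_add_neg, ← sub_eq_add_neg, ← sub_eq_add_neg] at hc
    exact hc

theorem glue (hS : SetupO J1 J2 Q) (ha : 3 ≤ a) (hb : 5 ≤ b) (hM : Over Q M) (h : Ts2 J2 k1 k2) : Glue hS M h where
  zero := Cfsg.Agent.Lib.Helper22.OTGlueA.inZM_zero hS hb hM h
  add := fun hX hY => Cfsg.Agent.Lib.Helper22.OTGlueA.inZM_add hS hb hM h hX hY
  neg := fun hX => Cfsg.Agent.Lib.Helper22.OTGlueA.inZM_neg hS hb hM h hX
  one := fun c => Cfsg.Agent.Lib.Helper22.OTGlueA.inZM_one hS hb hM h c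
  smul := fun c _ _ _ hX => Cfsg.Agent.Lib.Helper22.OTGlueA.inZM_smul hS hb hM h c hX
  shear := fun s _ _ _ hX => Cfsg.Agent.Lib.Helper22.OTGlueA.inZM_shear hS hb hM h s hX
  lshear := fun s _ _ _ hX => Cfsg.Agent.Lib.Helper22.OTGlueA.inZM_lshear hS hb hM h s hX
  econj := fun e z he hz _ _ _ hX => inZM_eich hS hb hM h ha e z he hz hX
  R2 := fun hC hD => Cfsg.Agent.Lib.Helper2.OTGlueB.inZM_R2 hS hb hM h hC hD
  R3 := fun hK hD => Cfsg.Agent.Lib.Helper2.OTGlueB.inZM_R3 hS hb hM h hK hD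
  bad_shear := fun s _ _ _ hX => Cfsg.Agent.Lib.Helper18.OTComm.bad_shear hS hb hM h s ⟨hX.sk1, hX.sk2, hX.ex⟩
  bad_lshear := fun s _ _ _ hX => Cfsg.Agent.Lib.Helper18.OTComm.bad_lshear hS hb hM h s ⟨hX.sk1, hX.sk2, hX.ex⟩
  bad_eich := fun e z he hz _ _ _ hX => bad_eich hS hb hM h ha e z he hz hX

/-! ## T3 -/

/-- **T3** for odd `a`, from the S-lemma -/
theorem t3_of_sLemma (hSl : SLemma J1) (hS : SetupO J1 J2 Q) (hao : Odd a) (ha : 3 ≤ a) (hb : 5 ≤ b)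
    (hM : Over Q M) (h : Ts2 J2 k1 k2) (hB : ¬ B0s J1 J2 M k1 k2) :
    Cfsg.Agent.Lib.Helper3.OTT.AllLong J2 Q M := by
  refine t3_core hS ha hb hM h (glue hS ha hb hM h) hSl (kSpread_of hS.h1 hS.two ha ?_) hB
  rintro ⟨h4, -⟩
  rw [h4] at hao
  exact absurd hao (by decide)

/-- **T3** for `a = 4`, `U` of minus type -/
theorem t3_four (hS : SetupO J1 J2 Q) (ha : a = 4) (hU : ¬ ∃ u1 u2 : Fin a → F, Ts2 J1 u1 u2) (hbo : Odd b) (hb : 5 ≤ b)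
    (hM : Over Q M) (h : Ts2 J2 k1 k2) (hB : ¬ B0s J1 J2 M k1 k2) :
    Cfsg.Agent.Lib.Helper3.OTT.AllLong J2 Q M := by
  have ha3 : 3 ≤ a := by omega
  exact t3_core hS ha3 hb hM h (glue hS ha3 hb hM h) (sLemma_four hS.h1 hS.two ha hU)
    (kSpread_of hS.h1 hS.two ha3 (fun hh => hU hh.2)) hB

end Cfsg.Agent.Lib.Helper12.OTT3
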