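import Mathlib
import Cfsg.Agent.Lib.Helper12.OTT3Glue
import Cfsg.Agent.Lib.Helper8.OTSEich

/-!
# OT EXIT, step T3 : `t3` (odd `a`)  (helper12)

`t3_of_sLemma` (`OTT3Glue`) with helper8's Eichler-invariance S-lemma `OTSEich.s_lemma_odd`.
`t3_four` (for `a = 4` of minus type) is in `OTT3Glue`.
-/

set_option autoImplicit false
set_option linter.unusedSectionVars false
set_option linter.unusedVariables false

namespace Cfsg.Agent.Lib.Helper12.OTT3

open Matrix Module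
open Cfsg.Agent.Lib.Helper16.Tens Cfsg.Agent.Lib.Helper10.TensFund
open Cfsg.Agent.Lib.Helper3.SpT (bf E adj uni Over)
open Cfsg.Agent.Lib.Helper13.TensSO (OrthG IsoG)
open Cfsg.Agent.Lib.Helper28.OT Cfsg.Agent.Lib.Helper28.OTX
open Cfsg.Agent.Lib.Helper12.OTExitBU (eich Wd)
open scoped Kronecker

variable {F : Type*} [Field F] [Fintype F] {a b : ℕ}
variable {J1 : Matrix (Fin a) (Fin a) F} {J2 : Matrix (Fin b) (Fin b) F}
variable {Q : QuadraticForm F (Fin a × Fin b → F)}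
variable {M : Subgroup (GL (Fin a × Fin b) F)}
variable {k1 k2 : Fin b → F}

/-- S-lemma for odd `a` (helper8 `OTSEich.s_lemma_odd`) -/
theorem sLemma_odd (hJ : OrthG J1) (h2 : (2 : F) ≠ 0) (hao : Odd a) (ha : 3 ≤ a)
    (hex : ¬ (Fintype.card F = 3 ∧ a = 3)) : SLemma J1 := by
  intro S hsa h1 hcomm hinv C hC
  refine Cfsg.Agent.Lib.Helper8.OTSEich.s_lemma_odd hJ h2 ha hao hex S hsa hcomm h1 ?_ C hC
  intro e z he hz C' hC'
  rw [← eich_eq_SgN, ← eich_eq_SgN]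
  exact hinv e z he hz C' hC'

/-- **T3** for odd `a` -/
theorem t3 (hS : SetupO J1 J2 Q) (hao : Odd a) (ha : 3 ≤ a) (hb : 5 ≤ b) (hex : ¬ (Fintype.card F = 3 ∧ a = 3))
    (hM : Over Q M) (h : Ts2 J2 k1 k2) (hB : ¬ B0s J1 J2 M k1 k2) :
    Cfsg.Agent.Lib.Helper3.OTT.AllLong J2 Q M :=
  t3_of_sLemma (sLemma_odd hS.h1 hS.two hao ha hex) hS hao ha hb hM h hB

end Cfsg.Agent.Lib.Helper12.OTT3
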