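import Mathlib

/-!
# Odd-order products of involutions in symmetric groups, part A

Basic tools: parity of orders, a pointwise criterion for odd order of a permutation,
the insertion lemma `L1` (multiplying by a 3-cycle through two fixed points keeps the order odd),
swap algebra and a transfer tool from `Perm (Fin m)`.
-/

set_option autoImplicit false
set_option linter.unusedSectionVars false
open Equiv

namespace Cfsg.Agent.Lib.Helper12.OddProd

section Order

theorem odd_orderOf_of_pow {G : Type*} [Monoid G] (g : G) (k : ℕ) (hk : Odd k) (h : g ^ k = 1) :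
    Odd (orderOf g) :=
  Odd.of_dvd_nat hk (orderOf_dvd_of_pow_eq_one h)

theorem orderOf_conj_eq {G : Type*} [Group G] (g h : G) : orderOf (g * h * g⁻¹) = orderOf h := by
  have := (MulAut.conj g).orderOf_eq h
  simpa [MulAut.conj_apply] using this

theorem odd_orderOf_mul_comm {G : Type*} [Group G] (a b : G) (h : Odd (orderOf (a * b))) :
    Odd (orderOf (b * a)) := by
  have e : b * a = b * (a * b) * b⁻¹ := by group
  rw [e, orderOf_conj_eq]; exact h

theorem comm_assoc {G : Type*} [Semigroup G] {s B : G} (h : s * B = B * s) (rest : G) :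
    s * (B * rest) = B * (s * rest) := by
  rw [← mul_assoc, h, mul_assoc]

end Order

variable {α : Type*} [DecidableEq α]

section Pointwise
variable [Fintype α]

theorem perm_pow_pow_apply_eq (g : Perm α) (a : α) (k m : ℕ) (h : (g ^ k) a = a) :
    ((g ^ k) ^ m) a = a := by
  induction m with
  | zero => simp
  | succ m ih => rw [pow_succ, Perm.mul_apply, h, ih]

/-- A permutation all of whose points have an odd period has odd order. -/
theorem odd_orderOf_of_forall (g : Perm α) (h : ∀ a, ∃ k, Odd k ∧ (g ^ k) a = a) :
    Odd (orderOf g) := by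
  choose k hk using h
  apply odd_orderOf_of_pow g (∏ a, k a)
  · exact Finset.prod_induction _ Odd (fun _ _ => Odd.mul) odd_one (fun a _ => (hk a).1)
  · ext a
    obtain ⟨m, hm⟩ := Finset.dvd_prod_of_mem k (Finset.mem_univ a)
    rw [hm, pow_mul, perm_pow_pow_apply_eq g a _ _ (hk a).2]
    rfl

theorem pow_apply_comm (g : Perm α) (j : ℕ) (u : α) : (g ^ j) (g u) = g ((g ^ j) u) := by
  rw [← Perm.mul_apply, ← Perm.mul_apply, ← pow_succ, ← pow_succ']

/-- Insertion lemma: if `z` fixes `p` and `q` and has odd order, then so has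
`z * (swap p q * swap q r)` (the 3-cycle `r → p → q → r` inserts `p, q` into the cycle of `r`). -/
theorem L1 (z : Perm α) {p q r : α} (hzp : z p = p) (hzq : z q = q) (hpq : p ≠ q)
    (hrp : r ≠ p) (hrq : r ≠ q) (hz : Odd (orderOf z)) :
    Odd (orderOf (z * (swap p q * swap q r))) := by
  obtain ⟨g, hg⟩ : ∃ g, g = z * (swap p q * swap q r) := ⟨_, rfl⟩
  rw [← hg]
  have gr : g r = p := by
    rw [hg, Perm.mul_apply, Perm.mul_apply, swap_apply_right, swap_apply_right, hzp]
  have gp : g p = q := by
    rw [hg, Perm.mul_apply, Perm.mul_apply, swap_apply_of_ne_of_ne hpq hrp.symm, swap_apply_left,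
      hzq]
  have gq : g q = z r := by
    rw [hg, Perm.mul_apply, Perm.mul_apply, swap_apply_left, swap_apply_of_ne_of_ne hrp hrq]
  have gu : ∀ u, u ≠ p → u ≠ q → u ≠ r → g u = z u := by
    intro u hup huq hur
    rw [hg, Perm.mul_apply, Perm.mul_apply, swap_apply_of_ne_of_ne huq hur,
      swap_apply_of_ne_of_ne hup huq]
  have zpow_p : ∀ i : ℕ, (z ^ i) p = p := by
    intro i
    induction i with
    | zero => simp
    | succ i ih => rw [pow_succ, Perm.mul_apply, hzp, ih]
  have zpow_q : ∀ i : ℕ, (z ^ i) q = q := by
    intro i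
    induction i with
    | zero => simp
    | succ i ih => rw [pow_succ, Perm.mul_apply, hzq, ih]
  have claim : ∀ u, u ≠ p → u ≠ q → ∀ i : ℕ, ∃ j : ℕ, j % 2 = i % 2 ∧ (g ^ j) u = (z ^ i) u := by
    intro u hup huq i
    induction i with
    | zero => exact ⟨0, rfl, rfl⟩
    | succ i ih =>
      obtain ⟨j, hj, hju⟩ := ih
      have hvp : (z ^ i) u ≠ p := by
        intro h
        exact hup ((z ^ i).injective (h.trans (zpow_p i).symm))
      have hvq : (z ^ i) u ≠ q := by
        intro h
        exact huq ((z ^ i).injective (h.trans (zpow_q i).symm))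
      by_cases hvr : (z ^ i) u = r
      · refine ⟨j + 3, by omega, ?_⟩
        have e3 : (g ^ (j + 3)) u = g (g (g ((g ^ j) u))) := by
          rw [show j + 3 = j + 1 + 1 + 1 from rfl, pow_succ', pow_succ', pow_succ']
          rfl
        rw [e3, hju, hvr, gr, gp, gq, pow_succ', Perm.mul_apply, hvr]
      · refine ⟨j + 1, by omega, ?_⟩
        rw [pow_succ', Perm.mul_apply, hju, gu _ hvp hvq hvr, pow_succ', Perm.mul_apply]
  have key : ∀ u, u ≠ p → u ≠ q → ∃ k, Odd k ∧ (g ^ k) u = u := by
    intro u hup huq
    obtain ⟨j, hj, hju⟩ := claim u hup huq (orderOf z)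
    refine ⟨j, ?_, ?_⟩
    · rw [Nat.odd_iff] at hz ⊢
      omega
    · rw [hju, pow_orderOf_eq_one]; rfl
  apply odd_orderOf_of_forall
  intro a
  by_cases hap : a = p
  · obtain ⟨k, hk, hkr⟩ := key r hrp hrq
    refine ⟨k, hk, ?_⟩
    rw [hap, ← gr, pow_apply_comm, hkr]
  · by_cases haq : a = q
    · obtain ⟨k, hk, hkr⟩ := key r hrp hrq
      refine ⟨k, hk, ?_⟩
      rw [haq, ← gp, ← gr, pow_apply_comm, pow_apply_comm, hkr]
    · exact key a hap haq

theorem L1_fix (z : Perm α) {p q r u : α} (hzu : z u = u) (hup : u ≠ p) (huq : u ≠ q)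
    (hur : u ≠ r) : (z * (swap p q * swap q r)) u = u := by
  rw [Perm.mul_apply, Perm.mul_apply, swap_apply_of_ne_of_ne huq hur,
    swap_apply_of_ne_of_ne hup huq, hzu]

end Pointwise

section SwapAlg

theorem comm_swap_of_fix (g : Perm α) {a b : α} (ha : g a = a) (hb : g b = b) :
    g * swap a b = swap a b * g := by
  rw [mul_swap_eq_swap_mul, ha, hb]

theorem comm_swap_of_swap (g : Perm α) {a b : α} (ha : g a = b) (hb : g b = a) :
    g * swap a b = swap a b * g := by
  rw [mul_swap_eq_swap_mul, ha, hb, swap_comm]

theorem apply_eq_of_sq (x : Perm α) (hx : x * x = 1) {a b : α} (h : x a = b) : x b = a := by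
  rw [← h, ← Perm.mul_apply, hx, Perm.one_apply]

theorem inv_eq_of_sq (x : Perm α) (hx : x * x = 1) : x⁻¹ = x :=
  inv_eq_of_mul_eq_one_left hx

theorem rem_apply_of_ne (x : Perm α) {a b u : α} (hua : u ≠ a) (hub : u ≠ b) :
    (x * swap a b) u = x u := by
  rw [Perm.mul_apply, swap_apply_of_ne_of_ne hua hub]

theorem rem_apply_left (x : Perm α) (hx : x * x = 1) {a b : α} (hxa : x a = b) :
    (x * swap a b) a = a := by
  rw [Perm.mul_apply, swap_apply_left, apply_eq_of_sq x hx hxa]

theorem rem_apply_right (x : Perm α) {a b : α} (hxa : x a = b) : (x * swap a b) b = b := by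
  rw [Perm.mul_apply, swap_apply_right, hxa]

theorem rem_sq (x : Perm α) (hx : x * x = 1) {a b : α} (hxa : x a = b) :
    (x * swap a b) * (x * swap a b) = 1 := by
  have hc := comm_swap_of_swap x hxa (apply_eq_of_sq x hx hxa)
  calc x * swap a b * (x * swap a b) = x * ((swap a b * x) * swap a b) := by
        simp only [mul_assoc]
    _ = x * ((x * swap a b) * swap a b) := by rw [hc]
    _ = (x * x) * (swap a b * swap a b) := by simp only [mul_assoc]
    _ = 1 := by rw [hx, swap_mul_self, mul_one]

theorem add_apply_left (x : Perm α) {f e : α} (he : x e = e) : (x * swap f e) f = e := by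
  rw [Perm.mul_apply, swap_apply_left, he]

theorem add_apply_right (x : Perm α) {f e : α} (hf : x f = f) : (x * swap f e) e = f := by
  rw [Perm.mul_apply, swap_apply_right, hf]

theorem add_sq (x : Perm α) (hx : x * x = 1) {f e : α} (hf : x f = f) (he : x e = e) :
    (x * swap f e) * (x * swap f e) = 1 := by
  have hc := comm_swap_of_fix x hf he
  calc x * swap f e * (x * swap f e) = x * ((swap f e * x) * swap f e) := by
        simp only [mul_assoc]
    _ = x * ((x * swap f e) * swap f e) := by rw [hc]
    _ = (x * x) * (swap f e * swap f e) := by simp only [mul_assoc]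
    _ = 1 := by rw [hx, swap_mul_self, mul_one]

/-- removing a 2-cycle: fixed points of the new permutation -/
theorem rem_fix (x : Perm α) (hx : x * x = 1) {a b u : α} (hxa : x a = b)
    (h : x u = u ∨ u = a ∨ u = b) : (x * swap a b) u = u := by
  by_cases hua : u = a
  · rw [hua]; exact rem_apply_left x hx hxa
  · by_cases hub : u = b
    · rw [hub]; exact rem_apply_right x hxa
    · rw [rem_apply_of_ne x hua hub]
      rcases h with h | h | h
      · exact h
      · exact absurd h hua
      · exact absurd h hub

variable [Fintype α]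

theorem rem_support (x : Perm α) (hx : x * x = 1) {a b : α} (hxa : x a = b) :
    (x * swap a b).support = x.support \ {a, b} := by
  ext u
  simp only [Perm.mem_support, Finset.mem_sdiff, Finset.mem_insert, Finset.mem_singleton, not_or]
  by_cases hua : u = a
  · subst hua
    simp [rem_apply_left x hx hxa]
  · by_cases hub : u = b
    · subst hub
      simp [rem_apply_right x hxa]
    · simp [rem_apply_of_ne x hua hub, hua, hub]

theorem rem_card (x : Perm α) (hx : x * x = 1) {a b : α} (hxa : x a = b) (hab : a ≠ b) :
    (x * swap a b).support.card + 2 = x.support.card := by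
  rw [rem_support x hx hxa]
  have hsub : ({a, b} : Finset α) ⊆ x.support := by
    intro u hu
    simp only [Finset.mem_insert, Finset.mem_singleton] at hu
    rw [Perm.mem_support]
    rcases hu with rfl | rfl
    · rw [hxa]; exact hab.symm
    · rw [apply_eq_of_sq x hx hxa]; exact hab
  have := Finset.card_sdiff_add_card_eq_card hsub
  rw [Finset.card_pair hab] at this
  exact this

theorem add_card (x : Perm α) (hx : x * x = 1) {f e : α} (hf : x f = f) (he : x e = e)
    (hfe : f ≠ e) : (x * swap f e).support.card = x.support.card + 2 := by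
  have h := rem_card (x * swap f e) (add_sq x hx hf he) (add_apply_left x he) hfe
  rw [mul_assoc, swap_mul_self, mul_one] at h
  exact h.symm

end SwapAlg

section Transfer
variable {m : ℕ}

/-- the embedding of `Perm (Fin m)` given by `m` distinct points -/
noncomputable def emb (v : Fin m → α) (hv : Function.Injective v) : Perm (Fin m) →* Perm α :=
  Perm.viaEmbeddingHom ⟨v, hv⟩

theorem emb_apply (v : Fin m → α) (hv : Function.Injective v) (e : Perm (Fin m)) (i : Fin m) :
    emb v hv e (v i) = v (e i) := by
  have := Perm.viaEmbedding_apply e ⟨v, hv⟩ i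
  simpa [emb, Perm.viaEmbeddingHom_apply] using this

theorem emb_apply_of_notMem (v : Fin m → α) (hv : Function.Injective v) (e : Perm (Fin m))
    (u : α) (hu : u ∉ Set.range v) : emb v hv e u = u := by
  have := Perm.viaEmbedding_apply_of_notMem e ⟨v, hv⟩ u (by simpa using hu)
  simpa [emb, Perm.viaEmbeddingHom_apply] using this

theorem emb_swap (v : Fin m → α) (hv : Function.Injective v) (i j : Fin m) :
    emb v hv (swap i j) = swap (v i) (v j) := by
  ext u
  by_cases hu : u ∈ Set.range v
  · obtain ⟨k, rfl⟩ := hu
    rw [emb_apply, hv.swap_apply]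
  · have h1 : u ≠ v i := fun h => hu ⟨i, h.symm⟩
    have h2 : u ≠ v j := fun h => hu ⟨j, h.symm⟩
    rw [swap_apply_of_ne_of_ne h1 h2, emb_apply_of_notMem v hv _ u hu]

theorem emb_eq (v : Fin m → α) (hv : Function.Injective v) (x : Perm α) (x0 : Perm (Fin m))
    (h1 : ∀ i, x (v i) = v (x0 i)) (h2 : ∀ u, u ∉ Set.range v → x u = u) :
    x = emb v hv x0 := by
  ext u
  by_cases hu : u ∈ Set.range v
  · obtain ⟨k, rfl⟩ := hu
    rw [emb_apply, h1]
  · rw [h2 u hu, emb_apply_of_notMem v hv _ u hu]

theorem emb_list (v : Fin m → α) (hv : Function.Injective v) (L : List (Fin m × Fin m)) :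
    emb v hv (L.map (fun p => swap p.1 p.2)).prod
      = (L.map (fun p => swap (v p.1) (v p.2))).prod := by
  induction L with
  | nil => simp
  | cons p L ih => simp [List.map_cons, List.prod_cons, map_mul, emb_swap, ih]

/-- identities between products of swaps transfer from `Fin m` to any `m` distinct points -/
theorem swap_ident (v : Fin m → α) (hv : Function.Injective v) (L R : List (Fin m × Fin m))
    (h : (L.map (fun p => swap p.1 p.2)).prod = (R.map (fun p => swap p.1 p.2)).prod) :
    (L.map (fun p => swap (v p.1) (v p.2))).prod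
      = (R.map (fun p => swap (v p.1) (v p.2))).prod := by
  rw [← emb_list v hv, ← emb_list v hv, h]

end Transfer

end Cfsg.Agent.Lib.Helper12.OddProd
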