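import Mathlib
import Cfsg.Agent.Lib.Helper12.OddProdA

/-!
# Odd-order products of involutions in symmetric groups, part B

The notion of a solution `Sol S x y` (an involution `w` supported in `S` with `x * w` and `w * y`
of odd order), the exceptional configuration, and the algebraic cores of the reduction moves.
-/

set_option autoImplicit false
set_option linter.unusedSectionVars false
set_option linter.unusedVariables false
set_option linter.unusedSimpArgs false
open Equiv

namespace Cfsg.Agent.Lib.Helper12.OddProd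

theorem G2 {G : Type*} [Group G] (A B s t : G) (h : s * B = B * s) :
    A * s * (B * t) = A * B * (s * t) := by
  rw [mul_assoc A s, comm_assoc h, ← mul_assoc A B]

variable {α : Type*} [DecidableEq α]

section Vec

theorem inj_vec5 {a0 a1 a2 a3 a4 : α} (h : [a0,a1,a2,a3,a4].Nodup) :
    Function.Injective ![a0,a1,a2,a3,a4] := by
  simp only [List.nodup_cons, List.mem_cons, List.not_mem_nil, not_or, or_false, List.nodup_nil,
    and_true, not_false_eq_true] at h
  intro i j hij
  fin_cases i <;> fin_cases j <;> simp_all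

theorem inj_vec6 {a0 a1 a2 a3 a4 a5 : α} (h : [a0,a1,a2,a3,a4,a5].Nodup) :
    Function.Injective ![a0,a1,a2,a3,a4,a5] := by
  simp only [List.nodup_cons, List.mem_cons, List.not_mem_nil, not_or, or_false, List.nodup_nil,
    and_true, not_false_eq_true] at h
  intro i j hij
  fin_cases i <;> fin_cases j <;> simp_all

theorem inj_vec8 {a0 a1 a2 a3 a4 a5 a6 a7 : α} (h : [a0,a1,a2,a3,a4,a5,a6,a7].Nodup) :
    Function.Injective ![a0,a1,a2,a3,a4,a5,a6,a7] := by
  simp only [List.nodup_cons, List.mem_cons, List.not_mem_nil, not_or, or_false, List.nodup_nil,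
    and_true, not_false_eq_true] at h
  intro i j hij
  fin_cases i <;> fin_cases j <;> simp_all

end Vec

variable [Fintype α]

/-- a solution: an involution `w` supported in `S` with `x * w` and `w * y` of odd order -/
def Sol (S : Finset α) (x y : Perm α) : Prop :=
  ∃ w : Perm α, w * w = 1 ∧ (∀ u, u ∉ S → w u = u) ∧ Odd (orderOf (x * w)) ∧
    Odd (orderOf (w * y))

/-- the pair `x, y` has an alternating 4-cycle -/
def HasC2 (x y : Perm α) : Prop :=
  ∃ a b c d : α, a ≠ b ∧ a ≠ c ∧ a ≠ d ∧ b ≠ c ∧ b ≠ d ∧ c ≠ d ∧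
    x a = b ∧ y b = c ∧ x c = d ∧ y d = a

/-- the exceptional configuration: `S` is a single alternating 4-cycle -/
def Exc (S : Finset α) (x y : Perm α) : Prop :=
  ∃ a b c d : α, a ≠ b ∧ a ≠ c ∧ a ≠ d ∧ b ≠ c ∧ b ≠ d ∧ c ≠ d ∧ S = {a, b, c, d} ∧
    x a = b ∧ y b = c ∧ x c = d ∧ y d = a

theorem Sol.symm {S : Finset α} {x y : Perm α} (hx : x * x = 1) (hy : y * y = 1)
    (h : Sol S x y) : Sol S y x := by
  obtain ⟨w, hw, hwS, h1, h2⟩ := h
  refine ⟨w, hw, hwS, ?_, ?_⟩
  · have e : y * w = (w * y)⁻¹ := by rw [mul_inv_rev, inv_eq_of_sq y hy, inv_eq_of_sq w hw]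
    rw [e, orderOf_inv]; exact h2
  · have e : w * x = (x * w)⁻¹ := by rw [mul_inv_rev, inv_eq_of_sq x hx, inv_eq_of_sq w hw]
    rw [e, orderOf_inv]; exact h1

theorem HasC2.symm {x y : Perm α} (h : HasC2 x y) : HasC2 y x := by
  obtain ⟨a, b, c, d, hab, hac, had, hbc, hbd, hcd, h1, h2, h3, h4⟩ := h
  exact ⟨b, c, d, a, hbc, hbd, hab.symm, hcd, hac.symm, had.symm, h2, h3, h4, h1⟩

theorem Exc.symm {S : Finset α} {x y : Perm α} (h : Exc S x y) : Exc S y x := by
  obtain ⟨a, b, c, d, hab, hac, had, hbc, hbd, hcd, hS, h1, h2, h3, h4⟩ := h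
  refine ⟨b, c, d, a, hbc, hbd, hab.symm, hcd, hac.symm, had.symm, ?_, h2, h3, h4, h1⟩
  rw [hS]
  ext u
  simp only [Finset.mem_insert, Finset.mem_singleton]
  tauto

theorem Exc.hasC2 {S : Finset α} {x y : Perm α} (h : Exc S x y) : HasC2 x y := by
  obtain ⟨a, b, c, d, hab, hac, had, hbc, hbd, hcd, hS, h1, h2, h3, h4⟩ := h
  exact ⟨a, b, c, d, hab, hac, had, hbc, hbd, hcd, h1, h2, h3, h4⟩

theorem Exc.hasC2_of_agree {T : Finset α} {x y x' y' : Perm α} (h : Exc T x' y')
    (hxx : ∀ u ∈ T, x' u = x u) (hyy : ∀ u ∈ T, y' u = y u) : HasC2 x y := by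
  obtain ⟨a, b, c, d, hab, hac, had, hbc, hbd, hcd, hS, h1, h2, h3, h4⟩ := h
  have ha : a ∈ T := by rw [hS]; simp
  have hb : b ∈ T := by rw [hS]; simp
  have hc : c ∈ T := by rw [hS]; simp
  have hd : d ∈ T := by rw [hS]; simp
  exact ⟨a, b, c, d, hab, hac, had, hbc, hbd, hcd, by rw [← hxx a ha, h1], by rw [← hyy b hb, h2],
    by rw [← hxx c hc, h3], by rw [← hyy d hd, h4]⟩

theorem Exc.y_moves {S : Finset α} {x y : Perm α} (hy : y * y = 1) (h : Exc S x y) :
    ∀ u ∈ S, y u ≠ u := by
  obtain ⟨a, b, c, d, hab, hac, had, hbc, hbd, hcd, hS, h1, h2, h3, h4⟩ := h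
  intro u hu
  rw [hS] at hu
  simp only [Finset.mem_insert, Finset.mem_singleton] at hu
  rcases hu with rfl | rfl | rfl | rfl
  · rw [apply_eq_of_sq y hy h4]; exact had.symm
  · rw [h2]; exact hbc.symm
  · rw [apply_eq_of_sq y hy h2]; exact hbc
  · rw [h4]; exact had

/-- re-base the exceptional 4-cycle at a given point `f` -/
theorem Exc.normalize {S : Finset α} {x y : Perm α} (hx : x * x = 1) (hy : y * y = 1)
    (h : Exc S x y) {f : α} (hf : f ∈ S) :
    ∃ g k : α, [f, y f, g, k].Nodup ∧ S = {f, y f, g, k} ∧ x f = g ∧ x (y f) = k ∧ y g = k := by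
  obtain ⟨a, b, c, d, hab, hac, had, hbc, hbd, hcd, hS, h1, h2, h3, h4⟩ := h
  have xb : x b = a := apply_eq_of_sq x hx h1
  have xd : x d = c := apply_eq_of_sq x hx h3
  have yc : y c = b := apply_eq_of_sq y hy h2
  have ya : y a = d := apply_eq_of_sq y hy h4
  rw [hS] at hf
  simp only [Finset.mem_insert, Finset.mem_singleton] at hf
  rcases hf with rfl | rfl | rfl | rfl
  · refine ⟨b, c, ?_, ?_, h1, by rw [ya, xd], h2⟩
    · rw [ya]; simp [hab, hac, had, hbc, hbd, hcd, Ne.symm hbd, Ne.symm hcd]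
    · rw [hS, ya]; ext u; simp only [Finset.mem_insert, Finset.mem_singleton]; tauto
  · refine ⟨a, d, ?_, ?_, xb, by rw [h2, h3], ya⟩
    · rw [h2]; simp [hab, hac, had, hbc, hbd, hcd, Ne.symm hab, Ne.symm hac]
    · rw [hS, h2]; ext u; simp only [Finset.mem_insert, Finset.mem_singleton]; tauto
  · refine ⟨d, a, ?_, ?_, h3, by rw [yc, xb], h4⟩
    · rw [yc]; simp [hab, hac, had, hbc, hbd, hcd, Ne.symm hbc, Ne.symm hac, Ne.symm hab,
        Ne.symm had]
    · rw [hS, yc]; ext u; simp only [Finset.mem_insert, Finset.mem_singleton]; tauto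
  · refine ⟨c, b, ?_, ?_, xd, by rw [h4, h1], yc⟩
    · rw [h4]; simp [hab, hac, had, hbc, hbd, hcd, Ne.symm had, Ne.symm hcd, Ne.symm hbd,
        Ne.symm hac, Ne.symm hab, Ne.symm hbc]
    · rw [hS, h4]; ext u; simp only [Finset.mem_insert, Finset.mem_singleton]; tauto

/-! ### algebraic cores of the moves -/

/-- chop the first two vertices `a, b` of a path `a -x- b -y- c` (`a` fixed by `y`) -/
theorem core_end (x x' y y' w' : Perm α) {a b c : α}
    (hx : x' * swap a b = x) (hy : y' * swap b c = y)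
    (hab : a ≠ b) (hca : c ≠ a) (hcb : c ≠ b)
    (hw : w' * w' = 1) (hwa : w' a = a) (hwb : w' b = b)
    (hya : y' a = a) (hyb : y' b = b)
    (h1 : Odd (orderOf (x' * w'))) (h2 : Odd (orderOf (w' * y'))) :
    (w' * swap a b) * (w' * swap a b) = 1 ∧ Odd (orderOf (x * (w' * swap a b))) ∧
      Odd (orderOf ((w' * swap a b) * y)) := by
  subst hx hy
  refine ⟨add_sq w' hw hwa hwb, ?_, ?_⟩
  · have hc : swap a b * w' = w' * swap a b := (comm_swap_of_fix w' hwa hwb).symm
    rw [G2 x' w' (swap a b) (swap a b) hc, swap_mul_self, mul_one]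
    exact h1
  · have hc : swap a b * y' = y' * swap a b := (comm_swap_of_fix y' hya hyb).symm
    rw [G2 w' y' (swap a b) (swap b c) hc]
    exact L1 (w' * y') (by rw [Perm.mul_apply, hya, hwa]) (by rw [Perm.mul_apply, hyb, hwb])
      hab hca hcb h2

/-- remove a common 2-cycle -/
theorem core_c1 (x x' y y' w' : Perm α) {a b : α}
    (hx : x' * swap a b = x) (hy : y' * swap a b = y)
    (hw : w' * w' = 1) (hwa : w' a = a) (hwb : w' b = b)
    (hya : y' a = a) (hyb : y' b = b)
    (h1 : Odd (orderOf (x' * w'))) (h2 : Odd (orderOf (w' * y'))) :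
    (w' * swap a b) * (w' * swap a b) = 1 ∧ Odd (orderOf (x * (w' * swap a b))) ∧
      Odd (orderOf ((w' * swap a b) * y)) := by
  subst hx hy
  refine ⟨add_sq w' hw hwa hwb, ?_, ?_⟩
  · have hc : swap a b * w' = w' * swap a b := (comm_swap_of_fix w' hwa hwb).symm
    rw [G2 x' w' (swap a b) (swap a b) hc, swap_mul_self, mul_one]
    exact h1
  · have hc : swap a b * y' = y' * swap a b := (comm_swap_of_fix y' hya hyb).symm
    rw [G2 w' y' (swap a b) (swap a b) hc, swap_mul_self, mul_one]
    exact h2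

/-- a lone `x`-edge `{a,b}` and a lone `y`-edge `{a',b'}` are joined by `w = swap a a'` -/
theorem core_pair (x x' y y' w' : Perm α) {a b a' b' : α}
    (hx : x' * swap a b = x) (hy : y' * swap a' b' = y)
    (hab : a ≠ b) (haa' : a ≠ a') (hba' : b ≠ a') (hab' : a ≠ b') (ha'b' : a' ≠ b')
    (hw : w' * w' = 1) (hwa : w' a = a) (hwb : w' b = b) (hwa' : w' a' = a')
    (hxa : x' a = a) (hxb : x' b = b) (hya : y' a = a) (hya' : y' a' = a')
    (h1 : Odd (orderOf (x' * w'))) (h2 : Odd (orderOf (w' * y'))) :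
    (w' * swap a a') * (w' * swap a a') = 1 ∧ Odd (orderOf (x * (w' * swap a a'))) ∧
      Odd (orderOf ((w' * swap a a') * y)) := by
  subst hx hy
  refine ⟨add_sq w' hw hwa hwa', ?_, ?_⟩
  · have hc : swap a b * w' = w' * swap a b := (comm_swap_of_fix w' hwa hwb).symm
    rw [G2 x' w' (swap a b) (swap a a') hc, swap_comm a b]
    exact L1 (x' * w') (by rw [Perm.mul_apply, hwb, hxb]) (by rw [Perm.mul_apply, hwa, hxa])
      hab.symm hba'.symm haa'.symm h1
  · have hc : swap a a' * y' = y' * swap a a' := (comm_swap_of_fix y' hya hya').symm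
    rw [G2 w' y' (swap a a') (swap a' b') hc]
    exact L1 (w' * y') (by rw [Perm.mul_apply, hya, hwa]) (by rw [Perm.mul_apply, hya', hwa'])
      haa' hab'.symm ha'b'.symm h2

/-- contract `f -y- a -x- b -y- c -x- d -y- e` to `f -y- e` -/
theorem core_r4 (x x' y y' w' : Perm α) {f a b c d e : α}
    (hx : x' * swap c d * swap a b = x)
    (hy : y' * swap f e * swap d e * swap b c * swap f a = y)
    (hnd : [f, a, b, c, d, e].Nodup)
    (hw : w' * w' = 1) (hwa : w' a = a) (hwb : w' b = b) (hwc : w' c = c) (hwd : w' d = d)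
    (hya : y' a = a) (hyb : y' b = b) (hyc : y' c = c) (hyd : y' d = d)
    (h1 : Odd (orderOf (x' * w'))) (h2 : Odd (orderOf (w' * y'))) :
    (w' * swap a b * swap c d) * (w' * swap a b * swap c d) = 1 ∧
      Odd (orderOf (x * (w' * swap a b * swap c d))) ∧
      Odd (orderOf ((w' * swap a b * swap c d) * y)) := by
  subst hx hy
  have hinj := inj_vec6 hnd
  simp only [List.nodup_cons, List.mem_cons, List.not_mem_nil, not_or, or_false, List.nodup_nil,
    and_true, not_false_eq_true] at hnd
  obtain ⟨⟨hfa, hfb, hfc, hfd, hfe⟩, ⟨hab, hac, had, hae⟩, ⟨hbc, hbd, hbe⟩, ⟨hcd, hce⟩, hde⟩ := hnd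
  have hc1 : swap a b * w' = w' * swap a b := (comm_swap_of_fix w' hwa hwb).symm
  have hc2 : swap c d * w' = w' * swap c d := (comm_swap_of_fix w' hwc hwd).symm
  have hd1 : swap a b * y' = y' * swap a b := (comm_swap_of_fix y' hya hyb).symm
  have hd2 : swap c d * y' = y' * swap c d := (comm_swap_of_fix y' hyc hyd).symm
  refine ⟨?_, ?_, ?_⟩
  · have hw1 : (w' * swap a b) * (w' * swap a b) = 1 := add_sq w' hw hwa hwb
    have hw1c : (w' * swap a b) c = c := by
      rw [rem_apply_of_ne w' (Ne.symm hac) (Ne.symm hbc)]; exact hwc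
    have hw1d : (w' * swap a b) d = d := by
      rw [rem_apply_of_ne w' (Ne.symm had) (Ne.symm hbd)]; exact hwd
    exact add_sq _ hw1 hw1c hw1d
  · have eq0 : x' * swap c d * swap a b * (w' * swap a b * swap c d) = x' * w' := by
      calc x' * swap c d * swap a b * (w' * swap a b * swap c d)
          = x' * (swap c d * (swap a b * (w' * (swap a b * swap c d)))) := by
            simp only [mul_assoc]
        _ = x' * (swap c d * (w' * (swap a b * (swap a b * swap c d)))) := by
            rw [comm_assoc hc1]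
        _ = x' * (swap c d * (w' * swap c d)) := by rw [swap_mul_self_mul]
        _ = x' * (w' * (swap c d * swap c d)) := by rw [comm_assoc hc2]
        _ = x' * w' := by rw [swap_mul_self, mul_one]
    rw [eq0]; exact h1
  · have id := swap_ident ![f, a, b, c, d, e] hinj
      [(1,2),(3,4),(0,5),(4,5),(2,3),(0,1)] [(2,4),(4,0),(3,1),(1,5)] (by decide)
    have id' : swap a b * (swap c d * (swap f e * (swap d e * (swap b c * swap f a)))) =
        swap b d * (swap d f * (swap c a * swap a e)) := by simpa using id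
    have eq1 : w' * swap a b * swap c d * (y' * swap f e * swap d e * swap b c * swap f a)
        = w' * y' * (swap b d * swap d f) * (swap c a * swap a e) := by
      calc w' * swap a b * swap c d * (y' * swap f e * swap d e * swap b c * swap f a)
          = w' * (swap a b * (swap c d * (y' * (swap f e * (swap d e * (swap b c * swap f a))))))
            := by simp only [mul_assoc]
        _ = w' * (swap a b * (y' * (swap c d * (swap f e * (swap d e * (swap b c * swap f a))))))
            := by rw [comm_assoc hd2]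
        _ = w' * (y' * (swap a b * (swap c d * (swap f e * (swap d e * (swap b c * swap f a))))))
            := by rw [comm_assoc hd1]
        _ = w' * (y' * (swap b d * (swap d f * (swap c a * swap a e)))) := by rw [id']
        _ = w' * y' * (swap b d * swap d f) * (swap c a * swap a e) := by simp only [mul_assoc]
    rw [eq1]
    have za : (w' * y') a = a := by rw [Perm.mul_apply, hya, hwa]
    have zb : (w' * y') b = b := by rw [Perm.mul_apply, hyb, hwb]
    have zc : (w' * y') c = c := by rw [Perm.mul_apply, hyc, hwc]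
    have zd : (w' * y') d = d := by rw [Perm.mul_apply, hyd, hwd]
    have s1 := L1 (w' * y') (p := b) (q := d) (r := f) zb zd hbd hfb hfd h2
    have z1c : (w' * y' * (swap b d * swap d f)) c = c :=
      L1_fix _ zc (Ne.symm hbc) hcd (Ne.symm hfc)
    have z1a : (w' * y' * (swap b d * swap d f)) a = a :=
      L1_fix _ za hab had (Ne.symm hfa)
    exact L1 _ (p := c) (q := a) (r := e) z1c z1a (Ne.symm hac) (Ne.symm hce) (Ne.symm hae) s1

end Cfsg.Agent.Lib.Helper12.OddProd
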