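import Mathlib
import Cfsg.Agent.Lib.Helper12.OddProdB

/-!
# Odd-order products of involutions in symmetric groups, part C

Absorbing an alternating 4-cycle into a solution of the rest (`core_x1`, `core_x2`),
and solutions read off from an explicit model on `Fin m` (`sol_of_model`).
-/

set_option autoImplicit false
set_option linter.unusedSectionVars false
set_option linter.unusedVariables false
set_option linter.unusedSimpArgs false
open Equiv

namespace Cfsg.Agent.Lib.Helper12.OddProd

variable {α : Type*} [DecidableEq α] [Fintype α]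

/-- absorb the 4-cycle `a -x- b -y- c -x- d -y- a` using a point `p` fixed by `w1` -/
theorem core_x1 (x x1 y y1 w1 : Perm α) {a b c d p : α}
    (hx : x1 * swap c d * swap a b = x) (hy : y1 * swap d a * swap b c = y)
    (hnd : [a, b, c, d, p].Nodup)
    (hw : w1 * w1 = 1) (hwa : w1 a = a) (hwb : w1 b = b) (hwc : w1 c = c) (hwd : w1 d = d)
    (hwp : w1 p = p)
    (hxc : x1 c = c) (hxd : x1 d = d)
    (hya : y1 a = a) (hyb : y1 b = b) (hyc : y1 c = c) (hyd : y1 d = d)
    (h1 : Odd (orderOf (x1 * w1))) (h2 : Odd (orderOf (w1 * y1))) :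
    (w1 * swap a b * swap c p) * (w1 * swap a b * swap c p) = 1 ∧
      Odd (orderOf (x * (w1 * swap a b * swap c p))) ∧
      Odd (orderOf ((w1 * swap a b * swap c p) * y)) := by
  subst hx hy
  have hinj := inj_vec5 hnd
  simp only [List.nodup_cons, List.mem_cons, List.not_mem_nil, not_or, or_false, List.nodup_nil,
    and_true, not_false_eq_true] at hnd
  obtain ⟨⟨hab, hac, had, hap⟩, ⟨hbc, hbd, hbp⟩, ⟨hcd, hcp⟩, hdp⟩ := hnd
  have hc_ab : swap a b * w1 = w1 * swap a b := (comm_swap_of_fix w1 hwa hwb).symm
  have hc_cd : swap c d * w1 = w1 * swap c d := (comm_swap_of_fix w1 hwc hwd).symm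
  have hc_cp : swap c p * w1 = w1 * swap c p := (comm_swap_of_fix w1 hwc hwp).symm
  refine ⟨?_, ?_, ?_⟩
  · have hw1 : (w1 * swap a b) * (w1 * swap a b) = 1 := add_sq w1 hw hwa hwb
    have hw1c : (w1 * swap a b) c = c := by
      rw [rem_apply_of_ne w1 (Ne.symm hac) (Ne.symm hbc)]; exact hwc
    have hw1p : (w1 * swap a b) p = p := by
      rw [rem_apply_of_ne w1 (Ne.symm hap) (Ne.symm hbp)]; exact hwp
    exact add_sq _ hw1 hw1c hw1p
  · have eq0 : x1 * swap c d * swap a b * (w1 * swap a b * swap c p)
        = x1 * w1 * (swap d c * swap c p) := by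
      calc x1 * swap c d * swap a b * (w1 * swap a b * swap c p)
          = x1 * (swap c d * (swap a b * (w1 * (swap a b * swap c p)))) := by
            simp only [mul_assoc]
        _ = x1 * (swap c d * (w1 * (swap a b * (swap a b * swap c p)))) := by
            rw [comm_assoc hc_ab]
        _ = x1 * (swap c d * (w1 * swap c p)) := by rw [swap_mul_self_mul]
        _ = x1 * (w1 * (swap c d * swap c p)) := by rw [comm_assoc hc_cd]
        _ = x1 * w1 * (swap d c * swap c p) := by rw [swap_comm c d, mul_assoc]
    rw [eq0]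
    exact L1 (x1 * w1) (p := d) (q := c) (r := p) (by rw [Perm.mul_apply, hwd, hxd])
      (by rw [Perm.mul_apply, hwc, hxc]) (Ne.symm hcd) (Ne.symm hdp) (Ne.symm hcp) h1
  · have ew : w1 * swap a b * swap c p = swap a b * swap c p * w1 := by
      calc w1 * swap a b * swap c p = swap a b * w1 * swap c p := by rw [← hc_ab]
        _ = swap a b * (w1 * swap c p) := mul_assoc _ _ _
        _ = swap a b * (swap c p * w1) := by rw [← hc_cp]
        _ = swap a b * swap c p * w1 := (mul_assoc _ _ _).symm
    have id := swap_ident ![a, b, c, d, p] hinj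
      [(3,0),(1,2),(0,1),(2,4)] [(1,3),(3,4),(0,2),(2,3)] (by decide)
    have id' : swap d a * (swap b c * (swap a b * swap c p)) =
        swap b d * (swap d p * (swap a c * swap c d)) := by simpa using id
    have eq1 : w1 * swap a b * swap c p * (y1 * swap d a * swap b c)
        = (swap a b * swap c p) * (w1 * y1 * (swap d a * swap b c)) := by
      rw [ew]; simp only [mul_assoc]
    have eq2 : w1 * y1 * (swap d a * swap b c) * (swap a b * swap c p)
        = w1 * y1 * (swap b d * swap d p) * (swap a c * swap c d) := by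
      calc w1 * y1 * (swap d a * swap b c) * (swap a b * swap c p)
          = w1 * (y1 * (swap d a * (swap b c * (swap a b * swap c p)))) := by
            simp only [mul_assoc]
        _ = w1 * (y1 * (swap b d * (swap d p * (swap a c * swap c d)))) := by rw [id']
        _ = w1 * y1 * (swap b d * swap d p) * (swap a c * swap c d) := by simp only [mul_assoc]
    rw [eq1]
    apply odd_orderOf_mul_comm
    rw [eq2]
    have za : (w1 * y1) a = a := by rw [Perm.mul_apply, hya, hwa]
    have zb : (w1 * y1) b = b := by rw [Perm.mul_apply, hyb, hwb]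
    have zc : (w1 * y1) c = c := by rw [Perm.mul_apply, hyc, hwc]
    have zd : (w1 * y1) d = d := by rw [Perm.mul_apply, hyd, hwd]
    have s1 := L1 (w1 * y1) (p := b) (q := d) (r := p) zb zd hbd (Ne.symm hbp) (Ne.symm hdp) h2
    have z1a : (w1 * y1 * (swap b d * swap d p)) a = a := L1_fix _ za hab had hap
    have z1c : (w1 * y1 * (swap b d * swap d p)) c = c := L1_fix _ zc (Ne.symm hbc) hcd hcp
    exact L1 _ (p := a) (q := c) (r := d) z1a z1c hac (Ne.symm had) (Ne.symm hcd) s1

/-- absorb the 4-cycle `a -x- b -y- c -x- d -y- a` using a 2-cycle `(p p')` of `w1` -/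
theorem core_x2 (x x1 y y1 w1 : Perm α) {p p' a b c d : α}
    (hx : x1 * swap c d * swap a b = x) (hy : y1 * swap d a * swap b c = y)
    (hnd : [p, p', a, b, c, d].Nodup)
    (hw : w1 * w1 = 1) (hwa : w1 a = a) (hwb : w1 b = b) (hwc : w1 c = c) (hwd : w1 d = d)
    (hwp : w1 p = p')
    (hxa : x1 a = a) (hxb : x1 b = b) (hxc : x1 c = c) (hxd : x1 d = d)
    (hya : y1 a = a) (hyb : y1 b = b) (hyc : y1 c = c) (hyd : y1 d = d)
    (h1 : Odd (orderOf (x1 * w1))) (h2 : Odd (orderOf (w1 * y1))) :
    (w1 * swap p p' * swap p a * swap b d * swap c p') *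
        (w1 * swap p p' * swap p a * swap b d * swap c p') = 1 ∧
      Odd (orderOf (x * (w1 * swap p p' * swap p a * swap b d * swap c p'))) ∧
      Odd (orderOf ((w1 * swap p p' * swap p a * swap b d * swap c p') * y)) := by
  subst hx hy
  have hinj := inj_vec6 hnd
  simp only [List.nodup_cons, List.mem_cons, List.not_mem_nil, not_or, or_false, List.nodup_nil,
    and_true, not_false_eq_true] at hnd
  obtain ⟨⟨hpp', hpa, hpb, hpc, hpd⟩, ⟨hp'a, hp'b, hp'c, hp'd⟩, ⟨hab, hac, had⟩, ⟨hbc, hbd⟩, hcd⟩
    := hnd
  have hwp' : w1 p' = p := apply_eq_of_sq w1 hw hwp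
  have hw2 : (w1 * swap p p') * (w1 * swap p p') = 1 := rem_sq w1 hw hwp
  have w2p : (w1 * swap p p') p = p := rem_apply_left w1 hw hwp
  have w2p' : (w1 * swap p p') p' = p' := rem_apply_right w1 hwp
  have w2a : (w1 * swap p p') a = a := by
    rw [rem_apply_of_ne w1 (Ne.symm hpa) (Ne.symm hp'a)]; exact hwa
  have w2b : (w1 * swap p p') b = b := by
    rw [rem_apply_of_ne w1 (Ne.symm hpb) (Ne.symm hp'b)]; exact hwb
  have w2c : (w1 * swap p p') c = c := by
    rw [rem_apply_of_ne w1 (Ne.symm hpc) (Ne.symm hp'c)]; exact hwc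
  have w2d : (w1 * swap p p') d = d := by
    rw [rem_apply_of_ne w1 (Ne.symm hpd) (Ne.symm hp'd)]; exact hwd
  have hc_ab : swap a b * w1 = w1 * swap a b := (comm_swap_of_fix w1 hwa hwb).symm
  have hc_cd : swap c d * w1 = w1 * swap c d := (comm_swap_of_fix w1 hwc hwd).symm
  refine ⟨?_, ?_, ?_⟩
  · have hw3 := add_sq _ hw2 w2p w2a
    have w3b : (w1 * swap p p' * swap p a) b = b := by
      rw [rem_apply_of_ne _ (Ne.symm hpb) (Ne.symm hab)]; exact w2b
    have w3d : (w1 * swap p p' * swap p a) d = d := by
      rw [rem_apply_of_ne _ (Ne.symm hpd) (Ne.symm had)]; exact w2d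
    have w3c : (w1 * swap p p' * swap p a) c = c := by
      rw [rem_apply_of_ne _ (Ne.symm hpc) (Ne.symm hac)]; exact w2c
    have w3p' : (w1 * swap p p' * swap p a) p' = p' := by
      rw [rem_apply_of_ne _ (Ne.symm hpp') hp'a]; exact w2p'
    have hw4 := add_sq _ hw3 w3b w3d
    have w4c : (w1 * swap p p' * swap p a * swap b d) c = c := by
      rw [rem_apply_of_ne _ (Ne.symm hbc) hcd]; exact w3c
    have w4p' : (w1 * swap p p' * swap p a * swap b d) p' = p' := by
      rw [rem_apply_of_ne _ hp'b hp'd]; exact w3p'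
    exact add_sq _ hw4 w4c w4p'
  · have id := swap_ident ![p, p', a, b, c, d] hinj
      [(4,5),(2,3),(0,1),(0,2),(3,5),(4,1)] [(3,4),(4,0),(5,2),(2,1)] (by decide)
    have id' : swap c d * (swap a b * (swap p p' * (swap p a * (swap b d * swap c p')))) =
        swap b c * (swap c p * (swap d a * swap a p')) := by simpa using id
    have eq0 : x1 * swap c d * swap a b * (w1 * swap p p' * swap p a * swap b d * swap c p')
        = x1 * w1 * (swap b c * swap c p) * (swap d a * swap a p') := by
      calc x1 * swap c d * swap a b * (w1 * swap p p' * swap p a * swap b d * swap c p')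
          = x1 * (swap c d * (swap a b * (w1 * (swap p p' * (swap p a *
              (swap b d * swap c p')))))) := by simp only [mul_assoc]
        _ = x1 * (swap c d * (w1 * (swap a b * (swap p p' * (swap p a *
              (swap b d * swap c p')))))) := by rw [comm_assoc hc_ab]
        _ = x1 * (w1 * (swap c d * (swap a b * (swap p p' * (swap p a *
              (swap b d * swap c p')))))) := by rw [comm_assoc hc_cd]
        _ = x1 * (w1 * (swap b c * (swap c p * (swap d a * swap a p')))) := by rw [id']
        _ = x1 * w1 * (swap b c * swap c p) * (swap d a * swap a p') := by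
            simp only [mul_assoc]
    rw [eq0]
    have za : (x1 * w1) a = a := by rw [Perm.mul_apply, hwa, hxa]
    have zb : (x1 * w1) b = b := by rw [Perm.mul_apply, hwb, hxb]
    have zc : (x1 * w1) c = c := by rw [Perm.mul_apply, hwc, hxc]
    have zd : (x1 * w1) d = d := by rw [Perm.mul_apply, hwd, hxd]
    have s1 := L1 (x1 * w1) (p := b) (q := c) (r := p) zb zc hbc hpb hpc h1
    have z1d : (x1 * w1 * (swap b c * swap c p)) d = d :=
      L1_fix _ zd (Ne.symm hbd) (Ne.symm hcd) (Ne.symm hpd)
    have z1a : (x1 * w1 * (swap b c * swap c p)) a = a :=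
      L1_fix _ za hab hac (Ne.symm hpa)
    exact L1 _ (p := d) (q := a) (r := p') z1d z1a (Ne.symm had) hp'd hp'a s1
  · have c1 : Commute (w1 * swap p p') (swap p a) := comm_swap_of_fix _ w2p w2a
    have c2 : Commute (w1 * swap p p') (swap b d) := comm_swap_of_fix _ w2b w2d
    have c3 : Commute (w1 * swap p p') (swap c p') := comm_swap_of_fix _ w2c w2p'
    have cQ : Commute (w1 * swap p p') (swap p a * swap b d * swap c p') :=
      (c1.mul_right c2).mul_right c3
    have e4 : w1 * swap p p' = swap p p' * w1 := comm_swap_of_swap w1 hwp hwp'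
    have ew : w1 * swap p p' * swap p a * swap b d * swap c p'
        = swap p a * swap b d * swap c p' * swap p p' * w1 := by
      calc w1 * swap p p' * swap p a * swap b d * swap c p'
          = (w1 * swap p p') * (swap p a * swap b d * swap c p') := by simp only [mul_assoc]
        _ = (swap p a * swap b d * swap c p') * (w1 * swap p p') := cQ.eq
        _ = (swap p a * swap b d * swap c p') * (swap p p' * w1) := by rw [e4]
        _ = swap p a * swap b d * swap c p' * swap p p' * w1 := by simp only [mul_assoc]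
    have id := swap_ident ![p, p', a, b, c, d] hinj
      [(5,2),(3,4),(0,2),(3,5),(4,1),(0,1)] [(3,2),(2,0),(5,4),(4,1)] (by decide)
    have id' : swap d a * (swap b c * (swap p a * (swap b d * (swap c p' * swap p p')))) =
        swap b a * (swap a p * (swap d c * swap c p')) := by simpa using id
    have eq1 : w1 * swap p p' * swap p a * swap b d * swap c p' * (y1 * swap d a * swap b c)
        = (swap p a * swap b d * swap c p' * swap p p') * (w1 * y1 * (swap d a * swap b c)) := by
      rw [ew]; simp only [mul_assoc]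
    have eq2 : w1 * y1 * (swap d a * swap b c) * (swap p a * swap b d * swap c p' * swap p p')
        = w1 * y1 * (swap b a * swap a p) * (swap d c * swap c p') := by
      calc w1 * y1 * (swap d a * swap b c) * (swap p a * swap b d * swap c p' * swap p p')
          = w1 * (y1 * (swap d a * (swap b c * (swap p a * (swap b d *
              (swap c p' * swap p p')))))) := by simp only [mul_assoc]
        _ = w1 * (y1 * (swap b a * (swap a p * (swap d c * swap c p')))) := by rw [id']
        _ = w1 * y1 * (swap b a * swap a p) * (swap d c * swap c p') := by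
            simp only [mul_assoc]
    rw [eq1]
    apply odd_orderOf_mul_comm
    rw [eq2]
    have za : (w1 * y1) a = a := by rw [Perm.mul_apply, hya, hwa]
    have zb : (w1 * y1) b = b := by rw [Perm.mul_apply, hyb, hwb]
    have zc : (w1 * y1) c = c := by rw [Perm.mul_apply, hyc, hwc]
    have zd : (w1 * y1) d = d := by rw [Perm.mul_apply, hyd, hwd]
    have s1 := L1 (w1 * y1) (p := b) (q := a) (r := p) zb za (Ne.symm hab) hpb hpa h2
    have z1d : (w1 * y1 * (swap b a * swap a p)) d = d :=
      L1_fix _ zd (Ne.symm hbd) (Ne.symm had) (Ne.symm hpd)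
    have z1c : (w1 * y1 * (swap b a * swap a p)) c = c :=
      L1_fix _ zc (Ne.symm hbc) (Ne.symm hac) (Ne.symm hpc)
    exact L1 _ (p := d) (q := c) (r := p') z1d z1c (Ne.symm hcd) hp'd hp'c s1

/-- a solution read off from an explicit model on `Fin m` -/
theorem sol_of_model {m : ℕ} (v : Fin m → α) (hv : Function.Injective v) (S : Finset α)
    (hvS : ∀ i, v i ∈ S) (x y : Perm α) (x0 y0 w0 : Perm (Fin m))
    (hx : ∀ i, x (v i) = v (x0 i)) (hx' : ∀ u, u ∉ Set.range v → x u = u)
    (hy : ∀ i, y (v i) = v (y0 i)) (hy' : ∀ u, u ∉ Set.range v → y u = u)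
    (hw0 : w0 * w0 = 1) (k1 k2 : ℕ) (hk1 : Odd k1) (hk2 : Odd k2)
    (h1 : (x0 * w0) ^ k1 = 1) (h2 : (w0 * y0) ^ k2 = 1) : Sol S x y := by
  have ex := emb_eq v hv x x0 hx hx'
  have ey := emb_eq v hv y y0 hy hy'
  refine ⟨emb v hv w0, ?_, ?_, ?_, ?_⟩
  · rw [← map_mul, hw0, map_one]
  · intro u hu
    apply emb_apply_of_notMem
    rintro ⟨i, rfl⟩
    exact hu (hvS i)
  · rw [ex, ← map_mul]
    apply odd_orderOf_of_pow _ k1 hk1
    rw [← map_pow, h1, map_one]
  · rw [ey, ← map_mul]
    apply odd_orderOf_of_pow _ k2 hk2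
    rw [← map_pow, h2, map_one]

end Cfsg.Agent.Lib.Helper12.OddProd
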