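import Mathlib
import Cfsg.Agent.Lib.Helper12.OddProdC

/-!
# Odd-order products of involutions in symmetric groups, part D

The reduction steps (each using the induction hypothesis on proper subsets of the active set).
-/

set_option autoImplicit false
set_option linter.unusedSectionVars false
set_option linter.unusedVariables false
set_option linter.unusedSimpArgs false
open Equiv

namespace Cfsg.Agent.Lib.Helper12.OddProd

variable {α : Type*} [DecidableEq α] [Fintype α]

/-- the induction hypothesis for the active set `S` -/
def IH (S : Finset α) : Prop :=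
  ∀ T : Finset α, T ⊂ S → ∀ x y : Perm α, x * x = 1 → y * y = 1 →
    (∀ u, u ∉ T → x u = u) → (∀ u, u ∉ T → y u = u) →
    x.support.card = y.support.card → Sol T x y ∨ Exc T x y

theorem mem_of_moved {S : Finset α} {x : Perm α} (hxS : ∀ u, u ∉ S → x u = u) {u : α}
    (h : x u ≠ u) : u ∈ S := by
  by_contra hu
  exact h (hxS u hu)

theorem step_end {S : Finset α} (ih : IH S) {x y : Perm α} (hx : x * x = 1) (hy : y * y = 1)
    (hxS : ∀ u, u ∉ S → x u = u) (hyS : ∀ u, u ∉ S → y u = u)
    (hcard : x.support.card = y.support.card) {a b c : α}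
    (hxa : x a = b) (hab : a ≠ b) (hya : y a = a) (hyb : y b = c) (hbc : b ≠ c) :
    Sol S x y := by
  have hxb : x b = a := apply_eq_of_sq x hx hxa
  have hyc : y c = b := apply_eq_of_sq y hy hyb
  have haS : a ∈ S := mem_of_moved hxS (by rw [hxa]; exact hab.symm)
  have hbS : b ∈ S := mem_of_moved hxS (by rw [hxb]; exact hab)
  have hcS : c ∈ S := mem_of_moved hyS (by rw [hyc]; exact hbc)
  have hca : c ≠ a := by
    intro h
    rw [h, hya] at hyc
    exact hab hyc
  have hsub : S \ {a, b} ⊂ S := by
    apply Finset.sdiff_ssubset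
    · intro u hu
      simp only [Finset.mem_insert, Finset.mem_singleton] at hu
      rcases hu with rfl | rfl <;> assumption
    · exact ⟨a, by simp⟩
  have hx' := rem_sq x hx hxa
  have hy' := rem_sq y hy hyb
  have hx'S : ∀ u, u ∉ S \ {a, b} → (x * swap a b) u = u := by
    intro u hu
    apply rem_fix x hx hxa
    by_cases huS : u ∈ S
    · right
      simp only [Finset.mem_sdiff, Finset.mem_insert, Finset.mem_singleton, not_and, not_not] at hu
      exact hu huS
    · left; exact hxS u huS
  have hy'S : ∀ u, u ∉ S \ {a, b} → (y * swap b c) u = u := by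
    intro u hu
    apply rem_fix y hy hyb
    by_cases huS : u ∈ S
    · simp only [Finset.mem_sdiff, Finset.mem_insert, Finset.mem_singleton, not_and, not_not] at hu
      rcases hu huS with rfl | rfl
      · left; exact hya
      · right; left; rfl
    · left; exact hyS u huS
  have hcard' : (x * swap a b).support.card = (y * swap b c).support.card := by
    have e1 := rem_card x hx hxa hab
    have e2 := rem_card y hy hyb hbc
    omega
  rcases ih _ hsub _ _ hx' hy' hx'S hy'S hcard' with hsol | hexc
  · obtain ⟨w', hw', hwS', h1, h2⟩ := hsol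
    have hwa : w' a = a := hwS' a (by simp)
    have hwb : w' b = b := hwS' b (by simp)
    have hy'a : (y * swap b c) a = a := by rw [rem_apply_of_ne y hab hca.symm]; exact hya
    have hy'b : (y * swap b c) b = b := rem_apply_left y hy hyb
    obtain ⟨e1, e2, e3⟩ := core_end x (x * swap a b) y (y * swap b c) w'
      (mul_swap_mul_self a b x) (mul_swap_mul_self b c y) hab hca hbc.symm hw' hwa hwb hy'a hy'b
      h1 h2
    refine ⟨w' * swap a b, e1, ?_, e2, e3⟩
    intro u hu
    have hua : u ≠ a := fun h => hu (h ▸ haS)
    have hub : u ≠ b := fun h => hu (h ▸ hbS)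
    rw [rem_apply_of_ne w' hua hub]
    exact hwS' u (by simp [hu])
  · exfalso
    have hcS' : c ∈ S \ {a, b} := by simp [hcS, hca, hbc.symm]
    exact hexc.y_moves hy' c hcS' (rem_apply_right y hyb)

theorem step_c1 {S : Finset α} (ih : IH S) {x y : Perm α} (hC2 : ¬ HasC2 x y)
    (hx : x * x = 1) (hy : y * y = 1)
    (hxS : ∀ u, u ∉ S → x u = u) (hyS : ∀ u, u ∉ S → y u = u)
    (hcard : x.support.card = y.support.card) {a b : α}
    (hxa : x a = b) (hab : a ≠ b) (hya : y a = b) : Sol S x y := by
  have hxb : x b = a := apply_eq_of_sq x hx hxa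
  have haS : a ∈ S := mem_of_moved hxS (by rw [hxa]; exact hab.symm)
  have hbS : b ∈ S := mem_of_moved hxS (by rw [hxb]; exact hab)
  have hsub : S \ {a, b} ⊂ S := by
    apply Finset.sdiff_ssubset
    · intro u hu
      simp only [Finset.mem_insert, Finset.mem_singleton] at hu
      rcases hu with rfl | rfl <;> assumption
    · exact ⟨a, by simp⟩
  have hx' := rem_sq x hx hxa
  have hy' := rem_sq y hy hya
  have hx'S : ∀ u, u ∉ S \ {a, b} → (x * swap a b) u = u := by
    intro u hu
    apply rem_fix x hx hxa
    by_cases huS : u ∈ S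
    · right
      simp only [Finset.mem_sdiff, Finset.mem_insert, Finset.mem_singleton, not_and, not_not] at hu
      exact hu huS
    · left; exact hxS u huS
  have hy'S : ∀ u, u ∉ S \ {a, b} → (y * swap a b) u = u := by
    intro u hu
    apply rem_fix y hy hya
    by_cases huS : u ∈ S
    · right
      simp only [Finset.mem_sdiff, Finset.mem_insert, Finset.mem_singleton, not_and, not_not] at hu
      exact hu huS
    · left; exact hyS u huS
  have hcard' : (x * swap a b).support.card = (y * swap a b).support.card := by
    have e1 := rem_card x hx hxa hab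
    have e2 := rem_card y hy hya hab
    omega
  rcases ih _ hsub _ _ hx' hy' hx'S hy'S hcard' with hsol | hexc
  · obtain ⟨w', hw', hwS', h1, h2⟩ := hsol
    have hwa : w' a = a := hwS' a (by simp)
    have hwb : w' b = b := hwS' b (by simp)
    obtain ⟨e1, e2, e3⟩ := core_c1 x (x * swap a b) y (y * swap a b) w'
      (mul_swap_mul_self a b x) (mul_swap_mul_self a b y) hw' hwa hwb
      (rem_apply_left y hy hya) (rem_apply_right y hya) h1 h2
    refine ⟨w' * swap a b, e1, ?_, e2, e3⟩
    intro u hu
    have hua : u ≠ a := fun h => hu (h ▸ haS)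
    have hub : u ≠ b := fun h => hu (h ▸ hbS)
    rw [rem_apply_of_ne w' hua hub]
    exact hwS' u (by simp [hu])
  · exfalso
    apply hC2
    apply hexc.hasC2_of_agree
    · intro u hu
      simp only [Finset.mem_sdiff, Finset.mem_insert, Finset.mem_singleton, not_or] at hu
      exact rem_apply_of_ne x hu.2.1 hu.2.2
    · intro u hu
      simp only [Finset.mem_sdiff, Finset.mem_insert, Finset.mem_singleton, not_or] at hu
      exact rem_apply_of_ne y hu.2.1 hu.2.2

theorem step_pair {S : Finset α} (ih : IH S) {x y : Perm α} (hC2 : ¬ HasC2 x y)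
    (hx : x * x = 1) (hy : y * y = 1)
    (hxS : ∀ u, u ∉ S → x u = u) (hyS : ∀ u, u ∉ S → y u = u)
    (hcard : x.support.card = y.support.card) {a b a' b' : α}
    (hxa : x a = b) (hab : a ≠ b) (hya : y a = a) (hyb : y b = b)
    (hya' : y a' = b') (ha'b' : a' ≠ b') (hxa' : x a' = a') (hxb' : x b' = b') :
    Sol S x y := by
  have hxb : x b = a := apply_eq_of_sq x hx hxa
  have hyb' : y b' = a' := apply_eq_of_sq y hy hya'
  have haa' : a ≠ a' := by
    rintro rfl; exact ha'b' (hya.symm.trans hya')
  have hba' : b ≠ a' := by
    rintro rfl; exact ha'b' (hyb.symm.trans hya')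
  have hab' : a ≠ b' := by
    rintro rfl; exact ha'b' (hyb'.symm.trans hya)
  have hbb' : b ≠ b' := by
    rintro rfl; exact ha'b' (hyb'.symm.trans hyb)
  have haS : a ∈ S := mem_of_moved hxS (by rw [hxa]; exact hab.symm)
  have hbS : b ∈ S := mem_of_moved hxS (by rw [hxb]; exact hab)
  have ha'S : a' ∈ S := mem_of_moved hyS (by rw [hya']; exact ha'b'.symm)
  have hb'S : b' ∈ S := mem_of_moved hyS (by rw [hyb']; exact ha'b')
  have hsub : S \ {a, b, a', b'} ⊂ S := by
    apply Finset.sdiff_ssubset
    · intro u hu
      simp only [Finset.mem_insert, Finset.mem_singleton] at hu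
      rcases hu with rfl | rfl | rfl | rfl <;> assumption
    · exact ⟨a, by simp⟩
  have hx' := rem_sq x hx hxa
  have hy' := rem_sq y hy hya'
  have hx'S : ∀ u, u ∉ S \ {a, b, a', b'} → (x * swap a b) u = u := by
    intro u hu
    apply rem_fix x hx hxa
    by_cases huS : u ∈ S
    · simp only [Finset.mem_sdiff, Finset.mem_insert, Finset.mem_singleton, not_and, not_not] at hu
      rcases hu huS with rfl | rfl | rfl | rfl
      · right; left; rfl
      · right; right; rfl
      · left; exact hxa'
      · left; exact hxb'
    · left; exact hxS u huS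
  have hy'S : ∀ u, u ∉ S \ {a, b, a', b'} → (y * swap a' b') u = u := by
    intro u hu
    apply rem_fix y hy hya'
    by_cases huS : u ∈ S
    · simp only [Finset.mem_sdiff, Finset.mem_insert, Finset.mem_singleton, not_and, not_not] at hu
      rcases hu huS with rfl | rfl | rfl | rfl
      · left; exact hya
      · left; exact hyb
      · right; left; rfl
      · right; right; rfl
    · left; exact hyS u huS
  have hcard' : (x * swap a b).support.card = (y * swap a' b').support.card := by
    have e1 := rem_card x hx hxa hab
    have e2 := rem_card y hy hya' ha'b'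
    omega
  rcases ih _ hsub _ _ hx' hy' hx'S hy'S hcard' with hsol | hexc
  · obtain ⟨w', hw', hwS', h1, h2⟩ := hsol
    have hwa : w' a = a := hwS' a (by simp)
    have hwb : w' b = b := hwS' b (by simp)
    have hwa' : w' a' = a' := hwS' a' (by simp)
    have hx'a : (x * swap a b) a = a := rem_apply_left x hx hxa
    have hx'b : (x * swap a b) b = b := rem_apply_right x hxa
    have hy'a : (y * swap a' b') a = a := by rw [rem_apply_of_ne y haa' hab']; exact hya
    have hy'a' : (y * swap a' b') a' = a' := rem_apply_left y hy hya'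
    obtain ⟨e1, e2, e3⟩ := core_pair x (x * swap a b) y (y * swap a' b') w'
      (mul_swap_mul_self a b x) (mul_swap_mul_self a' b' y) hab haa' hba' hab' ha'b'
      hw' hwa hwb hwa' hx'a hx'b hy'a hy'a' h1 h2
    refine ⟨w' * swap a a', e1, ?_, e2, e3⟩
    intro u hu
    have hua : u ≠ a := fun h => hu (h ▸ haS)
    have hua' : u ≠ a' := fun h => hu (h ▸ ha'S)
    rw [rem_apply_of_ne w' hua hua']
    exact hwS' u (by simp [hu])
  · exfalso
    apply hC2
    apply hexc.hasC2_of_agree
    · intro u hu
      simp only [Finset.mem_sdiff, Finset.mem_insert, Finset.mem_singleton, not_or] at hu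
      exact rem_apply_of_ne x hu.2.1 hu.2.2.1
    · intro u hu
      simp only [Finset.mem_sdiff, Finset.mem_insert, Finset.mem_singleton, not_or] at hu
      exact rem_apply_of_ne y hu.2.2.2.1 hu.2.2.2.2

end Cfsg.Agent.Lib.Helper12.OddProd
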