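import Mathlib
import Cfsg.Agent.Lib.Helper12.OddProdD

/-!
# Odd-order products of involutions in symmetric groups, part E

The cycle contraction step, the 4-cycle absorption step, and the main induction.
-/

set_option autoImplicit false
set_option linter.unusedSectionVars false
set_option linter.unusedVariables false
set_option linter.unusedSimpArgs false
set_option maxRecDepth 100000
open Equiv

namespace Cfsg.Agent.Lib.Helper12.OddProd

variable {α : Type*} [DecidableEq α] [Fintype α]

theorem model_apply8 (x : Perm α) (x0 : Perm (Fin 8)) (t : Fin 8 → Fin 8)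
    (ht : ∀ i, x0 i = t i) (v : Fin 8 → α) (h : ∀ i, x (v i) = v (t i)) :
    ∀ i, x (v i) = v (x0 i) := fun i => by rw [ht]; exact h i

theorem step_r4 {S : Finset α} (ih : IH S) {x y : Perm α}
    (hx : x * x = 1) (hy : y * y = 1)
    (hxS : ∀ u, u ∉ S → x u = u) (hyS : ∀ u, u ∉ S → y u = u)
    (hcard : x.support.card = y.support.card) {f a b c d e : α}
    (hnd : [f, a, b, c, d, e].Nodup)
    (hyf : y f = a) (hxa : x a = b) (hyb : y b = c) (hxc : x c = d) (hyd : y d = e) :
    Sol S x y := by
  have hnd' := hnd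
  simp only [List.nodup_cons, List.mem_cons, List.not_mem_nil, not_or, or_false, List.nodup_nil,
    and_true, not_false_eq_true] at hnd'
  obtain ⟨⟨hfa, hfb, hfc, hfd, hfe⟩, ⟨hab, hac, had, hae⟩, ⟨hbc, hbd, hbe⟩, ⟨hcd, hce⟩, hde⟩ :=
    hnd'
  have hxb : x b = a := apply_eq_of_sq x hx hxa
  have hxd : x d = c := apply_eq_of_sq x hx hxc
  have hya : y a = f := apply_eq_of_sq y hy hyf
  have hyc : y c = b := apply_eq_of_sq y hy hyb
  have hye : y e = d := apply_eq_of_sq y hy hyd
  have haS : a ∈ S := mem_of_moved hxS (by rw [hxa]; exact Ne.symm hab)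
  have hbS : b ∈ S := mem_of_moved hxS (by rw [hxb]; exact hab)
  have hcS : c ∈ S := mem_of_moved hxS (by rw [hxc]; exact Ne.symm hcd)
  have hdS : d ∈ S := mem_of_moved hxS (by rw [hxd]; exact hcd)
  have hfS : f ∈ S := mem_of_moved hyS (by rw [hyf]; exact Ne.symm hfa)
  have heS : e ∈ S := mem_of_moved hyS (by rw [hye]; exact hde)
  -- the x side
  have hx0 : (x * swap a b) * (x * swap a b) = 1 := rem_sq x hx hxa
  have hx0c : (x * swap a b) c = d := by
    rw [rem_apply_of_ne x (Ne.symm hac) (Ne.symm hbc)]; exact hxc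
  have hx1 : (x * swap a b * swap c d) * (x * swap a b * swap c d) = 1 := rem_sq _ hx0 hx0c
  have x1a : (x * swap a b * swap c d) a = a :=
    rem_fix _ hx0 hx0c (Or.inl (rem_apply_left x hx hxa))
  have x1b : (x * swap a b * swap c d) b = b :=
    rem_fix _ hx0 hx0c (Or.inl (rem_apply_right x hxa))
  have x1c : (x * swap a b * swap c d) c = c := rem_apply_left _ hx0 hx0c
  have x1d : (x * swap a b * swap c d) d = d := rem_apply_right _ hx0c
  have x1u : ∀ u, u ≠ a → u ≠ b → u ≠ c → u ≠ d → (x * swap a b * swap c d) u = x u := by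
    intro u h1 h2 h3 h4
    rw [rem_apply_of_ne _ h3 h4, rem_apply_of_ne _ h1 h2]
  -- the y side
  have hy0 : (y * swap f a) * (y * swap f a) = 1 := rem_sq y hy hyf
  have y0f : (y * swap f a) f = f := rem_apply_left y hy hyf
  have y0a : (y * swap f a) a = a := rem_apply_right y hyf
  have y0b : (y * swap f a) b = c := by
    rw [rem_apply_of_ne y (Ne.symm hfb) (Ne.symm hab)]; exact hyb
  have hy1 : (y * swap f a * swap b c) * (y * swap f a * swap b c) = 1 := rem_sq _ hy0 y0b
  have y1f : (y * swap f a * swap b c) f = f := rem_fix _ hy0 y0b (Or.inl y0f)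
  have y1a : (y * swap f a * swap b c) a = a := rem_fix _ hy0 y0b (Or.inl y0a)
  have y1b : (y * swap f a * swap b c) b = b := rem_apply_left _ hy0 y0b
  have y1c : (y * swap f a * swap b c) c = c := rem_apply_right _ y0b
  have y1d : (y * swap f a * swap b c) d = e := by
    rw [rem_apply_of_ne _ (Ne.symm hbd) (Ne.symm hcd),
      rem_apply_of_ne y (Ne.symm hfd) (Ne.symm had)]
    exact hyd
  have hy2 : (y * swap f a * swap b c * swap d e) * (y * swap f a * swap b c * swap d e) = 1 :=
    rem_sq _ hy1 y1d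
  have y2f : (y * swap f a * swap b c * swap d e) f = f := rem_fix _ hy1 y1d (Or.inl y1f)
  have y2a : (y * swap f a * swap b c * swap d e) a = a := rem_fix _ hy1 y1d (Or.inl y1a)
  have y2b : (y * swap f a * swap b c * swap d e) b = b := rem_fix _ hy1 y1d (Or.inl y1b)
  have y2c : (y * swap f a * swap b c * swap d e) c = c := rem_fix _ hy1 y1d (Or.inl y1c)
  have y2d : (y * swap f a * swap b c * swap d e) d = d := rem_apply_left _ hy1 y1d
  have y2e : (y * swap f a * swap b c * swap d e) e = e := rem_apply_right _ y1d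
  have hy3 : (y * swap f a * swap b c * swap d e * swap f e) *
      (y * swap f a * swap b c * swap d e * swap f e) = 1 := add_sq _ hy2 y2f y2e
  have y3a : (y * swap f a * swap b c * swap d e * swap f e) a = a := by
    rw [rem_apply_of_ne _ (Ne.symm hfa) hae]; exact y2a
  have y3b : (y * swap f a * swap b c * swap d e * swap f e) b = b := by
    rw [rem_apply_of_ne _ (Ne.symm hfb) hbe]; exact y2b
  have y3c : (y * swap f a * swap b c * swap d e * swap f e) c = c := by
    rw [rem_apply_of_ne _ (Ne.symm hfc) hce]; exact y2c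
  have y3d : (y * swap f a * swap b c * swap d e * swap f e) d = d := by
    rw [rem_apply_of_ne _ (Ne.symm hfd) hde]; exact y2d
  have y3f : (y * swap f a * swap b c * swap d e * swap f e) f = e := add_apply_left _ y2e
  have y3u : ∀ u, u ≠ f → u ≠ a → u ≠ b → u ≠ c → u ≠ d → u ≠ e →
      (y * swap f a * swap b c * swap d e * swap f e) u = y u := by
    intro u h1 h2 h3 h4 h5 h6
    rw [rem_apply_of_ne _ h1 h6, rem_apply_of_ne _ h5 h6, rem_apply_of_ne _ h3 h4,
      rem_apply_of_ne _ h1 h2]
  have hsub : S \ {a, b, c, d} ⊂ S := by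
    apply Finset.sdiff_ssubset
    · intro u hu
      simp only [Finset.mem_insert, Finset.mem_singleton] at hu
      rcases hu with rfl | rfl | rfl | rfl <;> assumption
    · exact ⟨a, by simp⟩
  have hx'S : ∀ u, u ∉ S \ {a, b, c, d} → (x * swap a b * swap c d) u = u := by
    intro u hu
    by_cases huS : u ∈ S
    · simp only [Finset.mem_sdiff, Finset.mem_insert, Finset.mem_singleton, not_and, not_not] at hu
      rcases hu huS with rfl | rfl | rfl | rfl
      · exact x1a
      · exact x1b
      · exact x1c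
      · exact x1d
    · rw [x1u u (fun h => huS (h ▸ haS)) (fun h => huS (h ▸ hbS)) (fun h => huS (h ▸ hcS))
        (fun h => huS (h ▸ hdS))]
      exact hxS u huS
  have hy'S : ∀ u, u ∉ S \ {a, b, c, d} →
      (y * swap f a * swap b c * swap d e * swap f e) u = u := by
    intro u hu
    by_cases huS : u ∈ S
    · simp only [Finset.mem_sdiff, Finset.mem_insert, Finset.mem_singleton, not_and, not_not] at hu
      rcases hu huS with rfl | rfl | rfl | rfl
      · exact y3a
      · exact y3b
      · exact y3c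
      · exact y3d
    · rw [y3u u (fun h => huS (h ▸ hfS)) (fun h => huS (h ▸ haS)) (fun h => huS (h ▸ hbS))
        (fun h => huS (h ▸ hcS)) (fun h => huS (h ▸ hdS)) (fun h => huS (h ▸ heS))]
      exact hyS u huS
  have hcard' : (x * swap a b * swap c d).support.card =
      (y * swap f a * swap b c * swap d e * swap f e).support.card := by
    have e1 := rem_card x hx hxa hab
    have e2 := rem_card _ hx0 hx0c hcd
    have f1 := rem_card y hy hyf hfa
    have f2 := rem_card _ hy0 y0b hbc
    have f3 := rem_card _ hy1 y1d hde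
    have f4 := add_card _ hy2 y2f y2e hfe
    omega
  have hxeq : x * swap a b * swap c d * swap c d * swap a b = x := by
    rw [mul_swap_mul_self, mul_swap_mul_self]
  have hyeq : y * swap f a * swap b c * swap d e * swap f e * swap f e * swap d e * swap b c *
      swap f a = y := by
    rw [mul_swap_mul_self, mul_swap_mul_self, mul_swap_mul_self, mul_swap_mul_self]
  rcases ih _ hsub _ _ hx1 hy3 hx'S hy'S hcard' with hsol | hexc
  · obtain ⟨w', hw', hwS', h1, h2⟩ := hsol
    have hwa : w' a = a := hwS' a (by simp)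
    have hwb : w' b = b := hwS' b (by simp)
    have hwc : w' c = c := hwS' c (by simp)
    have hwd : w' d = d := hwS' d (by simp)
    obtain ⟨e1, e2, e3⟩ := core_r4 x _ y _ w' hxeq hyeq hnd hw' hwa hwb hwc hwd y3a y3b y3c y3d
      h1 h2
    refine ⟨w' * swap a b * swap c d, e1, ?_, e2, e3⟩
    intro u hu
    have hua : u ≠ a := fun h => hu (h ▸ haS)
    have hub : u ≠ b := fun h => hu (h ▸ hbS)
    have huc : u ≠ c := fun h => hu (h ▸ hcS)
    have hud : u ≠ d := fun h => hu (h ▸ hdS)
    rw [rem_apply_of_ne _ huc hud, rem_apply_of_ne _ hua hub]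
    exact hwS' u (by simp [hu])
  · -- the remainder is a single 4-cycle: the configuration is an 8-cycle
    have hfS' : f ∈ S \ {a, b, c, d} := by
      simp only [Finset.mem_sdiff, Finset.mem_insert, Finset.mem_singleton, not_or]
      exact ⟨hfS, hfa, hfb, hfc, hfd⟩
    obtain ⟨g, k, hnd2, hS', hxf, hxe, hyg⟩ := hexc.normalize hx1 hy3 hfS'
    rw [y3f] at hnd2 hS' hxe
    simp only [List.nodup_cons, List.mem_cons, List.not_mem_nil, not_or, or_false, List.nodup_nil,
      and_true, not_false_eq_true] at hnd2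
    obtain ⟨⟨_, hfg, hfk⟩, ⟨heg, hek⟩, hgk⟩ := hnd2
    have hgS' : g ∈ S \ {a, b, c, d} := by rw [hS']; simp
    have hkS' : k ∈ S \ {a, b, c, d} := by rw [hS']; simp
    simp only [Finset.mem_sdiff, Finset.mem_insert, Finset.mem_singleton, not_or] at hgS' hkS'
    obtain ⟨hgS, hga, hgb, hgc, hgd⟩ := hgS'
    obtain ⟨hkS, hka, hkb, hkc, hkd⟩ := hkS'
    have xf : x f = g := by rw [← x1u f hfa hfb hfc hfd]; exact hxf
    have xe : x e = k := by
      rw [← x1u e (Ne.symm hae) (Ne.symm hbe) (Ne.symm hce) (Ne.symm hde)]; exact hxe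
    have yg : y g = k := by
      rw [← y3u g (Ne.symm hfg) hga hgb hgc hgd (Ne.symm heg)]; exact hyg
    have xg : x g = f := apply_eq_of_sq x hx xf
    have xk : x k = e := apply_eq_of_sq x hx xe
    have yk : y k = g := apply_eq_of_sq y hy yg
    have hnd8 : [a, b, c, d, e, k, g, f].Nodup := by
      simp only [List.nodup_cons, List.mem_cons, List.not_mem_nil, not_or, or_false,
        List.nodup_nil, and_true, not_false_eq_true]
      exact ⟨⟨hab, hac, had, hae, Ne.symm hka, Ne.symm hga, Ne.symm hfa⟩,
        ⟨hbc, hbd, hbe, Ne.symm hkb, Ne.symm hgb, Ne.symm hfb⟩,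
        ⟨hcd, hce, Ne.symm hkc, Ne.symm hgc, Ne.symm hfc⟩,
        ⟨hde, Ne.symm hkd, Ne.symm hgd, Ne.symm hfd⟩,
        ⟨hek, heg, Ne.symm hfe⟩, ⟨Ne.symm hgk, Ne.symm hfk⟩, Ne.symm hfg⟩
    have hv := inj_vec8 hnd8
    have hrange : ∀ u, u ∈ S → u ∈ Set.range ![a, b, c, d, e, k, g, f] := by
      intro u hu
      by_cases hu4 : u ∈ ({a, b, c, d} : Finset α)
      · simp only [Finset.mem_insert, Finset.mem_singleton] at hu4
        rcases hu4 with rfl | rfl | rfl | rfl
        · exact ⟨0, rfl⟩
        · exact ⟨1, rfl⟩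
        · exact ⟨2, rfl⟩
        · exact ⟨3, rfl⟩
      · have : u ∈ S \ {a, b, c, d} := Finset.mem_sdiff.mpr ⟨hu, hu4⟩
        rw [hS'] at this
        simp only [Finset.mem_insert, Finset.mem_singleton] at this
        rcases this with rfl | rfl | rfl | rfl
        · exact ⟨7, rfl⟩
        · exact ⟨4, rfl⟩
        · exact ⟨6, rfl⟩
        · exact ⟨5, rfl⟩
    refine sol_of_model ![a, b, c, d, e, k, g, f] hv S ?_ x y
      (swap 0 1 * swap 2 3 * swap 4 5 * swap 6 7) (swap 1 2 * swap 3 4 * swap 5 6 * swap 7 0)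
      (swap 0 1 * swap 3 4 * swap 2 6 * swap 5 7) ?_ ?_ ?_ ?_ (by decide) 3 3 (by decide)
      (by decide) (by decide) (by decide)
    · intro i
      fin_cases i <;> simp <;> assumption
    · apply model_apply8 x _ ![1, 0, 3, 2, 5, 4, 7, 6] (by decide)
      intro i
      fin_cases i <;> simp <;> assumption
    · intro u hu
      exact hxS u (fun h => hu (hrange u h))
    · apply model_apply8 y _ ![7, 2, 1, 4, 3, 6, 5, 0] (by decide)
      intro i
      fin_cases i <;> simp <;> assumption
    · intro u hu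
      exact hyS u (fun h => hu (hrange u h))

end Cfsg.Agent.Lib.Helper12.OddProd
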