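import Mathlib
import Cfsg.Agent.Lib.Helper12.OddProdE

/-!
# Odd-order products of involutions in symmetric groups, part F

The 4-cycle absorption step and the main induction: any two involutions `x, y` with the same
number of moved points, supported in `S`, admit an involution `w` supported in `S` with `x * w`
and `w * y` of odd order, unless `S` is a single alternating 4-cycle.
-/

set_option autoImplicit false
set_option linter.unusedSectionVars false
set_option linter.unusedVariables false
set_option linter.unusedSimpArgs false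
set_option maxRecDepth 100000
open Equiv

namespace Cfsg.Agent.Lib.Helper12.OddProd

variable {α : Type*} [DecidableEq α] [Fintype α]

theorem step_c2 {S : Finset α} (ih : IH S) {x y : Perm α}
    (hx : x * x = 1) (hy : y * y = 1)
    (hxS : ∀ u, u ∉ S → x u = u) (hyS : ∀ u, u ∉ S → y u = u)
    (hcard : x.support.card = y.support.card) {a b c d : α}
    (hab : a ≠ b) (hac : a ≠ c) (had : a ≠ d) (hbc : b ≠ c) (hbd : b ≠ d) (hcd : c ≠ d)
    (hxa : x a = b) (hyb : y b = c) (hxc : x c = d) (hyd : y d = a) :
    Sol S x y ∨ Exc S x y := by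
  have hxb : x b = a := apply_eq_of_sq x hx hxa
  have hxd : x d = c := apply_eq_of_sq x hx hxc
  have hyc : y c = b := apply_eq_of_sq y hy hyb
  have hya : y a = d := apply_eq_of_sq y hy hyd
  have haS : a ∈ S := mem_of_moved hxS (by rw [hxa]; exact Ne.symm hab)
  have hbS : b ∈ S := mem_of_moved hxS (by rw [hxb]; exact hab)
  have hcS : c ∈ S := mem_of_moved hxS (by rw [hxc]; exact Ne.symm hcd)
  have hdS : d ∈ S := mem_of_moved hxS (by rw [hxd]; exact hcd)
  have h4S : ({a, b, c, d} : Finset α) ⊆ S := by
    intro u hu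
    simp only [Finset.mem_insert, Finset.mem_singleton] at hu
    rcases hu with rfl | rfl | rfl | rfl <;> assumption
  by_cases hS1 : S \ {a, b, c, d} = ∅
  · right
    exact ⟨a, b, c, d, hab, hac, had, hbc, hbd, hcd,
      Finset.Subset.antisymm (Finset.sdiff_eq_empty_iff_subset.mp hS1) h4S, hxa, hyb, hxc, hyd⟩
  left
  -- the x side
  have hx0 : (x * swap a b) * (x * swap a b) = 1 := rem_sq x hx hxa
  have hx0c : (x * swap a b) c = d := by
    rw [rem_apply_of_ne x (Ne.symm hac) (Ne.symm hbc)]; exact hxc
  have hx1 : (x * swap a b * swap c d) * (x * swap a b * swap c d) = 1 := rem_sq _ hx0 hx0c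
  have x1a : (x * swap a b * swap c d) a = a :=
    rem_fix _ hx0 hx0c (Or.inl (rem_apply_left x hx hxa))
  have x1b : (x * swap a b * swap c d) b = b :=
    rem_fix _ hx0 hx0c (Or.inl (rem_apply_right x hxa))
  have x1c : (x * swap a b * swap c d) c = c := rem_apply_left _ hx0 hx0c
  have x1d : (x * swap a b * swap c d) d = d := rem_apply_right _ hx0c
  have x1u : ∀ u, u ≠ a → u ≠ b → u ≠ c → u ≠ d → (x * swap a b * swap c d) u = x u := by
    intro u h1 h2 h3 h4
    rw [rem_apply_of_ne _ h3 h4, rem_apply_of_ne _ h1 h2]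
  -- the y side
  have hy0 : (y * swap b c) * (y * swap b c) = 1 := rem_sq y hy hyb
  have y0b : (y * swap b c) b = b := rem_apply_left y hy hyb
  have y0c : (y * swap b c) c = c := rem_apply_right y hyb
  have y0d : (y * swap b c) d = a := by
    rw [rem_apply_of_ne y (Ne.symm hbd) (Ne.symm hcd)]; exact hyd
  have hy1 : (y * swap b c * swap d a) * (y * swap b c * swap d a) = 1 := rem_sq _ hy0 y0d
  have y1a : (y * swap b c * swap d a) a = a := rem_apply_right _ y0d
  have y1d : (y * swap b c * swap d a) d = d := rem_apply_left _ hy0 y0d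
  have y1b : (y * swap b c * swap d a) b = b := rem_fix _ hy0 y0d (Or.inl y0b)
  have y1c : (y * swap b c * swap d a) c = c := rem_fix _ hy0 y0d (Or.inl y0c)
  have y1u : ∀ u, u ≠ a → u ≠ b → u ≠ c → u ≠ d → (y * swap b c * swap d a) u = y u := by
    intro u h1 h2 h3 h4
    rw [rem_apply_of_ne _ h4 h1, rem_apply_of_ne _ h2 h3]
  have hxeq : x * swap a b * swap c d * swap c d * swap a b = x := by
    rw [mul_swap_mul_self, mul_swap_mul_self]
  have hyeq : y * swap b c * swap d a * swap d a * swap b c = y := by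
    rw [mul_swap_mul_self, mul_swap_mul_self]
  have hsub : S \ {a, b, c, d} ⊂ S := Finset.sdiff_ssubset h4S ⟨a, by simp⟩
  have hx'S : ∀ u, u ∉ S \ {a, b, c, d} → (x * swap a b * swap c d) u = u := by
    intro u hu
    by_cases huS : u ∈ S
    · simp only [Finset.mem_sdiff, Finset.mem_insert, Finset.mem_singleton, not_and, not_not] at hu
      rcases hu huS with rfl | rfl | rfl | rfl
      · exact x1a
      · exact x1b
      · exact x1c
      · exact x1d
    · rw [x1u u (fun h => huS (h ▸ haS)) (fun h => huS (h ▸ hbS)) (fun h => huS (h ▸ hcS))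
        (fun h => huS (h ▸ hdS))]
      exact hxS u huS
  have hy'S : ∀ u, u ∉ S \ {a, b, c, d} → (y * swap b c * swap d a) u = u := by
    intro u hu
    by_cases huS : u ∈ S
    · simp only [Finset.mem_sdiff, Finset.mem_insert, Finset.mem_singleton, not_and, not_not] at hu
      rcases hu huS with rfl | rfl | rfl | rfl
      · exact y1a
      · exact y1b
      · exact y1c
      · exact y1d
    · rw [y1u u (fun h => huS (h ▸ haS)) (fun h => huS (h ▸ hbS)) (fun h => huS (h ▸ hcS))
        (fun h => huS (h ▸ hdS))]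
      exact hyS u huS
  have hcard' : (x * swap a b * swap c d).support.card =
      (y * swap b c * swap d a).support.card := by
    have e1 := rem_card x hx hxa hab
    have e2 := rem_card _ hx0 hx0c hcd
    have f1 := rem_card y hy hyb hbc
    have f2 := rem_card _ hy0 y0d (Ne.symm had)
    omega
  rcases ih _ hsub _ _ hx1 hy1 hx'S hy'S hcard' with hsol | hexc
  · obtain ⟨w1, hw1, hwS1, h1, h2⟩ := hsol
    have hwa : w1 a = a := hwS1 a (by simp)
    have hwb : w1 b = b := hwS1 b (by simp)
    have hwc : w1 c = c := hwS1 c (by simp)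
    have hwd : w1 d = d := hwS1 d (by simp)
    obtain ⟨p, hp⟩ := Finset.nonempty_iff_ne_empty.mpr hS1
    have hp' := hp
    simp only [Finset.mem_sdiff, Finset.mem_insert, Finset.mem_singleton, not_or] at hp'
    obtain ⟨hpS, hpa, hpb, hpc, hpd⟩ := hp'
    by_cases hwp : w1 p = p
    · have hnd : [a, b, c, d, p].Nodup := by
        simp only [List.nodup_cons, List.mem_cons, List.not_mem_nil, not_or, or_false,
          List.nodup_nil, and_true, not_false_eq_true]
        exact ⟨⟨hab, hac, had, Ne.symm hpa⟩, ⟨hbc, hbd, Ne.symm hpb⟩, ⟨hcd, Ne.symm hpc⟩,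
          Ne.symm hpd⟩
      obtain ⟨e1, e2, e3⟩ := core_x1 x _ y _ w1 hxeq hyeq hnd hw1 hwa hwb hwc hwd hwp x1c x1d
        y1a y1b y1c y1d h1 h2
      refine ⟨w1 * swap a b * swap c p, e1, ?_, e2, e3⟩
      intro u hu
      have hua : u ≠ a := fun h => hu (h ▸ haS)
      have hub : u ≠ b := fun h => hu (h ▸ hbS)
      have huc : u ≠ c := fun h => hu (h ▸ hcS)
      have hup : u ≠ p := fun h => hu (h ▸ hpS)
      rw [rem_apply_of_ne _ huc hup, rem_apply_of_ne _ hua hub]
      exact hwS1 u (by simp [hu])
    · have hwp2 : w1 (w1 p) = p := apply_eq_of_sq w1 hw1 rfl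
      have hp'S1 : w1 p ∈ S \ {a, b, c, d} := by
        by_contra h
        have := hwS1 (w1 p) h
        rw [hwp2] at this
        exact hwp this.symm
      have hp'' := hp'S1
      simp only [Finset.mem_sdiff, Finset.mem_insert, Finset.mem_singleton, not_or] at hp''
      obtain ⟨hqS, hqa, hqb, hqc, hqd⟩ := hp''
      have hnd : [p, w1 p, a, b, c, d].Nodup := by
        simp only [List.nodup_cons, List.mem_cons, List.not_mem_nil, not_or, or_false,
          List.nodup_nil, and_true, not_false_eq_true]
        exact ⟨⟨Ne.symm hwp, hpa, hpb, hpc, hpd⟩, ⟨hqa, hqb, hqc, hqd⟩, ⟨hab, hac, had⟩,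
          ⟨hbc, hbd⟩, hcd⟩
      obtain ⟨e1, e2, e3⟩ := core_x2 x _ y _ w1 hxeq hyeq hnd hw1 hwa hwb hwc hwd rfl
        x1a x1b x1c x1d y1a y1b y1c y1d h1 h2
      refine ⟨w1 * swap p (w1 p) * swap p a * swap b d * swap c (w1 p), e1, ?_, e2, e3⟩
      intro u hu
      have hua : u ≠ a := fun h => hu (h ▸ haS)
      have hub : u ≠ b := fun h => hu (h ▸ hbS)
      have huc : u ≠ c := fun h => hu (h ▸ hcS)
      have hud : u ≠ d := fun h => hu (h ▸ hdS)
      have hup : u ≠ p := fun h => hu (h ▸ hpS)
      have huq : u ≠ w1 p := fun h => hu (h ▸ hqS)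
      rw [rem_apply_of_ne _ huc huq, rem_apply_of_ne _ hub hud, rem_apply_of_ne _ hup hua,
        rem_apply_of_ne _ hup huq]
      exact hwS1 u (by simp [hu])
  · -- two 4-cycles
    obtain ⟨a2, b2, c2, d2, h12, h13, h14, h23, h24, h34, hS', ha2, hb2, hc2, hd2⟩ := hexc
    have ha2S' : a2 ∈ S \ {a, b, c, d} := by rw [hS']; simp
    have hb2S' : b2 ∈ S \ {a, b, c, d} := by rw [hS']; simp
    have hc2S' : c2 ∈ S \ {a, b, c, d} := by rw [hS']; simp
    have hd2S' : d2 ∈ S \ {a, b, c, d} := by rw [hS']; simp
    simp only [Finset.mem_sdiff, Finset.mem_insert, Finset.mem_singleton, not_or]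
      at ha2S' hb2S' hc2S' hd2S'
    obtain ⟨ha2S, ha2a, ha2b, ha2c, ha2d⟩ := ha2S'
    obtain ⟨hb2S, hb2a, hb2b, hb2c, hb2d⟩ := hb2S'
    obtain ⟨hc2S, hc2a, hc2b, hc2c, hc2d⟩ := hc2S'
    obtain ⟨hd2S, hd2a, hd2b, hd2c, hd2d⟩ := hd2S'
    have xa2 : x a2 = b2 := by rw [← x1u a2 ha2a ha2b ha2c ha2d]; exact ha2
    have xc2 : x c2 = d2 := by rw [← x1u c2 hc2a hc2b hc2c hc2d]; exact hc2
    have yb2 : y b2 = c2 := by rw [← y1u b2 hb2a hb2b hb2c hb2d]; exact hb2
    have yd2 : y d2 = a2 := by rw [← y1u d2 hd2a hd2b hd2c hd2d]; exact hd2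
    have xb2 : x b2 = a2 := apply_eq_of_sq x hx xa2
    have xd2 : x d2 = c2 := apply_eq_of_sq x hx xc2
    have yc2 : y c2 = b2 := apply_eq_of_sq y hy yb2
    have ya2 : y a2 = d2 := apply_eq_of_sq y hy yd2
    have hnd8 : [a, b, c, d, a2, b2, c2, d2].Nodup := by
      simp only [List.nodup_cons, List.mem_cons, List.not_mem_nil, not_or, or_false,
        List.nodup_nil, and_true, not_false_eq_true]
      exact ⟨⟨hab, hac, had, Ne.symm ha2a, Ne.symm hb2a, Ne.symm hc2a, Ne.symm hd2a⟩,
        ⟨hbc, hbd, Ne.symm ha2b, Ne.symm hb2b, Ne.symm hc2b, Ne.symm hd2b⟩,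
        ⟨hcd, Ne.symm ha2c, Ne.symm hb2c, Ne.symm hc2c, Ne.symm hd2c⟩,
        ⟨Ne.symm ha2d, Ne.symm hb2d, Ne.symm hc2d, Ne.symm hd2d⟩,
        ⟨h12, h13, h14⟩, ⟨h23, h24⟩, h34⟩
    have hv := inj_vec8 hnd8
    have hrange : ∀ u, u ∈ S → u ∈ Set.range ![a, b, c, d, a2, b2, c2, d2] := by
      intro u hu
      by_cases hu4 : u ∈ ({a, b, c, d} : Finset α)
      · simp only [Finset.mem_insert, Finset.mem_singleton] at hu4
        rcases hu4 with rfl | rfl | rfl | rfl
        · exact ⟨0, rfl⟩
        · exact ⟨1, rfl⟩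
        · exact ⟨2, rfl⟩
        · exact ⟨3, rfl⟩
      · have : u ∈ S \ {a, b, c, d} := Finset.mem_sdiff.mpr ⟨hu, hu4⟩
        rw [hS'] at this
        simp only [Finset.mem_insert, Finset.mem_singleton] at this
        rcases this with rfl | rfl | rfl | rfl
        · exact ⟨4, rfl⟩
        · exact ⟨5, rfl⟩
        · exact ⟨6, rfl⟩
        · exact ⟨7, rfl⟩
    refine sol_of_model ![a, b, c, d, a2, b2, c2, d2] hv S ?_ x y
      (swap 0 1 * swap 2 3 * swap 4 5 * swap 6 7) (swap 1 2 * swap 3 0 * swap 5 6 * swap 7 4)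
      (swap 1 2 * swap 3 4 * swap 5 0 * swap 6 7) ?_ ?_ ?_ ?_ (by decide) 3 3 (by decide)
      (by decide) (by decide) (by decide)
    · intro i
      fin_cases i <;> simp <;> assumption
    · apply model_apply8 x _ ![1, 0, 3, 2, 5, 4, 7, 6] (by decide)
      intro i
      fin_cases i <;> simp <;> assumption
    · intro u hu
      exact hxS u (fun h => hu (hrange u h))
    · apply model_apply8 y _ ![3, 2, 1, 0, 7, 6, 5, 4] (by decide)
      intro i
      fin_cases i <;> simp <;> assumption
    · intro u hu
      exact hyS u (fun h => hu (hrange u h))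

/-- the case of a point moved by `x` and fixed by `y` -/
theorem caseA {S : Finset α} (ih : IH S) {x y : Perm α} (hC2 : ¬ HasC2 x y)
    (hx : x * x = 1) (hy : y * y = 1)
    (hxS : ∀ u, u ∉ S → x u = u) (hyS : ∀ u, u ∉ S → y u = u)
    (hcard : x.support.card = y.support.card) {a : α} (hxa : x a ≠ a) (hya : y a = a) :
    Sol S x y := by
  have hab : a ≠ x a := fun h => hxa h.symm
  by_cases hyb : y (x a) = x a
  · -- a lone x-edge: find a point moved by y and fixed by x
    have hns : ¬ y.support ⊆ x.support := by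
      intro hsub
      have hss : y.support ⊂ x.support := by
        refine ⟨hsub, fun h => ?_⟩
        have : a ∈ y.support := h (Perm.mem_support.mpr hxa)
        exact (Perm.mem_support.mp this) hya
      have := Finset.card_lt_card hss
      omega
    obtain ⟨a', ha'y, ha'x⟩ := Finset.not_subset.mp hns
    rw [Perm.mem_support] at ha'y
    rw [Perm.notMem_support] at ha'x
    have ha'b' : a' ≠ y a' := fun h => ha'y h.symm
    by_cases hxb' : x (y a') = y a'
    · exact step_pair ih hC2 hx hy hxS hyS hcard rfl hab hya hyb rfl ha'b' ha'x hxb'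
    · have hbc : y a' ≠ x (y a') := fun h => hxb' h.symm
      exact (step_end ih hy hx hyS hxS hcard.symm rfl ha'b' ha'x rfl hbc).symm hy hx
  · have hbc : x a ≠ y (x a) := fun h => hyb h.symm
    exact step_end ih hx hy hxS hyS hcard rfl hab hya rfl hbc

/-- the case where `x` and `y` move the same points (all components are cycles) -/
theorem caseC {S : Finset α} (ih : IH S) {x y : Perm α} (hC2 : ¬ HasC2 x y)
    (hx : x * x = 1) (hy : y * y = 1)
    (hxS : ∀ u, u ∉ S → x u = u) (hyS : ∀ u, u ∉ S → y u = u)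
    (hcard : x.support.card = y.support.card)
    (hA : ∀ a, x a ≠ a → y a ≠ a) (hB : ∀ a, y a ≠ a → x a ≠ a) : Sol S x y := by
  by_cases hall : ∀ a, x a = a
  · have hx1 : x = 1 := by ext a; simpa using hall a
    have hy1 : y = 1 := by
      ext a
      by_contra h
      exact hB a h (hall a)
    refine ⟨1, one_mul 1, fun u _ => rfl, ?_, ?_⟩
    · rw [hx1, one_mul, orderOf_one]; exact odd_one
    · rw [hy1, one_mul, orderOf_one]; exact odd_one
  · push Not at hall
    obtain ⟨a, hxa⟩ := hall
    have hab : a ≠ x a := fun h => hxa h.symm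
    have hxb : x (x a) = a := apply_eq_of_sq x hx rfl
    have hyb_ne : y (x a) ≠ x a := hA (x a) (by rw [hxb]; exact hab)
    by_cases hca : y (x a) = a
    · have hya : y a = x a := apply_eq_of_sq y hy hca
      exact step_c1 ih hC2 hx hy hxS hyS hcard rfl hab hya
    · -- name the points b = x a, c = y b, d = x c, e = y d, f = y a
      obtain ⟨b, hb⟩ : ∃ b, b = x a := ⟨_, rfl⟩
      obtain ⟨c, hc⟩ : ∃ c, c = y b := ⟨_, rfl⟩
      obtain ⟨d, hd⟩ : ∃ d, d = x c := ⟨_, rfl⟩
      obtain ⟨e, he⟩ : ∃ e, e = y d := ⟨_, rfl⟩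
      obtain ⟨f, hf⟩ : ∃ f, f = y a := ⟨_, rfl⟩
      rw [← hb] at hab hxb hyb_ne hca
      rw [← hc] at hyb_ne hca
      have hxa' : x a = b := hb.symm
      have hyb : y b = c := hc.symm
      have hxc : x c = d := hd.symm
      have hyd : y d = e := he.symm
      have hya : y a = f := hf.symm
      have hyc : y c = b := apply_eq_of_sq y hy hyb
      have hxd : x d = c := apply_eq_of_sq x hx hxc
      have hye : y e = d := apply_eq_of_sq y hy hyd
      have hyf : y f = a := apply_eq_of_sq y hy hya
      have hbc : b ≠ c := fun h => hyb_ne h.symm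
      have hac : a ≠ c := fun h => hca h.symm
      have hcd : c ≠ d := by
        intro h
        have : x c ≠ c := hB c (by rw [hyc]; exact hbc)
        exact this (hxc.trans h.symm)
      have had : a ≠ d := by
        intro h
        -- x c = a ⇒ c = x a = b
        rw [← h] at hxc
        have : x a = c := apply_eq_of_sq x hx hxc
        exact hbc (hxa'.symm.trans this)
      have hbd : b ≠ d := by
        intro h
        rw [← h] at hxc
        have : x b = c := apply_eq_of_sq x hx hxc
        exact hac (hxb.symm.trans this)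
      have hde : d ≠ e := by
        intro h
        have : y d ≠ d := hA d (by rw [hxd]; exact hcd)
        exact this (hyd.trans h.symm)
      have hfa : f ≠ a := by
        intro h
        exact hA a hxa (hya.trans h)
      have hae : a ≠ e := by
        intro h
        apply hC2
        exact ⟨a, b, c, d, hab, hac, had, hbc, hbd, hcd, hxa', hyb, hxc, by rw [hyd, h]⟩
      have hbe : b ≠ e := by
        intro h
        -- y d = b ⇒ d = y b = c
        rw [← h] at hyd
        have : y b = d := apply_eq_of_sq y hy hyd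
        exact hcd (hyb.symm.trans this)
      have hce : c ≠ e := by
        intro h
        rw [← h] at hyd
        have : y c = d := apply_eq_of_sq y hy hyd
        exact hbd (hyc.symm.trans this)
      have hfb : f ≠ b := by
        intro h
        -- y a = b ⇒ y b = a
        rw [h] at hya
        have : y b = a := apply_eq_of_sq y hy hya
        exact hac (this.symm.trans hyb)
      have hfc : f ≠ c := by
        intro h
        rw [h] at hya
        have : y c = a := apply_eq_of_sq y hy hya
        exact hab (this.symm.trans hyc)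
      have hfd : f ≠ d := by
        intro h
        rw [h] at hya
        have : y d = a := apply_eq_of_sq y hy hya
        exact hae (this.symm.trans hyd)
      have hfe : f ≠ e := by
        intro h
        -- y a = y d ⇒ a = d
        have : y a = y d := by rw [hya, hyd, h]
        exact had (y.injective this)
      have hnd : [f, a, b, c, d, e].Nodup := by
        simp only [List.nodup_cons, List.mem_cons, List.not_mem_nil, not_or, or_false,
          List.nodup_nil, and_true, not_false_eq_true]
        exact ⟨⟨hfa, hfb, hfc, hfd, hfe⟩, ⟨hab, hac, had, hae⟩, ⟨hbc, hbd, hbe⟩, ⟨hcd, hce⟩,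
          hde⟩
      exact step_r4 ih hx hy hxS hyS hcard hnd hyf hxa' hyb hxc hyd

/-- Main combinatorial theorem. -/
theorem main_sol (S : Finset α) : ∀ x y : Perm α, x * x = 1 → y * y = 1 →
    (∀ u, u ∉ S → x u = u) → (∀ u, u ∉ S → y u = u) →
    x.support.card = y.support.card → Sol S x y ∨ Exc S x y := by
  induction S using Finset.strongInduction with
  | H S ih =>
    intro x y hx hy hxS hyS hcard
    have IHS : IH S := fun T hT x y => ih T hT x y
    by_cases hC2 : HasC2 x y
    · obtain ⟨a, b, c, d, hab, hac, had, hbc, hbd, hcd, h1, h2, h3, h4⟩ := hC2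
      exact step_c2 IHS hx hy hxS hyS hcard hab hac had hbc hbd hcd h1 h2 h3 h4
    · left
      by_cases hA : ∃ a, x a ≠ a ∧ y a = a
      · obtain ⟨a, hxa, hya⟩ := hA
        exact caseA IHS hC2 hx hy hxS hyS hcard hxa hya
      · by_cases hB : ∃ a, y a ≠ a ∧ x a = a
        · obtain ⟨a, hya, hxa⟩ := hB
          exact (caseA IHS (fun h => hC2 h.symm) hy hx hyS hxS hcard.symm hya hxa).symm hy hx
        · push Not at hA hB
          exact caseC IHS hC2 hx hy hxS hyS hcard hA hB

end Cfsg.Agent.Lib.Helper12.OddProd
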