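import Mathlib
import Cfsg.Prelude.Def_Blocks

/-!
S4640 farm (architect helper24), leaf [G]: a finite group `G` with a normal subgroup `N` such that
`G / N` is abelian has exactly `[G : N]` linear characters trivial on `N`.
-/

set_option autoImplicit false

namespace Cfsg.Agent.Lib.Helper24.PIdx

open Cfsg
open scoped ComplexConjugate

variable {G : Type*} [Group G] [Fintype G] {p : ℕ} [Fact p.Prime] {M : Ideal Cfsg.AlgInt}

namespace Helper12

/-- homomorphisms to `ℂˣ` trivial on `N` are the homomorphisms of `G ⧸ N` -/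
noncomputable def linEquiv (N : Subgroup G) [N.Normal] :
    {lam : G →* ℂˣ // ∀ n ∈ N, lam n = 1} ≃ ((G ⧸ N) →* ℂˣ) where
  toFun lam := QuotientGroup.lift N lam.1 (fun n hn => MonoidHom.mem_ker.2 (lam.2 n hn))
  invFun μ := ⟨μ.comp (QuotientGroup.mk' N), fun n hn => by
    rw [MonoidHom.comp_apply, QuotientGroup.mk'_apply, (QuotientGroup.eq_one_iff n).2 hn,
      map_one]⟩
  left_inv lam := by
    apply Subtype.ext
    ext g
    simp
  right_inv μ := by
    ext x
    simp

end Helper12

/-- [G] the number of linear characters of `G / N` -/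
theorem card_lin (N : Subgroup G) [N.Normal]
    (hab : ∀ x y : G, x * y * x⁻¹ * y⁻¹ ∈ N) :
    Nat.card {lam : G →* ℂˣ // ∀ n ∈ N, lam n = 1} = N.index := by
  classical
  let _ : CommGroup (G ⧸ N) :=
    { (inferInstance : Group (G ⧸ N)) with
      mul_comm := by
        intro a b
        induction a using QuotientGroup.induction_on with | _ x => ?_
        induction b using QuotientGroup.induction_on with | _ y => ?_
        rw [← QuotientGroup.mk_mul, ← QuotientGroup.mk_mul, QuotientGroup.eq]
        have h := hab y⁻¹ x⁻¹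
        have e : (x * y)⁻¹ * (y * x) = y⁻¹ * x⁻¹ * y⁻¹⁻¹ * x⁻¹⁻¹ := by group
        rw [e]
        exact h }
  have : NeZero (Monoid.exponent (G ⧸ N)) := ⟨Monoid.exponent_ne_zero_of_finite⟩
  rw [Nat.card_congr (Helper12.linEquiv N)]
  exact CommGroup.card_monoidHom_of_hasEnoughRootsOfUnity (G ⧸ N) ℂ

end Cfsg.Agent.Lib.Helper24.PIdx
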