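import Mathlib
import Cfsg.Prelude.Def_Blocks
import Cfsg.Agent.Lib.Helper7.Covering
import Cfsg.Agent.Lib.Helper11.Clifford
import Cfsg.Agent.Lib.Helper2.Linear

/-!
S4640 farm (architect helper24), SPARE of leaf [J] (helper12): the number of extensions in `B` of
`θ ∈ b` is `[G : N]`: one extension `χ₀` exists, and `lam ↦ lam χ₀` is a bijection from the linear
characters of `G / N` onto the fibre of restriction over `θ`.
-/

set_option autoImplicit false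

namespace Cfsg.Agent.Lib.Helper24.PIdx

open Cfsg
open scoped ComplexConjugate

variable {G : Type*} [Group G] [Fintype G] {p : ℕ} [Fact p.Prime] {M : Ideal Cfsg.AlgInt}

namespace Helper12

open Cfsg.Agent.Lib.Helper2 Cfsg.Agent.Lib.Helper7 Cfsg.Agent.Lib.Helper11

/-- SPARE of [J] the number of extensions in `B` of `θ ∈ b` -/
theorem card_extensions_spare (N : Subgroup G) [N.Normal] [Fintype N]
    (b : Set (Cfsg.IrrCharacter N)) (B : Set (Cfsg.IrrCharacter G))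
    (hF : ∀ χ χ' : Cfsg.IrrCharacter G,
      Cfsg.classInner (fun n : N => (χ : G → ℂ) n) (fun n : N => (χ' : G → ℂ) n)
        = (Nat.card {lam : G →* ℂˣ // (∀ n ∈ N, lam n = 1) ∧
            ∀ g : G, ((lam g : ℂˣ) : ℂ) * (χ : G → ℂ) g = (χ' : G → ℂ) g} : ℂ))
    (hG : Nat.card {lam : G →* ℂˣ // ∀ n ∈ N, lam n = 1} = N.index)
    (hH : ∀ (lam : G →* ℂˣ) (χ : Cfsg.IrrCharacter G),
      Cfsg.IsIrrCharacter G (fun g => ((lam g : ℂˣ) : ℂ) * (χ : G → ℂ) g))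
    (hover : ∀ χ : Cfsg.IrrCharacter G, ∀ θ ∈ b,
      Cfsg.classInner (fun n : N => (χ : G → ℂ) n) (θ : N → ℂ) ≠ 0 → χ ∈ B)
    (hirr : ∀ χ ∈ B,
      Cfsg.classInner (fun n : N => (χ : G → ℂ) n) (fun n : N => (χ : G → ℂ) n) = 1)
    (θ : Cfsg.IrrCharacter N) (hθ : θ ∈ b) :
    Nat.card {χ : Cfsg.IrrCharacter G // χ ∈ B ∧ ∀ n : N, (χ : G → ℂ) n = (θ : N → ℂ) n}
      = N.index := by
  classical
  -- an extension χ₀
  obtain ⟨χ₀, hχ₀⟩ := exists_irr_over N θ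
  have hχ₀B : χ₀ ∈ B := hover χ₀ θ hθ hχ₀
  have hres_char : Cfsg.IsCharacter N (fun n : N => (χ₀ : G → ℂ) n) :=
    IsCharacter.restrict (IsIrrCharacter.isCharacter χ₀.2) N
  have hres_irr : Cfsg.IsIrrCharacter N (fun n : N => (χ₀ : G → ℂ) n) :=
    isIrrCharacter_of_classInner_self_eq_one hres_char (hirr χ₀ hχ₀B)
  have hres : (fun n : N => (χ₀ : G → ℂ) n) = (θ : N → ℂ) :=
    eq_of_irr_of_classInner_ne_zero hres_irr θ.2 hχ₀
  have hres' : ∀ n : N, (χ₀ : G → ℂ) n = (θ : N → ℂ) n := fun n => congrFun hres n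
  have hθθ : Cfsg.classInner (θ : N → ℂ) (θ : N → ℂ) = 1 := classInner_irrCharacter_self θ
  -- the counting sets have exactly one element
  have hone : ∀ χ' : Cfsg.IrrCharacter G, (∀ n : N, (χ' : G → ℂ) n = (θ : N → ℂ) n) →
      Nat.card {lam : G →* ℂˣ // (∀ n ∈ N, lam n = 1) ∧
        ∀ g : G, ((lam g : ℂˣ) : ℂ) * (χ₀ : G → ℂ) g = (χ' : G → ℂ) g} = 1 := by
    intro χ' hχ'
    have h1 := hF χ₀ χ'
    have e1 : (fun n : N => (χ' : G → ℂ) n) = (θ : N → ℂ) := funext hχ'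
    rw [hres, e1, hθθ] at h1
    exact_mod_cast h1.symm
  -- the map
  let Φ : {lam : G →* ℂˣ // ∀ n ∈ N, lam n = 1} →
      {χ : Cfsg.IrrCharacter G // χ ∈ B ∧ ∀ n : N, (χ : G → ℂ) n = (θ : N → ℂ) n} :=
    fun lam =>
      have hr : ∀ n : N, ((lam.1 (n : G) : ℂˣ) : ℂ) * (χ₀ : G → ℂ) n = (θ : N → ℂ) n := by
        intro n
        rw [lam.2 n n.2, Units.val_one, one_mul, hres' n]
      ⟨⟨fun g => ((lam.1 g : ℂˣ) : ℂ) * (χ₀ : G → ℂ) g, hH lam.1 χ₀⟩,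
        hover _ θ hθ (by
          have e : (fun n : N => ((lam.1 (n : G) : ℂˣ) : ℂ) * (χ₀ : G → ℂ) n) = (θ : N → ℂ) :=
            funext hr
          show Cfsg.classInner (fun n : N => ((lam.1 (n : G) : ℂˣ) : ℂ) * (χ₀ : G → ℂ) n)
            (θ : N → ℂ) ≠ 0
          rw [e, hθθ]
          exact one_ne_zero),
        hr⟩
  have hΦ : Function.Bijective Φ := by
    constructor
    · intro l1 l2 h12
      have hχ' := (Φ l2).2.2
      have hc := hone (Φ l2).1 hχ'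
      rw [Nat.card_eq_one_iff_unique] at hc
      obtain ⟨hsub, -⟩ := hc
      have m1 : (∀ n ∈ N, l1.1 n = 1) ∧
          ∀ g : G, ((l1.1 g : ℂˣ) : ℂ) * (χ₀ : G → ℂ) g = ((Φ l2).1 : G → ℂ) g := by
        refine ⟨l1.2, fun g => ?_⟩
        rw [← h12]
      have m2 : (∀ n ∈ N, l2.1 n = 1) ∧
          ∀ g : G, ((l2.1 g : ℂˣ) : ℂ) * (χ₀ : G → ℂ) g = ((Φ l2).1 : G → ℂ) g :=
        ⟨l2.2, fun g => rfl⟩
      have h3 := hsub.elim ⟨l1.1, m1⟩ ⟨l2.1, m2⟩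
      exact Subtype.ext (congrArg (fun x => x.1) h3)
    · intro χ'
      have hc := hone χ'.1 χ'.2.2
      rw [Nat.card_eq_one_iff_unique] at hc
      obtain ⟨-, ⟨lam, hl1, hl2⟩⟩ := hc
      refine ⟨⟨lam, hl1⟩, ?_⟩
      apply Subtype.ext
      apply Subtype.ext
      funext g
      exact hl2 g
  rw [← hG]
  exact (Nat.card_congr (Equiv.ofBijective Φ hΦ)).symm

end Helper12

end Cfsg.Agent.Lib.Helper24.PIdx
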