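import Cfsg.Agent.Lib.Helper16.StCCB.Defs
import Cfsg.Agent.Lib.Helper8.ChevHi9

set_option autoImplicit false

/-! S2399 farm (architect helper29), piece [U6]: the root subgroups of the terms of the commutator
formula of a pair of shape `ShapeP` lie in a common `p`-subgroup of `GL`. -/

namespace Cfsg.Agent.Lib.Helper29.PLift

open Cfsg.Lie Cfsg.Agent.Lib.Helper8.Chev

namespace Helper12

/-- pairwise commuting elements of order dividing `p` generate a `p`-group (own copy of [U4a]) -/
theorem isPGroup_closure_comm {G : Type*} [Group G] (p : ℕ) [Fact p.Prime] (S : Set G)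
    (hcomm : ∀ a ∈ S, ∀ b ∈ S, a * b = b * a) (hpow : ∀ a ∈ S, a ^ p = 1) :
    IsPGroup p (Subgroup.closure S) := by
  have h1 : Subgroup.closure S ≤ Subgroup.centralizer S := by
    rw [Subgroup.closure_le]
    intro a ha
    rw [SetLike.mem_coe, Subgroup.mem_centralizer_iff]
    intro b hb
    exact hcomm b hb a ha
  have hc : ∀ x ∈ Subgroup.closure S, ∀ y ∈ Subgroup.closure S, x * y = y * x := by
    intro x hx y hy
    have hy' := Subgroup.closure_le_centralizer_centralizer S hy
    rw [Subgroup.mem_centralizer_iff] at hy'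
    exact hy' x (h1 hx)
  have hp : ∀ x ∈ Subgroup.closure S, x ^ p = 1 := by
    intro x hx
    induction hx using Subgroup.closure_induction with
    | mem x hx => exact hpow x hx
    | one => simp
    | mul x y hx hy ihx ihy =>
      rw [(show Commute x y from hc x hx y hy).mul_pow, ihx, ihy, one_mul]
    | inv x hx ih => rw [inv_pow, ih, inv_one]
  rintro ⟨x, hx⟩
  refine ⟨1, ?_⟩
  apply Subtype.ext
  simpa using hp x hx

variable {D : ChevalleyDatum} {K : Type*} [Field K]

/-- the generators of the root subgroup `X_q` -/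
def gens (D : ChevalleyDatum) (K : Type*) [Field K] (q : ℕ) : Set (GL D.Idx K) :=
  {g | ∃ t : K, (g : Matrix D.Idx D.Idx K) = D.x K q t}

/-- the root elements of `a` and `b` commute (as matrices) -/
def CommR (D : ChevalleyDatum) (K : Type*) [Field K] (a b : ℕ) : Prop :=
  ∀ t u : K, D.x K a t * D.x K b u = D.x K b u * D.x K a t

theorem x_mul_x (hD : D ∈ [chevG2, chevB2, chevD4, chevF4, chevE6, chevE7, chevE8]) {q : ℕ}
    (hq : q < D.nroots) (t u : K) : D.x K q t * D.x K q u = D.x K q (t + u) := by
  rw [x_eq_xN, x_eq_xN, x_eq_xN, xN_mul_xN K (valid0_of_mem hD) (valid1_of_mem hD) hq]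

theorem x_zero (hD : D ∈ [chevG2, chevB2, chevD4, chevF4, chevE6, chevE7, chevE8]) (q : ℕ) :
    D.x K q 0 = 1 := by
  rw [x_eq_xN, xN_zero (valid0_of_mem hD)]

theorem x_pow (hD : D ∈ [chevG2, chevB2, chevD4, chevF4, chevE6, chevE7, chevE8]) {q : ℕ}
    (hq : q < D.nroots) (t : K) (n : ℕ) : (D.x K q t) ^ n = D.x K q ((n : K) * t) := by
  induction n with
  | zero => rw [pow_zero, Nat.cast_zero, zero_mul, x_zero hD]
  | succ n ih => rw [pow_succ, ih, x_mul_x hD hq, Nat.cast_succ, add_mul, one_mul]

theorem commR_self (hD : D ∈ [chevG2, chevB2, chevD4, chevF4, chevE6, chevE7, chevE8]) {q : ℕ}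
    (hq : q < D.nroots) : CommR D K q q := by
  intro t u
  rw [x_mul_x hD hq, x_mul_x hD hq, add_comm]

theorem commR_symm {a b : ℕ} (h : CommR D K a b) : CommR D K b a := fun t u => (h u t).symm

theorem commR_of_nilP (hD : D ∈ [chevG2, chevB2, chevD4, chevF4, chevE6, chevE7, chevE8])
    {a b : ℕ} (h : Cfsg.Agent.Lib.Helper14.StCC.B.NilP D a b) : CommR D K a b := by
  obtain ⟨ha, hb, h1, h2, h⟩ := h
  intro t u
  exact (x_commute_of_nil hD ha hb h1 h2 h t u).symm

/-- a list of roots whose root elements commute pairwise: the root subgroups generate a `p`-group -/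
theorem isPGroup_of_commR [Fintype K] (p : ℕ) [Fact p.Prime] [CharP K p]
    (hD : D ∈ [chevG2, chevB2, chevD4, chevF4, chevE6, chevE7, chevE8]) (Q : List ℕ)
    (hQ : ∀ q ∈ Q, q < D.nroots) (hc : ∀ a ∈ Q, ∀ b ∈ Q, CommR D K a b) :
    IsPGroup p (Subgroup.closure {g : GL D.Idx K | ∃ q ∈ Q, g ∈ gens D K q}) := by
  apply isPGroup_closure_comm
  · rintro g ⟨a, ha, t, hg⟩ g' ⟨b, hb, u, hg'⟩
    apply Units.ext
    rw [Units.val_mul, Units.val_mul, hg, hg']
    exact hc a ha b hb t u
  · rintro g ⟨a, ha, t, hg⟩
    apply Units.ext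
    rw [Units.val_pow_eq_pow_val, hg, x_pow hD (hQ a ha), CharP.cast_eq_zero K p, zero_mul,
      x_zero hD, Units.val_one]

theorem rootSubgroup_le_closure (Q : List ℕ) {q : ℕ} (hq : q ∈ Q) :
    D.rootSubgroup K q ≤ Subgroup.closure {g : GL D.Idx K | ∃ q ∈ Q, g ∈ gens D K q} := by
  unfold ChevalleyDatum.rootSubgroup
  apply Subgroup.closure_mono
  intro g hg
  exact ⟨q, hq, hg⟩

/-- the root element as a unit -/
def xU (hD : D ∈ [chevG2, chevB2, chevD4, chevF4, chevE6, chevE7, chevE8]) {q : ℕ}
    (hq : q < D.nroots) (t : K) : GL D.Idx K :=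
  ⟨D.x K q t, D.x K q (-t), by rw [x_mul_x hD hq, add_neg_cancel, x_zero hD],
    by rw [x_mul_x hD hq, neg_add_cancel, x_zero hD]⟩

/-- the common part of the two `G2` shapes with four terms: `q3, q4` central, `[X_{q1}, X_{q2}] ≤ X_{q4}` -/
theorem isPGroup_four [Fintype K] (p : ℕ) [Fact p.Prime] [CharP K p]
    (hD : D ∈ [chevG2, chevB2, chevD4, chevF4, chevE6, chevE7, chevE8]) {q1 q2 q3 q4 : ℕ} {N : ℤ}
    (h13 : Cfsg.Agent.Lib.Helper14.StCC.B.NilP D q1 q3)
    (h14 : Cfsg.Agent.Lib.Helper14.StCC.B.NilP D q1 q4)
    (h23 : Cfsg.Agent.Lib.Helper14.StCC.B.NilP D q2 q3)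
    (h24 : Cfsg.Agent.Lib.Helper14.StCC.B.NilP D q2 q4)
    (h34 : Cfsg.Agent.Lib.Helper14.StCC.B.NilP D q3 q4)
    (h12 : Cfsg.Agent.Lib.Helper14.StCC.B.OneP D q1 q2 q4 N) :
    ∃ P : Subgroup (GL D.Idx K), IsPGroup p P ∧ D.rootSubgroup K q1 ≤ P ∧
      D.rootSubgroup K q2 ≤ P ∧ D.rootSubgroup K q3 ≤ P ∧ D.rootSubgroup K q4 ≤ P := by
  have hq1 : q1 < D.nroots := h13.1
  have hq2 : q2 < D.nroots := h23.1
  have hq3 : q3 < D.nroots := h13.2.1
  have hq4 : q4 < D.nroots := h14.2.1
  have c13 : CommR D K q1 q3 := commR_of_nilP hD h13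
  have c14 : CommR D K q1 q4 := commR_of_nilP hD h14
  have c23 : CommR D K q2 q3 := commR_of_nilP hD h23
  have c24 : CommR D K q2 q4 := commR_of_nilP hD h24
  have c34 : CommR D K q3 q4 := commR_of_nilP hD h34
  set A : Subgroup (GL D.Idx K) :=
    Subgroup.closure {g : GL D.Idx K | ∃ q ∈ [q1, q3, q4], g ∈ gens D K q} with hA
  set B : Subgroup (GL D.Idx K) :=
    Subgroup.closure {g : GL D.Idx K | ∃ q ∈ [q2], g ∈ gens D K q} with hB
  have pA : IsPGroup p A := by
    apply isPGroup_of_commR p hD
    · intro q hq
      simp only [List.mem_cons, List.not_mem_nil, or_false] at hq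
      rcases hq with rfl | rfl | rfl <;> assumption
    · intro a ha b hb
      simp only [List.mem_cons, List.not_mem_nil, or_false] at ha hb
      rcases ha with rfl | rfl | rfl <;> rcases hb with rfl | rfl | rfl
      · exact commR_self hD hq1
      · exact c13
      · exact c14
      · exact commR_symm c13
      · exact commR_self hD hq3
      · exact c34
      · exact commR_symm c14
      · exact commR_symm c34
      · exact commR_self hD hq4
  have pB : IsPGroup p B := by
    apply isPGroup_of_commR p hD
    · intro q hq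
      simp only [List.mem_cons, List.not_mem_nil, or_false] at hq
      subst hq; exact hq2
    · intro a ha b hb
      simp only [List.mem_cons, List.not_mem_nil, or_false] at ha hb
      subst ha; subst hb
      exact commR_self hD hq2
  -- the relation between `q1` and `q2`
  have hrel : ∀ t u : K, D.x K q2 u * D.x K q1 t =
      D.x K q1 t * D.x K q4 ((N : K) * (-t) ^ 1 * u ^ 1) * D.x K q2 u := by
    intro t u
    obtain ⟨ha, hb, h1, h2, h⟩ := h12
    have := comm_formula hD (F := K) ha hb h1 h2 t u
    rw [this]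
    unfold ChevalleyDatum.commWord ChevalleyDatum.wordMat
    rw [h]
    simp only [List.map_cons, List.map_nil, List.prod_cons, List.prod_nil, mul_one]
    rw [Matrix.mul_assoc, Matrix.mul_assoc, (c24 u _).symm]
  -- conjugation by a generator of `B` maps `A` into `A`
  have hconj : ∀ b ∈ gens D K q2, ∀ a ∈ A, b * a * b⁻¹ ∈ A := by
    rintro b ⟨u, hb⟩ a ha
    induction ha using Subgroup.closure_induction with
    | mem a ha =>
      obtain ⟨q, hq, t, hat⟩ := ha
      simp only [List.mem_cons, List.not_mem_nil, or_false] at hq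
      rcases hq with rfl | rfl | rfl
      · -- `q1`
        have e : b * a = a * xU hD hq4 ((N : K) * (-t) ^ 1 * u ^ 1) * b := by
          apply Units.ext
          rw [Units.val_mul, Units.val_mul, Units.val_mul, hb, hat]
          exact hrel t u
        rw [e, mul_assoc, mul_inv_cancel, mul_one]
        apply Subgroup.mul_mem
        · exact Subgroup.subset_closure ⟨q, by simp, t, hat⟩
        · exact Subgroup.subset_closure ⟨q4, by simp, _, rfl⟩
      · -- `q3`
        have e : b * a = a * b := by
          apply Units.ext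
          rw [Units.val_mul, Units.val_mul, hb, hat]
          exact c23 u t
        rw [e, mul_assoc, mul_inv_cancel, mul_one]
        exact Subgroup.subset_closure ⟨q, by simp, t, hat⟩
      · -- `q4`
        have e : b * a = a * b := by
          apply Units.ext
          rw [Units.val_mul, Units.val_mul, hb, hat]
          exact c24 u t
        rw [e, mul_assoc, mul_inv_cancel, mul_one]
        exact Subgroup.subset_closure ⟨q, by simp, t, hat⟩
    | one => simp
    | mul x y hx hy ihx ihy =>
      have : b * (x * y) * b⁻¹ = (b * x * b⁻¹) * (b * y * b⁻¹) := by group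
      rw [this]
      exact Subgroup.mul_mem _ ihx ihy
    | inv x hx ih =>
      have : b * x⁻¹ * b⁻¹ = (b * x * b⁻¹)⁻¹ := by group
      rw [this]
      exact Subgroup.inv_mem _ ih
  have hBA : B ≤ Subgroup.normalizer (A : Set (GL D.Idx K)) := by
    rw [hB, Subgroup.closure_le]
    rintro b ⟨q, hq, u, hb⟩
    simp only [List.mem_cons, List.not_mem_nil, or_false] at hq
    subst hq
    rw [SetLike.mem_coe, Subgroup.mem_normalizer_iff]
    intro a
    constructor
    · exact hconj b ⟨u, hb⟩ a
    · intro h
      have hinv : b⁻¹ ∈ gens D K q := by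
        refine ⟨-u, ?_⟩
        have : b⁻¹ = xU hD hq2 (-u) := by
          rw [inv_eq_iff_mul_eq_one]
          apply Units.ext
          rw [Units.val_mul, hb]
          show D.x K q u * D.x K q (-u) = _
          rw [x_mul_x hD hq2, add_neg_cancel, x_zero hD, Units.val_one]
        rw [this]; rfl
      have := hconj b⁻¹ hinv _ h
      have e : b⁻¹ * (b * a * b⁻¹) * b⁻¹⁻¹ = a := by group
      rwa [e] at this
  refine ⟨B ⊔ A, IsPGroup.to_sup_of_normal_right' pB pA hBA, ?_, ?_, ?_, ?_⟩
  · exact le_trans (rootSubgroup_le_closure [q1, q3, q4] (by simp)) le_sup_right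
  · exact le_trans (rootSubgroup_le_closure [q2] (by simp)) le_sup_left
  · exact le_trans (rootSubgroup_le_closure [q1, q3, q4] (by simp)) le_sup_right
  · exact le_trans (rootSubgroup_le_closure [q1, q3, q4] (by simp)) le_sup_right

end Helper12

variable {D : ChevalleyDatum}

/-- [U6] the root subgroups of the terms of the commutator formula of an admissible pair lie in a
common `p`-subgroup (from the shape of the pair, [BT] of the S2398 farm) -/
theorem exists_pgroup_terms {K : Type*} [Field K] [Fintype K] (p : ℕ) [Fact p.Prime] [CharP K p]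
    (hD : D ∈ [chevG2, chevB2, chevD4, chevF4, chevE6, chevE7, chevE8])
    {r s : ℕ} (hS : Cfsg.Agent.Lib.Helper14.StCC.B.ShapeP D r s) :
    ∃ P : Subgroup (GL D.Idx K), IsPGroup p P ∧
      ∀ c ∈ D.commTerms r s, D.rootSubgroup K c.1 ≤ P := by
  rcases hS with h | ⟨q, C, h, hn⟩ | ⟨q1, q2, C1, C2, h, h12, -, -⟩ | ⟨q1, q2, C1, C2, h, h12, -, -⟩ |
    ⟨q1, q2, q3, C11, C21, C12, κ, h, h12, h13, h23, -, -, -, -⟩ |
    ⟨q1, q2, q3, q4, C11, C21, C31, C32, N, N', h, h13, h14, h23, h24, h34, -, -, -, h12, -, -⟩ |
    ⟨q1, q2, q3, q4, C11, C12, C13, C23, N, N', h, h13, h14, h23, h24, h34, -, -, -, h12, -, -⟩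
  · refine ⟨⊥, IsPGroup.of_bot, ?_⟩
    rw [h]
    intro c hc
    exact absurd hc (List.not_mem_nil)
  · have hq : q < D.nroots := hn.2.1
    refine ⟨_, Helper12.isPGroup_of_commR p hD [q] ?_ ?_, ?_⟩
    · intro a ha
      simp only [List.mem_cons, List.not_mem_nil, or_false] at ha
      subst ha; exact hq
    · intro a ha b hb
      simp only [List.mem_cons, List.not_mem_nil, or_false] at ha hb
      subst ha; subst hb
      exact Helper12.commR_self hD hq
    · rw [h]
      intro c hc
      simp only [List.mem_cons, List.not_mem_nil, or_false] at hc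
      subst hc
      exact Helper12.rootSubgroup_le_closure [q] (by simp)
  · have hq1 : q1 < D.nroots := h12.1
    have hq2 : q2 < D.nroots := h12.2.1
    have c12 := Helper12.commR_of_nilP (K := K) hD h12
    refine ⟨_, Helper12.isPGroup_of_commR p hD [q1, q2] ?_ ?_, ?_⟩
    · intro a ha
      simp only [List.mem_cons, List.not_mem_nil, or_false] at ha
      rcases ha with rfl | rfl <;> assumption
    · intro a ha b hb
      simp only [List.mem_cons, List.not_mem_nil, or_false] at ha hb
      rcases ha with rfl | rfl <;> rcases hb with rfl | rfl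
      · exact Helper12.commR_self hD hq1
      · exact c12
      · exact Helper12.commR_symm c12
      · exact Helper12.commR_self hD hq2
    · rw [h]
      intro c hc
      simp only [List.mem_cons, List.not_mem_nil, or_false] at hc
      rcases hc with rfl | rfl
      · exact Helper12.rootSubgroup_le_closure [q1, q2] (by simp)
      · exact Helper12.rootSubgroup_le_closure [q1, q2] (by simp)
  · have hq1 : q1 < D.nroots := h12.1
    have hq2 : q2 < D.nroots := h12.2.1
    have c12 := Helper12.commR_of_nilP (K := K) hD h12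
    refine ⟨_, Helper12.isPGroup_of_commR p hD [q1, q2] ?_ ?_, ?_⟩
    · intro a ha
      simp only [List.mem_cons, List.not_mem_nil, or_false] at ha
      rcases ha with rfl | rfl <;> assumption
    · intro a ha b hb
      simp only [List.mem_cons, List.not_mem_nil, or_false] at ha hb
      rcases ha with rfl | rfl <;> rcases hb with rfl | rfl
      · exact Helper12.commR_self hD hq1
      · exact c12
      · exact Helper12.commR_symm c12
      · exact Helper12.commR_self hD hq2
    · rw [h]
      intro c hc
      simp only [List.mem_cons, List.not_mem_nil, or_false] at hc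
      rcases hc with rfl | rfl
      · exact Helper12.rootSubgroup_le_closure [q1, q2] (by simp)
      · exact Helper12.rootSubgroup_le_closure [q1, q2] (by simp)
  · have hq1 : q1 < D.nroots := h12.1
    have hq2 : q2 < D.nroots := h12.2.1
    have hq3 : q3 < D.nroots := h13.2.1
    have c12 := Helper12.commR_of_nilP (K := K) hD h12
    have c13 := Helper12.commR_of_nilP (K := K) hD h13
    have c23 := Helper12.commR_of_nilP (K := K) hD h23
    refine ⟨_, Helper12.isPGroup_of_commR p hD [q1, q2, q3] ?_ ?_, ?_⟩
    · intro a ha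
      simp only [List.mem_cons, List.not_mem_nil, or_false] at ha
      rcases ha with rfl | rfl | rfl <;> assumption
    · intro a ha b hb
      simp only [List.mem_cons, List.not_mem_nil, or_false] at ha hb
      rcases ha with rfl | rfl | rfl <;> rcases hb with rfl | rfl | rfl
      · exact Helper12.commR_self hD hq1
      · exact c12
      · exact c13
      · exact Helper12.commR_symm c12
      · exact Helper12.commR_self hD hq2
      · exact c23
      · exact Helper12.commR_symm c13
      · exact Helper12.commR_symm c23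
      · exact Helper12.commR_self hD hq3
    · rw [h]
      intro c hc
      simp only [List.mem_cons, List.not_mem_nil, or_false] at hc
      rcases hc with rfl | rfl | rfl
      · exact Helper12.rootSubgroup_le_closure [q1, q2, q3] (by simp)
      · exact Helper12.rootSubgroup_le_closure [q1, q2, q3] (by simp)
      · exact Helper12.rootSubgroup_le_closure [q1, q2, q3] (by simp)
  · obtain ⟨P, hP, l1, l2, l3, l4⟩ := Helper12.isPGroup_four (K := K) p hD h13 h14 h23 h24 h34 h12
    refine ⟨P, hP, ?_⟩
    rw [h]
    intro c hc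
    simp only [List.mem_cons, List.not_mem_nil, or_false] at hc
    rcases hc with rfl | rfl | rfl | rfl <;> assumption
  · obtain ⟨P, hP, l1, l2, l3, l4⟩ := Helper12.isPGroup_four (K := K) p hD h13 h14 h23 h24 h34 h12
    refine ⟨P, hP, ?_⟩
    rw [h]
    intro c hc
    simp only [List.mem_cons, List.not_mem_nil, or_false] at hc
    rcases hc with rfl | rfl | rfl | rfl <;> assumption

end Cfsg.Agent.Lib.Helper29.PLift
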