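import Mathlib

/-!
# Graph invariants of the power graph (helper12 library), part A

Abstract (relation-level) invariants: universal vertices, closed-twin classes `cls`, their size
`kap`, and the set `Low R z`.  All are transported by relation-preserving bijections.
-/

set_option autoImplicit false

namespace Cfsg.Agent.Lib.Helper12.PowerGraph

section Abstract

variable {α β : Type*}

/-- vertices related to everything -/
def univSet (R : α → α → Prop) : Set α := {x | ∀ w, R w x}

/-- vertices with the same closed neighbourhood -/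
def cls (R : α → α → Prop) (x : α) : Set α := {y | ∀ w, R w y ↔ R w x}

/-- size of the twin class -/
noncomputable def kap (R : α → α → Prop) (x : α) : ℕ := (cls R x).ncard

/-- the graph-theoretic candidate for the cyclic subgroup generated by `z` -/
def Low (R : α → α → Prop) (z : α) : Set α :=
  {w | R w z ∧ (w ∈ cls R z ∨ kap R w < kap R z ∨
    (kap R w = kap R z ∧ ∃ t, R t z ∧ ¬ R t w ∧ t ∉ univSet R ∧ kap R t = 1))}

theorem mem_cls_self (R : α → α → Prop) (x : α) : x ∈ cls R x := fun _ => Iff.rfl

variable {R : α → α → Prop} {R' : β → β → Prop} (e : α ≃ β)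
  (hR : ∀ x y, R x y ↔ R' (e x) (e y))

include hR

theorem mem_univSet_map (x : α) : e x ∈ univSet R' ↔ x ∈ univSet R := by
  constructor
  · intro h w
    exact (hR w x).mpr (h (e w))
  · intro h w'
    have := (hR (e.symm w') x).mp (h (e.symm w'))
    simpa using this

theorem mem_cls_map (x y : α) : e y ∈ cls R' (e x) ↔ y ∈ cls R x := by
  constructor
  · intro h w
    rw [hR w y, hR w x]
    exact h (e w)
  · intro h w'
    have := h (e.symm w')
    rw [hR, hR] at this
    simpa using this

theorem cls_map (x : α) : cls R' (e x) = e '' cls R x := by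
  ext y'
  constructor
  · intro h
    refine ⟨e.symm y', ?_, by simp⟩
    rw [← mem_cls_map e hR]
    simpa using h
  · rintro ⟨y, hy, rfl⟩
    exact (mem_cls_map e hR x y).mpr hy

theorem kap_map (x : α) : kap R' (e x) = kap R x := by
  unfold kap
  rw [cls_map e hR, Set.ncard_image_of_injective _ e.injective]

theorem mem_Low_map (z w : α) : e w ∈ Low R' (e z) ↔ w ∈ Low R z := by
  unfold Low
  simp only [Set.mem_ofPred_eq]
  rw [← hR w z, mem_cls_map e hR, kap_map e hR, kap_map e hR]
  constructor
  · rintro ⟨h1, h2⟩
    refine ⟨h1, ?_⟩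
    rcases h2 with h | h | ⟨h3, t', ht1, ht2, ht3, ht4⟩
    · exact Or.inl h
    · exact Or.inr (Or.inl h)
    · refine Or.inr (Or.inr ⟨h3, e.symm t', ?_, ?_, ?_, ?_⟩)
      · rw [hR]; simpa using ht1
      · rw [hR]; simpa using ht2
      · rw [← mem_univSet_map e hR]; simpa using ht3
      · rw [← kap_map e hR]; simpa using ht4
  · rintro ⟨h1, h2⟩
    refine ⟨h1, ?_⟩
    rcases h2 with h | h | ⟨h3, t, ht1, ht2, ht3, ht4⟩
    · exact Or.inl h
    · exact Or.inr (Or.inl h)
    · refine Or.inr (Or.inr ⟨h3, e t, (hR t z).mp ht1, fun h => ht2 ((hR t w).mpr h), ?_, ?_⟩)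
      · rw [mem_univSet_map e hR]; exact ht3
      · rw [kap_map e hR]; exact ht4

theorem Low_map (z : α) : Low R' (e z) = e '' Low R z := by
  ext w'
  constructor
  · intro h
    refine ⟨e.symm w', ?_, by simp⟩
    rw [← mem_Low_map e hR]
    simpa using h
  · rintro ⟨w, hw, rfl⟩
    exact (mem_Low_map e hR z w).mpr hw

end Abstract

end Cfsg.Agent.Lib.Helper12.PowerGraph
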