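import Mathlib
import Cfsg.Agent.Lib.Helper12.PowerGraphA

/-!
# Graph invariants of the power graph (helper12 library), part B

Group-theoretic evaluation of the invariants of part A for the power graph of a finite group.
Main results (assuming the identity is the only universal vertex):
* `Low_eq_zpowers`: for `z` of non-prime-power order, `Low adj z` is the cyclic group `⟨z⟩`;
* `Low_clique`: for `z ≠ 1` of prime-power order, `Low adj z` is a clique;
* `exists_orderOf_eq_mul_of_univ`: a nonidentity universal vertex forces elements of order `pq`.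
-/

set_option autoImplicit false

namespace Cfsg.Agent.Lib.Helper12.PowerGraph

open Subgroup

section Arith

theorem exists_other_prime {n ℓ : ℕ} (hn : n ≠ 0)
    (hnp : ¬ ∃ ℓ k : ℕ, ℓ.Prime ∧ n = ℓ ^ k) (hℓ : ℓ.Prime) :
    ∃ ℓ', ℓ'.Prime ∧ ℓ' ∣ n ∧ ℓ' ≠ ℓ := by
  by_contra hcon
  push Not at hcon
  exact hnp ⟨ℓ, _, hℓ, Nat.eq_prime_pow_of_unique_prime_dvd hn (fun {d} hd hdn => hcon d hd hdn)⟩

theorem exists_incomparable_divisor {n d : ℕ} (hn : n ≠ 0)
    (hnp : ¬ ∃ ℓ k : ℕ, ℓ.Prime ∧ n = ℓ ^ k) (hd : d ∣ n) (hd1 : d ≠ 1) (hdn : d ≠ n) :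
    ∃ m, m ∣ n ∧ ¬ m ∣ d ∧ ¬ d ∣ m := by
  obtain ⟨c, hc⟩ := hd
  have hc1 : c ≠ 1 := by rintro rfl; exact hdn (by rw [hc, mul_one])
  have hℓ : (Nat.minFac c).Prime := Nat.minFac_prime hc1
  have hℓc : Nat.minFac c ∣ c := Nat.minFac_dvd c
  have hm1 : Nat.minFac c ^ n.factorization (Nat.minFac c) ∣ n := Nat.ordProj_dvd n _
  have hm1d : ¬ Nat.minFac c ^ n.factorization (Nat.minFac c) ∣ d := by
    intro h
    have : Nat.minFac c ^ (n.factorization (Nat.minFac c) + 1) ∣ n := by
      rw [pow_succ]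
      conv_rhs => rw [hc]
      exact Nat.mul_dvd_mul h hℓc
    exact Nat.pow_succ_factorization_not_dvd hn hℓ this
  by_cases hdm : d ∣ Nat.minFac c ^ n.factorization (Nat.minFac c)
  · obtain ⟨i, -, hi⟩ := (Nat.dvd_prime_pow hℓ).mp hdm
    have hi0 : i ≠ 0 := by rintro rfl; exact hd1 (by rw [hi, pow_zero])
    obtain ⟨ℓ', hℓ', hℓ'n, hne⟩ := exists_other_prime hn hnp hℓ
    refine ⟨ℓ', hℓ'n, ?_, ?_⟩
    · rw [hi]; intro h
      exact hne ((Nat.prime_dvd_prime_iff_eq hℓ' hℓ).mp (hℓ'.dvd_of_dvd_pow h))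
    · rw [hi]; intro h
      exact hne ((Nat.prime_dvd_prime_iff_eq hℓ hℓ').mp ((dvd_pow_self _ hi0).trans h)).symm
  · exact ⟨_, hm1, hm1d, hdm⟩

theorem totient_le_of_dvd' {d n : ℕ} (hn : n ≠ 0) (h : d ∣ n) : Nat.totient d ≤ Nat.totient n :=
  Nat.le_of_dvd (Nat.totient_pos.mpr (Nat.pos_of_ne_zero hn)) (Nat.totient_dvd_of_dvd h)

theorem eq_two_mul_of_totient_eq {d n : ℕ} (hn : n ≠ 0) (h : d ∣ n) (hne : d ≠ n)
    (heq : Nat.totient d = Nat.totient n) : n = 2 * d ∧ ¬ 2 ∣ d := by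
  obtain ⟨m, rfl⟩ := h
  have hd0 : d ≠ 0 := by rintro rfl; simp at hn
  have hm0 : m ≠ 0 := by rintro rfl; simp at hn
  have hm1 : m ≠ 1 := by rintro rfl; exact hne (by rw [mul_one])
  have key := Nat.totient_gcd_mul_totient_mul d m
  rw [← heq] at key
  have hφd : 0 < Nat.totient d := Nat.totient_pos.mpr (Nat.pos_of_ne_zero hd0)
  have hφm : 0 < Nat.totient m := Nat.totient_pos.mpr (Nat.pos_of_ne_zero hm0)
  have hg : 0 < Nat.gcd d m := Nat.gcd_pos_of_pos_left m (Nat.pos_of_ne_zero hd0)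
  have key2 : Nat.totient (Nat.gcd d m) = Nat.totient m * Nat.gcd d m := by
    have : Nat.totient d * Nat.totient (Nat.gcd d m) =
        Nat.totient d * (Nat.totient m * Nat.gcd d m) := by
      rw [mul_comm, key]; ring
    exact Nat.eq_of_mul_eq_mul_left hφd this
  have hle : Nat.totient (Nat.gcd d m) ≤ Nat.gcd d m := Nat.totient_le _
  have hφm1 : Nat.totient m = 1 := by
    by_contra hcon
    have : 2 ≤ Nat.totient m := by omega
    nlinarith
  have hg1 : Nat.gcd d m = 1 := by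
    by_contra hcon
    have h2 : 1 < Nat.gcd d m := by omega
    have := Nat.totient_lt _ h2
    rw [key2, hφm1, one_mul] at this
    exact lt_irrefl _ this
  have hm2 : m = 2 := by
    rcases Nat.totient_eq_one_iff.mp hφm1 with h | h
    · exact absurd h hm1
    · exact h
  subst hm2
  refine ⟨by ring, ?_⟩
  intro h2
  have : 2 ∣ Nat.gcd d 2 := Nat.dvd_gcd h2 dvd_rfl
  rw [hg1] at this
  exact absurd (Nat.le_of_dvd one_pos this) (by norm_num)

end Arith

variable {G : Type*} [Group G]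

/-- adjacency in the power graph -/
def adj (x y : G) : Prop := x ∈ zpowers y ∨ y ∈ zpowers x

theorem adj_refl (x : G) : adj x x := Or.inl (mem_zpowers x)

theorem adj_symm {x y : G} (h : adj x y) : adj y x := Or.symm h

theorem adj_one_right (x : G) : adj x 1 := Or.inr (one_mem _)

theorem adj_congr {y w : G} (h : zpowers y = zpowers w) (v : G) : adj v y ↔ adj v w := by
  unfold adj
  rw [← zpowers_le (g := y) (H := zpowers v), ← zpowers_le (g := w) (H := zpowers v), h]

theorem zpowers_eq_of_mem_mem {x y : G} (h1 : x ∈ zpowers y) (h2 : y ∈ zpowers x) :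
    zpowers x = zpowers y :=
  le_antisymm (zpowers_le.mpr h1) (zpowers_le.mpr h2)

/-- non-prime-power order -/
def NP (z : G) : Prop := ¬ ∃ ℓ k : ℕ, ℓ.Prime ∧ orderOf z = ℓ ^ k

theorem NP.ne_one {z : G} (h : NP z) : z ≠ 1 := by
  rintro rfl
  exact h ⟨2, 0, Nat.prime_two, by simp⟩

theorem NP.of_mem {z w : G} (h : NP z) (hzw : z ∈ zpowers w) : NP w := by
  rintro ⟨ℓ, k, hℓ, hk⟩
  have := orderOf_dvd_of_mem_zpowers hzw
  rw [hk] at this
  obtain ⟨i, -, hi⟩ := (Nat.dvd_prime_pow hℓ).mp this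
  exact h ⟨ℓ, i, hℓ, hi⟩

section Fin

variable [Finite G]

theorem zpowers_eq_of_mem_of_orderOf_eq {x y : G} (h : x ∈ zpowers y)
    (ho : orderOf x = orderOf y) : zpowers x = zpowers y :=
  Subgroup.eq_of_le_of_card_ge (zpowers_le.mpr h) (by rw [Nat.card_zpowers, Nat.card_zpowers, ho])

theorem ncard_zpowers (x : G) : (zpowers x : Set G).ncard = orderOf x := by
  rw [← Nat.card_coe_set_eq]
  exact Nat.card_zpowers x

theorem mem_zpowers_of_orderOf_dvd {x y₁ y₂ : G} (h1 : y₁ ∈ zpowers x) (h2 : y₂ ∈ zpowers x)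
    (hd : orderOf y₁ ∣ orderOf y₂) : y₁ ∈ zpowers y₂ := by
  obtain ⟨a, rfl⟩ := (Submonoid.mem_powers_iff _ _).mp (mem_powers_iff_mem_zpowers.mpr h1)
  obtain ⟨b, rfl⟩ := (Submonoid.mem_powers_iff _ _).mp (mem_powers_iff_mem_zpowers.mpr h2)
  have hn0 : 0 < orderOf x := orderOf_pos x
  rw [orderOf_pow, orderOf_pow] at hd
  have hga : Nat.gcd (orderOf x) a ∣ orderOf x := Nat.gcd_dvd_left _ _
  have hgb : Nat.gcd (orderOf x) b ∣ orderOf x := Nat.gcd_dvd_left _ _
  have hgb_dvd : Nat.gcd (orderOf x) b ∣ Nat.gcd (orderOf x) a := by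
    obtain ⟨c, hc⟩ := hd
    have e1 : orderOf x = Nat.gcd (orderOf x) a * (orderOf x / Nat.gcd (orderOf x) a) :=
      (Nat.mul_div_cancel' hga).symm
    have e2 : orderOf x = Nat.gcd (orderOf x) b * (orderOf x / Nat.gcd (orderOf x) b) :=
      (Nat.mul_div_cancel' hgb).symm
    have hpos : 0 < orderOf x / Nat.gcd (orderOf x) a :=
      Nat.div_pos (Nat.le_of_dvd hn0 hga) (Nat.gcd_pos_of_pos_left _ hn0)
    refine ⟨c, ?_⟩
    have h3 : Nat.gcd (orderOf x) a * (orderOf x / Nat.gcd (orderOf x) a) =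
        Nat.gcd (orderOf x) b * c * (orderOf x / Nat.gcd (orderOf x) a) := by
      rw [← e1]
      calc orderOf x = Nat.gcd (orderOf x) b * (orderOf x / Nat.gcd (orderOf x) b) := e2
        _ = Nat.gcd (orderOf x) b * (orderOf x / Nat.gcd (orderOf x) a * c) := by rw [hc]
        _ = Nat.gcd (orderOf x) b * c * (orderOf x / Nat.gcd (orderOf x) a) := by ring
    exact Nat.eq_of_mul_eq_mul_right hpos h3
  obtain ⟨c, hc⟩ := hgb_dvd.trans (Nat.gcd_dvd_right (orderOf x) a)
  have hg : x ^ Nat.gcd (orderOf x) b ∈ zpowers (x ^ b) := by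
    rw [Subgroup.mem_zpowers_iff]
    refine ⟨Nat.gcdB (orderOf x) b, ?_⟩
    have h4 := Nat.gcd_eq_gcd_ab (orderOf x) b
    have h5 : x ^ ((Nat.gcd (orderOf x) b : ℕ) : ℤ) = (x ^ (b : ℤ)) ^ Nat.gcdB (orderOf x) b := by
      rw [h4, zpow_add, zpow_mul, zpow_mul, zpow_natCast x (orderOf x), pow_orderOf_eq_one,
        one_zpow, one_mul]
    rw [← zpow_natCast x b, ← h5, zpow_natCast]
  rw [hc, pow_mul]
  exact Subgroup.pow_mem _ hg c

theorem orderOf_pow_div {x : G} {m : ℕ} (hm : m ∣ orderOf x) :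
    orderOf (x ^ (orderOf x / m)) = m := by
  have hx : orderOf x ≠ 0 := (orderOf_pos x).ne'
  rw [orderOf_pow, Nat.gcd_eq_right (Nat.div_dvd_of_dvd hm), Nat.div_div_self hm hx]

theorem ncard_gen (z : G) :
    {y : G | zpowers y = zpowers z}.ncard = Nat.totient (orderOf z) := by
  classical
  letI : Fintype ↥(zpowers z) := Fintype.ofFinite _
  have h1 := IsCyclic.card_orderOf_eq_totient (α := ↥(zpowers z)) (d := orderOf z)
    (by rw [← Nat.card_eq_fintype_card, Nat.card_zpowers])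
  have hset : {y : G | zpowers y = zpowers z} =
      Subtype.val '' {a : ↥(zpowers z) | orderOf a = orderOf z} := by
    ext y
    constructor
    · intro hy
      have hy' : zpowers y = zpowers z := hy
      have hyz : y ∈ zpowers z := hy' ▸ mem_zpowers y
      refine ⟨⟨y, hyz⟩, ?_, rfl⟩
      show orderOf (⟨y, hyz⟩ : ↥(zpowers z)) = orderOf z
      rw [Subgroup.orderOf_mk, ← Nat.card_zpowers y, hy', Nat.card_zpowers]
    · rintro ⟨a, ha, rfl⟩
      have ha' : orderOf a = orderOf z := ha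
      show zpowers (a : G) = zpowers z
      exact zpowers_eq_of_mem_of_orderOf_eq a.2 (by rw [Subgroup.orderOf_coe]; exact ha')
  rw [hset, Set.ncard_image_of_injective _ Subtype.val_injective, Set.ncard_eq_toFinset_card',
    Set.toFinset_ofPred]
  convert h1

theorem adj_of_mem_zpowers_primePow {x v w : G} {ℓ r : ℕ} (hℓ : ℓ.Prime) (hx : orderOf x = ℓ ^ r)
    (hv : v ∈ zpowers x) (hw : w ∈ zpowers x) : adj v w := by
  have h1 := orderOf_dvd_of_mem_zpowers hv
  have h2 := orderOf_dvd_of_mem_zpowers hw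
  rw [hx] at h1 h2
  obtain ⟨a, -, ha⟩ := (Nat.dvd_prime_pow hℓ).mp h1
  obtain ⟨b, -, hb⟩ := (Nat.dvd_prime_pow hℓ).mp h2
  rcases le_total a b with hab | hab
  · exact Or.inl (mem_zpowers_of_orderOf_dvd hv hw (by rw [ha, hb]; exact pow_dvd_pow ℓ hab))
  · exact Or.inr (mem_zpowers_of_orderOf_dvd hw hv (by rw [ha, hb]; exact pow_dvd_pow ℓ hab))

theorem primePow_of_equiv {x y : G} (hxy : ∀ w, adj w y ↔ adj w x) (hy : y ∈ zpowers x)
    (hy1 : y ≠ 1) (hne : zpowers y ≠ zpowers x) : ∃ ℓ k : ℕ, ℓ.Prime ∧ orderOf x = ℓ ^ k := by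
  by_contra hnp
  have hd : orderOf y ∣ orderOf x := orderOf_dvd_of_mem_zpowers hy
  have hdn : orderOf y ≠ orderOf x := fun h => hne (zpowers_eq_of_mem_of_orderOf_eq hy h)
  have hd1 : orderOf y ≠ 1 := fun h => hy1 (orderOf_eq_one_iff.mp h)
  obtain ⟨m, hmn, hmd, hdm⟩ := exists_incomparable_divisor (orderOf_pos x).ne' hnp hd hd1 hdn
  have hvo : orderOf (x ^ (orderOf x / m)) = m := orderOf_pow_div hmn
  have hvx : adj (x ^ (orderOf x / m)) x := Or.inl (Subgroup.pow_mem _ (mem_zpowers x) _)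
  rcases (hxy _).mpr hvx with h | h
  · apply hmd
    rw [← hvo]
    exact orderOf_dvd_of_mem_zpowers h
  · apply hdm
    rw [← hvo]
    exact orderOf_dvd_of_mem_zpowers h

theorem primePow_of_ge {w₁ w₂ : G} (heq : ∀ w, adj w w₁ ↔ adj w w₂) (h12 : w₁ ∈ zpowers w₂)
    (hne : zpowers w₁ ≠ zpowers w₂) (h1 : w₁ ≠ 1) {z : G} (hz : w₁ ∈ zpowers z) :
    ∃ ℓ k : ℕ, ℓ.Prime ∧ orderOf z = ℓ ^ k := by
  obtain ⟨ℓ, r, hℓ, hr⟩ := primePow_of_equiv heq h12 h1 hne
  have hd := orderOf_dvd_of_mem_zpowers h12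
  rw [hr] at hd
  obtain ⟨s, hsr, hs⟩ := (Nat.dvd_prime_pow hℓ).mp hd
  have hsr' : s ≠ r := by
    rintro rfl
    exact hne (zpowers_eq_of_mem_of_orderOf_eq h12 (by rw [hs, hr]))
  have hs0 : s ≠ 0 := by
    rintro rfl
    exact h1 (orderOf_eq_one_iff.mp (by rw [hs, pow_zero]))
  rcases (heq z).mp (Or.inr hz) with h | h
  · have := orderOf_dvd_of_mem_zpowers h
    rw [hr] at this
    obtain ⟨i, -, hi⟩ := (Nat.dvd_prime_pow hℓ).mp this
    exact ⟨ℓ, i, hℓ, hi⟩
  · by_contra hnp
    have hn0 : orderOf z ≠ 0 := (orderOf_pos z).ne'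
    obtain ⟨ℓ', hℓ', hℓ'n, hne'⟩ := exists_other_prime hn0 hnp hℓ
    have hrn : ℓ ^ r ∣ orderOf z := by
      rw [← hr]; exact orderOf_dvd_of_mem_zpowers h
    have hsn : ℓ ^ s ∣ orderOf z := (pow_dvd_pow ℓ hsr).trans hrn
    have hcop : Nat.Coprime (ℓ ^ s) ℓ' :=
      Nat.Coprime.pow_left s ((Nat.coprime_primes hℓ hℓ').mpr hne'.symm)
    have hmn : ℓ ^ s * ℓ' ∣ orderOf z := Nat.Coprime.mul_dvd_of_dvd_of_dvd hcop hsn hℓ'n
    have hvo : orderOf (z ^ (orderOf z / (ℓ ^ s * ℓ'))) = ℓ ^ s * ℓ' := orderOf_pow_div hmn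
    have hvz : z ^ (orderOf z / (ℓ ^ s * ℓ')) ∈ zpowers z := Subgroup.pow_mem _ (mem_zpowers z) _
    have hw1v : w₁ ∈ zpowers (z ^ (orderOf z / (ℓ ^ s * ℓ'))) :=
      mem_zpowers_of_orderOf_dvd hz hvz (by rw [hs, hvo]; exact dvd_mul_right _ _)
    rcases (heq _).mp (Or.inr hw1v) with h' | h'
    · have := orderOf_dvd_of_mem_zpowers h'
      rw [hvo, hr] at this
      have h2 : ℓ' ∣ ℓ ^ r := (dvd_mul_left _ _).trans this
      exact hne' ((Nat.prime_dvd_prime_iff_eq hℓ' hℓ).mp (hℓ'.dvd_of_dvd_pow h2))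
    · have := orderOf_dvd_of_mem_zpowers h'
      rw [hvo, hr] at this
      have hcop' : Nat.Coprime (ℓ ^ r) ℓ' :=
        Nat.Coprime.pow_left r ((Nat.coprime_primes hℓ hℓ').mpr hne'.symm)
      have h2 : ℓ ^ r ∣ ℓ ^ s := hcop'.dvd_of_dvd_mul_right this
      have h3 : r ≤ s := (Nat.pow_dvd_pow_iff_le_right hℓ.one_lt).mp h2
      exact hsr' (le_antisymm hsr h3)

theorem cls_interval {z w x : G} (hx : ∀ v, adj v x ↔ adj v z) (hzw : z ∈ zpowers w)
    (hwx : w ∈ zpowers x) {ℓ r : ℕ} (hℓ : ℓ.Prime) (hxo : orderOf x = ℓ ^ r) :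
    ∀ v, adj v w ↔ adj v z := by
  intro v
  constructor
  · rintro (h | h)
    · exact (hx v).mp (Or.inl (zpowers_le.mpr hwx h))
    · exact Or.inr (zpowers_le.mpr h hzw)
  · intro hvz
    have hvx : adj v x := (hx v).mpr hvz
    rcases hvz with h | h
    · exact Or.inl (zpowers_le.mpr hzw h)
    · rcases hvx with h' | h'
      · exact adj_of_mem_zpowers_primePow hℓ hxo h' hwx
      · exact Or.inr (zpowers_le.mpr h' hwx)

theorem totient_le_kap (w : G) : Nat.totient (orderOf w) ≤ kap adj w := by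
  rw [← ncard_gen]
  exact Set.ncard_le_ncard (fun y hy v => adj_congr hy v) (Set.toFinite _)

theorem orderOf_eq_two_of_kap (t : G) (ht1 : t ≠ 1) (hk : kap adj t = 1) : orderOf t = 2 := by
  have h1 := totient_le_kap t
  rw [hk] at h1
  have h2 : 0 < Nat.totient (orderOf t) := Nat.totient_pos.mpr (orderOf_pos t)
  have h3 : Nat.totient (orderOf t) = 1 := by omega
  rcases Nat.totient_eq_one_iff.mp h3 with h | h
  · exact absurd (orderOf_eq_one_iff.mp h) ht1
  · exact h

section OnlyOne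

variable (hS : ∀ x : G, (∀ w, adj w x) → x = 1)

include hS

theorem cls_eq_gen_of_le_NP {w z : G} (hz : NP z) (hw : w ∈ zpowers z) (hw1 : w ≠ 1) :
    cls adj w = {y | zpowers y = zpowers w} := by
  ext y
  constructor
  · intro hy
    have hy' : ∀ v, adj v y ↔ adj v w := hy
    by_contra hne
    have hne' : zpowers y ≠ zpowers w := hne
    rcases (hy' w).mpr (adj_refl w) with h | h
    · exact hz (primePow_of_ge (fun v => (hy' v).symm) h (Ne.symm hne') hw1 hw)
    · have hy1 : y ≠ 1 := by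
        rintro rfl
        exact hw1 (hS w (fun v => (hy' v).mp (adj_one_right v)))
      exact hz (primePow_of_ge hy' h hne' hy1 (zpowers_le.mpr hw h))
  · intro hy v
    exact adj_congr hy v

theorem kap_of_le_NP {w z : G} (hz : NP z) (hw : w ∈ zpowers z) (hw1 : w ≠ 1) :
    kap adj w = Nat.totient (orderOf w) := by
  unfold kap
  rw [cls_eq_gen_of_le_NP hS hz hw hw1, ncard_gen]

theorem kap_one : kap adj (1 : G) = 1 := by
  have : cls adj (1 : G) = {1} := by
    ext y
    constructor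
    · intro hy
      have hy' : ∀ v, adj v y ↔ adj v 1 := hy
      exact hS y (fun v => (hy' v).mpr (adj_one_right v))
    · intro hy
      have hy' : y = 1 := hy
      rw [hy']
      exact mem_cls_self _ _
  unfold kap
  rw [this, Set.ncard_singleton]

theorem Low_eq_zpowers {z : G} (hz : NP z) : Low adj z = (zpowers z : Set G) := by
  have hz1 : z ≠ 1 := hz.ne_one
  have hn0 : orderOf z ≠ 0 := (orderOf_pos z).ne'
  have hkz : kap adj z = Nat.totient (orderOf z) := kap_of_le_NP hS hz (mem_zpowers z) hz1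
  have hclsz : cls adj z = {y | zpowers y = zpowers z} :=
    cls_eq_gen_of_le_NP hS hz (mem_zpowers z) hz1
  have hn1 : orderOf z ≠ 1 := fun h => hz1 (orderOf_eq_one_iff.mp h)
  have hn2 : orderOf z ≠ 2 := fun h => hz ⟨2, 1, Nat.prime_two, by rw [h, pow_one]⟩
  have hφ2 : 2 ≤ Nat.totient (orderOf z) := by
    have h0 : 0 < Nat.totient (orderOf z) := Nat.totient_pos.mpr (orderOf_pos z)
    have h1 : Nat.totient (orderOf z) ≠ 1 := by
      intro h
      rcases Nat.totient_eq_one_iff.mp h with h | h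
      · exact hn1 h
      · exact hn2 h
    omega
  ext w
  constructor
  · rintro ⟨hadj, hcond⟩
    by_contra hw
    have hw' : w ∉ zpowers z := hw
    have hzw : z ∈ zpowers w := Or.resolve_left hadj hw'
    have hNPw : NP w := hz.of_mem hzw
    have hw1 : w ≠ 1 := hNPw.ne_one
    have hkw : kap adj w = Nat.totient (orderOf w) := kap_of_le_NP hS hNPw (mem_zpowers w) hw1
    have hdvd : orderOf z ∣ orderOf w := orderOf_dvd_of_mem_zpowers hzw
    have hne : orderOf z ≠ orderOf w := by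
      intro h
      have := zpowers_eq_of_mem_of_orderOf_eq hzw h
      exact hw' (this ▸ mem_zpowers w)
    have hw0 : orderOf w ≠ 0 := (orderOf_pos w).ne'
    have hle : Nat.totient (orderOf z) ≤ Nat.totient (orderOf w) := totient_le_of_dvd' hw0 hdvd
    rcases hcond with h1 | h2 | ⟨h3, t, htz, htw, htS, hkt⟩
    · rw [hclsz] at h1
      have h1' : zpowers w = zpowers z := h1
      exact hw' (h1' ▸ mem_zpowers w)
    · rw [hkw, hkz] at h2; omega
    · rw [hkw, hkz] at h3
      obtain ⟨h2n, hodd⟩ := eq_two_mul_of_totient_eq hw0 hdvd hne h3.symm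
      have ht1 : t ≠ 1 := by
        rintro rfl
        exact htS (fun v => adj_one_right v)
      have hto : orderOf t = 2 := orderOf_eq_two_of_kap t ht1 hkt
      rcases htz with h | h
      · apply hodd
        rw [← hto]
        exact orderOf_dvd_of_mem_zpowers h
      · have := orderOf_dvd_of_mem_zpowers h
        rw [hto] at this
        rcases (Nat.dvd_prime Nat.prime_two).mp this with h' | h'
        · exact hn1 h'
        · exact hn2 h'
  · intro hw
    have hw' : w ∈ zpowers z := hw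
    refine ⟨Or.inl hw', ?_⟩
    by_cases hwz : zpowers w = zpowers z
    · left; rw [hclsz]; exact hwz
    · right
      by_cases hw1 : w = 1
      · left; rw [hw1, kap_one hS, hkz]; omega
      · have hkw : kap adj w = Nat.totient (orderOf w) := kap_of_le_NP hS hz hw' hw1
        have hdvd : orderOf w ∣ orderOf z := orderOf_dvd_of_mem_zpowers hw'
        have hne : orderOf w ≠ orderOf z :=
          fun h => hwz (zpowers_eq_of_mem_of_orderOf_eq hw' h)
        have hle : Nat.totient (orderOf w) ≤ Nat.totient (orderOf z) :=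
          totient_le_of_dvd' hn0 hdvd
        by_cases hlt : Nat.totient (orderOf w) < Nat.totient (orderOf z)
        · left; rw [hkw, hkz]; exact hlt
        · right
          have heq : Nat.totient (orderOf w) = Nat.totient (orderOf z) := by omega
          obtain ⟨h2n, hodd⟩ := eq_two_mul_of_totient_eq hn0 hdvd hne heq
          have h2dvd : 2 ∣ orderOf z := ⟨orderOf w, h2n⟩
          have hto : orderOf (z ^ (orderOf z / 2)) = 2 := orderOf_pow_div h2dvd
          have htz : z ^ (orderOf z / 2) ∈ zpowers z := Subgroup.pow_mem _ (mem_zpowers z) _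
          have ht1 : z ^ (orderOf z / 2) ≠ 1 := by
            intro h
            rw [h, orderOf_one] at hto
            omega
          refine ⟨by rw [hkw, hkz, heq], z ^ (orderOf z / 2), Or.inl htz, ?_, ?_, ?_⟩
          · rintro (h | h)
            · apply hodd
              rw [← hto]
              exact orderOf_dvd_of_mem_zpowers h
            · have := orderOf_dvd_of_mem_zpowers h
              rw [hto] at this
              rcases (Nat.dvd_prime Nat.prime_two).mp this with h' | h'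
              · exact hw1 (orderOf_eq_one_iff.mp h')
              · exact hodd (h' ▸ dvd_rfl)
          · intro h
            exact ht1 (hS _ h)
          · rw [kap_of_le_NP hS hz htz ht1, hto, Nat.totient_two]

theorem kap_lt_of_primePow_above {z w : G} (hz1 : z ≠ 1) (hzw : z ∈ zpowers w)
    (hwc : w ∉ cls adj z) {ℓ j : ℕ} (hℓ : ℓ.Prime) (hw : orderOf w = ℓ ^ j) :
    kap adj z < kap adj w := by
  obtain ⟨x, hxc, hxmax⟩ := Set.exists_max_image (cls adj z) orderOf (Set.toFinite _)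
    ⟨z, mem_cls_self _ _⟩
  have hx : ∀ v, adj v x ↔ adj v z := hxc
  have hsub : cls adj z ⊆ (zpowers x : Set G) \ {1} := by
    intro y hy
    have hy' : ∀ v, adj v y ↔ adj v z := hy
    refine ⟨?_, ?_⟩
    · have hyx : adj y x := (hx y).mpr ((hy' y).mp (adj_refl y))
      rcases hyx with h | h
      · exact h
      · have h1 : orderOf x ∣ orderOf y := orderOf_dvd_of_mem_zpowers h
        have h2 : orderOf y ≤ orderOf x := hxmax y hy
        have h3 : orderOf x = orderOf y :=
          le_antisymm (Nat.le_of_dvd (orderOf_pos y) h1) h2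
        have h4 := zpowers_eq_of_mem_of_orderOf_eq h h3
        show y ∈ zpowers x
        rw [h4]; exact mem_zpowers y
    · intro h1
      have h1' : y = 1 := h1
      subst h1'
      exact hz1 (hS z (fun v => (hy' v).mp (adj_one_right v)))
  have hk : kap adj z ≤ orderOf x - 1 := by
    unfold kap
    calc (cls adj z).ncard ≤ ((zpowers x : Set G) \ {1}).ncard :=
          Set.ncard_le_ncard hsub (Set.toFinite _)
      _ = (zpowers x : Set G).ncard - 1 := Set.ncard_sdiff_singleton_of_mem (one_mem _)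
      _ = orderOf x - 1 := by rw [ncard_zpowers]
  have hwx : adj w x := (hx w).mpr (Or.inr hzw)
  rcases hwx with h | h
  · exfalso
    apply hwc
    show ∀ v, adj v w ↔ adj v z
    by_cases hxz : zpowers x = zpowers z
    · have hwz : w ∈ zpowers z := by rw [← hxz]; exact h
      have h5 : zpowers w = zpowers z := zpowers_eq_of_mem_mem hwz hzw
      exact fun v => adj_congr h5 v
    · have hzx : z ∈ zpowers x := zpowers_le.mpr h hzw
      obtain ⟨ℓ₁, r, hℓ₁, hr⟩ := primePow_of_equiv (fun v => (hx v).symm) hzx hz1 (Ne.symm hxz)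
      exact cls_interval hx hzw h hℓ₁ hr
  · have hxw : zpowers x ≠ zpowers w := by
      intro hc
      apply hwc
      show ∀ v, adj v w ↔ adj v z
      exact fun v => (adj_congr hc v).symm.trans (hx v)
    have hd := orderOf_dvd_of_mem_zpowers h
    rw [hw] at hd
    obtain ⟨r, hrj, hr⟩ := (Nat.dvd_prime_pow hℓ).mp hd
    have hrj' : r < j := by
      rcases Nat.lt_or_ge r j with h' | h'
      · exact h'
      · exfalso
        have h6 : r = j := le_antisymm hrj h'
        exact hxw (zpowers_eq_of_mem_of_orderOf_eq h (by rw [hr, hw, h6]))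
    have hφ : Nat.totient (orderOf w) ≤ kap adj w := totient_le_kap w
    rw [hw, Nat.totient_prime_pow hℓ (by omega : 0 < j)] at hφ
    have h1 : ℓ ^ r ≤ ℓ ^ (j - 1) := Nat.pow_le_pow_right hℓ.pos (by omega)
    have h2 : ℓ ^ (j - 1) ≤ ℓ ^ (j - 1) * (ℓ - 1) :=
      Nat.le_mul_of_pos_right _ (by have := hℓ.two_le; omega)
    have h3 : 0 < ℓ ^ r := pow_pos hℓ.pos r
    rw [hr] at hk
    omega

theorem Low_subset {z : G} (hz1 : z ≠ 1) : ∀ w ∈ Low adj z, w ∈ cls adj z ∨ w ∈ zpowers z := by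
  rintro w ⟨hadj, hcond⟩
  by_contra hcon
  push Not at hcon
  obtain ⟨hwc, hwz⟩ := hcon
  have hzw : z ∈ zpowers w := Or.resolve_left hadj hwz
  by_cases hNPw : NP w
  · have hw1 : w ≠ 1 := hNPw.ne_one
    have hkz : kap adj z = Nat.totient (orderOf z) := kap_of_le_NP hS hNPw hzw hz1
    have hkw : kap adj w = Nat.totient (orderOf w) := kap_of_le_NP hS hNPw (mem_zpowers w) hw1
    have hdvd := orderOf_dvd_of_mem_zpowers hzw
    have hne : orderOf z ≠ orderOf w := by
      intro h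
      have := zpowers_eq_of_mem_of_orderOf_eq hzw h
      exact hwz (this ▸ mem_zpowers w)
    have hw0 : orderOf w ≠ 0 := (orderOf_pos w).ne'
    have hle := totient_le_of_dvd' hw0 hdvd
    rcases hcond with h1 | h2 | ⟨h3, t, htz, htw, htS, hkt⟩
    · exact hwc h1
    · rw [hkw, hkz] at h2; omega
    · rw [hkw, hkz] at h3
      obtain ⟨h2n, hodd⟩ := eq_two_mul_of_totient_eq hw0 hdvd hne h3.symm
      have ht1 : t ≠ 1 := by
        rintro rfl
        exact htS (fun v => adj_one_right v)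
      have hto := orderOf_eq_two_of_kap t ht1 hkt
      rcases htz with h | h
      · apply hodd
        rw [← hto]
        exact orderOf_dvd_of_mem_zpowers h
      · have := orderOf_dvd_of_mem_zpowers h
        rw [hto] at this
        rcases (Nat.dvd_prime Nat.prime_two).mp this with h' | h'
        · exact hz1 (orderOf_eq_one_iff.mp h')
        · exact hodd (h' ▸ dvd_rfl)
  · obtain ⟨ℓ', j, hℓ', hj⟩ := not_not.mp hNPw
    have hlt := kap_lt_of_primePow_above hS hz1 hzw hwc hℓ' hj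
    rcases hcond with h1 | h2 | ⟨h3, -⟩
    · exact hwc h1
    · omega
    · omega

theorem Low_clique {z : G} (hz1 : z ≠ 1) (hz : ¬ NP z) :
    ∀ w₁ ∈ Low adj z, ∀ w₂ ∈ Low adj z, adj w₁ w₂ := by
  obtain ⟨ℓ, k, hℓ, hk⟩ := not_not.mp hz
  intro w₁ h₁ w₂ h₂
  have a₁ : adj w₁ z := h₁.1
  have a₂ : adj w₂ z := h₂.1
  rcases Low_subset hS hz1 w₁ h₁ with c₁ | c₁
  · have c₁' : ∀ v, adj v w₁ ↔ adj v z := c₁
    exact adj_symm ((c₁' w₂).mpr a₂)
  · rcases Low_subset hS hz1 w₂ h₂ with c₂ | c₂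
    · have c₂' : ∀ v, adj v w₂ ↔ adj v z := c₂
      exact (c₂' w₁).mpr a₁
    · exact adj_of_mem_zpowers_primePow hℓ hk c₁ c₂

end OnlyOne

theorem exists_orderOf_eq_mul_of_univ {g : G} (hg : ∀ w, adj w g) (hg1 : g ≠ 1) {p q : ℕ}
    (hp : p.Prime) (hq : q.Prime) (hpq : p ≠ q) (hdvd : p * q ∣ Nat.card G) :
    ∃ h : G, orderOf h = p * q := by
  have := Fact.mk hp
  have := Fact.mk hq
  obtain ⟨xp, hxp⟩ := exists_prime_orderOf_dvd_card' p ((dvd_mul_right p q).trans hdvd)
  obtain ⟨xq, hxq⟩ := exists_prime_orderOf_dvd_card' q ((dvd_mul_left q p).trans hdvd)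
  by_cases hm : ∃ ℓ k : ℕ, ℓ.Prime ∧ orderOf g = ℓ ^ k
  · exfalso
    obtain ⟨ℓ, k, hℓ, hk⟩ := hm
    have hk0 : k ≠ 0 := by
      rintro rfl
      exact hg1 (orderOf_eq_one_iff.mp (by rw [hk, pow_zero]))
    have key : ∀ (r : ℕ) (x : G), r.Prime → orderOf x = r → r = ℓ := by
      intro r x hr hx
      rcases hg x with h | h
      · have := orderOf_dvd_of_mem_zpowers h
        rw [hx, hk] at this
        exact (Nat.prime_dvd_prime_iff_eq hr hℓ).mp (hr.dvd_of_dvd_pow this)
      · have := orderOf_dvd_of_mem_zpowers h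
        rw [hx, hk] at this
        exact ((Nat.prime_dvd_prime_iff_eq hℓ hr).mp ((dvd_pow_self ℓ hk0).trans this)).symm
    exact hpq ((key p xp hp hxp).trans (key q xq hq hxq).symm)
  · have key : ∀ (r : ℕ) (x : G), r.Prime → orderOf x = r → x ∈ zpowers g := by
      intro r x hr hx
      rcases hg x with h | h
      · exact h
      · exfalso
        have := orderOf_dvd_of_mem_zpowers h
        rw [hx] at this
        rcases (Nat.dvd_prime hr).mp this with h' | h'
        · exact hm ⟨2, 0, Nat.prime_two, by rw [h', pow_zero]⟩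
        · exact hm ⟨r, 1, hr, by rw [h', pow_one]⟩
    obtain ⟨i, hi⟩ := mem_zpowers_iff.mp (key p xp hp hxp)
    obtain ⟨j, hj⟩ := mem_zpowers_iff.mp (key q xq hq hxq)
    have hcomm : Commute xp xq := by
      rw [← hi, ← hj]; exact Commute.zpow_zpow_self g i j
    refine ⟨xp * xq, ?_⟩
    rw [hcomm.orderOf_mul_eq_mul_orderOf_of_coprime
      (by rw [hxp, hxq]; exact (Nat.coprime_primes hp hq).mpr hpq), hxp, hxq]

end Fin

end Cfsg.Agent.Lib.Helper12.PowerGraph
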