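import Mathlib
import Cfsg.Agent.Lib.Helper16.FHDefs

/-!
# S1142 (Feit–Higman), piece ALG-5: the number theory (Niven)
-/

set_option autoImplicit false

namespace Cfsg.Agent.Lib.Helper12.S1142NT

open Cfsg.Agent.Lib.Helper16.FH Real

/-- Niven for the angles `2π/m`. -/
theorem niven_two_pi_div (m : ℕ) (hm : 2 ≤ m) (h : ∃ c : ℚ, Real.cos (2 * π / m) = c) :
    m = 2 ∨ m = 3 ∨ m = 4 ∨ m = 6 := by
  have hmpos : (0 : ℚ) < m := by exact_mod_cast (by omega : 0 < m)
  have key := niven_angle_div_pi_eq (r := 2 / (m : ℚ)) (by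
    obtain ⟨c, hc⟩ := h
    refine ⟨c, ?_⟩
    rw [← hc]; congr 1; push_cast; ring) (by
    constructor
    · positivity
    · rw [div_le_one hmpos]; exact_mod_cast hm)
  simp only [Set.mem_insert_iff, Set.mem_singleton_iff] at key
  rcases key with h | h | h | h | h
  · exfalso
    rw [div_eq_zero_iff] at h
    rcases h with h | h
    · norm_num at h
    · exact hmpos.ne' h
  · right; right; right
    rw [div_eq_div_iff hmpos.ne' (by norm_num)] at h
    have : (m : ℚ) = 6 := by linarith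
    exact_mod_cast this
  · right; right; left
    rw [div_eq_div_iff hmpos.ne' (by norm_num)] at h
    have : (m : ℚ) = 4 := by linarith
    exact_mod_cast this
  · right; left
    rw [div_eq_div_iff hmpos.ne' (by norm_num)] at h
    have : (m : ℚ) = 3 := by linarith
    exact_mod_cast this
  · left
    rw [div_eq_one_iff_eq hmpos.ne'] at h
    have : (m : ℚ) = 2 := by linarith
    exact_mod_cast this

theorem cos_sq_lt_one (n j : ℕ) (hj : 0 < j) (hjn : 2 * j < n) :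
    Real.cos (2 * π * j / n) ^ 2 < 1 := by
  have hn : (0:ℝ) < n := by exact_mod_cast (by omega : 0 < n)
  have hj' : (0:ℝ) < j := by exact_mod_cast hj
  have hθ0 : 0 < 2 * π * j / n := by positivity
  have hθπ : 2 * π * j / n < π := by
    rw [div_lt_iff₀ hn]
    have : (2 * j : ℝ) < n := by exact_mod_cast hjn
    nlinarith [Real.pi_pos]
  have hs := Real.sin_pos_of_pos_of_lt_pi hθ0 hθπ
  have := Real.sin_sq_add_cos_sq (2 * π * j / n)
  nlinarith

theorem ypar_sq_lt (n j : ℕ) (p q : ℝ) (hp : 0 < p) (hq : 0 < q) (hj : 0 < j) (hjn : 2 * j < n) :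
    ypar n j p q ^ 2 < 4 * p * q := by
  unfold ypar
  have h1 := cos_sq_lt_one n j hj hjn
  have hu : Real.sqrt (p * q) ^ 2 = p * q := Real.sq_sqrt (by positivity)
  have hpq : 0 < p * q := by positivity
  calc (2 * Real.sqrt (p * q) * Real.cos (2 * π * j / n)) ^ 2
      = 4 * (Real.sqrt (p * q)) ^ 2 * Real.cos (2 * π * j / n) ^ 2 := by ring
    _ = 4 * (p * q) * Real.cos (2 * π * j / n) ^ 2 := by rw [hu]
    _ < 4 * (p * q) * 1 := by gcongr
    _ = 4 * p * q := by ring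

theorem rat_of_pair (p q : ℕ) (hp : 2 ≤ p) (hq : 2 ≤ q) (y : ℝ) (hy : y ^ 2 < 4 * p * q)
    (r1 r2 : ℚ) (h1 : rpar (p : ℝ) (q : ℝ) y = r1) (h2 : rpar (p : ℝ) (q : ℝ) (-y) = r2) :
    ∃ c : ℚ, y = c := by
  have hp' : (2 : ℝ) ≤ p := by exact_mod_cast hp
  have hq' : (2 : ℝ) ≤ q := by exact_mod_cast hq
  have hE : (0:ℝ) < 4 * p * q - y ^ 2 := by linarith
  unfold rpar at h1 h2
  rw [div_eq_iff hE.ne'] at h1
  have hE' : 4 * (p:ℝ) * q - (-y) ^ 2 ≠ 0 := by rw [neg_sq]; exact hE.ne'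
  rw [div_eq_iff hE'] at h2
  rw [neg_sq] at h2
  have hsum : ((r1 : ℝ) + r2) * (4 * p * q - y ^ 2)
      = 2 * ((p:ℝ) * q + 1) * (p + q) - 2 * y ^ 2 := by
    linear_combination -h1 - h2
  have hρ : ((r1 : ℝ) + r2) ≠ 2 := by
    intro h
    rw [h] at hsum
    nlinarith [mul_nonneg (by nlinarith : (0:ℝ) ≤ p * q + 1) (by linarith : (0:ℝ) ≤ (p:ℝ) + q - 4)]
  have hρ' : (2 : ℝ) - ((r1 : ℝ) + r2) ≠ 0 := sub_ne_zero.mpr hρ.symm
  have hy2 : y ^ 2 = ((2 * ((p:ℚ) * q + 1) * (p + q) - 4 * p * q * (r1 + r2)) / (2 - (r1 + r2)) : ℚ) := by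
    push_cast
    rw [eq_div_iff hρ']
    linear_combination hsum
  have hdiff : ((r1:ℝ) - r2) * (4 * p * q - y ^ 2) = 2 * ((p:ℝ) - 1) * (q - 1) * y := by
    linear_combination -h1 + h2
  have hpq1 : (2 * ((p:ℝ) - 1) * (q - 1)) ≠ 0 := by
    have : (0:ℝ) < 2 * ((p:ℝ) - 1) * (q - 1) := by
      have h1 : (0:ℝ) < (p:ℝ) - 1 := by linarith
      have h2 : (0:ℝ) < (q:ℝ) - 1 := by linarith
      positivity
    exact this.ne'
  refine ⟨(r1 - r2) * (4 * p * q - (2 * ((p:ℚ) * q + 1) * (p + q) - 4 * p * q * (r1 + r2)) / (2 - (r1 + r2)))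
    / (2 * ((p:ℚ) - 1) * (q - 1)), ?_⟩
  rw [hy2] at hdiff
  push_cast at hdiff ⊢
  rw [eq_div_iff hpq1]
  linear_combination -hdiff

theorem rat_cos_of_odd (n p : ℕ) (hn : 3 ≤ n) (hp : 2 ≤ p) (r : ℚ)
    (h : rpar (p : ℝ) (p : ℝ) (ypar n 1 p p) = r) : ∃ c : ℚ, Real.cos (2 * π / n) = c := by
  have hp' : (2:ℝ) ≤ p := by exact_mod_cast hp
  have hp0 : (0:ℝ) < p := by linarith
  have hlt := ypar_sq_lt n 1 (p:ℝ) p hp0 hp0 (by norm_num) (by omega)
  obtain ⟨y, hy⟩ : ∃ y, y = ypar n 1 (p:ℝ) p := ⟨_, rfl⟩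
  rw [← hy] at h hlt
  have hycos : y = 2 * p * Real.cos (2 * π / n) := by
    rw [hy]; unfold ypar
    rw [Real.sqrt_mul_self hp0.le]; simp
  have h1 : y < 2 * p := by nlinarith
  have h2 : -(2 * p) < y := by nlinarith
  unfold rpar at h
  have hE : (0:ℝ) < 4 * p * p - y ^ 2 := by linarith
  rw [div_eq_iff hE.ne'] at h
  have h3 : (p:ℝ) * p + 1 - y = r * (2 * p - y) := by
    have : (2 * (p:ℝ) + y) ≠ 0 := by linarith
    apply mul_right_cancel₀ this
    linear_combination h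
  have hr1 : (r : ℝ) ≠ 1 := by
    intro hr
    rw [hr] at h3
    nlinarith
  refine ⟨(2 * p * r - p * p - 1) / ((r - 1) * (2 * p)), ?_⟩
  push_cast
  rw [eq_div_iff (mul_ne_zero (sub_ne_zero.mpr hr1) (by positivity))]
  rw [hycos] at h3
  linear_combination h3

theorem ypar_reflect (m j : ℕ) (hj : j ≤ m) (hm : 0 < m) (p q : ℝ) :
    ypar (2 * m) (m - j) p q = - ypar (2 * m) j p q := by
  unfold ypar
  have hm' : (m:ℝ) ≠ 0 := by exact_mod_cast hm.ne'
  have : 2 * π * ((m - j : ℕ) : ℝ) / ((2 * m : ℕ) : ℝ) = π - 2 * π * j / ((2 * m : ℕ) : ℝ) := by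
    rw [Nat.cast_sub hj]; push_cast; field_simp
  rw [this, Real.cos_pi_sub]; ring

/-- **S1142, ALG-5**: rationality of all the Schur elements forces `n ∈ {2, 3, 4, 6, 8}`. -/
theorem nt_main (n p q : ℕ) (hn : 2 ≤ n) (hp : 2 ≤ p) (hq : 2 ≤ q) (hodd : Odd n → p = q)
    (hrat : ∀ j : ℕ, 0 < j → 2 * j < n → ∃ r : ℚ, rpar (p : ℝ) (q : ℝ) (ypar n j p q) = (r : ℝ)) :
    n ∈ ({2, 3, 4, 6, 8} : Set ℕ) := by
  simp only [Set.mem_insert_iff, Set.mem_singleton_iff]
  have hp0 : (0:ℝ) < p := by exact_mod_cast (by omega : 0 < p)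
  have hq0 : (0:ℝ) < q := by exact_mod_cast (by omega : 0 < q)
  rcases Nat.even_or_odd n with he | ho
  · obtain ⟨m, hm⟩ := he
    have hm2 : n = 2 * m := by omega
    subst hm2
    by_cases hm3 : m < 3
    · omega
    push Not at hm3
    have hy : ∀ j, 0 < j → j < m → ∃ c : ℚ, ypar (2 * m) j p q = c := by
      intro j hj hjm
      obtain ⟨r1, h1⟩ := hrat j hj (by omega)
      obtain ⟨r2, h2⟩ := hrat (m - j) (by omega) (by omega)
      rw [ypar_reflect m j hjm.le (by omega)] at h2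
      exact rat_of_pair p q hp hq _ (ypar_sq_lt _ _ _ _ hp0 hq0 hj (by omega)) r1 r2 h1 h2
    obtain ⟨c1, hc1⟩ := hy 1 (by norm_num) (by omega)
    obtain ⟨c2, hc2⟩ := hy 2 (by norm_num) (by omega)
    have hpq : (0:ℝ) < p * q := by positivity
    have hm0 : (m:ℝ) ≠ 0 := by exact_mod_cast (by omega : m ≠ 0)
    have hcos : ∃ c : ℚ, Real.cos (2 * π / m) = c := by
      refine ⟨c1 ^ 2 / (2 * p * q) - 1, ?_⟩
      push_cast
      rw [← hc1]
      unfold ypar
      have : 2 * π / (m:ℝ) = 2 * (2 * π * ((1:ℕ):ℝ) / ((2 * m : ℕ) : ℝ)) := by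
        push_cast; field_simp
      rw [this, Real.cos_two_mul, mul_pow, mul_pow, Real.sq_sqrt hpq.le]
      field_simp
    rcases niven_two_pi_div m (by omega) hcos with h | h | h | h
    · omega
    · omega
    · omega
    · exfalso
      subst h
      have e1 : ypar (2 * 6) 1 p q = Real.sqrt (p * q) * Real.sqrt 3 := by
        unfold ypar
        have : 2 * π * ((1:ℕ):ℝ) / ((2 * 6 : ℕ) : ℝ) = π / 6 := by push_cast; ring
        rw [this, Real.cos_pi_div_six]; ring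
      have e2 : ypar (2 * 6) 2 p q = Real.sqrt (p * q) := by
        unfold ypar
        have : 2 * π * ((2:ℕ):ℝ) / ((2 * 6 : ℕ) : ℝ) = π / 3 := by push_cast; ring
        rw [this, Real.cos_pi_div_three]; ring
      have hu : 0 < Real.sqrt (p * q) := Real.sqrt_pos.mpr hpq
      have h3 : Irrational (Real.sqrt 3) := by
        have := Nat.Prime.irrational_sqrt Nat.prime_three
        simpa using this
      apply h3
      refine ⟨c1 / c2, ?_⟩
      push_cast
      rw [← hc1, ← hc2, e1, e2]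
      field_simp
  · have hpq := hodd ho
    subst hpq
    have hn3 : 3 ≤ n := by
      rcases ho with ⟨k, hk⟩; omega
    obtain ⟨r, hr⟩ := hrat 1 (by norm_num) (by omega)
    have hcos := rat_cos_of_odd n p hn3 hp r hr
    rcases niven_two_pi_div n hn hcos with h | h | h | h
    · omega
    · omega
    · exfalso; subst h; exact absurd ho (by decide)
    · exfalso; subst h; exact absurd ho (by decide)

end Cfsg.Agent.Lib.Helper12.S1142NT
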