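import Mathlib
import Cfsg.Agent.Lib.Helper16.S1237Defs
import Cfsg.Agent.Lib.Helper16.S1237FOC1
import Cfsg.Agent.Lib.Helper7.S2933FOC2
import Cfsg.Agent.S1896

/-!
# S1237 FO-C2 (for helper16): the abelian case is homocyclic of rank 2
-/

set_option autoImplicit false
set_option linter.style.haveILetI false

namespace Cfsg.Agent.Lib.Helper12.S1237FOC2

open Subgroup Cfsg.Agent.Lib.Helper16.S1237

universe u

variable {T : Type u} [Group T] [Finite T] {ρ : MulAut T}

/-- **FO-C2**. -/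
theorem abelian_equiv (H : Hyp ρ) (hc : ∀ a b : T, a * b = b * a) :
    ∃ n : ℕ, 1 ≤ n ∧ Nonempty (T ≃* Multiplicative (ZMod (2 ^ n) × ZMod (2 ^ n))) := by
  classical
  -- `T` is nontrivial
  have hne : (⊤ : Subgroup T) ≠ ⊥ := by
    intro h
    have h1 : ∀ x : T, x = 1 := fun x => by
      have : x ∈ (⊤ : Subgroup T) := mem_top x
      rwa [h, mem_bot] at this
    have h2 : Nat.card {x : T // x * x = 1} ≤ 1 := by
      haveI : Subsingleton {x : T // x * x = 1} :=
        ⟨fun a b => Subtype.ext ((h1 a.1).trans (h1 b.1).symm)⟩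
      exact Finite.card_le_one_iff_subsingleton.mpr inferInstance
    rw [H.card_inv] at h2
    omega
  obtain ⟨n, hn1, hcard, hexp, hom⟩ :=
    Cfsg.Agent.Lib.Helper16.S1237FOC1.card_omega H ⊤ (inv_top ρ) hne (fun a _ b _ => hc a b)
  rw [Subgroup.card_top] at hcard
  -- an element of order `2^n`
  have hex : ∃ x : T, x ^ (2 ^ (n - 1)) ≠ 1 := by
    by_contra hcon
    push Not at hcon
    have h1 := hom (n - 1) (by omega)
    have h2 : Nat.card {x : T // x ∈ (⊤ : Subgroup T) ∧ x ^ (2 ^ (n - 1)) = 1} = Nat.card T := by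
      apply Nat.card_congr
      exact
        { toFun := fun x => x.1
          invFun := fun x => ⟨x, mem_top x, hcon x⟩
          left_inv := fun x => rfl
          right_inv := fun x => rfl }
    rw [h2, hcard] at h1
    have h3 : 4 ^ (n - 1) < 4 ^ n := Nat.pow_lt_pow_right (by norm_num) (by omega)
    omega
  obtain ⟨x, hx⟩ := hex
  have hord : orderOf x = 2 ^ n := by
    have h1 : orderOf x ∣ 2 ^ n := orderOf_dvd_of_pow_eq_one (hexp x (mem_top x))
    obtain ⟨j, hj, hj2⟩ := (Nat.dvd_prime_pow Nat.prime_two).mp h1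
    rcases Nat.lt_or_ge j n with hlt | hge
    · exfalso
      apply hx
      have h2 : 2 ^ j ∣ 2 ^ (n - 1) := pow_dvd_pow 2 (by omega)
      rw [← hj2] at h2
      exact orderOf_dvd_iff_pow_eq_one.mp h2
    · have : j = n := le_antisymm hj hge
      rw [hj2, this]
  have hρord : orderOf (ρ x) = 2 ^ n := by rw [MulEquiv.orderOf_eq, hord]
  have hordg : ∀ g : T, ∃ j : ℕ, orderOf g = 2 ^ j := by
    intro g
    obtain ⟨k, hk⟩ := H.pg g
    exact (Nat.dvd_prime_pow Nat.prime_two).mp (orderOf_dvd_of_pow_eq_one hk) |>.imp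
      (fun j hj => hj.2)
  -- trivial intersection
  have hinf : zpowers x ⊓ zpowers (ρ x) = ⊥ := by
    rw [eq_bot_iff]
    intro z hz
    rw [Subgroup.mem_bot]
    by_contra hz1
    obtain ⟨j, hj⟩ := hordg z
    have hj1 : 1 ≤ j := by
      by_contra h0
      have : j = 0 := by omega
      rw [this, pow_zero, orderOf_eq_one_iff] at hj
      exact hz1 hj
    obtain ⟨j', rfl⟩ : ∃ j', j = j' + 1 := ⟨j - 1, by omega⟩
    have hi2 : z ^ (2 ^ j') * z ^ (2 ^ j') = 1 := by
      rw [← pow_two, ← pow_mul, ← pow_succ, ← hj]; exact pow_orderOf_eq_one z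
    have hi1 : z ^ (2 ^ j') ≠ 1 := by
      intro h1
      have := orderOf_dvd_of_pow_eq_one h1
      rw [hj, pow_succ] at this
      have h2 : 2 ^ j' * 2 ≤ 2 ^ j' := Nat.le_of_dvd (by positivity) this
      have : 0 < 2 ^ j' := by positivity
      omega
    have hix : z ^ (2 ^ j') ∈ zpowers x := (zpowers x).pow_mem hz.1 _
    have hiρ : z ^ (2 ^ j') ∈ zpowers (ρ x) := (zpowers (ρ x)).pow_mem hz.2 _
    have e1 := Cfsg.Agent.Lib.Helper7.S2933.invol_unique x n hn1 hord _ hix hi2 hi1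
    have e2 := Cfsg.Agent.Lib.Helper7.S2933.invol_unique (ρ x) n hn1 hρord _ hiρ hi2 hi1
    rw [← map_pow, ← e1] at e2
    exact hi1 (H.nofix _ hi2 e2.symm)
  -- the join is everything, by counting
  have hinj : Function.Injective (fun p : zpowers x × zpowers (ρ x) =>
      (⟨(p.1 : T) * (p.2 : T), Subgroup.mul_mem_sup p.1.2 p.2.2⟩ :
        ↥(zpowers x ⊔ zpowers (ρ x)))) := by
    rintro ⟨a, b⟩ ⟨a', b'⟩ hab
    have hab' : (a : T) * (b : T) = (a' : T) * (b' : T) := congrArg Subtype.val hab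
    have h1 : (a' : T)⁻¹ * (a : T) = (b' : T) * (b : T)⁻¹ := by
      calc (a' : T)⁻¹ * (a : T) = (a' : T)⁻¹ * ((a : T) * (b : T)) * (b : T)⁻¹ := by group
        _ = (b' : T) * (b : T)⁻¹ := by rw [hab']; group
    have h2 : (a' : T)⁻¹ * (a : T) ∈ zpowers x ⊓ zpowers (ρ x) :=
      ⟨(zpowers x).mul_mem ((zpowers x).inv_mem a'.2) a.2,
        by rw [h1]; exact (zpowers (ρ x)).mul_mem b'.2 ((zpowers (ρ x)).inv_mem b.2)⟩
    rw [hinf, Subgroup.mem_bot] at h2
    have h3 : (a : T) = (a' : T) := by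
      have := congrArg (fun t => (a' : T) * t) h2
      simpa using this
    have h4 : (b : T) = (b' : T) := by
      rw [h3] at hab'
      exact mul_left_cancel hab'
    exact Prod.ext (Subtype.ext h3) (Subtype.ext h4)
  have hge : 4 ^ n ≤ Nat.card ↥(zpowers x ⊔ zpowers (ρ x)) := by
    have h1 := Nat.card_le_card_of_injective _ hinj
    rw [Nat.card_prod, Nat.card_zpowers, Nat.card_zpowers, hord, hρord] at h1
    calc 4 ^ n = 2 ^ n * 2 ^ n := by rw [← mul_pow]; norm_num
      _ ≤ _ := h1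
  have hle : Nat.card ↥(zpowers x ⊔ zpowers (ρ x)) ≤ Nat.card T := Subgroup.card_le_card_group _
  have hsup : zpowers x ⊔ zpowers (ρ x) = ⊤ :=
    (Subgroup.card_eq_iff_eq_top _).mp (le_antisymm hle (by rw [hcard]; exact hge))
  refine ⟨n, hn1, ?_⟩
  letI : CommGroup T := { ‹Group T› with mul_comm := hc }
  obtain ⟨e⟩ := Cfsg.Agent.S1896.nonempty_mulEquiv_prod_zmod (pow_pos (by norm_num) n) hord hρord
    hinf hsup
  exact ⟨e.trans (MulEquiv.prodMultiplicative (G := ZMod (2 ^ n)) (H := ZMod (2 ^ n))).symm⟩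

end Cfsg.Agent.Lib.Helper12.S1237FOC2
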