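import Mathlib
import Cfsg.Prelude.Def_CaseTheorems
import Cfsg.Agent.Lib.Helper16.S1237Defs
import Cfsg.Agent.Lib.Helper16.S1237FOA

/-!
# S1237 FO-J (for helper16): from the statement's hypotheses to `Hyp ρ`
-/

set_option autoImplicit false
set_option linter.style.haveILetI false

namespace Cfsg.Agent.Lib.Helper12.S1237FOJ

open Subgroup Cfsg.Agent.Lib.Helper16.S1237

theorem pow_apply_eq_iterate {T : Type*} [Group T] (φ : MulAut T) (j : ℕ) (y : T) :
    (φ ^ j) y = (⇑φ)^[j] y := by
  induction j with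
  | zero => simp
  | succ j ih =>
    rw [pow_succ', MulAut.mul_apply, ih, Function.iterate_succ_apply']

/-- **FO-J**. -/
theorem exists_hyp {T : Type*} [Group T] [Finite T] (hT : IsPGroup 2 T) (h2 : Cfsg.PRankLE 2 2 T)
    (h1 : ¬ Cfsg.PRankLE 2 1 T) (φ : MulAut T)
    (htrans : ∀ s t : T, orderOf s = 2 → orderOf t = 2 → ∃ k : ℕ, (φ ^ k) s = t) :
    ∃ ρ : MulAut T, Hyp ρ := by
  classical
  haveI : Fact (Nat.Prime 2) := ⟨Nat.prime_two⟩
  haveI : Fintype T := Fintype.ofFinite T
  unfold Cfsg.PRankLE at h1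
  push Not at h1
  obtain ⟨A, hAc, hA2, hAcard⟩ := h1
  have hord2 : ∀ x : T, orderOf x = 2 ↔ (x * x = 1 ∧ x ≠ 1) := by
    intro x
    rw [orderOf_eq_prime_iff, pow_two]
  -- `T` is nontrivial
  obtain ⟨a, ha1⟩ : ∃ a : A, a ≠ 1 := by
    by_contra hne
    push Not at hne
    have : Nat.card A ≤ 1 := by
      haveI : Subsingleton A := ⟨fun x y => (hne x).trans (hne y).symm⟩
      exact Finite.card_le_one_iff_subsingleton.mpr inferInstance
    omega
  have ha1' : (a : T) ≠ 1 := fun h => ha1 (Subtype.ext h)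
  haveI : Nontrivial T := ⟨⟨(a : T), 1, ha1'⟩⟩
  -- a central involution
  haveI := hT.center_nontrivial
  obtain ⟨z, hz1⟩ := exists_ne (1 : center T)
  have hz1' : (z : T) ≠ 1 := fun h => hz1 (Subtype.ext h)
  obtain ⟨j, hj1, hj2⟩ := Cfsg.Agent.Lib.Helper16.S1237FOA.exists_inv_pow hT (z : T) hz1'
  have hz0c : (z : T) ^ (2 ^ j) ∈ center T := (center T).pow_mem z.2 _
  have hz0ord : orderOf ((z : T) ^ (2 ^ j)) = 2 := (hord2 _).mpr ⟨hj2, hj1⟩
  -- all involutions are central
  have hcent : ∀ x : T, x * x = 1 → x ∈ center T := by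
    intro x hx
    by_cases hx1 : x = 1
    · rw [hx1]; exact one_mem _
    · obtain ⟨k, hk⟩ := htrans _ x hz0ord ((hord2 x).mpr ⟨hx, hx1⟩)
      rw [← hk]
      exact inv_center (φ ^ k) _ hz0c
  -- the subgroup of solutions of `x * x = 1`
  let Ω : Subgroup T :=
    { carrier := {x | x * x = 1}
      one_mem' := by simp
      mul_mem' := by
        intro x y hx hy
        have hx' : x * x = 1 := hx
        have hy' : y * y = 1 := hy
        have hyc := mem_center_iff.mp (hcent y hy') x
        show x * y * (x * y) = 1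
        calc x * y * (x * y) = x * (y * x) * y := by group
          _ = x * (x * y) * y := by rw [← hyc]
          _ = (x * x) * (y * y) := by group
          _ = 1 := by rw [hx', hy', one_mul]
      inv_mem' := by
        intro x hx
        have hx' : x * x = 1 := hx
        show x⁻¹ * x⁻¹ = 1
        rw [← mul_inv_rev, hx', inv_one] }
  have hΩmem : ∀ x : T, x ∈ Ω ↔ x * x = 1 := fun x => Iff.rfl
  have hΩcomm : IsMulCommutative Ω := by
    refine ⟨⟨fun x y => Subtype.ext ?_⟩⟩
    have hyc := mem_center_iff.mp (hcent y.1 y.2) x.1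
    show (x : T) * (y : T) = (y : T) * (x : T)
    exact hyc
  have hΩle : Nat.card Ω ≤ 4 := by
    have h := h2 Ω hΩcomm (fun x hx => by rw [pow_two]; exact hx)
    have e : (2 : ℕ) ^ 2 = 4 := by norm_num
    omega
  have hAΩ : A ≤ Ω := by
    intro x hx
    have := hA2 x hx
    rw [pow_two] at this
    exact this
  have hΩge : 3 ≤ Nat.card Ω := by
    have h := Subgroup.card_le_of_le hAΩ
    have e : (2 : ℕ) ^ 1 = 2 := by norm_num
    omega
  have hΩ4 : Nat.card Ω = 4 := by
    obtain ⟨n, hn⟩ := (hT.to_subgroup Ω).exists_card_eq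
    rw [hn] at hΩle hΩge ⊢
    have hn2 : n ≤ 2 := by
      by_contra hcon
      have : 2 ^ 3 ≤ 2 ^ n := Nat.pow_le_pow_right (by norm_num) (by omega)
      omega
    interval_cases n <;> omega
  -- finset versions
  have hS4 : (Finset.univ.filter (fun t : T => t * t = 1)).card = 4 := by
    rw [← hΩ4, Nat.card_eq_fintype_card, Fintype.card_subtype]
    congr 1
  -- the 3-part of `φ`
  have hφpos : orderOf φ ≠ 0 := (orderOf_pos φ).ne'
  obtain ⟨k, m, hm3, hkm⟩ := Nat.exists_eq_pow_mul_and_not_dvd hφpos 3 (by norm_num)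
  refine ⟨φ ^ m, ?_⟩
  refine
    { pg := hT
      pow3 := ⟨k, ?_⟩
      card_inv := ?_
      central := hcent
      nofix := ?_ }
  · rw [← pow_mul, mul_comm, ← hkm, pow_orderOf_eq_one]
  · rw [← hΩ4]
    exact Nat.card_congr (Equiv.subtypeEquivRight (fun x => (hΩmem x).symm))
  · intro v hv2 hvfix
    by_contra hv1
    apply hm3
    have hfix' : (⇑φ)^[m] v = v := by rw [← pow_apply_eq_iterate]; exact hvfix
    have hdvd : Function.minimalPeriod (⇑φ) v ∣ m :=
      Function.IsPeriodicPt.minimalPeriod_dvd hfix'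
    have hmpos : 0 < m := by
      rcases Nat.eq_zero_or_pos m with h0 | h0
      · rw [h0, mul_zero] at hkm
        exact absurd hkm hφpos
      · exact h0
    have hdpos : 0 < Function.minimalPeriod (⇑φ) v :=
      Function.IsPeriodicPt.minimalPeriod_pos hmpos hfix'
    -- the orbit is the set of the three involutions
    have hinvo : ∀ i : ℕ, (⇑φ)^[i] v * (⇑φ)^[i] v = 1 ∧ (⇑φ)^[i] v ≠ 1 := by
      intro i
      rw [← pow_apply_eq_iterate]
      refine ⟨by rw [← map_mul, hv2, map_one], fun h => hv1 ?_⟩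
      exact (φ ^ i).injective (h.trans (map_one _).symm)
    have hO : (Finset.range (Function.minimalPeriod (⇑φ) v)).image (fun i => (⇑φ)^[i] v) =
        (Finset.univ.filter (fun t : T => t * t = 1)).erase 1 := by
      ext t
      simp only [Finset.mem_image, Finset.mem_range, Finset.mem_erase, Finset.mem_filter,
        Finset.mem_univ, true_and]
      constructor
      · rintro ⟨i, _, rfl⟩
        exact ⟨(hinvo i).2, (hinvo i).1⟩
      · rintro ⟨ht1, ht2⟩
        obtain ⟨i, hi⟩ := htrans v t ((hord2 v).mpr ⟨hv2, hv1⟩) ((hord2 t).mpr ⟨ht2, ht1⟩)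
        refine ⟨i % Function.minimalPeriod (⇑φ) v, Nat.mod_lt _ hdpos, ?_⟩
        rw [Function.iterate_mod_minimalPeriod_eq, ← pow_apply_eq_iterate]
        exact hi
    have hcardO : ((Finset.range (Function.minimalPeriod (⇑φ) v)).image
        (fun i => (⇑φ)^[i] v)).card = Function.minimalPeriod (⇑φ) v := by
      rw [Finset.card_image_of_injOn, Finset.card_range]
      intro i hi i' hi' hii'
      have hi0 : i ∈ Set.Iio (Function.minimalPeriod (⇑φ) v) := by simpa using hi
      have hi0' : i' ∈ Set.Iio (Function.minimalPeriod (⇑φ) v) := by simpa using hi'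
      exact Function.iterate_injOn_Iio_minimalPeriod hi0 hi0' hii'
    have h3 : Function.minimalPeriod (⇑φ) v = 3 := by
      rw [← hcardO, hO, Finset.card_erase_of_mem (by simp), hS4]
    rw [h3] at hdvd
    exact hdvd

end Cfsg.Agent.Lib.Helper12.S1237FOJ
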