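import Mathlib
import Cfsg.Agent.Lib.Helper12.S1903Defs
import Cfsg.Agent.Lib.Helper29.S1903FOA

set_option autoImplicit false
set_option linter.style.haveILetI false
set_option linter.unusedSectionVars false
set_option linter.unusedSimpArgs false

namespace Cfsg.Agent.Lib.Helper12.S1903

open Cfsg.Agent.Lib.Helper29.S1903FOA
open scoped commutatorElement



/-- the centre of `P = commutator X`, as a subgroup of `X` -/
def Zs (X : Type*) [Group X] : Subgroup X :=
  (Subgroup.center (commutator X)).map (commutator X).subtype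

/-- The hypotheses of S1903. -/
structure Hyp (X : Type*) [Group X] : Prop where
  card : Nat.card X = 320
  cardP : Nat.card (commutator X) = 64
  klein : IsKleinFour (Subgroup.center (commutator X))

section
variable {X : Type*} [Group X]

theorem mem_Zs {z : X} : z ∈ Zs X ↔ z ∈ commutator X ∧ ∀ p ∈ commutator X, p * z = z * p := by
  unfold Zs
  constructor
  · rintro ⟨y, hy, rfl⟩
    refine ⟨y.2, fun p hp => ?_⟩
    have := (Subgroup.mem_center_iff.mp hy) ⟨p, hp⟩
    exact congrArg Subtype.val this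
  · rintro ⟨hz, hc⟩
    refine ⟨⟨z, hz⟩, ?_, rfl⟩
    rw [SetLike.mem_coe, Subgroup.mem_center_iff]
    intro p
    exact Subtype.ext (hc p.1 p.2)

theorem Zs_le : Zs X ≤ commutator X := fun _ hz => (mem_Zs.mp hz).1

instance Zs_normal : (Zs X).Normal := by
  constructor
  intro z hz x
  obtain ⟨hzP, hc⟩ := mem_Zs.mp hz
  have hP : (commutator X).Normal := inferInstance
  refine mem_Zs.mpr ⟨hP.conj_mem z hzP x, fun p hp => ?_⟩
  have hp' : x⁻¹ * p * x ∈ commutator X := by
    have := hP.conj_mem p hp x⁻¹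
    simpa using this
  have h1 := hc _ hp'
  calc p * (x * z * x⁻¹) = x * ((x⁻¹ * p * x) * z) * x⁻¹ := by group
    _ = x * (z * (x⁻¹ * p * x)) * x⁻¹ := by rw [h1]
    _ = x * z * x⁻¹ * p := by group

theorem card_Zs (h : Hyp X) : Nat.card (Zs X) = 4 := by
  have e := (Subgroup.center (commutator X)).equivMapOfInjective (commutator X).subtype
    (Subgroup.subtype_injective _)
  have := Nat.card_congr e.toEquiv
  unfold Zs
  rw [← this]
  exact @IsKleinFour.card_four _ _ h.klein

theorem sq_Zs (h : Hyp X) {z : X} (hz : z ∈ Zs X) : z * z = 1 := by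
  obtain ⟨y, hy, rfl⟩ := hz
  have h2 : (⟨y, hy⟩ : Subgroup.center (commutator X)) ^ 2 = 1 := by
    have := Monoid.pow_exponent_eq_one (⟨y, hy⟩ : Subgroup.center (commutator X))
    rwa [@IsKleinFour.exponent_two _ _ h.klein] at this
  have h3 : y ^ 2 = 1 := by
    have := congrArg Subtype.val h2
    simpa using this
  have h4 : (y : X) ^ 2 = 1 := by
    have := congrArg Subtype.val h3
    simpa using this
  rw [← pow_two]
  exact h4

end




section
variable {X : Type*} [Group X] [Finite X]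

theorem exists_sigma (h : Hyp X) : ∃ σ : X, orderOf σ = 5 := by
  classical
  haveI : Fintype X := Fintype.ofFinite X
  haveI : Fact (Nat.Prime 5) := ⟨by norm_num⟩
  apply exists_prime_orderOf_dvd_card 5
  rw [← Nat.card_eq_fintype_card, h.card]
  norm_num

theorem not_mem_of_orderOf (h : Hyp X) {σ : X} (hσ : orderOf σ = 5) : σ ∉ commutator X := by
  intro hm
  have h1 : orderOf (⟨σ, hm⟩ : commutator X) ∣ Nat.card (commutator X) := orderOf_dvd_natCard _
  rw [h.cardP] at h1
  have h2 : orderOf (⟨σ, hm⟩ : commutator X) = orderOf σ := by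
    rw [← Subgroup.orderOf_coe]
  rw [h2, hσ] at h1
  norm_num at h1

theorem sup_eq_top (h : Hyp X) {τ : X} (hτ : τ ∉ commutator X) :
    commutator X ⊔ Subgroup.zpowers τ = ⊤ := by
  apply Subgroup.eq_top_of_card_eq
  have h1 : Nat.card (commutator X) ∣ Nat.card (commutator X ⊔ Subgroup.zpowers τ : Subgroup X) :=
    Subgroup.card_dvd_of_le le_sup_left
  have h2 : Nat.card (commutator X ⊔ Subgroup.zpowers τ : Subgroup X) ∣ Nat.card X :=
    Subgroup.card_subgroup_dvd_card _
  rw [h.cardP] at h1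
  rw [h.card] at h2 ⊢
  have h3 : Nat.card (commutator X ⊔ Subgroup.zpowers τ : Subgroup X) ≠ 64 := by
    intro h64
    have : commutator X = commutator X ⊔ Subgroup.zpowers τ :=
      Subgroup.eq_of_le_of_card_ge le_sup_left (by rw [h64, h.cardP])
    apply hτ
    rw [this]
    exact Subgroup.mem_sup_right (Subgroup.mem_zpowers τ)
  obtain ⟨m, hm⟩ := h1
  rw [hm] at h2 h3 ⊢
  have hm5 : m ∣ 5 := by
    have : 64 * m ∣ 64 * 5 := by norm_num; exact h2
    exact Nat.dvd_of_mul_dvd_mul_left (by norm_num) this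
  have : m = 1 ∨ m = 5 := (Nat.dvd_prime (by norm_num)).mp hm5
  rcases this with rfl | rfl
  · exact absurd rfl h3
  · rfl

theorem exists_mul (h : Hyp X) {τ : X} (hτ : τ ∉ commutator X) (x : X) :
    ∃ p ∈ commutator X, ∃ s ∈ Subgroup.zpowers τ, x = p * s := by
  have hx : x ∈ (commutator X ⊔ Subgroup.zpowers τ : Subgroup X) := by
    rw [sup_eq_top h hτ]; exact Subgroup.mem_top x
  rw [← SetLike.mem_coe, Subgroup.normal_mul] at hx
  obtain ⟨p, hp, s, hs, rfl⟩ := hx
  exact ⟨p, hp, s, hs, rfl⟩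

theorem isPGroup_P (h : Hyp X) : IsPGroup 2 (commutator X) :=
  IsPGroup.of_card (n := 6) (by rw [h.cardP]; norm_num)

theorem commutator_P_ne (h : Hyp X) : ⁅commutator X, commutator X⁆ ≠ commutator X := by
  haveI : Fact (Nat.Prime 2) := ⟨Nat.prime_two⟩
  haveI : Group.IsNilpotent (commutator X) := (isPGroup_P h).isNilpotent
  haveI : Nontrivial (commutator X) := by
    rw [← Finite.one_lt_card_iff_nontrivial, h.cardP]; norm_num
  have hlt := Group.IsSolvable.commutator_lt_top_of_nontrivial (commutator X)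
  intro heq
  rw [← Subgroup.map_subtype_commutator] at heq
  have : commutator (commutator X) = ⊤ := by
    rw [eq_top_iff]
    intro y _
    have hy : (y : X) ∈ Subgroup.map (commutator X).subtype (commutator (commutator X)) := by
      rw [heq]; exact y.2
    obtain ⟨y', hy', hyy⟩ := hy
    have : y' = y := Subtype.ext hyy
    rwa [← this]
  exact hlt.ne this

/-- No element outside `P` centralizes `P`. -/
theorem not_centralizes (h : Hyp X) {τ : X} (hτ : τ ∉ commutator X)
    (hc : ∀ p ∈ commutator X, τ * p = p * τ) : False := by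
  -- `zpowers τ` is central
  have hsP : ∀ s ∈ Subgroup.zpowers τ, ∀ p ∈ commutator X, s * p = p * s := by
    intro s hs p hp
    have : s ∈ Subgroup.centralizer ({p} : Set X) := by
      have hτc : τ ∈ Subgroup.centralizer ({p} : Set X) :=
        Subgroup.mem_centralizer_singleton_iff.mpr (hc p hp)
      exact (Subgroup.zpowers_le.mpr hτc) hs
    exact Subgroup.mem_centralizer_singleton_iff.mp this
  have hss : ∀ s ∈ Subgroup.zpowers τ, ∀ s' ∈ Subgroup.zpowers τ, s * s' = s' * s := by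
    intro s hs s' hs'
    obtain ⟨k, rfl⟩ := Subgroup.mem_zpowers_iff.mp hs
    obtain ⟨l, rfl⟩ := Subgroup.mem_zpowers_iff.mp hs'
    rw [← zpow_add, ← zpow_add, add_comm]
  have hcent : ∀ s ∈ Subgroup.zpowers τ, ∀ y : X, s * y = y * s := by
    intro s hs y
    obtain ⟨p, hp, s', hs', rfl⟩ := exists_mul h hτ y
    rw [← mul_assoc, hsP s hs p hp, mul_assoc, hss s hs s' hs', mul_assoc]
  apply commutator_P_ne h
  apply le_antisymm
  · exact Subgroup.commutator_le_right _ _
  · conv_lhs => rw [commutator_def]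
    rw [Subgroup.commutator_le]
    intro x _ y _
    obtain ⟨p, hp, s, hs, rfl⟩ := exists_mul h hτ x
    obtain ⟨p', hp', s', hs', rfl⟩ := exists_mul h hτ y
    have h1 : ⁅p * s, p' * s'⁆ = ⁅p, p'⁆ := by
      rw [commutatorElement_def, commutatorElement_def]
      have e1 : p * s * (p' * s') * (p * s)⁻¹ = p * (p' * s') * p⁻¹ := by
        rw [mul_inv_rev]
        calc p * s * (p' * s') * (s⁻¹ * p⁻¹) = p * (s * (p' * s') * s⁻¹) * p⁻¹ := by group
          _ = p * (p' * s') * p⁻¹ := by rw [hcent s hs, mul_inv_cancel_right]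
      rw [e1, mul_inv_rev]
      calc p * (p' * s') * p⁻¹ * (s'⁻¹ * p'⁻¹) = p * p' * (s' * p⁻¹ * s'⁻¹) * p'⁻¹ := by group
        _ = p * p' * p⁻¹ * p'⁻¹ := by rw [hcent s' hs', mul_inv_cancel_right]
    rw [h1]
    exact Subgroup.commutator_mem_commutator hp hp'

end




section
variable {X : Type*} [Group X] [Finite X]

theorem pow5_of_orderOf {σ : X} (hσ : orderOf σ = 5) : σ ^ 5 = 1 := by
  rw [← hσ]; exact pow_orderOf_eq_one σ

theorem Zs_fixed (h : Hyp X) {σ : X} (hσ : orderOf σ = 5) {z : X} (hz : z ∈ Zs X) :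
    σ * z * σ⁻¹ = z := by
  have h1 := card_modEq_card_centralizer σ (pow5_of_orderOf hσ) (Zs X)
    (fun w hw => Zs_normal.conj_mem w hw σ)
  have h2 : Nat.card (Zs X ⊓ Subgroup.centralizer {σ} : Subgroup X) ∣ Nat.card (Zs X) :=
    Subgroup.card_dvd_of_le inf_le_left
  rw [card_Zs h] at h1 h2
  have h3 : Nat.card (Zs X ⊓ Subgroup.centralizer {σ} : Subgroup X) = 4 := by
    have hle := Nat.le_of_dvd (by norm_num) h2
    generalize Nat.card (Zs X ⊓ Subgroup.centralizer {σ} : Subgroup X) = c at *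
    interval_cases c <;> simp_all [Nat.ModEq]
  have h4 : Zs X ⊓ Subgroup.centralizer {σ} = Zs X :=
    Subgroup.eq_of_le_of_card_ge inf_le_left (by rw [h3, card_Zs h])
  have h5 : z ∈ Subgroup.centralizer ({σ} : Set X) := by
    have : z ∈ Zs X ⊓ Subgroup.centralizer {σ} := by rw [h4]; exact hz
    exact this.2
  rw [Subgroup.mem_centralizer_singleton_iff] at h5
  rw [← h5, mul_inv_cancel_right]

theorem Zs_le_center (h : Hyp X) : Zs X ≤ Subgroup.center X := by
  obtain ⟨σ, hσ⟩ := exists_sigma h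
  intro z hz
  rw [Subgroup.mem_center_iff]
  intro y
  obtain ⟨p, hp, s, hs, rfl⟩ := exists_mul h (not_mem_of_orderOf h hσ) y
  have h1 : p * z = z * p := (mem_Zs.mp hz).2 p hp
  have h2 : s * z = z * s := by
    have hσz : σ ∈ Subgroup.centralizer ({z} : Set X) := by
      rw [Subgroup.mem_centralizer_singleton_iff]
      have := Zs_fixed h hσ hz
      calc σ * z = σ * z * σ⁻¹ * σ := by group
        _ = z * σ := by rw [this]
    have := (Subgroup.zpowers_le.mpr hσz) hs
    exact Subgroup.mem_centralizer_singleton_iff.mp this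
  rw [mul_assoc, h2, ← mul_assoc, h1, mul_assoc]

theorem Zs_comm (h : Hyp X) {z : X} (hz : z ∈ Zs X) (y : X) : y * z = z * y :=
  Subgroup.mem_center_iff.mp (Zs_le_center h hz) y

theorem pow_two_dvd_cases {c : ℕ} (hc : c ∣ 64) :
    c = 1 ∨ c = 2 ∨ c = 4 ∨ c = 8 ∨ c = 16 ∨ c = 32 ∨ c = 64 := by
  have : c ∣ 2 ^ 6 := by norm_num; exact hc
  obtain ⟨m, hm, rfl⟩ := (Nat.dvd_prime_pow Nat.prime_two).mp this
  interval_cases m <;> simp

theorem centralizer_eq (h : Hyp X) {σ : X} (hσ : orderOf σ = 5) :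
    commutator X ⊓ Subgroup.centralizer {σ} = Zs X := by
  have hP : (commutator X).Normal := inferInstance
  have h1 := card_modEq_card_centralizer σ (pow5_of_orderOf hσ) (commutator X)
    (fun w hw => hP.conj_mem w hw σ)
  have hle : Zs X ≤ commutator X ⊓ Subgroup.centralizer {σ} := by
    intro z hz
    refine Subgroup.mem_inf.mpr ⟨Zs_le hz, ?_⟩
    rw [Subgroup.mem_centralizer_singleton_iff]
    exact (Zs_comm h hz σ).symm
  have h2 : Nat.card (commutator X ⊓ Subgroup.centralizer {σ} : Subgroup X) ∣ 64 := by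
    rw [← h.cardP]; exact Subgroup.card_dvd_of_le inf_le_left
  have h3 : 4 ∣ Nat.card (commutator X ⊓ Subgroup.centralizer {σ} : Subgroup X) := by
    rw [← card_Zs h]; exact Subgroup.card_dvd_of_le hle
  have h4 : Nat.card (commutator X ⊓ Subgroup.centralizer {σ} : Subgroup X) ≠ 64 := by
    intro h64
    have : commutator X ⊓ Subgroup.centralizer {σ} = commutator X :=
      Subgroup.eq_of_le_of_card_ge inf_le_left (by rw [h64, h.cardP])
    apply not_centralizes h (not_mem_of_orderOf h hσ)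
    intro p hp
    have hp' : p ∈ commutator X ⊓ Subgroup.centralizer {σ} := by rw [this]; exact hp
    exact (Subgroup.mem_centralizer_singleton_iff.mp hp'.2).symm
  rw [h.cardP] at h1
  have h5 : Nat.card (commutator X ⊓ Subgroup.centralizer {σ} : Subgroup X) = 4 := by
    generalize Nat.card (commutator X ⊓ Subgroup.centralizer {σ} : Subgroup X) = c at *
    rcases pow_two_dvd_cases h2 with rfl | rfl | rfl | rfl | rfl | rfl | rfl <;>
      simp_all [Nat.ModEq]
  exact (Subgroup.eq_of_le_of_card_ge hle (by rw [h5, card_Zs h])).symm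

/-- `σ` acts fixed-point-freely on `P / Z`. -/
theorem fpf (h : Hyp X) {σ : X} (hσ : orderOf σ = 5) {x : X} (hx : x ∈ commutator X)
    (hxz : x⁻¹ * (σ * x * σ⁻¹) ∈ Zs X) : x ∈ Zs X := by
  obtain ⟨z, hz⟩ : ∃ z, z = x⁻¹ * (σ * x * σ⁻¹) := ⟨_, rfl⟩
  rw [← hz] at hxz
  have hσx : σ * x * σ⁻¹ = x * z := by rw [hz]; group
  have key : ∀ k : ℕ, σ ^ k * x * (σ ^ k)⁻¹ = x * z ^ k := by
    intro k
    induction k with
    | zero => simp
    | succ k ih =>
      have hzk : z ^ k ∈ Zs X := pow_mem hxz k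
      calc σ ^ (k + 1) * x * (σ ^ (k + 1))⁻¹
          = σ * (σ ^ k * x * (σ ^ k)⁻¹) * σ⁻¹ := by rw [pow_succ']; group
        _ = σ * (x * z ^ k) * σ⁻¹ := by rw [ih]
        _ = (σ * x * σ⁻¹) * (σ * z ^ k * σ⁻¹) := by group
        _ = x * z * z ^ k := by rw [hσx, Zs_fixed h hσ hzk]
        _ = x * z ^ (k + 1) := by rw [pow_succ', mul_assoc]
  have h5 := key 5
  rw [pow5_of_orderOf hσ] at h5
  simp only [one_mul, inv_one, mul_one] at h5
  have hz5 : z ^ 5 = 1 := by
    have : x * 1 = x * z ^ 5 := by rw [mul_one]; exact h5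
    exact (mul_left_cancel this).symm
  have hz2 : z * z = 1 := sq_Zs h hxz
  have hz1 : z = 1 := by
    calc z = z ^ 5 * ((z * z)⁻¹ * (z * z)⁻¹) := by group
      _ = 1 := by rw [hz5, hz2]; simp
  rw [hz1, mul_one] at hσx
  rw [← centralizer_eq h hσ]
  refine Subgroup.mem_inf.mpr ⟨hx, ?_⟩
  rw [Subgroup.mem_centralizer_singleton_iff]
  calc x * σ = (σ * x * σ⁻¹) * σ := by rw [hσx]
    _ = σ * x := by group

/-- Irreducibility of `P / Z` under `σ`. -/
theorem irred (h : Hyp X) {σ : X} (hσ : orderOf σ = 5) (W : Subgroup X)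
    (hWP : W ≤ commutator X) (hZW : Zs X ≤ W) (hW : ∀ w ∈ W, σ * w * σ⁻¹ ∈ W) :
    W = Zs X ∨ W = commutator X := by
  have h1 := card_modEq_card_centralizer σ (pow5_of_orderOf hσ) W hW
  have hfix : W ⊓ Subgroup.centralizer {σ} = Zs X := by
    apply le_antisymm
    · rw [← centralizer_eq h hσ]
      exact inf_le_inf_right _ hWP
    · rw [← centralizer_eq h hσ]
      intro z hz
      rw [centralizer_eq h hσ] at hz
      refine Subgroup.mem_inf.mpr ⟨hZW hz, ?_⟩
      rw [Subgroup.mem_centralizer_singleton_iff]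
      exact (Zs_comm h hz σ).symm
  rw [hfix, card_Zs h] at h1
  have h2 : Nat.card W ∣ 64 := by rw [← h.cardP]; exact Subgroup.card_dvd_of_le hWP
  have h3 : 4 ∣ Nat.card W := by rw [← card_Zs h]; exact Subgroup.card_dvd_of_le hZW
  have h4 : Nat.card W = 4 ∨ Nat.card W = 64 := by
    generalize Nat.card W = c at *
    rcases pow_two_dvd_cases h2 with rfl | rfl | rfl | rfl | rfl | rfl | rfl <;>
      simp_all [Nat.ModEq]
  rcases h4 with h4 | h4
  · left
    exact (Subgroup.eq_of_le_of_card_ge hZW (by rw [h4, card_Zs h])).symm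
  · right
    exact Subgroup.eq_of_le_of_card_ge hWP (by rw [h4, h.cardP])

end




section
variable {X : Type*} [Group X] [Finite X]

/-- preimage of the centre of `P / Z` -/
def W2 (X : Type*) [Group X] : Subgroup X where
  carrier := {x | x ∈ commutator X ∧ ∀ y ∈ commutator X, x * y * x⁻¹ * y⁻¹ ∈ Zs X}
  one_mem' := ⟨one_mem _, fun y _ => by simp⟩
  mul_mem' := by
    rintro x x' ⟨hx, hxc⟩ ⟨hx', hxc'⟩
    refine ⟨mul_mem hx hx', fun y hy => ?_⟩
    have e : (x * x') * y * (x * x')⁻¹ * y⁻¹ =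
        (x * (x' * y * x'⁻¹ * y⁻¹) * x⁻¹) * (x * y * x⁻¹ * y⁻¹) := by group
    rw [e]
    exact mul_mem (Zs_normal.conj_mem _ (hxc' y hy) x) (hxc y hy)
  inv_mem' := by
    rintro x ⟨hx, hxc⟩
    refine ⟨inv_mem hx, fun y hy => ?_⟩
    have e : x⁻¹ * y * x⁻¹⁻¹ * y⁻¹ = x⁻¹ * (x * y * x⁻¹ * y⁻¹)⁻¹ * x⁻¹⁻¹ := by group
    rw [e]
    exact Zs_normal.conj_mem _ (inv_mem (hxc y hy)) x⁻¹

theorem exists_W2_not_Zs (h : Hyp X) : ∃ x ∈ W2 X, x ∉ Zs X := by
  haveI : Fact (Nat.Prime 2) := ⟨Nat.prime_two⟩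
  have hPG : IsPGroup 2 (commutator X) := isPGroup_P h
  have hQ : IsPGroup 2 (commutator X ⧸ Subgroup.center (commutator X)) := hPG.to_quotient _
  -- an element outside the centre
  have hne : Subgroup.center (commutator X) ≠ ⊤ := by
    intro htop
    have h1 : Nat.card (Subgroup.center (commutator X)) = 4 := @IsKleinFour.card_four _ _ h.klein
    rw [htop, Subgroup.card_top, h.cardP] at h1
    norm_num at h1
  obtain ⟨x0, hx0⟩ : ∃ x0 : commutator X, x0 ∉ Subgroup.center (commutator X) := by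
    by_contra hcon
    push Not at hcon
    exact hne (eq_top_iff.mpr fun x _ => hcon x)
  haveI : Nontrivial (commutator X ⧸ Subgroup.center (commutator X)) := by
    refine ⟨⟨QuotientGroup.mk x0, 1, ?_⟩⟩
    rw [Ne, QuotientGroup.eq_one_iff]
    exact hx0
  haveI : Nontrivial (Subgroup.center (commutator X ⧸ Subgroup.center (commutator X))) :=
    hQ.center_nontrivial
  obtain ⟨⟨q, hq⟩, hq1⟩ := exists_ne (1 : Subgroup.center (commutator X ⧸ Subgroup.center (commutator X)))
  have hq1' : q ≠ 1 := fun hh => hq1 (Subtype.ext hh)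
  obtain ⟨x, rfl⟩ := QuotientGroup.mk_surjective q
  refine ⟨(x : X), ⟨x.2, fun y hy => ?_⟩, ?_⟩
  · have hcomm := Subgroup.mem_center_iff.mp hq (QuotientGroup.mk (⟨y, hy⟩ : commutator X))
    have h1 : (QuotientGroup.mk (x * ⟨y, hy⟩ * x⁻¹ * (⟨y, hy⟩ : commutator X)⁻¹) :
        commutator X ⧸ Subgroup.center (commutator X)) = 1 := by
      simp only [QuotientGroup.mk_mul, QuotientGroup.mk_inv]
      rw [← hcomm]
      group
    rw [QuotientGroup.eq_one_iff] at h1
    exact ⟨_, h1, rfl⟩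
  · intro hxZ
    apply hq1'
    rw [QuotientGroup.eq_one_iff]
    obtain ⟨y, hy, hyx⟩ := hxZ
    have : y = x := Subtype.ext hyx
    rwa [← this]

/-- `P' ≤ Z`. -/
theorem comm_mem_Zs (h : Hyp X) {x y : X} (hx : x ∈ commutator X) (hy : y ∈ commutator X) :
    x * y * x⁻¹ * y⁻¹ ∈ Zs X := by
  obtain ⟨σ, hσ⟩ := exists_sigma h
  have hP : (commutator X).Normal := inferInstance
  have hW : ∀ w ∈ W2 X, σ * w * σ⁻¹ ∈ W2 X := by
    rintro w ⟨hw, hwc⟩
    refine ⟨hP.conj_mem w hw σ, fun y hy => ?_⟩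
    have hy' : σ⁻¹ * y * σ ∈ commutator X := by
      have := hP.conj_mem y hy σ⁻¹
      simpa using this
    have e : σ * w * σ⁻¹ * y * (σ * w * σ⁻¹)⁻¹ * y⁻¹ =
        σ * (w * (σ⁻¹ * y * σ) * w⁻¹ * (σ⁻¹ * y * σ)⁻¹) * σ⁻¹ := by group
    rw [e]
    exact Zs_normal.conj_mem _ (hwc _ hy') σ
  have hZW : Zs X ≤ W2 X := by
    intro z hz
    refine ⟨Zs_le hz, fun y _ => ?_⟩
    rw [← Zs_comm h hz y]
    simp
  have hWP : W2 X ≤ commutator X := fun x hx => hx.1
  rcases irred h hσ (W2 X) hWP hZW hW with h1 | h1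
  · obtain ⟨x, hxW, hxZ⟩ := exists_W2_not_Zs h
    rw [h1] at hxW
    exact absurd hxW hxZ
  · have : x ∈ W2 X := by rw [h1]; exact hx
    exact this.2 y hy

/-- elements of `P` with square in `Z` -/
def W3 (h : Hyp X) : Subgroup X where
  carrier := {x | x ∈ commutator X ∧ x * x ∈ Zs X}
  one_mem' := ⟨one_mem _, by simp [one_mem]⟩
  mul_mem' := by
    rintro x y ⟨hx, hxx⟩ ⟨hy, hyy⟩
    refine ⟨mul_mem hx hy, ?_⟩
    have e : (x * y) * (x * y) = (x * (y * x * y⁻¹ * x⁻¹) * x⁻¹) * (x * x) * (y * y) := by group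
    rw [e]
    exact mul_mem (mul_mem (Zs_normal.conj_mem _ (comm_mem_Zs h hy hx) x) hxx) hyy
  inv_mem' := by
    rintro x ⟨hx, hxx⟩
    refine ⟨inv_mem hx, ?_⟩
    have e : x⁻¹ * x⁻¹ = (x * x)⁻¹ := by group
    rw [e]
    exact inv_mem hxx

theorem exists_not_mem_Zs (h : Hyp X) : ∃ y ∈ commutator X, y ∉ Zs X := by
  by_contra hcon
  push Not at hcon
  have : commutator X = Zs X := le_antisymm (fun y hy => hcon y hy) Zs_le
  have h1 := card_Zs h
  rw [← this, h.cardP] at h1
  norm_num at h1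

theorem exists_W3_not_Zs (h : Hyp X) : ∃ x ∈ W3 h, x ∉ Zs X := by
  classical
  obtain ⟨y, hy, hyZ⟩ := exists_not_mem_Zs h
  have hex : ∃ k : ℕ, y ^ (2 ^ k) ∈ Zs X := by
    refine ⟨6, ?_⟩
    have : y ^ 64 = 1 := by
      have h1 : (⟨y, hy⟩ : commutator X) ^ Nat.card (commutator X) = 1 := pow_card_eq_one'
      rw [h.cardP] at h1
      have := congrArg Subtype.val h1
      simpa using this
    norm_num
    rw [this]
    exact one_mem _
  have hmin : ∀ m, m < Nat.find hex → ¬ y ^ (2 ^ m) ∈ Zs X := fun m hm => Nat.find_min hex hm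
  have hspec := Nat.find_spec hex
  obtain ⟨k, hk⟩ : ∃ k, k = Nat.find hex := ⟨_, rfl⟩
  rw [← hk] at hspec
  rcases Nat.eq_zero_or_pos k with h0 | hpos
  · rw [h0] at hspec
    simp only [pow_zero, pow_one] at hspec
    exact absurd hspec hyZ
  · obtain ⟨k', rfl⟩ : ∃ k', k = k' + 1 := ⟨k - 1, by omega⟩
    refine ⟨y ^ (2 ^ k'), ⟨pow_mem hy _, ?_⟩, ?_⟩
    · rw [← pow_add, ← two_mul, ← pow_succ']
      exact hspec
    · exact hmin k' (by rw [← hk]; omega)

/-- squares of elements of `P` lie in `Z`. -/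
theorem sq_mem_Zs (h : Hyp X) {x : X} (hx : x ∈ commutator X) : x * x ∈ Zs X := by
  obtain ⟨σ, hσ⟩ := exists_sigma h
  have hP : (commutator X).Normal := inferInstance
  have hW : ∀ w ∈ W3 h, σ * w * σ⁻¹ ∈ W3 h := by
    rintro w ⟨hw, hww⟩
    refine ⟨hP.conj_mem w hw σ, ?_⟩
    have e : σ * w * σ⁻¹ * (σ * w * σ⁻¹) = σ * (w * w) * σ⁻¹ := by group
    rw [e]
    exact Zs_normal.conj_mem _ hww σ
  have hZW : Zs X ≤ W3 h := by
    intro z hz
    refine ⟨Zs_le hz, ?_⟩
    rw [sq_Zs h hz]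
    exact one_mem _
  have hWP : W3 h ≤ commutator X := fun x hx => hx.1
  rcases irred h hσ (W3 h) hWP hZW hW with h1 | h1
  · obtain ⟨x, hxW, hxZ⟩ := exists_W3_not_Zs h
    rw [h1] at hxW
    exact absurd hxW hxZ
  · have : x ∈ W3 h := by rw [h1]; exact hx
    exact this.2

end


end Cfsg.Agent.Lib.Helper12.S1903
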