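import Mathlib
import Cfsg.Agent.Lib.Helper12.S1903A

set_option autoImplicit false
set_option linter.style.haveILetI false
set_option linter.unusedSectionVars false
set_option linter.unusedSimpArgs false

namespace Cfsg.Agent.Lib.Helper12.S1903

open Cfsg.Agent.Lib.Helper29.S1903FOA
open scoped commutatorElement



section
variable {X : Type*} [Group X]

theorem gi_succ (σ g : X) (i : ℕ) : gi σ g (i + 1) = σ * gi σ g i * σ⁻¹ := by
  unfold gi; rw [pow_succ']; group

theorem gi_conj_pow (σ g : X) (i k : ℕ) : σ ^ k * gi σ g i * (σ ^ k)⁻¹ = gi σ g (i + k) := by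
  unfold gi; rw [add_comm, pow_add]; group

theorem gi_add_five {σ : X} (hσ : σ ^ 5 = 1) (g : X) (i : ℕ) : gi σ g (i + 5) = gi σ g i := by
  unfold gi; rw [pow_add, hσ, mul_one]

theorem gi_mem (σ : X) {g : X} (hg : g ∈ commutator X) (i : ℕ) : gi σ g i ∈ commutator X := by
  have hP : (commutator X).Normal := inferInstance
  exact hP.conj_mem g hg (σ ^ i)

theorem gi_mul_central (σ g : X) {z : X} (hz : ∀ y : X, y * z = z * y) (i : ℕ) :
    gi σ (g * z) i = gi σ g i * z := by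
  unfold gi
  rw [mul_assoc, mul_assoc, ← hz, ← mul_assoc, ← mul_assoc]

/-- conjugating a commutator -/
theorem conj_comm (s a b : X) :
    s * (a * b * a⁻¹ * b⁻¹) * s⁻¹ = (s * a * s⁻¹) * (s * b * s⁻¹) * (s * a * s⁻¹)⁻¹ * (s * b * s⁻¹)⁻¹ := by
  group

end

section
variable {X : Type*} [Group X] [Finite X]

theorem exists_normalized (h : Hyp X) {σ : X} (hσ : orderOf σ = 5) :
    ∃ g ∈ commutator X, g ∉ Zs X ∧ gi σ g 4 = g * gi σ g 1 * gi σ g 2 * gi σ g 3 := by
  obtain ⟨g, hg, hgZ⟩ := exists_not_mem_Zs h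
  have hσ5 := pow5_of_orderOf hσ
  have hm : ∀ i, gi σ g i ∈ commutator X := gi_mem σ hg
  obtain ⟨u, hu⟩ : ∃ u, u = g * gi σ g 1 * gi σ g 2 * gi σ g 3 := ⟨_, rfl⟩
  have huP : u ∈ commutator X := by
    rw [hu]; exact mul_mem (mul_mem (mul_mem hg (hm 1)) (hm 2)) (hm 3)
  obtain ⟨w, hw⟩ : ∃ w, w = u * gi σ g 4 := ⟨_, rfl⟩
  have hwP : w ∈ commutator X := by rw [hw]; exact mul_mem huP (hm 4)
  have hg0 : gi σ g 0 = g := gi_zero σ g
  have hσw : σ * w * σ⁻¹ = g⁻¹ * w * g := by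
    have e1 : σ * w * σ⁻¹ = (σ * gi σ g 0 * σ⁻¹) * (σ * gi σ g 1 * σ⁻¹) * (σ * gi σ g 2 * σ⁻¹) *
        (σ * gi σ g 3 * σ⁻¹) * (σ * gi σ g 4 * σ⁻¹) := by
      rw [hw, hu, hg0]; group
    rw [e1, ← gi_succ, ← gi_succ, ← gi_succ, ← gi_succ, ← gi_succ]
    have e5 : gi σ g (4 + 1) = g := by
      have := gi_add_five hσ5 g 0
      rw [hg0] at this
      exact this
    rw [e5, hw, hu]
    group
  have hwZ : w ∈ Zs X := by
    apply fpf h hσ hwP
    rw [hσw]
    have := comm_mem_Zs h (inv_mem hwP) (inv_mem hg)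
    simpa [mul_assoc] using this
  have huu : u * u ∈ Zs X := sq_mem_Zs h huP
  obtain ⟨zs, hzs⟩ : ∃ zs, zs = (u * u)⁻¹ * w := ⟨_, rfl⟩
  have hzsZ : zs ∈ Zs X := by rw [hzs]; exact mul_mem (inv_mem huu) hwZ
  have hzc : ∀ y : X, y * zs = zs * y := Zs_comm h hzsZ
  have hzs2 : zs * zs = 1 := sq_Zs h hzsZ
  have hg4 : gi σ g 4 = u * zs := by
    rw [hzs, hw]; group
  refine ⟨g * zs, mul_mem hg (Zs_le hzsZ), ?_, ?_⟩
  · intro hcon
    apply hgZ
    have : g = g * zs * zs⁻¹ := by group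
    rw [this]
    exact mul_mem hcon (inv_mem hzsZ)
  · rw [gi_mul_central σ g hzc, gi_mul_central σ g hzc, gi_mul_central σ g hzc,
      gi_mul_central σ g hzc, hg4]
    have e : g * zs * (gi σ g 1 * zs) * (gi σ g 2 * zs) * (gi σ g 3 * zs) =
        g * gi σ g 1 * gi σ g 2 * gi σ g 3 * (zs * zs) * (zs * zs) := by
      have c1' := hzc (gi σ g 1)
      have c2' := hzc (gi σ g 2)
      have c3' := hzc (gi σ g 3)
      calc g * zs * (gi σ g 1 * zs) * (gi σ g 2 * zs) * (gi σ g 3 * zs)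
          = g * (zs * gi σ g 1) * zs * (gi σ g 2 * zs) * (gi σ g 3 * zs) := by group
        _ = g * (gi σ g 1 * zs) * zs * (gi σ g 2 * zs) * (gi σ g 3 * zs) := by rw [← c1']
        _ = g * gi σ g 1 * (zs * zs) * (gi σ g 2 * zs) * (gi σ g 3 * zs) := by group
        _ = g * gi σ g 1 * (gi σ g 2 * zs) * (gi σ g 3 * zs) := by rw [hzs2, mul_one]
        _ = g * gi σ g 1 * gi σ g 2 * (zs * gi σ g 3) * zs := by group
        _ = g * gi σ g 1 * gi σ g 2 * (gi σ g 3 * zs) * zs := by rw [← c3']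
        _ = g * gi σ g 1 * gi σ g 2 * gi σ g 3 * (zs * zs) := by group
        _ = g * gi σ g 1 * gi σ g 2 * gi σ g 3 * (zs * zs) * (zs * zs) := by
            rw [hzs2, mul_one, mul_one]
    rw [e, hzs2, mul_one, mul_one, ← hu, mul_assoc, hzs2, mul_one]

end




section
variable {X : Type*} [Group X] [Finite X]

/-- commutators of the `g_i` are central, so they are `σ`-invariant -/
theorem comm_gi_shift (h : Hyp X) {σ : X} (hσ : orderOf σ = 5) {g : X} (hg : g ∈ commutator X)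
    (i j k : ℕ) :
    gi σ g (i + k) * gi σ g (j + k) * (gi σ g (i + k))⁻¹ * (gi σ g (j + k))⁻¹ =
      gi σ g i * gi σ g j * (gi σ g i)⁻¹ * (gi σ g j)⁻¹ := by
  have hZ := comm_mem_Zs h (gi_mem σ hg i) (gi_mem σ hg j)
  rw [← gi_conj_pow, ← gi_conj_pow σ g j k, ← conj_comm]
  rw [Zs_comm h hZ (σ ^ k), mul_inv_cancel_right]

theorem inv_eq_self_of_mem_Zs (h : Hyp X) {z : X} (hz : z ∈ Zs X) : z⁻¹ = z := by
  have := sq_Zs h hz
  exact inv_eq_of_mul_eq_one_left this

/-- the relations hold for a normalized `g`. -/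
theorem rel_of_normalized (h : Hyp X) {σ : X} (hσ : orderOf σ = 5) {g : X} (hg : g ∈ commutator X)
    (hr5 : gi σ g 4 = g * gi σ g 1 * gi σ g 2 * gi σ g 3) : Rel σ g := by
  have hσ5 := pow5_of_orderOf hσ
  have hm : ∀ i, gi σ g i ∈ commutator X := gi_mem σ hg
  have hg0 : gi σ g 0 = g := gi_zero σ g
  have hc1Z : c1 σ g ∈ Zs X := comm_mem_Zs h hg (hm 1)
  have hc2Z : c2 σ g ∈ Zs X := comm_mem_Zs h hg (hm 2)
  have hc3Z : g * gi σ g 3 * g⁻¹ * (gi σ g 3)⁻¹ ∈ Zs X := comm_mem_Zs h hg (hm 3)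
  -- c3
  have hc3 : g * gi σ g 3 * g⁻¹ * (gi σ g 3)⁻¹ = c2 σ g := by
    have e1 := comm_gi_shift h hσ hg 0 3 2
    rw [hg0] at e1
    have e5 : gi σ g (3 + 2) = g := by
      have := gi_add_five hσ5 g 0
      rwa [hg0] at this
    rw [e5] at e1
    -- e1 : g_2 * g * g_2⁻¹ * g⁻¹ = g * g_3 * g⁻¹ * g_3⁻¹
    rw [← e1]
    have : gi σ g (0 + 2) * g * (gi σ g (0 + 2))⁻¹ * g⁻¹ = (c2 σ g)⁻¹ := by
      unfold c2; simp only [zero_add]; group
    rw [this, inv_eq_self_of_mem_Zs h hc2Z]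
  -- squares
  obtain ⟨z0, hz0⟩ : ∃ z0, z0 = g * g := ⟨_, rfl⟩
  have hz0Z : z0 ∈ Zs X := by rw [hz0]; exact sq_mem_Zs h hg
  have hsq : ∀ i, gi σ g i * gi σ g i = z0 := by
    intro i
    have : gi σ g i * gi σ g i = σ ^ i * (g * g) * (σ ^ i)⁻¹ := by unfold gi; group
    rw [this, ← hz0, Zs_comm h hz0Z (σ ^ i), mul_inv_cancel_right]
  have hgsq : g * g = c1 σ g * c2 σ g := by
    have key := sq_prod_four (Zs X) (Zs_le_center h) (fun z hz => sq_Zs h hz)
      g (gi σ g 1) (gi σ g 2) (gi σ g 3) z0 hz0Z hz0.symm (hsq 1) (hsq 2) (hsq 3)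
      (comm_mem_Zs h hg (hm 1)) (comm_mem_Zs h hg (hm 2)) (comm_mem_Zs h hg (hm 3))
      (comm_mem_Zs h (hm 1) (hm 2)) (comm_mem_Zs h (hm 1) (hm 3)) (comm_mem_Zs h (hm 2) (hm 3))
    rw [← hr5, hsq 4] at key
    have e12 := comm_gi_shift h hσ hg 0 1 1
    have e13 := comm_gi_shift h hσ hg 0 2 1
    have e23 := comm_gi_shift h hσ hg 0 1 2
    simp only [zero_add, hg0] at e12 e13 e23
    norm_num at e12 e13 e23
    rw [e12, e13, e23, hc3] at key
    change z0 = c1 σ g * c2 σ g * c2 σ g * (c1 σ g * c2 σ g * c1 σ g) at key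
    rw [← hz0, key]
    have s1 := sq_Zs h hc1Z
    have s2 := sq_Zs h hc2Z
    have cc : c2 σ g * c1 σ g = c1 σ g * c2 σ g := Zs_comm h hc1Z (c2 σ g)
    calc c1 σ g * c2 σ g * c2 σ g * (c1 σ g * c2 σ g * c1 σ g)
        = c1 σ g * (c2 σ g * c2 σ g) * (c1 σ g * (c2 σ g * c1 σ g)) := by group
      _ = c1 σ g * (c2 σ g * c2 σ g) * (c1 σ g * (c1 σ g * c2 σ g)) := by rw [cc]
      _ = c1 σ g * (c2 σ g * c2 σ g) * ((c1 σ g * c1 σ g) * c2 σ g) := by group
      _ = c1 σ g * c2 σ g := by rw [s1, s2, mul_one, one_mul]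
  exact
    { s5 := hσ5
      c1σ := (Zs_comm h hc1Z σ).symm
      c1g := (Zs_comm h hc1Z g).symm
      c2σ := (Zs_comm h hc2Z σ).symm
      c2g := (Zs_comm h hc2Z g).symm
      c1sq := sq_Zs h hc1Z
      c2sq := sq_Zs h hc2Z
      gsq := hgsq
      c3 := hc3
      r5 := hr5 }

end




section
variable {X : Type*} [Group X]

theorem comm_mul_central {a b z z' : X} (hz : ∀ y : X, z * y = y * z) (hz' : ∀ y : X, z' * y = y * z') :
    ⁅a * z, b * z'⁆ = ⁅a, b⁆ := by
  rw [commutatorElement_def, commutatorElement_def]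
  have e1 : a * z * (b * z') * (a * z)⁻¹ = a * (b * z') * a⁻¹ := by
    rw [mul_inv_rev]
    calc a * z * (b * z') * (z⁻¹ * a⁻¹) = a * (z * (b * z') * z⁻¹) * a⁻¹ := by group
      _ = a * (b * z') * a⁻¹ := by rw [hz, mul_inv_cancel_right]
  rw [e1, mul_inv_rev]
  calc a * (b * z') * a⁻¹ * (z'⁻¹ * b⁻¹) = a * b * (z' * a⁻¹ * z'⁻¹) * b⁻¹ := by group
    _ = a * b * a⁻¹ * b⁻¹ := by rw [hz', mul_inv_cancel_right]

theorem mem_zpowers_of_sq {c a : X} (hc : c * c = 1) (ha : a ∈ Subgroup.zpowers c) : a = 1 ∨ a = c := by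
  obtain ⟨k, rfl⟩ := Subgroup.mem_zpowers_iff.mp ha
  have hc2 : c ^ (2 : ℤ) = 1 := by rw [zpow_two]; exact hc
  have hk : c ^ k = c ^ (k % 2) := by
    conv_lhs => rw [← Int.mul_ediv_add_emod k 2]
    rw [zpow_add, zpow_mul, hc2, one_zpow, one_mul]
  rcases Int.emod_two_eq_zero_or_one k with h0 | h1
  · left; rw [hk, h0, zpow_zero]
  · right; rw [hk, h1, zpow_one]

end

section
variable {X : Type*} [Group X] [Finite X]

/-- `P` is generated by the `g_i` modulo `Z`. -/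
theorem closure_range_sup (h : Hyp X) {σ : X} (hσ : orderOf σ = 5) {g : X} (hg : g ∈ commutator X)
    (hgZ : g ∉ Zs X) : Subgroup.closure (Set.range (gi σ g)) ⊔ Zs X = commutator X := by
  have hWP : Subgroup.closure (Set.range (gi σ g)) ⊔ Zs X ≤ commutator X := by
    refine sup_le ?_ Zs_le
    rw [Subgroup.closure_le]
    rintro _ ⟨i, rfl⟩
    exact gi_mem σ hg i
  have hW : ∀ w ∈ Subgroup.closure (Set.range (gi σ g)) ⊔ Zs X,
      σ * w * σ⁻¹ ∈ Subgroup.closure (Set.range (gi σ g)) ⊔ Zs X := by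
    intro w hw
    have h1 : (Subgroup.closure (Set.range (gi σ g)) ⊔ Zs X).map (MulAut.conj σ).toMonoidHom ≤
        Subgroup.closure (Set.range (gi σ g)) ⊔ Zs X := by
      rw [Subgroup.map_sup]
      refine sup_le_sup ?_ ?_
      · rw [MonoidHom.map_closure, Subgroup.closure_le]
        rintro _ ⟨_, ⟨i, rfl⟩, rfl⟩
        apply Subgroup.subset_closure
        refine ⟨i + 1, ?_⟩
        rw [gi_succ]; rfl
      · rintro _ ⟨z, hz, rfl⟩
        exact Zs_normal.conj_mem z hz σ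
    apply h1
    exact ⟨w, hw, rfl⟩
  rcases irred h hσ _ hWP le_sup_right hW with h1 | h1
  · exfalso
    apply hgZ
    rw [← h1]
    apply Subgroup.mem_sup_left
    apply Subgroup.subset_closure
    exact ⟨0, gi_zero σ g⟩
  · exact h1

theorem closure_eq_top (h : Hyp X) {σ : X} (hσ : orderOf σ = 5) {g : X} (hg : g ∈ commutator X)
    (hgZ : g ∉ Zs X) : Subgroup.closure {σ, g} = ⊤ := by
  obtain ⟨Y, hY⟩ : ∃ Y : Subgroup X, Y = Subgroup.closure {σ, g} := ⟨_, rfl⟩
  rw [← hY]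
  have hσY : σ ∈ Y := by rw [hY]; exact Subgroup.subset_closure (by simp)
  have hgY : g ∈ Y := by rw [hY]; exact Subgroup.subset_closure (by simp)
  have hgiY : Subgroup.closure (Set.range (gi σ g)) ≤ Y := by
    rw [Subgroup.closure_le]
    rintro _ ⟨i, rfl⟩
    unfold gi
    exact mul_mem (mul_mem (pow_mem hσY i) hgY) (inv_mem (pow_mem hσY i))
  have hPle : commutator X ≤ Y ⊔ Zs X := by
    rw [← closure_range_sup h hσ hg hgZ]
    exact sup_le_sup_right hgiY _
  have htop : Y ⊔ Zs X = ⊤ := by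
    rw [eq_top_iff, ← sup_eq_top h (not_mem_of_orderOf h hσ)]
    refine sup_le hPle ?_
    exact le_sup_of_le_left (Subgroup.zpowers_le.mpr hσY)
  have hcomm : commutator X ≤ Y := by
    conv_lhs => rw [commutator_def]
    rw [Subgroup.commutator_le]
    intro x _ y _
    have hx : x ∈ Y ⊔ Zs X := by rw [htop]; exact Subgroup.mem_top x
    have hy : y ∈ Y ⊔ Zs X := by rw [htop]; exact Subgroup.mem_top y
    rw [← SetLike.mem_coe, Subgroup.mul_normal] at hx hy
    obtain ⟨a, ha, z, hz, rfl⟩ := hx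
    obtain ⟨b, hb, z', hz', rfl⟩ := hy
    rw [comm_mul_central (fun y => (Zs_comm h hz y).symm) (fun y => (Zs_comm h hz' y).symm)]
    rw [commutatorElement_def]
    exact mul_mem (mul_mem (mul_mem ha hb) (inv_mem ha)) (inv_mem hb)
  rw [eq_top_iff, ← sup_eq_top h (not_mem_of_orderOf h hσ)]
  exact sup_le hcomm (Subgroup.zpowers_le.mpr hσY)

/-- all commutators of the `g_i` lie in `⟨c1, c2⟩`. -/
theorem comm_gi_mem (h : Hyp X) {σ : X} (hσ : orderOf σ = 5) {g : X} (hg : g ∈ commutator X)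
    (hR : Rel σ g) (i j : ℕ) :
    gi σ g i * gi σ g j * (gi σ g i)⁻¹ * (gi σ g j)⁻¹ ∈ Subgroup.closure {c1 σ g, c2 σ g} := by
  obtain ⟨K, hK⟩ : ∃ K : Subgroup X, K = Subgroup.closure {c1 σ g, c2 σ g} := ⟨_, rfl⟩
  rw [← hK]
  have hc1K : c1 σ g ∈ K := by rw [hK]; exact Subgroup.subset_closure (by simp)
  have hc2K : c2 σ g ∈ K := by rw [hK]; exact Subgroup.subset_closure (by simp)
  have hσ5 := pow5_of_orderOf hσ
  have hg0 : gi σ g 0 = g := gi_zero σ g
  have hm : ∀ i, gi σ g i ∈ commutator X := gi_mem σ hg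
  -- `[g, g_k] ∈ K` for all `k`
  have hper : ∀ k, gi σ g k = gi σ g (k % 5) := by
    intro k
    induction k using Nat.strong_induction_on with
    | _ k ih =>
      rcases Nat.lt_or_ge k 5 with hk | hk
      · rw [Nat.mod_eq_of_lt hk]
      · obtain ⟨m, rfl⟩ : ∃ m, k = m + 5 := ⟨k - 5, by omega⟩
        rw [gi_add_five hσ5, ih m (by omega), Nat.add_mod_right]
  have hbase : ∀ k, g * gi σ g k * g⁻¹ * (gi σ g k)⁻¹ ∈ K := by
    intro k
    rw [hper k]
    have hlt : k % 5 < 5 := Nat.mod_lt _ (by norm_num)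
    generalize k % 5 = r at hlt
    interval_cases r
    · rw [hg0]; simp [one_mem]
    · exact hc1K
    · exact hc2K
    · rw [hR.c3]; exact hc2K
    · -- `[g, g_4] = c1⁻¹`
      have e1 := comm_gi_shift h hσ hg 0 4 1
      rw [hg0] at e1
      have e5 : gi σ g (4 + 1) = g := by
        have := gi_add_five hσ5 g 0
        rwa [hg0] at this
      rw [e5] at e1
      rw [← e1]
      have : gi σ g (0 + 1) * g * (gi σ g (0 + 1))⁻¹ * g⁻¹ = (c1 σ g)⁻¹ := by
        unfold c1; simp only [zero_add]; group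
      rw [this]
      exact inv_mem hc1K
  rcases Nat.le_total i j with hij | hij
  · obtain ⟨k, rfl⟩ : ∃ k, j = i + k := ⟨j - i, by omega⟩
    have := comm_gi_shift h hσ hg 0 k i
    simp only [zero_add] at this
    rw [add_comm i k, this, hg0]
    exact hbase k
  · obtain ⟨k, rfl⟩ : ∃ k, i = j + k := ⟨i - j, by omega⟩
    have := comm_gi_shift h hσ hg 0 k j
    simp only [zero_add] at this
    have e : gi σ g (j + k) * gi σ g j * (gi σ g (j + k))⁻¹ * (gi σ g j)⁻¹ =
        (gi σ g j * gi σ g (j + k) * (gi σ g j)⁻¹ * (gi σ g (j + k))⁻¹)⁻¹ := by group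
    rw [e, add_comm j k, this, hg0]
    exact inv_mem (hbase k)

end




section
variable {X : Type*} [Group X]

/-- elements whose commutators with a given set lie in a central subgroup -/
def commSub (K : Subgroup X) (hK : K ≤ Subgroup.center X) (T : Set X) : Subgroup X where
  carrier := {a | ∀ b ∈ T, a * b * a⁻¹ * b⁻¹ ∈ K}
  one_mem' := fun b _ => by simp [one_mem]
  mul_mem' := by
    intro a a' ha ha' b hb
    have e : (a * a') * b * (a * a')⁻¹ * b⁻¹ =
        (a * (a' * b * a'⁻¹ * b⁻¹) * a⁻¹) * (a * b * a⁻¹ * b⁻¹) := by group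
    rw [e]
    have hc := Subgroup.mem_center_iff.mp (hK (ha' b hb)) a
    rw [hc, mul_inv_cancel_right]
    exact mul_mem (ha' b hb) (ha b hb)
  inv_mem' := by
    intro a ha b hb
    have e : a⁻¹ * b * a⁻¹⁻¹ * b⁻¹ = a⁻¹ * (a * b * a⁻¹ * b⁻¹)⁻¹ * a⁻¹⁻¹ := by group
    rw [e]
    have hc := Subgroup.mem_center_iff.mp (hK (inv_mem (ha b hb))) a⁻¹
    rw [hc, mul_inv_cancel_right]
    exact inv_mem (ha b hb)

theorem comm_closure_mem (K : Subgroup X) (hK : K ≤ Subgroup.center X) (S : Set X)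
    (hS : ∀ a ∈ S, ∀ b ∈ S, a * b * a⁻¹ * b⁻¹ ∈ K) :
    ∀ a ∈ Subgroup.closure S, ∀ b ∈ Subgroup.closure S, a * b * a⁻¹ * b⁻¹ ∈ K := by
  have h1 : Subgroup.closure S ≤ commSub K hK S := by
    rw [Subgroup.closure_le]
    intro a ha b hb
    exact hS a ha b hb
  have h2 : Subgroup.closure S ≤ commSub K hK (Subgroup.closure S : Set X) := by
    rw [Subgroup.closure_le]
    intro a ha b hb
    have := h1 hb a ha
    have e : a * b * a⁻¹ * b⁻¹ = (b * a * b⁻¹ * a⁻¹)⁻¹ := by group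
    rw [e]
    exact inv_mem this
  intro a ha b hb
  exact h2 ha b hb

theorem mem_pair_closure_cases {c d z : X} (hc : c * c = 1) (hd : d * d = 1)
    (hdc : ∀ y : X, y * d = d * y) (hz : z ∈ Subgroup.closure {c, d}) :
    z = 1 ∨ z = c ∨ z = d ∨ z = c * d := by
  have hn : (Subgroup.zpowers d).Normal := by
    constructor
    intro n hn g
    have : g * n * g⁻¹ = n := by
      have hcomm : g * n = n * g := by
        have : g ∈ Subgroup.centralizer ({d} : Set X) := by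
          rw [Subgroup.mem_centralizer_singleton_iff]; exact hdc g
        have h2 : n ∈ Subgroup.centralizer ({g} : Set X) := by
          have hd' : d ∈ Subgroup.centralizer ({g} : Set X) := by
            rw [Subgroup.mem_centralizer_singleton_iff]; exact (hdc g).symm
          exact (Subgroup.zpowers_le.mpr hd') hn
        exact (Subgroup.mem_centralizer_singleton_iff.mp h2).symm
      rw [hcomm, mul_inv_cancel_right]
    rw [this]; exact hn
  have e : Subgroup.closure ({c, d} : Set X) = Subgroup.zpowers c ⊔ Subgroup.zpowers d := by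
    rw [Subgroup.zpowers_eq_closure, Subgroup.zpowers_eq_closure, ← Subgroup.closure_union]
    rfl
  rw [e, ← SetLike.mem_coe, Subgroup.mul_normal] at hz
  obtain ⟨a, ha, b, hb, rfl⟩ := hz
  rcases mem_zpowers_of_sq hc ha with rfl | rfl <;> rcases mem_zpowers_of_sq hd hb with rfl | rfl
  · left; simp
  · right; right; left; simp
  · right; left; simp
  · right; right; right; rfl

end

section
variable {X : Type*} [Group X] [Finite X]

theorem index_P (h : Hyp X) : (commutator X).index = 5 := by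
  have := Subgroup.index_mul_card (commutator X)
  rw [h.cardP, h.card] at this
  omega

theorem Zs_le_comm (h : Hyp X) : Zs X ≤ ⁅commutator X, commutator X⁆ := by
  intro z hz
  apply mem_commutator_of_central z (Zs_le_center h hz) (Zs_le hz)
  rw [index_P h]
  have := sq_Zs h hz
  calc z ^ 5 = (z * z) * (z * z) * z := by
        rw [show (5 : ℕ) = 2 + 2 + 1 from rfl, pow_add, pow_add, pow_two, pow_one]
    _ = z := by rw [this]; simp

theorem comm_le_K (h : Hyp X) {σ : X} (hσ : orderOf σ = 5) {g : X} (hg : g ∈ commutator X)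
    (hgZ : g ∉ Zs X) (hR : Rel σ g) :
    ⁅commutator X, commutator X⁆ ≤ Subgroup.closure {c1 σ g, c2 σ g} := by
  have hm : ∀ i, gi σ g i ∈ commutator X := gi_mem σ hg
  have hc1Z : c1 σ g ∈ Zs X := comm_mem_Zs h hg (hm 1)
  have hc2Z : c2 σ g ∈ Zs X := comm_mem_Zs h hg (hm 2)
  have hKZ : Subgroup.closure {c1 σ g, c2 σ g} ≤ Zs X := by
    rw [Subgroup.closure_le]
    intro x hx
    simp only [Set.mem_insert_iff, Set.mem_singleton_iff] at hx
    rcases hx with rfl | rfl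
    · exact hc1Z
    · exact hc2Z
  have hKc : Subgroup.closure {c1 σ g, c2 σ g} ≤ Subgroup.center X := hKZ.trans (Zs_le_center h)
  have key := comm_closure_mem _ hKc (Set.range (gi σ g)) (by
    rintro _ ⟨i, rfl⟩ _ ⟨j, rfl⟩
    exact comm_gi_mem h hσ hg hR i j)
  rw [Subgroup.commutator_le]
  intro x hx y hy
  rw [← closure_range_sup h hσ hg hgZ, ← SetLike.mem_coe, Subgroup.mul_normal] at hx hy
  obtain ⟨a, ha, z, hz, rfl⟩ := hx
  obtain ⟨b, hb, z', hz', rfl⟩ := hy
  rw [comm_mul_central (fun y => (Zs_comm h hz y).symm) (fun y => (Zs_comm h hz' y).symm)]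
  rw [commutatorElement_def]
  exact key a ha b hb

theorem Zs_cases (h : Hyp X) {σ : X} (hσ : orderOf σ = 5) {g : X} (hg : g ∈ commutator X)
    (hgZ : g ∉ Zs X) (hR : Rel σ g) {z : X} (hz : z ∈ Zs X) :
    z = 1 ∨ z = c1 σ g ∨ z = c2 σ g ∨ z = c1 σ g * c2 σ g := by
  have hm : ∀ i, gi σ g i ∈ commutator X := gi_mem σ hg
  have hc2Z : c2 σ g ∈ Zs X := comm_mem_Zs h hg (hm 2)
  apply mem_pair_closure_cases hR.c1sq hR.c2sq (Zs_comm h hc2Z)
  exact comm_le_K h hσ hg hgZ hR (Zs_le_comm h hz)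

theorem distinct (h : Hyp X) {σ : X} (hσ : orderOf σ = 5) {g : X} (hg : g ∈ commutator X)
    (hgZ : g ∉ Zs X) (hR : Rel σ g) :
    c1 σ g ≠ 1 ∧ c2 σ g ≠ 1 ∧ c1 σ g ≠ c2 σ g := by
  classical
  have hsub : (Zs X : Set X) ⊆ (({1, c1 σ g, c2 σ g, c1 σ g * c2 σ g} : Finset X) : Set X) := by
    intro z hz
    have := Zs_cases h hσ hg hgZ hR hz
    simp only [Finset.coe_insert, Finset.coe_singleton, Set.mem_insert_iff, Set.mem_singleton_iff]
    exact this
  have hcard : 4 ≤ ({1, c1 σ g, c2 σ g, c1 σ g * c2 σ g} : Finset X).card := by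
    have h1 := Set.ncard_le_ncard hsub (Finset.finite_toSet _)
    rw [Set.ncard_coe_finset, ← Nat.card_coe_set_eq] at h1
    have h2 : Nat.card (Zs X : Set X) = 4 := card_Zs h
    omega
  refine ⟨?_, ?_, ?_⟩
  · intro h1
    rw [h1] at hcard
    have : ({1, 1, c2 σ g, 1 * c2 σ g} : Finset X) = {1, c2 σ g} := by
      ext x; simp
    rw [this] at hcard
    have := Finset.card_le_two (a := (1 : X)) (b := c2 σ g)
    omega
  · intro h1
    rw [h1] at hcard
    have : ({1, c1 σ g, 1, c1 σ g * 1} : Finset X) = {1, c1 σ g} := by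
      ext x; simp
    rw [this] at hcard
    have := Finset.card_le_two (a := (1 : X)) (b := c1 σ g)
    omega
  · intro h1
    rw [h1, hR.c2sq] at hcard
    have : ({1, c2 σ g, c2 σ g, 1} : Finset X) = {1, c2 σ g} := by
      ext x; simp; tauto
    rw [this] at hcard
    have := Finset.card_le_two (a := (1 : X)) (b := c2 σ g)
    omega

theorem normal_cases (h : Hyp X) {σ : X} (hσ : orderOf σ = 5) {g : X} (hg : g ∈ commutator X)
    (hgZ : g ∉ Zs X) (hR : Rel σ g) (N : Subgroup X) (hN : N.Normal) (hN1 : N ≠ ⊥) :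
    c1 σ g ∈ N ∨ c2 σ g ∈ N ∨ c1 σ g * c2 σ g ∈ N := by
  haveI := hN
  haveI : Fact (Nat.Prime 2) := ⟨Nat.prime_two⟩
  have hP : (commutator X).Normal := inferInstance
  by_cases hNP : N ⊓ commutator X = ⊥
  · exfalso
    obtain ⟨n, hn, hn1⟩ : ∃ n ∈ N, n ≠ 1 := by
      rcases Subgroup.bot_or_exists_ne_one N with hb | hb
      · exact absurd hb hN1
      · exact hb
    have hnP : n ∉ commutator X := by
      intro hh
      have : n ∈ N ⊓ commutator X := ⟨hn, hh⟩
      rw [hNP, Subgroup.mem_bot] at this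
      exact hn1 this
    apply not_centralizes h hnP
    intro p hp
    have h1 : n * p * n⁻¹ * p⁻¹ ∈ N ⊓ commutator X := by
      refine Subgroup.mem_inf.mpr ⟨?_, ?_⟩
      · have : n * p * n⁻¹ * p⁻¹ = n * (p * n⁻¹ * p⁻¹) := by group
        rw [this]
        exact mul_mem hn (hN.conj_mem _ (inv_mem hn) p)
      · exact mul_mem (hP.conj_mem p hp n) (inv_mem hp)
    rw [hNP, Subgroup.mem_bot] at h1
    calc n * p = (n * p * n⁻¹ * p⁻¹) * p * n := by group
      _ = p * n := by rw [h1, one_mul]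
  · obtain ⟨z, hzN, hz1, hzP, hzc⟩ := exists_central_mem_of_normal (commutator X) N (isPGroup_P h) hNP
    have hzZ : z ∈ Zs X := mem_Zs.mpr ⟨hzP, hzc⟩
    rcases Zs_cases h hσ hg hgZ hR hzZ with rfl | rfl | rfl | rfl
    · exact absurd rfl hz1
    · left; exact hzN
    · right; left; exact hzN
    · right; right; exact hzN

/-- **Structure theorem.**  A group satisfying the hypotheses of S1903 is generated by two
elements satisfying `Rel`, and every nontrivial normal subgroup contains one of the three central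
involutions `c1, c2, c1 c2`. -/
theorem exists_gens (h : Hyp X) :
    ∃ σ g : X, Rel σ g ∧ Subgroup.closure {σ, g} = ⊤ ∧
      ∀ N : Subgroup X, N.Normal → N ≠ ⊥ → c1 σ g ∈ N ∨ c2 σ g ∈ N ∨ c1 σ g * c2 σ g ∈ N := by
  obtain ⟨σ, hσ⟩ := exists_sigma h
  obtain ⟨g, hg, hgZ, hr5⟩ := exists_normalized h hσ
  have hR := rel_of_normalized h hσ hg hr5
  exact ⟨σ, g, hR, closure_eq_top h hσ hg hgZ, normal_cases h hσ hg hgZ hR⟩

end


end Cfsg.Agent.Lib.Helper12.S1903
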