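import Mathlib
import Cfsg.Agent.Lib.Helper12.S1903Defs
import Cfsg.Agent.H5.S1903FOB

set_option autoImplicit false
set_option linter.style.haveILetI false
set_option linter.unusedSectionVars false
set_option linter.unusedSimpArgs false

namespace Cfsg.Agent.Lib.Helper12.S1903

open Cfsg.H5.S1903FOB



/-- Universal property: a group of order 320 generated by `σ, g` with `Rel σ g` maps onto any other
finite group containing elements satisfying the same relations. -/
theorem exists_hom {G H : Type*} [Group G] [Finite G] [Group H] [Finite H] (hG : Nat.card G = 320)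
    (σ g : G) (hR : Rel σ g) (hgen : Subgroup.closure {σ, g} = ⊤)
    (σ' g' : H) (hR' : Rel σ' g') : ∃ f : G →* H, f σ = σ' ∧ f g = g' := by
  classical
  obtain ⟨D, hDdef⟩ : ∃ D : Subgroup (G × H), D = Subgroup.closure {((σ, σ') : G × H), (g, g')} :=
    ⟨_, rfl⟩
  have hσD : ((σ, σ') : G × H) ∈ D := by rw [hDdef]; exact Subgroup.subset_closure (by simp)
  have hgD : ((g, g') : G × H) ∈ D := by rw [hDdef]; exact Subgroup.subset_closure (by simp)
  have hRD : Rel (⟨(σ, σ'), hσD⟩ : D) ⟨(g, g'), hgD⟩ :=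
    Rel.of_injective D.subtype Subtype.val_injective (hR.prod hR')
  have hgenD : Subgroup.closure {(⟨(σ, σ'), hσD⟩ : D), ⟨(g, g'), hgD⟩} = ⊤ := by
    have h1 : ((↑) : D → G × H) ⁻¹' {((σ, σ') : G × H), (g, g')} =
        {(⟨(σ, σ'), hσD⟩ : D), ⟨(g, g'), hgD⟩} := by
      ext x
      simp only [Set.mem_preimage, Set.mem_insert_iff, Set.mem_singleton_iff]
      constructor
      · rintro (h | h)
        · left; exact Subtype.ext h
        · right; exact Subtype.ext h
      · rintro (h | h)
        · left; rw [h]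
        · right; rw [h]
    rw [← h1]
    subst hDdef
    exact Subgroup.closure_closure_coe_preimage
  have hcard : Nat.card D ≤ 320 := card_le_of_rel _ _ hRD hgenD
  obtain ⟨π, hπ⟩ : ∃ π : D →* G, π = (MonoidHom.fst G H).comp D.subtype := ⟨_, rfl⟩
  have hπσ : π ⟨(σ, σ'), hσD⟩ = σ := by rw [hπ]; rfl
  have hπg : π ⟨(g, g'), hgD⟩ = g := by rw [hπ]; rfl
  have hsurj : Function.Surjective π := by
    rw [← MonoidHom.range_eq_top, eq_top_iff, ← hgen, Subgroup.closure_le]
    intro x hx
    simp only [Set.mem_insert_iff, Set.mem_singleton_iff] at hx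
    rcases hx with rfl | rfl
    · exact ⟨_, hπσ⟩
    · exact ⟨_, hπg⟩
  have hbij : Function.Bijective π :=
    hsurj.bijective_of_nat_card_le (by rw [hG]; exact hcard)
  let e : D ≃* G := MulEquiv.ofBijective π hbij
  refine ⟨((MonoidHom.snd G H).comp D.subtype).comp e.symm.toMonoidHom, ?_, ?_⟩
  · have : e.symm σ = ⟨(σ, σ'), hσD⟩ := by
      rw [MulEquiv.symm_apply_eq]; exact hπσ.symm
    simp only [MonoidHom.coe_comp, Function.comp_apply, MulEquiv.toMonoidHom_eq_coe,
      MonoidHom.coe_coe, this]
    rfl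
  · have : e.symm g = ⟨(g, g'), hgD⟩ := by
      rw [MulEquiv.symm_apply_eq]; exact hπg.symm
    simp only [MonoidHom.coe_comp, Function.comp_apply, MulEquiv.toMonoidHom_eq_coe,
      MonoidHom.coe_coe, this]
    rfl


end Cfsg.Agent.Lib.Helper12.S1903
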