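import Mathlib
import Cfsg.Agent.Lib.Helper12.S1903B
import Cfsg.Agent.Lib.Helper12.S1903C
import Cfsg.Agent.Lib.Helper16.SUCenter
import Cfsg.Agent.Lib.Helper16.S1903FOE2
import Cfsg.Agent.Lib.Helper22.S1903FOE3

set_option autoImplicit false
set_option linter.style.haveILetI false
set_option linter.unusedSectionVars false
set_option linter.unusedSimpArgs false

namespace Cfsg.Agent.Lib.Helper12.S1903

open Cfsg Cfsg.Agent.Lib.Helper16.S1903E2



section
variable {F : Type*} [Field F] [Fintype F]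

theorem t0_mul_self (hF : Fintype.card F = 16) : t0 hF * t0 hF = 1 := by
  apply Subtype.ext
  apply Subtype.ext
  simp only [Subgroup.coe_mul, Matrix.SpecialLinearGroup.coe_mul, Subgroup.coe_one,
    Matrix.SpecialLinearGroup.coe_one]
  exact Matrix.swap_mul_self (0 : Fin 3) 1

theorem t0_ne_one (hF : Fintype.card F = 16) : t0 hF ≠ 1 := by
  intro h
  have h1 := congrArg (fun s : SU 3 F 4 => Cfsg.Agent.Lib.Helper14.PSU3.mat s 0 0) h
  simp only [mat_t0, Cfsg.Agent.Lib.Helper14.PSU3.mat_one] at h1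
  simp [Matrix.swap, Equiv.Perm.permMatrix, Equiv.toPEquiv, PEquiv.toMatrix_apply] at h1

theorem orderOf_t0 (hF : Fintype.card F = 16) : orderOf (t0 hF) = 2 := by
  haveI : Fact (Nat.Prime 2) := ⟨Nat.prime_two⟩
  apply orderOf_eq_prime
  · rw [pow_two]; exact t0_mul_self hF
  · exact t0_ne_one hF

theorem center_SU_eq_bot (hF : Fintype.card F = 16) : Subgroup.center (SU 3 F 4) = ⊥ := by
  have hF' : Fintype.card F = 4 ^ 2 := by rw [hF]; norm_num
  have := Cfsg.Agent.Lib.Helper16.card_center_SU (n := 3) hF' (by norm_num)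
  apply Subgroup.eq_bot_of_card_eq
  rw [this]
  norm_num

/-- `SU₃(4) ≃* PSU₃(4)`. -/
noncomputable def suEquiv (hF : Fintype.card F = 16) : SU 3 F 4 ≃* PSU 3 F 4 :=
  MulEquiv.ofBijective (QuotientGroup.mk' (Subgroup.center (SU 3 F 4)))
    ⟨by
      rw [← MonoidHom.ker_eq_bot_iff, QuotientGroup.ker_mk']
      exact center_SU_eq_bot hF,
     QuotientGroup.mk'_surjective _⟩

theorem centralizer_map {A B : Type*} [Group A] [Group B] (e : A ≃* B) (a : A) :
    (Subgroup.centralizer ({a} : Set A)).map e.toMonoidHom = Subgroup.centralizer ({e a} : Set B) := by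
  ext x
  constructor
  · rintro ⟨y, hy, rfl⟩
    rw [SetLike.mem_coe] at hy
    rw [Subgroup.mem_centralizer_singleton_iff] at hy ⊢
    simp only [MulEquiv.toMonoidHom_eq_coe, MonoidHom.coe_coe]
    rw [← map_mul, hy, map_mul]
  · intro hx
    rw [Subgroup.mem_centralizer_singleton_iff] at hx
    refine ⟨e.symm x, ?_, by simp⟩
    rw [SetLike.mem_coe, Subgroup.mem_centralizer_singleton_iff]
    apply e.injective
    rw [map_mul, map_mul, MulEquiv.apply_symm_apply]
    exact hx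

end

/-- **S1903.** -/
theorem main {G : Type*} [Group G] [Finite G] (hG : Nat.card G = 320)
    (hD : Nat.card (commutator G) = 64)
    (hZ : IsKleinFour (Subgroup.center (commutator G)))
    {F : Type*} [Field F] [Fintype F] (hF : Fintype.card F = 16) :
    ∃ t : Cfsg.PSU 3 F 4, orderOf t = 2 ∧
      Nonempty (G ≃* Subgroup.centralizer ({t} : Set (Cfsg.PSU 3 F 4))) := by
  classical
  have hyp : Hyp G := ⟨hG, hD, hZ⟩
  obtain ⟨σ, g, hR, hgen, hnorm⟩ := exists_gens hyp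
  obtain ⟨σ₀, g₀, hσt, hgt, hR₀, hc1, hc2, hc12⟩ := Cfsg.Agent.Lib.Helper22.S1903.exists_rel_SU hF
  -- the centralizer in `SU`
  obtain ⟨S₀, hS₀⟩ : ∃ S₀ : Subgroup (SU 3 F 4), S₀ = Subgroup.centralizer {t0 hF} := ⟨_, rfl⟩
  have hσS : σ₀ ∈ S₀ := by
    rw [hS₀, Subgroup.mem_centralizer_singleton_iff]; exact hσt
  have hgS : g₀ ∈ S₀ := by
    rw [hS₀, Subgroup.mem_centralizer_singleton_iff]; exact hgt
  have hRS : Rel (⟨σ₀, hσS⟩ : S₀) ⟨g₀, hgS⟩ :=
    Rel.of_injective S₀.subtype Subtype.val_injective hR₀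
  obtain ⟨f, hfσ, hfg⟩ := exists_hom hG σ g hR hgen (⟨σ₀, hσS⟩ : S₀) ⟨g₀, hgS⟩ hRS
  have hfc1 : ((f (c1 σ g) : S₀) : SU 3 F 4) = c1 σ₀ g₀ := by
    rw [map_c1, hfσ, hfg]
    exact map_c1 S₀.subtype _ _
  have hfc2 : ((f (c2 σ g) : S₀) : SU 3 F 4) = c2 σ₀ g₀ := by
    rw [map_c2, hfσ, hfg]
    exact map_c2 S₀.subtype _ _
  have hinj : Function.Injective f := by
    rw [← MonoidHom.ker_eq_bot_iff]
    by_contra hker
    rcases hnorm f.ker (MonoidHom.normal_ker f) hker with h1 | h1 | h1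
    · rw [MonoidHom.mem_ker] at h1
      apply hc1
      rw [← hfc1, h1]; rfl
    · rw [MonoidHom.mem_ker] at h1
      apply hc2
      rw [← hfc2, h1]; rfl
    · rw [MonoidHom.mem_ker, map_mul] at h1
      apply hc12
      have h2 : c1 σ₀ g₀ * c2 σ₀ g₀ = 1 := by
        rw [← hfc1, ← hfc2, ← Subgroup.coe_mul, h1]; rfl
      calc c1 σ₀ g₀ = c1 σ₀ g₀ * (c2 σ₀ g₀ * c2 σ₀ g₀) := by rw [hR₀.c2sq, mul_one]
        _ = (c1 σ₀ g₀ * c2 σ₀ g₀) * c2 σ₀ g₀ := by rw [mul_assoc]
        _ = c2 σ₀ g₀ := by rw [h2, one_mul]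
  have hcardS : Nat.card S₀ ≤ 320 := by rw [hS₀]; exact card_centralizer_t0_le hF
  have hbij : Function.Bijective f := by
    refine ⟨hinj, ?_⟩
    have hle : Nat.card S₀ ≤ Nat.card G := by rw [hG]; exact hcardS
    exact (Function.Injective.bijective_of_nat_card_le hinj hle).2
  let e1 : G ≃* S₀ := MulEquiv.ofBijective f hbij
  refine ⟨suEquiv hF (t0 hF), ?_, ?_⟩
  · rw [MulEquiv.orderOf_eq]
    exact orderOf_t0 hF
  · have e2 : S₀ ≃* S₀.map (suEquiv hF).toMonoidHom := (suEquiv hF).subgroupMap S₀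
    have heq : S₀.map (suEquiv hF).toMonoidHom =
        Subgroup.centralizer ({suEquiv hF (t0 hF)} : Set (PSU 3 F 4)) := by
      rw [hS₀]; exact centralizer_map (suEquiv hF) (t0 hF)
    exact ⟨(e1.trans e2).trans (MulEquiv.subgroupCongr heq)⟩


end Cfsg.Agent.Lib.Helper12.S1903
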