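import Mathlib
import Cfsg.Agent.Lib.Helper14.StGLDefs

/-!
# S2425 farm-out piece Q3 = COMB (helper12): the permutations `κ` of `Fin n` with `κ i ≤ i + 1`
are indexed by the sets of interval ends.

Proof: both sides satisfy the same two-term recursion (first position: `κ 0 = 0` or `κ 0 = 1`,
resp. `0 ∈ D` or `0 ∉ D`).
-/

set_option autoImplicit false

namespace Cfsg.Agent.Lib.Helper12.S2425COMB

open Cfsg.Agent.Lib.Helper14.StGL

/-- the profile transformation for `0 ∈ D` -/
def T0 {n : ℕ} (s : Fin n → ℕ) : Fin (n + 1) → ℕ := Fin.cons 1 (fun x => 1 + s x)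

/-- the profile transformation for `0 ∉ D` -/
def T1 {n : ℕ} (s : Fin n → ℕ) : Fin (n + 1) → ℕ :=
  Fin.cons 0 (fun x => if s x = 0 then 0 else s x + 1)

theorem psum_zero {n : ℕ} (μ : Fin (n + 1) → ℕ) : psum μ 0 = μ 0 := by
  unfold psum
  rw [Finset.sum_filter, Fin.sum_univ_succ]
  simp

theorem psum_succ {n : ℕ} (μ : Fin (n + 1) → ℕ) (j : Fin n) :
    psum μ j.succ = μ 0 + psum (fun k => μ k.succ) j := by
  unfold psum
  rw [Finset.sum_filter, Finset.sum_filter, Fin.sum_univ_succ]
  simp [Fin.succ_le_succ_iff]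

/-- the composition attached to a permutation -/
def muOf {n : ℕ} (κ : Equiv.Perm (Fin n)) : Fin n → ℕ := fun i => 1 + i.val - (κ i).val

/-- the condition `κ i ≤ i + 1` -/
def Good {n : ℕ} (κ : Equiv.Perm (Fin n)) : Prop := ∀ i : Fin n, (κ i).val ≤ 1 + i.val

/-! ## the case `κ 0 = 0` -/

section zero
variable {n : ℕ} (e : Equiv.Perm (Fin (n + 1)))

theorem k0_zero : (Equiv.Perm.decomposeFin.symm ((0 : Fin (n + 2)), e)) 0 = 0 :=
  Equiv.Perm.decomposeFin_symm_apply_zero _ _

theorem k0_succ (x : Fin (n + 1)) :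
    (Equiv.Perm.decomposeFin.symm ((0 : Fin (n + 2)), e)) x.succ = (e x).succ := by
  rw [Equiv.Perm.decomposeFin_symm_apply_succ, Equiv.swap_self, Equiv.refl_apply]

theorem good_k0 : Good (Equiv.Perm.decomposeFin.symm ((0 : Fin (n + 2)), e)) ↔ Good e := by
  unfold Good
  rw [Fin.forall_fin_succ]
  constructor
  · rintro ⟨_, h⟩ x
    have := h x
    rw [k0_succ, Fin.val_succ, Fin.val_succ] at this
    omega
  · intro h
    refine ⟨?_, ?_⟩
    · rw [k0_zero]; simp
    · intro x
      have := h x
      rw [k0_succ, Fin.val_succ, Fin.val_succ]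
      omega

theorem psum_k0 : psum (muOf (Equiv.Perm.decomposeFin.symm ((0 : Fin (n + 2)), e))) =
    T0 (psum (muOf e)) := by
  have hmu : (fun k : Fin (n + 1) =>
      muOf (Equiv.Perm.decomposeFin.symm ((0 : Fin (n + 2)), e)) k.succ) = muOf e := by
    funext k
    unfold muOf
    rw [k0_succ, Fin.val_succ, Fin.val_succ]
    omega
  have hmu0 : muOf (Equiv.Perm.decomposeFin.symm ((0 : Fin (n + 2)), e)) 0 = 1 := by
    unfold muOf
    rw [k0_zero]
    simp
  funext j
  refine Fin.cases ?_ ?_ j
  · rw [psum_zero, hmu0]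
    rfl
  · intro x
    rw [psum_succ, hmu, hmu0]
    rfl

theorem sign_k0 : Equiv.Perm.sign (Equiv.Perm.decomposeFin.symm ((0 : Fin (n + 2)), e)) =
    Equiv.Perm.sign e := by
  rw [Equiv.Perm.decomposeFin.symm_sign, if_pos rfl, one_mul]

end zero

/-! ## the case `κ 0 = 1` -/

section one
variable {n : ℕ} (e : Equiv.Perm (Fin (n + 1)))

theorem swap01_succ (y : Fin (n + 1)) :
    Equiv.swap (0 : Fin (n + 2)) 1 y.succ = if y = 0 then 0 else y.succ := by
  by_cases hy : y = 0
  · subst hy
    rw [if_pos rfl, Fin.succ_zero_eq_one, Equiv.swap_apply_right]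
  · rw [if_neg hy]
    apply Equiv.swap_apply_of_ne_of_ne (Fin.succ_ne_zero y)
    intro h
    rw [← Fin.succ_zero_eq_one, Fin.succ_inj] at h
    exact hy h

theorem k1_zero : (Equiv.Perm.decomposeFin.symm ((1 : Fin (n + 2)), e)) 0 = 1 :=
  Equiv.Perm.decomposeFin_symm_apply_zero _ _

theorem k1_succ (x : Fin (n + 1)) :
    (Equiv.Perm.decomposeFin.symm ((1 : Fin (n + 2)), e)) x.succ =
      if e x = 0 then 0 else (e x).succ := by
  rw [Equiv.Perm.decomposeFin_symm_apply_succ, swap01_succ]

theorem good_k1 : Good (Equiv.Perm.decomposeFin.symm ((1 : Fin (n + 2)), e)) ↔ Good e := by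
  unfold Good
  rw [Fin.forall_fin_succ]
  constructor
  · rintro ⟨_, h⟩ x
    have := h x
    rw [k1_succ] at this
    by_cases hx : e x = 0
    · rw [hx]; simp
    · rw [if_neg hx, Fin.val_succ, Fin.val_succ] at this
      omega
  · intro h
    refine ⟨?_, ?_⟩
    · rw [k1_zero]; simp
    · intro x
      have := h x
      rw [k1_succ]
      by_cases hx : e x = 0
      · rw [if_pos hx]; simp
      · rw [if_neg hx, Fin.val_succ, Fin.val_succ]
        omega

/-- the key fact: before the first return to `0`, a good permutation is the shift -/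
theorem shift_of_good (he : Good e) (x : Fin (n + 1)) (hx : ¬ e.symm 0 ≤ x) :
    ∀ (m : ℕ) (k : Fin (n + 1)), k.val = m → k ≤ x → (e k).val = k.val + 1 := by
  intro m
  induction m using Nat.strong_induction_on with
  | _ m ih =>
    intro k hk hkx
    by_contra hne
    have h1 : (e k).val ≤ k.val := by
      have := he k
      omega
    have h2 : e k ≠ 0 := by
      intro h0
      apply hx
      have : k = e.symm 0 := by rw [← h0, Equiv.symm_apply_apply]
      rw [← this]
      exact hkx
    have h3 : (e k).val ≠ 0 := fun h => h2 (Fin.ext h)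
    obtain ⟨j, hj⟩ : ∃ j, (e k).val = j + 1 := ⟨(e k).val - 1, by omega⟩
    have hjk : j < k.val := by omega
    have hjn : j < n + 1 := lt_trans hjk k.isLt
    have hjx : (⟨j, hjn⟩ : Fin (n + 1)) ≤ x := by
      apply le_trans _ hkx
      exact Fin.le_iff_val_le_val.mpr (le_of_lt hjk)
    have h4 := ih j (by omega) ⟨j, hjn⟩ rfl hjx
    have h5 : e ⟨j, hjn⟩ = e k := by
      apply Fin.ext
      rw [h4, hj]
    have h6 := e.injective h5
    have h7 : j = k.val := congrArg Fin.val h6
    omega

theorem psum_muOf_eq_zero_iff (he : Good e) (x : Fin (n + 1)) :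
    psum (muOf e) x = 0 ↔ ¬ e.symm 0 ≤ x := by
  unfold psum
  rw [Finset.sum_eq_zero_iff]
  constructor
  · intro h hx
    have := h (e.symm 0) (by simp [hx])
    unfold muOf at this
    rw [Equiv.apply_symm_apply] at this
    simp at this
  · intro hx k hk
    rw [Finset.mem_filter] at hk
    have := shift_of_good e he x hx k.val k rfl hk.2
    unfold muOf
    omega

theorem psum_k1 (he : Good e) :
    psum (muOf (Equiv.Perm.decomposeFin.symm ((1 : Fin (n + 2)), e))) = T1 (psum (muOf e)) := by
  have hmu : (fun k : Fin (n + 1) =>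
      muOf (Equiv.Perm.decomposeFin.symm ((1 : Fin (n + 2)), e)) k.succ) =
      fun k => muOf e k + (if k = e.symm 0 then 1 else 0) := by
    funext k
    unfold muOf
    rw [k1_succ]
    have hk := he k
    by_cases hx : e k = 0
    · have : k = e.symm 0 := by rw [← hx, Equiv.symm_apply_apply]
      rw [if_pos hx, if_pos this, hx, Fin.val_succ]
      simp
      omega
    · have : k ≠ e.symm 0 := by
        intro h
        apply hx
        rw [h, Equiv.apply_symm_apply]
      rw [if_neg hx, if_neg this, Fin.val_succ, Fin.val_succ]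
      omega
  have hmu0 : muOf (Equiv.Perm.decomposeFin.symm ((1 : Fin (n + 2)), e)) 0 = 0 := by
    unfold muOf
    rw [k1_zero]
    simp
  funext j
  refine Fin.cases ?_ ?_ j
  · rw [psum_zero, hmu0]
    rfl
  · intro x
    rw [psum_succ, hmu, hmu0, zero_add]
    have hsplit : psum (fun k => muOf e k + (if k = e.symm 0 then 1 else 0)) x =
        psum (muOf e) x + (if e.symm 0 ≤ x then 1 else 0) := by
      unfold psum
      rw [Finset.sum_add_distrib, Finset.sum_ite_eq']
      congr 1
      simp
    rw [hsplit]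
    show _ = if psum (muOf e) x = 0 then 0 else psum (muOf e) x + 1
    by_cases hx : e.symm 0 ≤ x
    · have h0 : psum (muOf e) x ≠ 0 := fun h => (psum_muOf_eq_zero_iff e he x).mp h hx
      rw [if_pos hx, if_neg h0]
    · have h0 : psum (muOf e) x = 0 := (psum_muOf_eq_zero_iff e he x).mpr hx
      rw [if_neg hx, if_pos h0, h0]

theorem sign_k1 : Equiv.Perm.sign (Equiv.Perm.decomposeFin.symm ((1 : Fin (n + 2)), e)) =
    - Equiv.Perm.sign e := by
  rw [Equiv.Perm.decomposeFin.symm_sign, if_neg (by simp), neg_one_mul]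

end one

theorem not_good_ge_two {n : ℕ} (p : Fin n) (e : Equiv.Perm (Fin (n + 1))) :
    ¬ Good (Equiv.Perm.decomposeFin.symm ((p.succ.succ : Fin (n + 2)), e)) := by
  intro h
  have := h 0
  rw [Equiv.Perm.decomposeFin_symm_apply_zero, Fin.val_succ, Fin.val_succ] at this
  simp at this

/-! ## the two sides -/

open Classical in
/-- the left-hand side -/
noncomputable def A (n : ℕ) (Ψ : (Fin n → ℕ) → ℂ) : ℂ :=
  ∑ κ : Equiv.Perm (Fin n),
    (if Good κ then ((Equiv.Perm.sign κ : ℤ) : ℂ) * Ψ (psum (muOf κ)) else 0)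

/-- the right-hand side -/
noncomputable def B (n : ℕ) (Ψ : (Fin n → ℕ) → ℂ) : ℂ :=
  ∑ D ∈ lastSets n, (-1 : ℂ) ^ (n - D.card) * Ψ (sD D)

theorem A_succ_succ (n : ℕ) (Ψ : (Fin (n + 2) → ℕ) → ℂ) :
    A (n + 2) Ψ = A (n + 1) (fun s => Ψ (T0 s)) - A (n + 1) (fun s => Ψ (T1 s)) := by
  classical
  unfold A
  rw [← Equiv.sum_comp (Equiv.Perm.decomposeFin.symm), Fintype.sum_prod_type,
    Fin.sum_univ_succ, Fin.sum_univ_succ]
  have h2 : ∑ p : Fin n, ∑ e : Equiv.Perm (Fin (n + 1)),
      (if Good (Equiv.Perm.decomposeFin.symm ((p.succ.succ : Fin (n + 2)), e)) then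
        ((Equiv.Perm.sign (Equiv.Perm.decomposeFin.symm ((p.succ.succ : Fin (n + 2)), e)) : ℤ) : ℂ) *
          Ψ (psum (muOf (Equiv.Perm.decomposeFin.symm ((p.succ.succ : Fin (n + 2)), e)))) else 0) = 0 := by
    apply Finset.sum_eq_zero
    intro p _
    apply Finset.sum_eq_zero
    intro e _
    rw [if_neg (not_good_ge_two p e)]
  rw [h2, add_zero, sub_eq_add_neg]
  congr 1
  · apply Finset.sum_congr rfl
    intro e _
    by_cases he : Good e
    · rw [if_pos he, if_pos ((good_k0 e).mpr he), sign_k0, psum_k0]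
    · rw [if_neg he, if_neg (fun h => he ((good_k0 e).mp h))]
  · rw [← Finset.sum_neg_distrib]
    apply Finset.sum_congr rfl
    intro e _
    rw [Fin.succ_zero_eq_one]
    by_cases he : Good e
    · rw [if_pos he, if_pos ((good_k1 e).mpr he), sign_k1, psum_k1 e he]
      push_cast
      ring
    · rw [if_neg he, if_neg (fun h => he ((good_k1 e).mp h)), neg_zero]


/-! ## the recursion for the right-hand side -/

section sets
variable {n : ℕ}

/-- shift a set of positions -/
def S (D : Finset (Fin n)) : Finset (Fin (n + 1)) := D.map (Fin.succEmb n)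

/-- un-shift -/
def pre (D : Finset (Fin (n + 1))) : Finset (Fin n) := Finset.univ.filter (fun x => x.succ ∈ D)

theorem mem_pre (D : Finset (Fin (n + 1))) (x : Fin n) : x ∈ pre D ↔ x.succ ∈ D := by
  simp [pre]

theorem succ_mem_S (D : Finset (Fin n)) (x : Fin n) : x.succ ∈ S D ↔ x ∈ D := by
  simp [S]

theorem zero_notMem_S (D : Finset (Fin n)) : (0 : Fin (n + 1)) ∉ S D := by
  simp [S, Fin.succ_ne_zero]

theorem pre_S (D : Finset (Fin n)) : pre (S D) = D := by
  ext x
  rw [mem_pre, succ_mem_S]

theorem pre_insert_S (D : Finset (Fin n)) : pre (insert 0 (S D)) = D := by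
  ext x
  rw [mem_pre, Finset.mem_insert, succ_mem_S]
  constructor
  · rintro (h | h)
    · exact absurd h (Fin.succ_ne_zero x)
    · exact h
  · intro h
    exact Or.inr h

theorem insert_S_pre (D : Finset (Fin (n + 1))) (h0 : 0 ∈ D) : insert 0 (S (pre D)) = D := by
  ext i
  refine Fin.cases ?_ ?_ i
  · simp [h0]
  · intro x
    rw [Finset.mem_insert, succ_mem_S, mem_pre]
    constructor
    · rintro (h | h)
      · exact absurd h (Fin.succ_ne_zero x)
      · exact h
    · intro h
      exact Or.inr h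

theorem S_pre (D : Finset (Fin (n + 1))) (h0 : 0 ∉ D) : S (pre D) = D := by
  ext i
  refine Fin.cases ?_ ?_ i
  · constructor
    · intro h
      exact absurd h (zero_notMem_S _)
    · intro h
      exact absurd h h0
  · intro x
    rw [succ_mem_S, mem_pre]

theorem mem_lastSets (D : Finset (Fin n)) :
    D ∈ lastSets n ↔ ∀ i : Fin n, i.val + 1 = n → i ∈ D := by
  simp [lastSets]

theorem S_mem_lastSets (D : Finset (Fin (n + 1))) :
    S D ∈ lastSets (n + 2) ↔ D ∈ lastSets (n + 1) := by
  rw [mem_lastSets, mem_lastSets, Fin.forall_fin_succ]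
  constructor
  · rintro ⟨_, h⟩ x hx
    have := h x (by rw [Fin.val_succ]; omega)
    rwa [succ_mem_S] at this
  · intro h
    refine ⟨fun h0 => ?_, fun x hx => ?_⟩
    · simp at h0
    · rw [succ_mem_S]
      apply h
      rw [Fin.val_succ] at hx
      omega

theorem insert_S_mem_lastSets (D : Finset (Fin (n + 1))) :
    insert 0 (S D) ∈ lastSets (n + 2) ↔ D ∈ lastSets (n + 1) := by
  rw [mem_lastSets, mem_lastSets, Fin.forall_fin_succ]
  constructor
  · rintro ⟨_, h⟩ x hx
    have := h x (by rw [Fin.val_succ]; omega)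
    rw [Finset.mem_insert, succ_mem_S] at this
    rcases this with h | h
    · exact absurd h (Fin.succ_ne_zero x)
    · exact h
  · intro h
    refine ⟨fun h0 => ?_, fun x hx => ?_⟩
    · simp at h0
    · rw [Finset.mem_insert, succ_mem_S]
      right
      apply h
      rw [Fin.val_succ] at hx
      omega

theorem card_S (D : Finset (Fin n)) : (S D).card = D.card := Finset.card_map _

theorem card_insert_S (D : Finset (Fin n)) : (insert 0 (S D)).card = D.card + 1 := by
  rw [Finset.card_insert_of_notMem (zero_notMem_S D), card_S]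

theorem sup_add_one {ι : Type*} (t : Finset ι) (g : ι → ℕ) (hg : ∀ d, 1 ≤ g d) :
    t.sup (fun d => g d + 1) = if t.sup g = 0 then 0 else t.sup g + 1 := by
  rcases t.eq_empty_or_nonempty with rfl | hne
  · simp
  · obtain ⟨d, hd, hsup⟩ := Finset.exists_mem_eq_sup t hne g
    have hpos : t.sup g ≠ 0 := by
      have := hg d
      omega
    rw [if_neg hpos]
    apply le_antisymm
    · apply Finset.sup_le
      intro c hc
      exact Nat.succ_le_succ (Finset.le_sup (f := g) hc)
    · rw [hsup]
      exact Finset.le_sup (f := fun d => g d + 1) hd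

theorem filter_S (D : Finset (Fin n)) (x : Fin n) :
    (S D).filter (fun d => d ≤ x.succ) = S (D.filter (fun d => d ≤ x)) := by
  ext i
  refine Fin.cases ?_ ?_ i
  · constructor
    · intro h
      exact absurd (Finset.mem_filter.mp h).1 (zero_notMem_S _)
    · intro h
      exact absurd h (zero_notMem_S _)
  · intro y
    rw [Finset.mem_filter, succ_mem_S, succ_mem_S, Finset.mem_filter, Fin.succ_le_succ_iff]

theorem sup_S (D : Finset (Fin n)) (g : Fin (n + 1) → ℕ) :
    (S D).sup g = D.sup (fun d => g d.succ) := by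
  unfold S
  rw [Finset.sup_map]
  rfl

theorem sD_S (D : Finset (Fin n)) : sD (S D) = T1 (sD D) := by
  funext j
  refine Fin.cases ?_ ?_ j
  · unfold sD
    have : (S D).filter (fun d => d ≤ 0) = ∅ := by
      rw [Finset.eq_empty_iff_forall_notMem]
      intro i hi
      rw [Finset.mem_filter] at hi
      have : i = 0 := Fin.le_zero_iff.mp hi.2
      rw [this] at hi
      exact zero_notMem_S _ hi.1
    rw [this, Finset.sup_empty]
    rfl
  · intro x
    show sD (S D) x.succ = if sD D x = 0 then 0 else sD D x + 1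
    unfold sD
    rw [filter_S, sup_S]
    have := sup_add_one (D.filter (fun d => d ≤ x)) (fun d => d.val + 1) (fun d => by omega)
    rw [← this]
    apply Finset.sup_congr rfl
    intro d _
    rw [Fin.val_succ]

theorem sD_insert_S (D : Finset (Fin n)) : sD (insert 0 (S D)) = T0 (sD D) := by
  funext j
  refine Fin.cases ?_ ?_ j
  · unfold sD
    have : (insert 0 (S D)).filter (fun d => d ≤ 0) = {0} := by
      ext i
      rw [Finset.mem_filter, Finset.mem_insert, Finset.mem_singleton]
      constructor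
      · rintro ⟨_, h⟩
        exact Fin.le_zero_iff.mp h
      · intro h
        exact ⟨Or.inl h, by rw [h]⟩
    rw [this, Finset.sup_singleton]
    rfl
  · intro x
    show sD (insert 0 (S D)) x.succ = 1 + sD D x
    have h1 := congrFun (sD_S D) x.succ
    have h1' : sD (S D) x.succ = if sD D x = 0 then 0 else sD D x + 1 := h1
    have h2 : sD (insert 0 (S D)) x.succ = max 1 (sD (S D) x.succ) := by
      unfold sD
      rw [Finset.filter_insert, if_pos (Fin.zero_le _), Finset.sup_insert]
      rfl
    rw [h2, h1']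
    by_cases h : sD D x = 0
    · rw [if_pos h, h]; rfl
    · rw [if_neg h]
      omega

end sets

theorem B_succ_succ (n : ℕ) (Ψ : (Fin (n + 2) → ℕ) → ℂ) :
    B (n + 2) Ψ = B (n + 1) (fun s => Ψ (T0 s)) - B (n + 1) (fun s => Ψ (T1 s)) := by
  classical
  unfold B
  rw [← Finset.sum_filter_add_sum_filter_not (lastSets (n + 2)) (fun D => (0 : Fin (n + 2)) ∈ D),
    sub_eq_add_neg]
  congr 1
  · refine Finset.sum_nbij' pre (fun D => insert 0 (S D)) ?_ ?_ ?_ ?_ ?_
    · intro D hD
      rw [Finset.mem_filter] at hD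
      rw [← insert_S_mem_lastSets, insert_S_pre D hD.2]
      exact hD.1
    · intro D hD
      rw [Finset.mem_filter]
      exact ⟨(insert_S_mem_lastSets D).mpr hD, Finset.mem_insert_self _ _⟩
    · intro D hD
      rw [Finset.mem_filter] at hD
      exact insert_S_pre D hD.2
    · intro D _
      exact pre_insert_S D
    · intro D hD
      rw [Finset.mem_filter] at hD
      have h1 := insert_S_pre D hD.2
      have h2 : D.card = (pre D).card + 1 := by rw [← card_insert_S, h1]
      have h3 : sD D = T0 (sD (pre D)) := by rw [← sD_insert_S, h1]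
      rw [h2, h3]
      congr 2
      omega
  · rw [← Finset.sum_neg_distrib]
    refine Finset.sum_nbij' pre (fun D => S D) ?_ ?_ ?_ ?_ ?_
    · intro D hD
      rw [Finset.mem_filter] at hD
      rw [← S_mem_lastSets, S_pre D hD.2]
      exact hD.1
    · intro D hD
      rw [Finset.mem_filter]
      exact ⟨(S_mem_lastSets D).mpr hD, zero_notMem_S D⟩
    · intro D hD
      rw [Finset.mem_filter] at hD
      exact S_pre D hD.2
    · intro D _
      exact pre_S D
    · intro D hD
      rw [Finset.mem_filter] at hD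
      have h1 := S_pre D hD.2
      have h2 : D.card = (pre D).card := by rw [← card_S (pre D), h1]
      have h3 : sD D = T1 (sD (pre D)) := by rw [← sD_S, h1]
      have h4 : (pre D).card ≤ n + 1 := by
        have := Finset.card_le_univ (pre D)
        rwa [Fintype.card_fin] at this
      rw [h2, h3]
      have h5 : n + 2 - (pre D).card = (n + 1 - (pre D).card) + 1 := by omega
      rw [h5, pow_succ]
      ring

/-! ## the base cases and the theorem -/

theorem base0 (Ψ : (Fin 0 → ℕ) → ℂ) : A 0 Ψ = B 0 Ψ := by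
  classical
  unfold A B
  have h1 : lastSets 0 = {∅} := by decide
  rw [h1, Finset.sum_singleton, Fintype.sum_eq_single (1 : Equiv.Perm (Fin 0))
    (fun κ hκ => absurd (Subsingleton.elim κ 1) hκ)]
  have hg : Good (1 : Equiv.Perm (Fin 0)) := fun i => i.elim0
  rw [if_pos hg]
  have : psum (muOf (1 : Equiv.Perm (Fin 0))) = sD (∅ : Finset (Fin 0)) :=
    funext fun i => i.elim0
  rw [this]
  simp

theorem base1 (Ψ : (Fin 1 → ℕ) → ℂ) : A 1 Ψ = B 1 Ψ := by
  classical
  unfold A B
  have h1 : lastSets 1 = {{0}} := by decide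
  rw [h1, Finset.sum_singleton, Fintype.sum_eq_single (1 : Equiv.Perm (Fin 1))
    (fun κ hκ => absurd (Subsingleton.elim κ 1) hκ)]
  have hg : Good (1 : Equiv.Perm (Fin 1)) := fun i => by simp
  rw [if_pos hg]
  have : psum (muOf (1 : Equiv.Perm (Fin 1))) = sD ({0} : Finset (Fin 1)) := by
    funext i
    have hi : i = 0 := Subsingleton.elim i 0
    subst hi
    rw [psum_zero]
    unfold muOf sD
    simp
  rw [this]
  simp

theorem A_eq_B : ∀ (n : ℕ) (Ψ : (Fin n → ℕ) → ℂ), A n Ψ = B n Ψ
  | 0, Ψ => base0 Ψ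
  | 1, Ψ => base1 Ψ
  | (n + 2), Ψ => by
    rw [A_succ_succ, B_succ_succ, A_eq_B (n + 1), A_eq_B (n + 1)]

/-- **COMB**: the permutations `κ` with `κ i ≤ i + 1` are indexed by the sets of interval ends. -/
theorem perm_sum_eq_subset_sum (n : ℕ) (Ψ : (Fin n → ℕ) → ℂ) :
    ∑ κ : Equiv.Perm (Fin n),
      (if ∀ i : Fin n, (κ i).val ≤ 1 + i.val then
        ((Equiv.Perm.sign κ : ℤ) : ℂ) * Ψ (psum fun i => 1 + i.val - (κ i).val) else 0) =
    ∑ D ∈ lastSets n, (-1 : ℂ) ^ (n - D.card) * Ψ (sD D) := by
  have h := A_eq_B n Ψ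
  unfold A B at h
  rw [← h]
  apply Finset.sum_congr rfl
  intro κ _
  by_cases hκ : Good κ
  · have hκ' : ∀ i : Fin n, (κ i).val ≤ 1 + i.val := hκ
    rw [if_pos hκ', if_pos hκ]
    rfl
  · have hκ' : ¬ ∀ i : Fin n, (κ i).val ≤ 1 + i.val := hκ
    rw [if_neg hκ', if_neg hκ]

end Cfsg.Agent.Lib.Helper12.S2425COMB
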