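import Mathlib
import Cfsg.Prelude.Def_Characters
import Cfsg.Agent.Lib.Helper2.Ito
import Cfsg.Agent.Lib.Helper25.LinearChar
import Cfsg.Agent.Lib.Helper24.Contribution

/-!
# S2436 farm-out pieces FO-G9, FO-G10 (helper14's skeleton): a group with a cyclic subgroup `A` of
index 2 and even order, all elements outside `A` having the same square, has commutator subgroup
of index 4 and exactly four irreducible characters of odd degree.
-/

set_option autoImplicit false
set_option linter.style.haveILetI false

namespace Cfsg.Agent.Lib.Helper12.S2436P3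

open Cfsg

/-- the number of irreducible characters of degree prime to `ℓ` (copy of helper14's `mk`) -/
noncomputable def mk (ℓ : ℕ) (K : Type*) [Group K] : ℕ :=
  Nat.card {χ : Cfsg.IrrCharacter K // ¬ ℓ ∣ Cfsg.charDegree (χ : K → ℂ)}

/-- every element outside `A` inverts `A` -/
theorem inverts_of_sq {K : Type*} [Group K] (A : Subgroup K) (z : K)
    (hsq : ∀ x : K, x ∉ A → x * x = z) (x : K) (hx : x ∉ A) (a : K) (ha : a ∈ A) :
    x * a * x⁻¹ = a⁻¹ := by
  have hxa : x * a ∉ A := fun h => hx (by simpa using A.mul_mem h (A.inv_mem ha))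
  have h1 := hsq (x * a) hxa
  have h2 := hsq x hx
  have h3 : a * x * a = x := by
    have : x * (a * x * a) = x * x := by
      rw [h2, ← h1]
      group
    exact mul_left_cancel this
  calc x * a * x⁻¹ = a⁻¹ * (a * x * a) * x⁻¹ := by group
    _ = a⁻¹ := by rw [h3]; group

/-- FO-G9 -/
theorem index_commutator_of_sq {K : Type*} [Group K] [Finite K] (A : Subgroup K)
    (hA : IsCyclic A) (hidx : A.index = 2) (heven : Even (Nat.card A)) (z : K)
    (hsq : ∀ x : K, x ∉ A → x * x = z) :
    (commutator K).index = 4 := by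
  classical
  haveI := hA
  letI : CommGroup A := IsCyclic.commGroup
  have hcomm : ∀ a ∈ A, ∀ b ∈ A, a * b = b * a := by
    intro a ha b hb
    have := mul_comm (⟨a, ha⟩ : A) ⟨b, hb⟩
    exact congrArg Subtype.val this
  obtain ⟨x, hx⟩ : ∃ x : K, x ∉ A := by
    by_contra h
    push Not at h
    have : A = ⊤ := eq_top_iff.mpr (fun y _ => h y)
    rw [this, Subgroup.index_top] at hidx
    omega
  have hinv := inverts_of_sq A z hsq
  obtain ⟨B, hB⟩ : ∃ B : Subgroup K, B = (powMonoidHom 2 : A →* A).range.map A.subtype := ⟨_, rfl⟩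
  have hBmem : ∀ a ∈ A, a * a ∈ B := by
    intro a ha
    rw [hB, Subgroup.mem_map]
    refine ⟨⟨a, ha⟩ ^ 2, ⟨⟨a, ha⟩, rfl⟩, ?_⟩
    simp [pow_two]
  have hle : commutator K ≤ B := by
    rw [commutator_def, Subgroup.commutator_le]
    intro g _ h _
    rw [commutatorElement_def]
    by_cases hg : g ∈ A
    · by_cases hh : h ∈ A
      · have : g * h * g⁻¹ * h⁻¹ = 1 := by
          rw [hcomm g hg h hh]
          group
        rw [this]
        exact B.one_mem
      · have h1 := hinv h hh g⁻¹ (A.inv_mem hg)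
        rw [inv_inv] at h1
        have : g * h * g⁻¹ * h⁻¹ = g * g := by
          calc g * h * g⁻¹ * h⁻¹ = g * (h * g⁻¹ * h⁻¹) := by group
            _ = g * g := by rw [h1]
        rw [this]
        exact hBmem g hg
    · by_cases hh : h ∈ A
      · have h1 := hinv g hg h hh
        rw [h1]
        exact hBmem h⁻¹ (A.inv_mem hh)
      · have ha : g⁻¹ * h ∈ A := by
          rw [Subgroup.mul_mem_iff_of_index_two hidx]
          constructor
          · intro h'
            exact absurd (by simpa using A.inv_mem h') hg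
          · intro h'
            exact absurd h' hh
        obtain ⟨a, hadef⟩ : ∃ a, a = g⁻¹ * h := ⟨_, rfl⟩
        rw [← hadef] at ha
        have hh' : h = g * a := by rw [hadef]; group
        have hc : a⁻¹ * a⁻¹ ∈ A := A.mul_mem (A.inv_mem ha) (A.inv_mem ha)
        have h1 := hinv g hg a ha
        have h2 := hinv g hg _ hc
        have : g * h * g⁻¹ * h⁻¹ = a * a := by
          rw [hh']
          calc g * (g * a) * g⁻¹ * (g * a)⁻¹ = g * ((g * a * g⁻¹) * a⁻¹) * g⁻¹ := by group
            _ = g * (a⁻¹ * a⁻¹) * g⁻¹ := by rw [h1]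
            _ = (a⁻¹ * a⁻¹)⁻¹ := h2
            _ = a * a := by rw [mul_inv_rev, inv_inv]
        rw [this]
        exact hBmem a ha
  have hge : B ≤ commutator K := by
    intro b hb
    rw [hB, Subgroup.mem_map] at hb
    obtain ⟨y, ⟨a, rfl⟩, rfl⟩ := hb
    have h1 := hinv x hx (a : K)⁻¹ (A.inv_mem a.2)
    rw [inv_inv] at h1
    have : (A.subtype ((powMonoidHom 2 : A →* A) a) : K) = (a : K) * x * (a : K)⁻¹ * x⁻¹ := by
      simp only [powMonoidHom_apply, Subgroup.coe_subtype, Subgroup.coe_pow, pow_two]
      calc (a : K) * a = a * (x * (a : K)⁻¹ * x⁻¹) := by rw [h1]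
        _ = (a : K) * x * (a : K)⁻¹ * x⁻¹ := by group
    rw [this, ← commutatorElement_def, commutator_def]
    exact Subgroup.commutator_mem_commutator (Subgroup.mem_top _) (Subgroup.mem_top _)
  have heq : commutator K = B := le_antisymm hle hge
  rw [heq, hB, Subgroup.index_map_subtype, IsCyclic.index_powMonoidHom_range, hidx]
  have : (Nat.card A).gcd 2 = 2 := Nat.gcd_eq_right heven.two_dvd
  rw [this]

/-- FO-G10 -/
theorem mk_two_of_sq {K : Type*} [Group K] [Finite K] (A : Subgroup K)
    (hA : IsCyclic A) (hidx : A.index = 2) (heven : Even (Nat.card A)) (z : K)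
    (hsq : ∀ x : K, x ∉ A → x * x = z) :
    mk 2 K = 4 := by
  classical
  haveI := hA
  letI : CommGroup A := IsCyclic.commGroup
  have hcomm : ∀ a ∈ A, ∀ b ∈ A, a * b = b * a := by
    intro a ha b hb
    have := mul_comm (⟨a, ha⟩ : A) ⟨b, hb⟩
    exact congrArg Subtype.val this
  haveI : A.Normal := Subgroup.normal_of_index_eq_two hidx
  haveI : Fintype K := Fintype.ofFinite K
  have hidx4 := index_commutator_of_sq A hA hidx heven z hsq
  rw [← Cfsg.Agent.Lib.Helper25.card_linear_char] at hidx4
  rw [← hidx4]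
  unfold mk
  apply Nat.card_congr
  refine Equiv.subtypeEquivRight ?_
  intro χ
  obtain ⟨d, hd1, hd2⟩ := Cfsg.Agent.Lib.Helper2.ito_aux (Nat.card K) K rfl (χ : K → ℂ) χ.2 A hcomm
  rw [hidx] at hd2
  have hdeg := Cfsg.Agent.Lib.Helper24.apply_one_eq_charDegree χ
  have hdd : d = Cfsg.charDegree (χ : K → ℂ) := by
    rw [hd1] at hdeg
    exact_mod_cast hdeg
  rw [← hdd, hd1]
  have hd12 : d = 1 ∨ d = 2 := by
    have := Nat.le_of_dvd (by norm_num) hd2
    have hd0 : d ≠ 0 := by
      rintro rfl
      simp at hd2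
    interval_cases d
    · exact absurd rfl hd0
    · exact Or.inl rfl
    · exact Or.inr rfl
  rcases hd12 with h | h
  · subst h
    simp
  · subst h
    simp only [dvd_refl, not_true_eq_false, Nat.cast_ofNat, false_iff]
    norm_num

end Cfsg.Agent.Lib.Helper12.S2436P3
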