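import Mathlib
import Cfsg.Prelude.Def_Characters
import Cfsg.Agent.Lib.Helper2.DegPMain
import Cfsg.Agent.Lib.Helper2.Regular
import Cfsg.Agent.Lib.Helper25.LinearChar
import Cfsg.Agent.Lib.Helper24.Contribution

/-!
# S2436 farm-out piece FO-G11 (helper14's skeleton): a group of order 24 with a normal subgroup `S`
of order 8 having a unique involution and with `C(S)` of order 2 has exactly four irreducible
characters of odd degree.
-/

set_option autoImplicit false
set_option linter.style.haveILetI false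

namespace Cfsg.Agent.Lib.Helper12.S2436P4

open Cfsg

/-- the number of irreducible characters of degree prime to `ℓ` (copy of helper14's `mk`) -/
noncomputable def mk (ℓ : ℕ) (K : Type*) [Group K] : ℕ :=
  Nat.card {χ : Cfsg.IrrCharacter K // ¬ ℓ ∣ Cfsg.charDegree (χ : K → ℂ)}

/-- fixed points of conjugation by an element of order dividing 3 on a normal subgroup -/
theorem card_fix_modEq {N : Type*} [Group N] [Finite N] (H : Subgroup N) [hH : H.Normal] (x : N)
    (hx : x ^ 3 = 1) :
    Nat.card H ≡ Nat.card ((H ⊓ Subgroup.centralizer {x} : Subgroup N)) [MOD 3] := by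
  classical
  haveI : Fintype H := Fintype.ofFinite H
  haveI : Fact (Nat.Prime 3) := ⟨by norm_num⟩
  have hx3 : x * x * x = 1 := by rw [← pow_three', hx]
  obtain ⟨f, hfdef⟩ : ∃ f : Function.End H, f = fun h => ⟨x * h * x⁻¹, hH.conj_mem h h.2 x⟩ :=
    ⟨_, rfl⟩
  have hfapp : ∀ h : H, ((f h : H) : N) = x * (h : N) * x⁻¹ := by
    intro h
    rw [hfdef]
  have hf : f ^ 3 ^ 1 = 1 := by
    rw [pow_one, pow_three]
    funext h
    show f (f (f h)) = h
    apply Subtype.ext
    rw [hfdef]
    show x * (x * (x * (h : N) * x⁻¹) * x⁻¹) * x⁻¹ = h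
    calc x * (x * (x * (h : N) * x⁻¹) * x⁻¹) * x⁻¹ = (x * x * x) * h * (x * x * x)⁻¹ := by group
      _ = h := by rw [hx3]; group
  have h1 := Equiv.Perm.card_fixedPoints_modEq hf
  rw [Fintype.card_eq_nat_card, Fintype.card_eq_nat_card] at h1
  have e : Function.fixedPoints f ≃ (H ⊓ Subgroup.centralizer {x} : Subgroup N) :=
    { toFun := fun h => ⟨((h : H) : N), Subgroup.mem_inf.mpr ⟨(h : H).2, by
        rw [Subgroup.mem_centralizer_singleton_iff]
        have h2 : f (h : H) = (h : H) := h.2
        have h3 : x * ((h : H) : N) * x⁻¹ = ((h : H) : N) := by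
          have := congrArg Subtype.val h2
          rw [hfapp] at this
          exact this
        calc ((h : H) : N) * x = (x * ((h : H) : N) * x⁻¹) * x := by rw [h3]
          _ = x * ((h : H) : N) := by group⟩⟩
      invFun := fun k => ⟨⟨(k : N), (Subgroup.mem_inf.mp k.2).1⟩, by
        have h2 := Subgroup.mem_centralizer_singleton_iff.mp (Subgroup.mem_inf.mp k.2).2
        show f ⟨(k : N), (Subgroup.mem_inf.mp k.2).1⟩ = ⟨(k : N), (Subgroup.mem_inf.mp k.2).1⟩
        apply Subtype.ext
        rw [hfapp]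
        show x * (k : N) * x⁻¹ = (k : N)
        rw [← h2]
        group⟩
      left_inv := fun h => Subtype.ext (Subtype.ext rfl)
      right_inv := fun k => Subtype.ext rfl }
  rw [Nat.card_congr e] at h1
  exact h1

/-- the group-theoretic part: the commutator subgroup is `S` -/
theorem index_commutator_24 {N : Type*} [Group N] [Finite N] (hN : Nat.card N = 24)
    (S : Subgroup N) [hSn : S.Normal] (hS : Nat.card S = 8)
    (hinv : ∀ x ∈ S, ∀ y ∈ S, orderOf x = 2 → orderOf y = 2 → x = y)
    (hC : Nat.card (Subgroup.centralizer (S : Set N)) = 2) :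
    (commutator N).index = 3 := by
  classical
  have hSidx : S.index = 3 := by
    have := S.card_mul_index
    rw [hS, hN] at this
    omega
  -- the commutator subgroup lies in `S`
  have hDS : commutator N ≤ S := by
    rw [← Subgroup.Normal.quotient_commutative_iff_commutator_le]
    haveI : Fact (Nat.Prime 3) := ⟨by norm_num⟩
    have hcard : Nat.card (N ⧸ S) = 3 := by rw [← Subgroup.index_eq_card, hSidx]
    haveI : IsCyclic (N ⧸ S) := isCyclic_of_prime_card hcard
    exact ⟨⟨fun a b => (IsCyclic.commGroup (α := N ⧸ S)).mul_comm a b⟩⟩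
  -- the involution of `S` is central
  haveI : Fact (Nat.Prime 2) := ⟨by norm_num⟩
  obtain ⟨t0, ht0⟩ := exists_prime_orderOf_dvd_card' (G := S) 2 (by rw [hS]; norm_num)
  obtain ⟨t, htdef⟩ : ∃ t : N, t = (t0 : N) := ⟨_, rfl⟩
  have htS : t ∈ S := by rw [htdef]; exact t0.2
  have ht2 : orderOf t = 2 := by rw [htdef, Subgroup.orderOf_coe, ht0]
  have htc : ∀ g : N, g * t * g⁻¹ = t := by
    intro g
    apply hinv _ (hSn.conj_mem t htS g) t htS _ ht2
    have := (MulAut.conj g).orderOf_eq t
    rw [MulAut.conj_apply] at this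
    rw [this, ht2]
  by_cases hD : commutator N = S
  · rw [hD, hSidx]
  exfalso
  obtain ⟨D, hDdef⟩ : ∃ D : Subgroup N, D = commutator N := ⟨_, rfl⟩
  haveI hDn : D.Normal := by rw [hDdef]; infer_instance
  rw [← hDdef] at hD hDS
  -- the order of `D`
  have hDdvd : Nat.card D ∣ 8 := by
    rw [← hS]
    exact Subgroup.card_dvd_of_le hDS
  have hDne : Nat.card D ≠ 8 := by
    intro h8
    apply hD
    exact Subgroup.eq_of_le_of_card_ge hDS (by rw [hS, h8])
  have hDle : Nat.card D ≤ 8 := Nat.le_of_dvd (by norm_num) hDdvd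
  have hDcases : Nat.card D = 1 ∨ Nat.card D = 2 ∨ Nat.card D = 4 := by
    obtain ⟨m, hm⟩ : ∃ m, m = Nat.card D := ⟨_, rfl⟩
    rw [← hm] at hDdvd hDne hDle ⊢
    have h4 : m = 1 ∨ m = 2 ∨ m = 4 ∨ m = 8 := by
      have h5 := (Nat.dvd_prime_pow (show Nat.Prime 2 by norm_num)).mp
        (show m ∣ 2 ^ 3 by simpa using hDdvd)
      obtain ⟨k, hk, rfl⟩ := h5
      interval_cases k <;> simp
    omega
  -- an element of order three
  haveI : Fact (Nat.Prime 3) := ⟨by norm_num⟩
  obtain ⟨x, hx⟩ := exists_prime_orderOf_dvd_card' (G := N) 3 (by rw [hN]; norm_num)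
  have hx3 : x ^ 3 = 1 := by rw [← hx]; exact pow_orderOf_eq_one x
  -- `x` centralizes `D`
  have htx : t * x = x * t := by
    have := htc x
    calc t * x = (x * t * x⁻¹) * x := by rw [this]
      _ = x * t := by group
  have hCD : D ⊓ Subgroup.centralizer {x} = D := by
    have hmod := card_fix_modEq D x hx3
    have hdvd : Nat.card (D ⊓ Subgroup.centralizer {x} : Subgroup N) ∣ Nat.card D :=
      Subgroup.card_dvd_of_le inf_le_left
    have h2 : 2 ∣ Nat.card D → 2 ∣ Nat.card (D ⊓ Subgroup.centralizer {x} : Subgroup N) := by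
      intro h2D
      obtain ⟨d0, hd0⟩ := exists_prime_orderOf_dvd_card' (G := D) 2 h2D
      have hd0' : orderOf (d0 : N) = 2 := by rw [Subgroup.orderOf_coe, hd0]
      have hd0t : (d0 : N) = t := hinv _ (hDS d0.2) t htS hd0' ht2
      have htC : t ∈ (D ⊓ Subgroup.centralizer {x} : Subgroup N) := by
        refine Subgroup.mem_inf.mpr ⟨?_, Subgroup.mem_centralizer_singleton_iff.mpr htx⟩
        rw [← hd0t]
        exact d0.2
      rw [← ht2]
      exact Subgroup.orderOf_dvd_natCard _ htC
    apply Subgroup.eq_of_le_of_card_ge inf_le_left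
    obtain ⟨c, hc⟩ : ∃ c, c = Nat.card (D ⊓ Subgroup.centralizer {x} : Subgroup N) := ⟨_, rfl⟩
    rw [← hc] at hmod hdvd h2 ⊢
    have hcpos : 0 < c := by rw [hc]; exact Nat.card_pos
    rcases hDcases with h | h | h
    · rw [h]
      exact hcpos
    · rw [h] at hdvd h2 ⊢
      have := Nat.le_of_dvd hcpos (h2 (dvd_refl 2))
      exact this
    · rw [h] at hdvd h2 hmod ⊢
      have h2c := h2 (by norm_num)
      have hle := Nat.le_of_dvd (by norm_num) hdvd
      have hmod' : 4 % 3 = c % 3 := hmod
      interval_cases c <;> omega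
  have hxD : ∀ c ∈ D, x * c * x⁻¹ = c := by
    intro c hc
    have hcC : c ∈ (D ⊓ Subgroup.centralizer {x} : Subgroup N) := by rw [hCD]; exact hc
    have := Subgroup.mem_centralizer_singleton_iff.mp (Subgroup.mem_inf.mp hcC).2
    calc x * c * x⁻¹ = (c * x) * x⁻¹ := by rw [this]
      _ = c := by group
  -- `x` centralizes `S`
  have hxS : x ∈ Subgroup.centralizer (S : Set N) := by
    rw [Subgroup.mem_centralizer_iff]
    intro s hs
    obtain ⟨c, hcdef⟩ : ∃ c, c = x * s * x⁻¹ * s⁻¹ := ⟨_, rfl⟩
    have hcD : c ∈ D := by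
      rw [hcdef, hDdef, ← commutatorElement_def, commutator_def]
      exact Subgroup.commutator_mem_commutator (Subgroup.mem_top _) (Subgroup.mem_top _)
    have e1 : x * s * x⁻¹ = c * s := by rw [hcdef]; group
    have e2 : x * c * x⁻¹ = c := hxD c hcD
    have e3 : x * (x * (x * s * x⁻¹) * x⁻¹) * x⁻¹ = c * c * c * s := by
      rw [e1]
      have h1 : x * (c * s) * x⁻¹ = (x * c * x⁻¹) * (x * s * x⁻¹) := by group
      rw [h1, e2, e1]
      have h2 : x * (c * (c * s)) * x⁻¹ = (x * c * x⁻¹) * (x * c * x⁻¹) * (x * s * x⁻¹) := by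
        group
      rw [h2, e2, e1]
      group
    have hxxx : x * x * x = 1 := by rw [← pow_three', hx3]
    have e4 : x * (x * (x * s * x⁻¹) * x⁻¹) * x⁻¹ = s := by
      calc x * (x * (x * s * x⁻¹) * x⁻¹) * x⁻¹ = (x * x * x) * s * (x * x * x)⁻¹ := by group
        _ = s := by rw [hxxx]; group
    have hc3 : c ^ 3 = 1 := by
      rw [pow_three']
      have : c * c * c * s = 1 * s := by rw [← e3, e4, one_mul]
      exact mul_right_cancel this
    have ho3 : orderOf c ∣ 3 := orderOf_dvd_of_pow_eq_one hc3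
    have ho8 : orderOf c ∣ 8 := by
      rw [← hS]
      exact Subgroup.orderOf_dvd_natCard _ (hDS hcD)
    have ho1 : orderOf c ∣ 1 := by
      have := Nat.dvd_gcd ho3 ho8
      simpa using this
    have hc1 : c = 1 := orderOf_eq_one_iff.mp (Nat.dvd_one.mp ho1)
    rw [hc1, one_mul] at e1
    calc s * x = (x * s * x⁻¹) * x := by rw [e1]
      _ = x * s := by group
  have := Subgroup.orderOf_dvd_natCard _ hxS
  rw [hx, hC] at this
  omega

/-- FO-G11 -/
theorem mk_two_of_card_24 {N : Type*} [Group N] [Finite N] (hN : Nat.card N = 24)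
    (S : Subgroup N) [hSn : S.Normal] (hS : Nat.card S = 8)
    (hinv : ∀ x ∈ S, ∀ y ∈ S, orderOf x = 2 → orderOf y = 2 → x = y)
    (hC : Nat.card (Subgroup.centralizer (S : Set N)) = 2) :
    mk 2 N = 4 := by
  classical
  haveI : Fintype N := Fintype.ofFinite N
  haveI : Fintype (IrrCharacter N) := Fintype.ofFinite _
  have hidx := index_commutator_24 hN S hS hinv hC
  -- the centre has index at most 12
  have hcen : (Subgroup.center N).index ≤ 12 := by
    haveI : Fact (Nat.Prime 2) := ⟨by norm_num⟩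
    obtain ⟨t0, ht0⟩ := exists_prime_orderOf_dvd_card' (G := S) 2 (by rw [hS]; norm_num)
    have ht2 : orderOf (t0 : N) = 2 := by rw [Subgroup.orderOf_coe, ht0]
    have htc : (t0 : N) ∈ Subgroup.center N := by
      rw [Subgroup.mem_center_iff]
      intro g
      have h1 : g * (t0 : N) * g⁻¹ = t0 := by
        apply hinv _ (hSn.conj_mem _ t0.2 g) _ t0.2 _ ht2
        have := (MulAut.conj g).orderOf_eq (t0 : N)
        rw [MulAut.conj_apply] at this
        rw [this, ht2]
      calc g * (t0 : N) = (g * t0 * g⁻¹) * g := by group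
        _ = t0 * g := by rw [h1]
    have h2 : 2 ∣ Nat.card (Subgroup.center N) := by
      rw [← ht2]
      exact Subgroup.orderOf_dvd_natCard _ htc
    have h3 := (Subgroup.center N).card_mul_index
    rw [hN] at h3
    obtain ⟨k, hk⟩ := h2
    rw [hk] at h3
    have h4 : k * (Subgroup.center N).index = 12 := by
      have : 2 * (k * (Subgroup.center N).index) = 2 * 12 := by rw [← mul_assoc, h3]
      exact Nat.eq_of_mul_eq_mul_left (by norm_num) this
    exact Nat.le_of_dvd (by norm_num) ⟨k, by rw [mul_comm]; exact h4.symm⟩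
  -- the degrees
  have hdeg : ∀ χ : IrrCharacter N, charDegree (χ : N → ℂ) = 1 ∨ charDegree (χ : N → ℂ) = 2 ∨
      charDegree (χ : N → ℂ) = 3 := by
    intro χ
    have h1 := Cfsg.Agent.Lib.Helper2.DegP.sq_le_index_center χ (charDegree (χ : N → ℂ))
      (Cfsg.Agent.Lib.Helper24.apply_one_eq_charDegree χ)
    have h0 := Cfsg.Agent.Lib.Helper24.charDegree_ne_zero χ
    have h2 : charDegree (χ : N → ℂ) ^ 2 ≤ 12 := h1.trans hcen
    have h3 : charDegree (χ : N → ℂ) ≤ 3 := by nlinarith
    omega
  have hsum : ∑ χ : IrrCharacter N, charDegree (χ : N → ℂ) ^ 2 = 24 := by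
    have h := Cfsg.Agent.Lib.Helper2.sum_irr_degree_sq (G := N)
    have h2 : ((∑ χ : IrrCharacter N, charDegree (χ : N → ℂ) ^ 2 : ℕ) : ℂ) = (Nat.card N : ℂ) := by
      rw [← h]
      push_cast
      apply Finset.sum_congr rfl
      intro χ _
      rw [Cfsg.Agent.Lib.Helper24.apply_one_eq_charDegree χ]
    rw [hN] at h2
    exact_mod_cast h2
  have hlin : (Finset.univ.filter (fun χ : IrrCharacter N => charDegree (χ : N → ℂ) = 1)).card = 3 := by
    rw [← hidx, ← Cfsg.Agent.Lib.Helper25.card_linear_char, Nat.card_eq_fintype_card,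
      Fintype.card_subtype]
    congr 1
    ext χ
    simp only [Finset.mem_filter, Finset.mem_univ, true_and]
    rw [Cfsg.Agent.Lib.Helper24.apply_one_eq_charDegree χ]
    exact_mod_cast Iff.rfl
  have key : ∀ χ : IrrCharacter N, charDegree (χ : N → ℂ) ^ 2 =
      (if charDegree (χ : N → ℂ) = 1 then 1 else 0) +
        4 * (if charDegree (χ : N → ℂ) = 2 then 1 else 0) +
        9 * (if charDegree (χ : N → ℂ) = 3 then 1 else 0) := by
    intro χ
    rcases hdeg χ with h | h | h <;> rw [h] <;> norm_num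
  have key2 : ∀ χ : IrrCharacter N, (if ¬ 2 ∣ charDegree (χ : N → ℂ) then 1 else 0) =
      (if charDegree (χ : N → ℂ) = 1 then 1 else 0) +
        (if charDegree (χ : N → ℂ) = 3 then 1 else 0) := by
    intro χ
    rcases hdeg χ with h | h | h <;> rw [h] <;> norm_num
  rw [Finset.sum_congr rfl (fun χ _ => key χ), Finset.sum_add_distrib, Finset.sum_add_distrib,
    ← Finset.mul_sum, ← Finset.mul_sum, ← Finset.card_filter, ← Finset.card_filter,
    ← Finset.card_filter, hlin] at hsum
  unfold mk
  rw [Nat.card_eq_fintype_card, Fintype.card_subtype, Finset.card_filter,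
    Finset.sum_congr rfl (fun χ _ => key2 χ), Finset.sum_add_distrib, ← Finset.card_filter,
    ← Finset.card_filter, hlin]
  omega

end Cfsg.Agent.Lib.Helper12.S2436P4
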