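import Mathlib
import Cfsg.Prelude.Def_LocalStructure
import Cfsg.Agent.Lib.Helper9.Layer
import Cfsg.Agent.Lib.Helper17.PResidual

/-!
# Two lemmas for S2860 (farm-out pieces FO-Q and FO-G)

* `qs_of_central_ext`: a perfect central extension of a quasisimple group is quasisimple.
* `isQuasisimple_quotient_of_commutator_le` (FO-Q).
* `pResidual_le_of_commutator_le` (FO-G).
-/

set_option autoImplicit false

open Cfsg

namespace Cfsg.Agent.Lib.Helper12.S2860QG

open Cfsg.Agent.Lib.Helper9
open scoped commutatorElement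

/-- criterion for quasisimplicity: perfect, nontrivial, and every normal subgroup is central or
everything -/
theorem qs_of_normal_dichotomy {Q : Type*} [Group Q] (hperf : Group.IsPerfect Q)
    (hnt : Nontrivial Q)
    (key : ∀ L : Subgroup Q, L.Normal → L ≤ Subgroup.center Q ∨ L = ⊤) :
    Cfsg.IsQuasisimple Q := by
  refine ⟨hperf, ?_⟩
  have hcne : Subgroup.center Q ≠ ⊤ := by
    intro htop
    have hc : IsMulCommutative Q := by
      constructor
      constructor
      intro a b
      have ha : a ∈ Subgroup.center Q := by rw [htop]; trivial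
      exact (Subgroup.mem_center_iff.mp ha b).symm
    have := Group.IsPerfect.subsingleton_of_isMulCommutative (G := Q)
    exact not_subsingleton Q this
  have hntq : Nontrivial (Q ⧸ Subgroup.center Q) := by
    by_contra hns
    rw [not_nontrivial_iff_subsingleton] at hns
    exact hcne (QuotientGroup.subgroup_eq_top_of_subsingleton _ hns)
  refine { exists_pair_ne := hntq.exists_pair_ne, eq_bot_or_eq_top_of_normal := ?_ }
  intro L hL
  have hLc : (L.comap (QuotientGroup.mk' (Subgroup.center Q))).Normal := hL.comap _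
  have hmap : (L.comap (QuotientGroup.mk' (Subgroup.center Q))).map
      (QuotientGroup.mk' (Subgroup.center Q)) = L :=
    Subgroup.map_comap_eq_self_of_surjective (QuotientGroup.mk'_surjective _) L
  rcases key _ hLc with h | h
  · left
    rw [← hmap, Subgroup.map_eq_bot_iff, QuotientGroup.ker_mk']
    exact h
  · right
    rw [← hmap, h]
    exact Subgroup.map_top_of_surjective _ (QuotientGroup.mk'_surjective _)

/-- a perfect central extension of a quasisimple group is quasisimple -/
theorem qs_of_central_ext {Q R : Type*} [Group Q] [Group R] (π : Q →* R)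
    (hπ : Function.Surjective π) (hker : π.ker ≤ Subgroup.center Q) (hperf : Group.IsPerfect Q)
    (hR : Cfsg.IsQuasisimple R) : Cfsg.IsQuasisimple Q := by
  have hntR : Nontrivial R := qs_nontrivial hR
  have hnt : Nontrivial Q := by
    obtain ⟨a, b, hab⟩ := hntR.exists_pair_ne
    obtain ⟨a', rfl⟩ := hπ a
    obtain ⟨b', rfl⟩ := hπ b
    exact ⟨⟨a', b', fun h => hab (by rw [h])⟩⟩
  apply qs_of_normal_dichotomy hperf hnt
  intro L hL
  have hmapn : (L.map π).Normal := hL.map π hπ
  rcases qs_normal_le_center_or_eq_top hR (L.map π) with h | h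
  · left
    -- `⁅L, ⊤⁆ ≤ ker π ≤ Z(Q)`
    have h1 : ⁅L, (⊤ : Subgroup Q)⁆ ≤ Subgroup.center Q := by
      refine le_trans ?_ hker
      rw [Subgroup.commutator_le]
      intro l hl q _
      rw [MonoidHom.mem_ker, map_commutatorElement]
      have hc : π l ∈ Subgroup.center R := h ⟨l, hl, rfl⟩
      rw [commutatorElement_def]
      have := Subgroup.mem_center_iff.mp hc (π q)
      rw [← this]; group
    have h2 : ⁅⁅L, (⊤ : Subgroup Q)⁆, (⊤ : Subgroup Q)⁆ = ⊥ := by
      rw [Subgroup.commutator_eq_bot_iff_le_centralizer]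
      intro x hx
      rw [Subgroup.coe_top, Subgroup.centralizer_univ]
      exact h1 hx
    have h3 : ⁅⁅(⊤ : Subgroup Q), L⁆, (⊤ : Subgroup Q)⁆ = ⊥ := by
      rw [Subgroup.commutator_comm ⊤ L]; exact h2
    have h4 : ⁅⁅(⊤ : Subgroup Q), (⊤ : Subgroup Q)⁆, L⁆ = ⊥ :=
      Subgroup.commutator_commutator_eq_bot_of_rotate h3 h2
    rw [← commutator_def, hperf.commutator_eq_top, Subgroup.commutator_comm,
      Subgroup.commutator_eq_bot_iff_le_centralizer, Subgroup.coe_top,
      Subgroup.centralizer_univ] at h4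
    exact h4
  · right
    have h2 : L ⊔ Subgroup.center Q = ⊤ := by
      have := Subgroup.comap_map_eq π L
      rw [h, Subgroup.comap_top] at this
      rw [eq_top_iff, this]
      exact sup_le_sup_left hker L
    have h3 : ⁅L ⊔ Subgroup.center Q, L ⊔ Subgroup.center Q⁆ ≤ L :=
      commutator_sup_center_le L L (fun n _ m hm => by
        rw [commutatorElement_def]
        exact L.mul_mem (hL.conj_mem m hm n) (L.inv_mem hm))
    rw [h2, ← commutator_def, hperf.commutator_eq_top] at h3
    exact top_le_iff.mp h3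

/-- FO-Q: quasisimple quotient criterion. -/
theorem isQuasisimple_quotient_of_commutator_le {H : Type*} [Group H] [Finite H]
    (N M : Subgroup H) [N.Normal] [M.Normal] (hNM : N ≤ M)
    (hperf : ⁅(⊤ : Subgroup H), (⊤ : Subgroup H)⁆ = ⊤) (hqs : Cfsg.IsQuasisimple (H ⧸ M))
    (hc : ⁅M, (⊤ : Subgroup H)⁆ ≤ N) : Cfsg.IsQuasisimple (H ⧸ N) := by
  have hH : Group.IsPerfect H := ⟨by rw [commutator_def]; exact hperf⟩
  have hQ : Group.IsPerfect (H ⧸ N) := inferInstance
  obtain ⟨π, hπ⟩ : ∃ π : H ⧸ N →* H ⧸ M, ∀ h : H, π (QuotientGroup.mk h) = QuotientGroup.mk h :=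
    ⟨QuotientGroup.map N M (MonoidHom.id H) hNM, fun h => rfl⟩
  have hsurj : Function.Surjective π := by
    intro y
    induction y using QuotientGroup.induction_on with
    | H h => exact ⟨QuotientGroup.mk h, hπ h⟩
  apply qs_of_central_ext π hsurj ?_ hQ hqs
  intro x hx
  induction x using QuotientGroup.induction_on with
  | H m =>
    rw [MonoidHom.mem_ker, hπ, QuotientGroup.eq_one_iff] at hx
    rw [Subgroup.mem_center_iff]
    intro y
    induction y using QuotientGroup.induction_on with
    | H h =>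
      rw [← QuotientGroup.mk_mul, ← QuotientGroup.mk_mul, QuotientGroup.eq]
      apply hc
      have : (h * m)⁻¹ * (m * h) = ⁅m⁻¹, h⁻¹⁆ := by
        rw [commutatorElement_def]; group
      rw [this]
      exact Subgroup.commutator_mem_commutator (M.inv_mem hx) (Subgroup.mem_top _)

/-- FO-G: a finite group generated by `p`-subgroups `Qs i`; a normal subgroup `N` containing all
`[O^p(H), Qs i]` contains `O^p(H)`. -/
theorem pResidual_le_of_commutator_le {H : Type*} [Group H] [Finite H] {p : ℕ} [Fact p.Prime]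
    {ι : Type*} (Qs : ι → Subgroup H) (hQp : ∀ i, IsPGroup p (Qs i)) (hgen : (⨆ i, Qs i) = ⊤)
    (N : Subgroup H) [N.Normal] (hc : ∀ i, ⁅Cfsg.pResidual p H, Qs i⁆ ≤ N) :
    Cfsg.pResidual p H ≤ N := by
  have hRn : (Cfsg.pResidual p H).Normal := Cfsg.Agent.Lib.Helper17.pResidual_normal
  -- the image of `O^p(H)` in `H ⧸ N`
  obtain ⟨Rb, hRb⟩ : ∃ Rb : Subgroup (H ⧸ N),
      Rb = (Cfsg.pResidual p H).map (QuotientGroup.mk' N) := ⟨_, rfl⟩
  have hRbn : Rb.Normal := by
    rw [hRb]; exact hRn.map _ (QuotientGroup.mk'_surjective N)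
  have hgenb : (⨆ i, (Qs i).map (QuotientGroup.mk' N)) = ⊤ := by
    rw [← Subgroup.map_iSup, hgen]
    exact Subgroup.map_top_of_surjective _ (QuotientGroup.mk'_surjective N)
  -- `Rb` is central
  have hRbc : Rb ≤ Subgroup.center (H ⧸ N) := by
    intro x hx
    rw [hRb] at hx
    obtain ⟨r, hr, rfl⟩ := hx
    have hle : (⨆ i, (Qs i).map (QuotientGroup.mk' N)) ≤
        Subgroup.centralizer {QuotientGroup.mk' N r} := by
      apply iSup_le
      rintro i _ ⟨y, hy, rfl⟩
      rw [Subgroup.mem_centralizer_singleton_iff]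
      show (QuotientGroup.mk y : H ⧸ N) * QuotientGroup.mk r = QuotientGroup.mk r * QuotientGroup.mk y
      rw [← QuotientGroup.mk_mul, ← QuotientGroup.mk_mul, QuotientGroup.eq]
      apply hc i
      have : (y * r)⁻¹ * (r * y) = ⁅r⁻¹, y⁻¹⁆ := by
        rw [commutatorElement_def]; group
      rw [this]
      exact Subgroup.commutator_mem_commutator ((Cfsg.pResidual p H).inv_mem hr)
        ((Qs i).inv_mem hy)
    rw [hgenb] at hle
    rw [Subgroup.mem_center_iff]
    intro g
    have hg : g ∈ Subgroup.centralizer {QuotientGroup.mk' N r} := hle (Subgroup.mem_top g)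
    rw [Subgroup.mem_centralizer_singleton_iff] at hg
    exact hg
  -- `(H ⧸ N) ⧸ Rb` is a `p`-group
  have hpq : IsPGroup p ((H ⧸ N) ⧸ Rb) := by
    intro y
    induction y using QuotientGroup.induction_on with
    | H x =>
      induction x using QuotientGroup.induction_on with
      | H h =>
        obtain ⟨k, hk⟩ := Cfsg.Agent.Lib.Helper17.exists_pow_mem_pResidual (p := p) h
        refine ⟨k, ?_⟩
        rw [← QuotientGroup.mk_pow, QuotientGroup.eq_one_iff, ← QuotientGroup.mk_pow, hRb]
        exact ⟨_, hk, rfl⟩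
  -- `H ⧸ N` is nilpotent
  have hnil : Group.IsNilpotent (H ⧸ N) := by
    have : Group.IsNilpotent ((H ⧸ N) ⧸ Rb) := hpq.isNilpotent
    apply Subgroup.isNilpotent_of_ker_le_center (QuotientGroup.mk' Rb)
    rw [QuotientGroup.ker_mk']
    exact hRbc
  -- its Sylow `p`-subgroup is everything
  obtain ⟨P⟩ : Nonempty (Sylow p (H ⧸ N)) := inferInstance
  have hPn : (P : Subgroup (H ⧸ N)).Normal :=
    ((Group.isNilpotent_of_finite_tfae (G := H ⧸ N)).out 0 3 rfl rfl).mp hnil p inferInstance P
  have hPtop : (P : Subgroup (H ⧸ N)) = ⊤ := by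
    rw [eq_top_iff, ← hgenb]
    apply iSup_le
    intro i
    obtain ⟨P', hP'⟩ := ((hQp i).map (QuotientGroup.mk' N)).exists_le_sylow
    have : P' = P := by
      have := Sylow.unique_of_normal P hPn
      exact Subsingleton.elim _ _
    rw [this] at hP'
    exact hP'
  have hHN : IsPGroup p (H ⧸ N) := by
    intro y
    have hy : y ∈ (P : Subgroup (H ⧸ N)) := by rw [hPtop]; trivial
    obtain ⟨k, hk⟩ := P.isPGroup' ⟨y, hy⟩
    exact ⟨k, congrArg Subtype.val hk⟩
  exact Cfsg.Agent.Lib.Helper17.pResidual_le_of_quotient_isPGroup hHN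

end Cfsg.Agent.Lib.Helper12.S2860QG
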