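import Mathlib
import Cfsg.Agent.Lib.Helper12.S2933Defs
import Cfsg.Agent.Lib.Helper12.S2933RelU
import Cfsg.Agent.Lib.Helper20.Ord64C

/-!
# S2933: pieces FO-D (lifting commutativity from a two-generated quotient) and FO-H3 (gluing)
-/

set_option autoImplicit false

namespace Cfsg.Agent.Lib.Helper12.S2933

open Subgroup Cfsg.Agent.Lib.Helper20.Ord64

universe u₁ u₂

variable {T : Type*} [Group T] {V : Subgroup T} {τ σ : MulAut T}

/-- **FO-D**. -/
theorem comm_of_quot_gen (H : Hyp V τ σ) (hF : Fpf3 σ) [V.Normal] (x : T)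
    (hgen : zpowers (x : T ⧸ V) ⊔ zpowers (((σ x : T)) : T ⧸ V) = ⊤) :
    ∀ a b : T, a * b = b * a := by
  haveI := H.fin
  have hxs : x * σ x = σ x * x := hF.comm1 x
  have hS : ∀ a ∈ ((V : Set T) ∪ {x, σ x}), ∀ b ∈ ((V : Set T) ∪ {x, σ x}), a * b = b * a := by
    intro a ha b hb
    rcases ha with ha | ha
    · exact H.Vcen a ha b
    rcases hb with hb | hb
    · exact (H.Vcen b hb a).symm
    simp only [Set.mem_insert_iff, Set.mem_singleton_iff] at ha hb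
    rcases ha with rfl | rfl <;> rcases hb with rfl | rfl
    · rfl
    · exact hxs
    · exact hxs.symm
    · rfl
  have key : ∀ a : T, a ∈ closure ((V : Set T) ∪ {x, σ x}) := by
    have hx : x ∈ closure ((V : Set T) ∪ {x, σ x}) := subset_closure (Or.inr (by simp))
    have hsx : σ x ∈ closure ((V : Set T) ∪ {x, σ x}) := subset_closure (Or.inr (by simp))
    have hVK : V ≤ closure ((V : Set T) ∪ {x, σ x}) := fun v hv => subset_closure (Or.inl hv)
    have hmap : (closure ((V : Set T) ∪ {x, σ x})).map (QuotientGroup.mk' V) = ⊤ := by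
      rw [eq_top_iff, ← hgen, sup_le_iff]
      constructor
      · rw [zpowers_le]
        exact ⟨x, hx, rfl⟩
      · rw [zpowers_le]
        exact ⟨σ x, hsx, rfl⟩
    have h2 : (closure ((V : Set T) ∪ {x, σ x})) = ⊤ := by
      have h3 := Subgroup.comap_map_eq (QuotientGroup.mk' V) (closure ((V : Set T) ∪ {x, σ x}))
      rw [hmap, Subgroup.comap_top, QuotientGroup.ker_mk', sup_eq_left.mpr hVK] at h3
      exact h3.symm
    intro a
    rw [h2]; exact mem_top a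
  intro a b
  exact Fpf3.closure_comm hS a (key a) b (key b)

/-- **FO-H3** (gluing): two groups with generating quadruples satisfying `RelU`, one of order 64 and
the other of order at most ... (both `≤ 64` by the order bound) are isomorphic. -/
theorem equiv_of_RelU {T₁ : Type u₁} {T₂ : Type u₂} [Group T₁] [Group T₂] [Finite T₁] [Finite T₂]
    (hbound : ∀ (G : Type (max u₁ u₂)) [Group G] [Finite G] (y y' w w' : G), RelU y y' w w' →
      closure {y, y', w, w'} = ⊤ → Nat.card G ≤ 64)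
    (h₁ : Nat.card T₁ = 64) (h₂ : Nat.card T₂ = 64)
    (y₁ y₁' w₁ w₁' : T₁) (hR₁ : RelU y₁ y₁' w₁ w₁') (hg₁ : closure {y₁, y₁', w₁, w₁'} = ⊤)
    (y₂ y₂' w₂ w₂' : T₂) (hR₂ : RelU y₂ y₂' w₂ w₂') (hg₂ : closure {y₂, y₂', w₂, w₂'} = ⊤) :
    Nonempty (T₁ ≃* T₂) := by
  classical
  obtain ⟨D, hDdef⟩ : ∃ D : Subgroup (T₁ × T₂), D = closure
      {((y₁, y₂) : T₁ × T₂), (y₁', y₂'), (w₁, w₂), (w₁', w₂')} := ⟨_, rfl⟩
  have hyD : ((y₁, y₂) : T₁ × T₂) ∈ D := by rw [hDdef]; exact subset_closure (by simp)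
  have hy'D : ((y₁', y₂') : T₁ × T₂) ∈ D := by rw [hDdef]; exact subset_closure (by simp)
  have hwD : ((w₁, w₂) : T₁ × T₂) ∈ D := by rw [hDdef]; exact subset_closure (by simp)
  have hw'D : ((w₁', w₂') : T₁ × T₂) ∈ D := by rw [hDdef]; exact subset_closure (by simp)
  have hRD : RelU (⟨(y₁, y₂), hyD⟩ : D) ⟨(y₁', y₂'), hy'D⟩ ⟨(w₁, w₂), hwD⟩ ⟨(w₁', w₂'), hw'D⟩ :=
    RelU.of_injective D.subtype Subtype.val_injective (hR₁.prod hR₂)
  have hgenD : closure {(⟨(y₁, y₂), hyD⟩ : D), ⟨(y₁', y₂'), hy'D⟩, ⟨(w₁, w₂), hwD⟩,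
      ⟨(w₁', w₂'), hw'D⟩} = ⊤ := by
    have h1 : ((↑) : D → T₁ × T₂) ⁻¹' {((y₁, y₂) : T₁ × T₂), (y₁', y₂'), (w₁, w₂), (w₁', w₂')} =
        {(⟨(y₁, y₂), hyD⟩ : D), ⟨(y₁', y₂'), hy'D⟩, ⟨(w₁, w₂), hwD⟩, ⟨(w₁', w₂'), hw'D⟩} := by
      ext x
      simp only [Set.mem_preimage, Set.mem_insert_iff, Set.mem_singleton_iff]
      constructor
      · rintro (h | h | h | h)
        · left; exact Subtype.ext h
        · right; left; exact Subtype.ext h
        · right; right; left; exact Subtype.ext h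
        · right; right; right; exact Subtype.ext h
      · rintro (h | h | h | h)
        · left; rw [h]
        · right; left; rw [h]
        · right; right; left; rw [h]
        · right; right; right; rw [h]
    rw [← h1]
    subst hDdef
    exact closure_closure_coe_preimage
  have hcard : Nat.card D ≤ 64 := hbound D _ _ _ _ hRD hgenD
  -- first projection
  obtain ⟨π₁, hπ₁⟩ : ∃ π : D →* T₁, π = (MonoidHom.fst T₁ T₂).comp D.subtype := ⟨_, rfl⟩
  obtain ⟨π₂, hπ₂⟩ : ∃ π : D →* T₂, π = (MonoidHom.snd T₁ T₂).comp D.subtype := ⟨_, rfl⟩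
  have hsurj₁ : Function.Surjective π₁ := by
    rw [← MonoidHom.range_eq_top, eq_top_iff, ← hg₁, closure_le]
    intro x hx
    simp only [Set.mem_insert_iff, Set.mem_singleton_iff] at hx
    rcases hx with rfl | rfl | rfl | rfl
    · exact ⟨⟨(_, y₂), hyD⟩, by rw [hπ₁]; rfl⟩
    · exact ⟨⟨(_, y₂'), hy'D⟩, by rw [hπ₁]; rfl⟩
    · exact ⟨⟨(_, w₂), hwD⟩, by rw [hπ₁]; rfl⟩
    · exact ⟨⟨(_, w₂'), hw'D⟩, by rw [hπ₁]; rfl⟩
  have hsurj₂ : Function.Surjective π₂ := by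
    rw [← MonoidHom.range_eq_top, eq_top_iff, ← hg₂, closure_le]
    intro x hx
    simp only [Set.mem_insert_iff, Set.mem_singleton_iff] at hx
    rcases hx with rfl | rfl | rfl | rfl
    · exact ⟨⟨(y₁, _), hyD⟩, by rw [hπ₂]; rfl⟩
    · exact ⟨⟨(y₁', _), hy'D⟩, by rw [hπ₂]; rfl⟩
    · exact ⟨⟨(w₁, _), hwD⟩, by rw [hπ₂]; rfl⟩
    · exact ⟨⟨(w₁', _), hw'D⟩, by rw [hπ₂]; rfl⟩
  have hbij₁ : Function.Bijective π₁ :=
    hsurj₁.bijective_of_nat_card_le (by rw [h₁]; exact hcard)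
  have hbij₂ : Function.Bijective π₂ :=
    hsurj₂.bijective_of_nat_card_le (by rw [h₂]; exact hcard)
  exact ⟨(MulEquiv.ofBijective π₁ hbij₁).symm.trans (MulEquiv.ofBijective π₂ hbij₂)⟩

end Cfsg.Agent.Lib.Helper12.S2933
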