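import Mathlib
import Cfsg.Agent.Lib.Helper12.S2933RelU
import Cfsg.Agent.Lib.Helper20.Ord64C

/-!
# S2933 piece FO-H1: generators and relations for a special group of order 64 with a
fixed-point-free automorphism of order three and no non-central involution
-/

set_option autoImplicit false
set_option linter.style.haveILetI false

namespace Cfsg.Agent.Lib.Helper12.S2933

open Subgroup Cfsg.Agent.Lib.Helper20.Ord64

variable {T : Type*} [Group T] {ρ : MulAut T}

/-- in the centre, `ρ² e = e * ρ e` -/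
theorem rho_rho_eq (S : Setup ρ) (e : T) (he : e ∈ center T) : ρ (ρ e) = e * ρ e := by
  haveI := S.finite
  have hre : ρ e ∈ center T := Fpf3.center_inv ρ e he
  have h := S.fp.tri e
  have h1 : ρ (ρ e) = (e * ρ e)⁻¹ := eq_inv_of_mul_eq_one_right h
  rw [h1, mul_inv_rev, S.center_inv_eq e he, S.center_inv_eq _ hre]
  exact Setup.center_comm _ hre e

/-- the square of `w * a` -/
theorem sq_mul (S : Setup ρ) (w a : T) :
    (w * a) * (w * a) = cm a w * (w * w) * (a * a) := by
  have h1 := mul_eq_cm_mul a w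
  calc (w * a) * (w * a) = w * (a * w) * a := by group
    _ = w * (cm a w * (w * a)) * a := by rw [h1]
    _ = (w * cm a w) * (w * a * a) := by group
    _ = (cm a w * w) * (w * a * a) := by rw [S.cm_comm a w w]
    _ = cm a w * (w * w) * (a * a) := by group

/-- **FO-H1**. -/
theorem exists_gens_U (S : Setup ρ) (h : ∀ e : T, e * e = 1 → e ∈ center T) :
    ∃ y w : T, RelU y (ρ y) w (ρ w) ∧ closure {y, ρ y, w, ρ w} = ⊤ := by
  haveI := S.finite
  obtain ⟨y, hy⟩ := S.exists_not_mem_center
  obtain ⟨e, he_def⟩ : ∃ e : T, e = y * y := ⟨_, rfl⟩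
  have he : e ∈ center T := he_def ▸ S.sq_mem_center y
  have he1 : e ≠ 1 := by
    intro h1
    exact hy (h y (he_def ▸ h1))
  have hre : ρ e ∈ center T := Fpf3.center_inv ρ e he
  have hrre : ρ (ρ e) ∈ center T := Fpf3.center_inv ρ _ hre
  have hrre_eq : ρ (ρ e) = e * ρ e := rho_rho_eq S e he
  have hee : e * e = 1 := S.center_sq e he
  have hrere : ρ e * ρ e = 1 := S.center_sq _ hre
  -- an element outside the line
  have hline_inv := S.fp.lineOf_inv y
  have hcl : Nat.card (Fpf3.lineOf ρ y) = 16 := S.card_line y hy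
  obtain ⟨w₀, hw₀⟩ : ∃ w₀ : T, w₀ ∉ Fpf3.lineOf ρ y := by
    by_contra hcon
    push Not at hcon
    have : Fpf3.lineOf ρ y = ⊤ := eq_top_iff.mpr (fun x _ => hcon x)
    rw [this, Subgroup.card_top, S.card] at hcl
    omega
  -- invariance of non-membership
  have hnot : ∀ v : T, v ∉ Fpf3.lineOf ρ y → ρ v ∉ Fpf3.lineOf ρ y := by
    intro v hv hρv
    apply hv
    have := hline_inv _ (hline_inv _ hρv)
    rwa [S.fp.cube] at this
  have hcm_ne : ∀ v : T, v ∉ Fpf3.lineOf ρ y → cm y v ≠ 1 := by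
    intro v hv h1
    exact hv (S.mem_line_of_commute y v hy ((cm_eq_one_iff y v).mp h1))
  -- normalise the commutator
  obtain ⟨w₁, hw₁, hcw₁⟩ : ∃ w₁ : T, w₁ ∉ Fpf3.lineOf ρ y ∧ cm y w₁ = e := by
    have hc : cm y w₀ ∈ center T := S.cm_mem y w₀
    have hc1 : cm y w₀ ≠ 1 := hcm_ne w₀ hw₀
    rcases S.center_cases (cm y w₀) hc hc1 e he with h1 | h1 | h1 | h1
    · exact absurd h1 he1
    · exact ⟨w₀, hw₀, h1.symm⟩
    · refine ⟨ρ (ρ w₀), hnot _ (hnot _ hw₀), ?_⟩
      rw [S.cm_rho_right, S.cm_rho_right, S.fp.cube, h1]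
    · refine ⟨ρ w₀, hnot _ hw₀, ?_⟩
      rw [S.cm_rho_right, h1]
  -- the square of w₁
  have hs : w₁ * w₁ ∈ center T := S.sq_mem_center w₁
  have hs1 : w₁ * w₁ ≠ 1 := by
    intro h1
    exact hw₁ (Fpf3.center_le_lineOf ρ y (h w₁ h1))
  have hρy_line : ρ y ∈ Fpf3.lineOf ρ y := Fpf3.map_mem_lineOf_self ρ y
  have hw₁ρy : w₁ * ρ y ∉ Fpf3.lineOf ρ y := by
    intro hmem
    apply hw₁
    have := mul_mem hmem (inv_mem hρy_line)
    have e1 : w₁ * ρ y * (ρ y)⁻¹ = w₁ := by group
    rwa [e1] at this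
  have hρy2 : ρ y * ρ y = ρ e := by rw [he_def, map_mul]
  have hsq : (w₁ * ρ y) * (w₁ * ρ y) = ρ (ρ e) * (w₁ * w₁) * ρ e := by
    rw [sq_mul S, S.cm_rho_left, hcw₁, hρy2]
  have hcm2 : cm y (w₁ * ρ y) = e := by
    rw [S.cm_mul_right, hcw₁, (cm_eq_one_iff y (ρ y)).mpr (S.fp.comm1 y), mul_one]
  obtain ⟨w, hw, hcw, hw2⟩ : ∃ w : T, w ∉ Fpf3.lineOf ρ y ∧ cm y w = e ∧ w * w = ρ e := by
    rcases S.center_cases e he he1 (w₁ * w₁) hs with h1 | h1 | h1 | h1
    · exact absurd h1 hs1
    · -- then `w₁ * ρ y` is a non-central involution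
      exfalso
      have h2 : (w₁ * ρ y) * (w₁ * ρ y) = 1 := by
        rw [hsq, h1, hrre_eq]
        calc e * ρ e * e * ρ e = e * (ρ e * e) * ρ e := by group
          _ = e * (e * ρ e) * ρ e := by rw [Setup.center_comm _ hre e]
          _ = (e * e) * (ρ e * ρ e) := by group
          _ = 1 := by rw [hee, hrere, one_mul]
      exact hw₁ρy (Fpf3.center_le_lineOf ρ y (h _ h2))
    · exact ⟨w₁, hw₁, hcw₁, h1⟩
    · refine ⟨w₁ * ρ y, hw₁ρy, hcm2, ?_⟩
      rw [hsq, h1, hrre_eq]
      calc e * ρ e * (e * ρ e) * ρ e = e * (ρ e * e) * ρ e * ρ e := by group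
        _ = e * (e * ρ e) * ρ e * ρ e := by rw [Setup.center_comm _ hre e]
        _ = (e * e) * (ρ e * ρ e) * ρ e := by group
        _ = ρ e := by rw [hee, hrere, one_mul, one_mul]
  refine ⟨y, w, ?_, ?_⟩
  · -- the relations
    have hρw2 : ρ w * ρ w = e * ρ e := by rw [← map_mul, hw2, hrre_eq]
    have hyy : y * y = e := he_def.symm
    refine ⟨?_, ?_, ?_, ?_, ?_, ?_, ?_, ?_, ?_, ?_, ?_, ?_, ?_, ?_, ?_, ?_⟩
    · rw [hyy]; exact hee
    · rw [hρy2]; exact hrere
    · rw [hyy]; exact Setup.center_comm e he _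
    · rw [hyy]; exact Setup.center_comm e he _
    · rw [hyy]; exact Setup.center_comm e he _
    · rw [hρy2]; exact Setup.center_comm _ hre _
    · rw [hρy2]; exact Setup.center_comm _ hre _
    · rw [hρy2]; exact Setup.center_comm _ hre _
    · exact S.fp.comm1 y
    · exact S.fp.comm1 w
    · rw [hw2, hρy2]
    · rw [hρw2, hyy, hρy2]
    · rw [hyy, ← hcw]; exact mul_eq_cm_mul y w
    · rw [hyy, hρy2, ← hrre_eq]
      have := mul_eq_cm_mul (ρ y) w
      rw [S.cm_rho_left, hcw] at this
      exact this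
    · rw [hyy, hρy2, ← hrre_eq]
      have := mul_eq_cm_mul y (ρ w)
      rw [S.cm_rho_right, hcw] at this
      exact this
    · rw [hρy2]
      have := mul_eq_cm_mul (ρ y) (ρ w)
      rw [← cm_map, hcw] at this
      exact this
  · -- generation
    obtain ⟨K, hK⟩ : ∃ K : Subgroup T, K = closure {y, ρ y, w, ρ w} := ⟨_, rfl⟩
    rw [← hK]
    have hyK : y ∈ K := by rw [hK]; exact subset_closure (by simp)
    have hρyK : ρ y ∈ K := by rw [hK]; exact subset_closure (by simp)
    have hwK : w ∈ K := by rw [hK]; exact subset_closure (by simp)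
    have hρwK : ρ w ∈ K := by rw [hK]; exact subset_closure (by simp)
    have hrr : ∀ v : T, ρ (ρ v) = (v * ρ v)⁻¹ := fun v =>
      eq_inv_of_mul_eq_one_right (S.fp.tri v)
    have hKinv : ∀ k ∈ K, ρ k ∈ K := by
      intro k hk
      rw [hK] at hk
      induction hk using closure_induction with
      | mem x hx =>
        simp only [Set.mem_insert_iff, Set.mem_singleton_iff] at hx
        rcases hx with rfl | rfl | rfl | rfl
        · exact hρyK
        · rw [hrr]; exact inv_mem (mul_mem hyK hρyK)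
        · exact hρwK
        · rw [hrr]; exact inv_mem (mul_mem hwK hρwK)
      | one => rw [map_one]; exact one_mem _
      | mul a b _ _ ha hb => rw [map_mul]; exact mul_mem ha hb
      | inv a _ ha => rw [map_inv]; exact inv_mem ha
    have heK : e ∈ K := he_def ▸ mul_mem hyK hyK
    have hreK : ρ e ∈ K := hKinv e heK
    have hrreK : ρ (ρ e) ∈ K := hKinv _ hreK
    have hZK : center T ≤ K := by
      intro z hz
      rcases S.center_cases e he he1 z hz with h1 | h1 | h1 | h1
      · rw [h1]; exact one_mem _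
      · rw [h1]; exact heK
      · rw [h1]; exact hreK
      · rw [h1]; exact hrreK
    have hLK : Fpf3.lineOf ρ y ≤ K := by
      unfold Fpf3.lineOf
      rw [closure_le]
      intro a ha
      rcases ha with ha | ha
      · exact hZK ha
      · simp only [Set.mem_insert_iff, Set.mem_singleton_iff] at ha
        rcases ha with rfl | rfl | rfl
        · exact hyK
        · exact hρyK
        · exact hKinv _ hρyK
    have hgt : 16 < Nat.card K := by
      by_contra hcon
      push Not at hcon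
      have := Subgroup.eq_of_le_of_card_ge hLK (by rw [hcl]; exact hcon)
      exact hw (this ▸ hwK)
    have h64 : Nat.card K = 64 := by
      rcases S.fp.card_cases S.card K hKinv with h' | h' | h' | h' <;> omega
    exact Subgroup.eq_top_of_card_eq K (by rw [h64, S.card])

end Cfsg.Agent.Lib.Helper12.S2933
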