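import Mathlib
import Cfsg.Agent.Lib.Helper12.S2933D
import Cfsg.Agent.Lib.Helper12.S2933H1
import Cfsg.Agent.H5.S2933FOH2b

/-!
# S2933 piece FO-H3: uniqueness of the special group of order 64 with a fixed-point-free
automorphism of order three and no non-central involution
-/

set_option autoImplicit false
set_option linter.style.haveILetI false

namespace Cfsg.Agent.Lib.Helper12.S2933

open Subgroup Cfsg.Agent.Lib.Helper20.Ord64

/-- **FO-H3**. -/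
theorem equiv_of_no_inv {T₁ T₂ : Type*} [Group T₁] [Group T₂] {ρ₁ : MulAut T₁} {ρ₂ : MulAut T₂}
    (S₁ : Setup ρ₁) (S₂ : Setup ρ₂) (h₁ : ∀ e : T₁, e * e = 1 → e ∈ center T₁)
    (h₂ : ∀ e : T₂, e * e = 1 → e ∈ center T₂) : Nonempty (T₁ ≃* T₂) := by
  haveI := S₁.finite
  haveI := S₂.finite
  obtain ⟨y₁, w₁, hR₁, hg₁⟩ := exists_gens_U S₁ h₁
  obtain ⟨y₂, w₂, hR₂, hg₂⟩ := exists_gens_U S₂ h₂
  exact equiv_of_RelU
    (fun G _ _ y y' w w' hR hgen => Cfsg.H5.S2933FOH2b.card_le_of_RelU y y' w w' hR hgen)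
    S₁.card S₂.card y₁ (ρ₁ y₁) w₁ (ρ₁ w₁) hR₁ hg₁ y₂ (ρ₂ y₂) w₂ (ρ₂ w₂) hR₂ hg₂

end Cfsg.Agent.Lib.Helper12.S2933
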