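import Mathlib
import Cfsg.Agent.Lib.Helper12.S2933Defs
import Cfsg.Agent.Lib.Helper12.S2933D
import Cfsg.Agent.Lib.Helper12.S2933H3
import Cfsg.Agent.Lib.Helper24.S2933FOA
import Cfsg.Agent.Lib.Helper7.S2933FOC2
import Cfsg.Agent.Lib.Helper24.S2933FOA4
import Cfsg.Agent.Lib.Helper6.S2933FOC1
import Cfsg.Agent.Lib.Helper10.S2933FOE3
import Cfsg.Agent.Lib.Helper29.S2933FOG
import Cfsg.Agent.Lib.Helper25.S2933FOBaux
import Cfsg.Agent.Lib.Helper25.S2933FOE1aux
import Cfsg.Agent.Lib.Helper6.S2933FOE2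
import Cfsg.Agent.Lib.Helper29.S2933FOI2
import Cfsg.Agent.S1896

/-!
# S2933: the abstract main theorem (assembly, helper12)
-/

set_option autoImplicit false
set_option linter.style.haveILetI false

namespace Cfsg.Agent.Lib.Helper12.S2933

open Subgroup Cfsg.Agent.Lib.Helper20.Ord64 Cfsg.Agent.Lib.Helper6.FFour

universe u

variable {T : Type*} [Group T] {V : Subgroup T} {τ σ : MulAut T}

theorem main_abelian (H : Hyp V τ σ) (hc : ∀ a b : T, a * b = b * a) :
    (Nat.card T = 16 ∧ ∀ x : T, x * x = 1) ∨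
      (∃ n : ℕ, 1 ≤ n ∧
        Nonempty (T ≃* Multiplicative (ZMod (2 ^ n)) × Multiplicative (ZMod (2 ^ n)))) := by
  by_cases h : ∃ e : T, e * e = 1 ∧ e ∉ V
  · obtain ⟨e, he2, heV⟩ := h
    left
    have h1 := Cfsg.Agent.Lib.Helper6.S2933FOC1.card_of_inv H ⊤ le_top (fun _ _ => mem_top _) (fun _ _ => mem_top _)
      (fun a _ b _ => hc a b) e (mem_top e) he2 heV
    exact ⟨by rw [← h1.1, Subgroup.card_top], fun x => h1.2 x (mem_top x)⟩
  · right
    push Not at h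
    obtain ⟨x, n, hn, hord, hinf, hsup⟩ := Cfsg.Agent.Lib.Helper7.S2933.exists_gen H hc h
    refine ⟨n, hn, ?_⟩
    letI : CommGroup T := { ‹Group T› with mul_comm := hc }
    exact Cfsg.Agent.S1896.nonempty_mulEquiv_prod_zmod (pow_pos (by norm_num) n) hord
      ((MulEquiv.orderOf_eq σ x).trans hord) hinf hsup


/-- the FO-A4 facts bundled (helper24's lemmas in helper25's structure). -/
theorem mkA4 (H : Hyp V τ σ) : Cfsg.Agent.Lib.Helper25.S2933.A4 H where
  V_le_D := Cfsg.Agent.Lib.Helper24.S2933FOA4.V_le_D H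
  D_σ := Cfsg.Agent.Lib.Helper24.S2933FOA4.D_σ H
  D_τ := Cfsg.Agent.Lib.Helper24.S2933FOA4.D_τ H
  D_sq := Cfsg.Agent.Lib.Helper24.S2933FOA4.D_sq H
  card_D := Cfsg.Agent.Lib.Helper24.S2933FOA4.card_D H
  D_comm := Cfsg.Agent.Lib.Helper24.S2933FOA4.D_comm H
  D_central := Cfsg.Agent.Lib.Helper24.S2933FOA4.D_central H

/-- **FO-E3** (wrapper around helper10's core). -/
theorem false_of_quot (H : Hyp V τ σ) [V.Normal]
    (hQ : Hyp (H.D.map (QuotientGroup.mk' V)) H.τq H.σq) (hcard : Nat.card (T ⧸ V) = 64)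
    (hnc : ¬ ∀ a b : T ⧸ V, a * b = b * a) : False := by
  haveI := H.fin
  have hneQ : ∃ q : T ⧸ V, q ∉ H.D.map (QuotientGroup.mk' V) := by
    by_contra hcon
    push Not at hcon
    have htop : H.D.map (QuotientGroup.mk' V) = ⊤ := eq_top_iff.mpr (fun q _ => hcon q)
    have h4 := hQ.Vcard
    rw [htop, Subgroup.card_top, hcard] at h4
    omega
  exact Cfsg.Agent.Lib.Helper10.S2933FOE3.false_of_quot_aux H hQ hcard hnc
    (Cfsg.Agent.Lib.Helper24.S2933FOA.fpf3 H) (Cfsg.Agent.Lib.Helper24.S2933FOA.fpf3 hQ)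
    (Cfsg.Agent.Lib.Helper24.S2933FOA4.D_sq H) (Cfsg.Agent.Lib.Helper24.S2933FOA4.card_D hQ hneQ)
    (Cfsg.Agent.Lib.Helper25.S2933.D3_comm_aux H (mkA4 H) hQ (mkA4 hQ) hcard hnc)
    (fun y₀ d₀ hd hdV h => Cfsg.Agent.Lib.Helper6.S2933FOE2.pairing H y₀ d₀ hd hdV h)
    (fun S hVS hτ hσ hc e heS he2 heV =>
      Cfsg.Agent.Lib.Helper6.S2933FOC1.card_of_inv H S hVS hτ hσ hc e heS he2 heV)

theorem card_eq_64_aux : ∀ (n : ℕ) (T : Type u) [Group T] (V : Subgroup T) (τ σ : MulAut T),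
    Hyp V τ σ → Nat.card T = n → ¬ (∀ a b : T, a * b = b * a) → Nat.card T = 64 := by
  intro n
  induction n using Nat.strong_induction_on with
  | _ n ih =>
    intro T _ V τ σ H hn hnc
    haveI := H.fin
    haveI := H.normal
    have hne : ∃ x : T, x ∉ V := by
      by_contra hcon
      push Not at hcon
      exact hnc (fun a b => H.Vcen a (hcon a) b)
    have HQ := Cfsg.Agent.Lib.Helper25.S2933.quot_aux H (mkA4 H) hne
    have hcardQ : Nat.card T = Nat.card (T ⧸ V) * 4 := by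
      rw [← H.Vcard]; exact Subgroup.card_eq_card_quotient_mul_card_subgroup V
    by_cases hQc : ∀ a b : T ⧸ V, a * b = b * a
    · by_cases h : ∃ e : T ⧸ V, e * e = 1 ∧ e ∉ H.D.map (QuotientGroup.mk' V)
      · obtain ⟨e, he2, heV⟩ := h
        have h1 := Cfsg.Agent.Lib.Helper6.S2933FOC1.card_of_inv HQ ⊤ le_top (fun _ _ => mem_top _) (fun _ _ => mem_top _)
          (fun a _ b _ => hQc a b) e (mem_top e) he2 heV
        rw [Subgroup.card_top] at h1
        omega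
      · push Not at h
        obtain ⟨q, m, hm, hord, hinf, hsup⟩ := Cfsg.Agent.Lib.Helper7.S2933.exists_gen HQ hQc h
        obtain ⟨x, rfl⟩ := QuotientGroup.mk_surjective q
        exact absurd (comm_of_quot_gen H (Cfsg.Agent.Lib.Helper24.S2933FOA.fpf3 H) x hsup) hnc
    · have hpos : 0 < Nat.card (T ⧸ V) := Nat.card_pos
      have hlt : Nat.card (T ⧸ V) < n := by omega
      have h64 := ih _ hlt (T ⧸ V) _ _ _ HQ rfl hQc
      exact (false_of_quot H HQ h64 hQc).elim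

theorem main (H : Hyp V τ σ) :
    (Nat.card T = 16 ∧ ∀ x : T, x * x = 1) ∨
    (∃ n : ℕ, 1 ≤ n ∧
      Nonempty (T ≃* Multiplicative (ZMod (2 ^ n)) × Multiplicative (ZMod (2 ^ n)))) ∨
    (∃ (F : Type) (_ : Field F) (_ : Fintype F), Fintype.card F = 4 ∧
      ∀ P : Sylow 2 (Matrix.ProjectiveSpecialLinearGroup (Fin 3) F),
        Nonempty (T ≃* ↥(P : Subgroup (Matrix.ProjectiveSpecialLinearGroup (Fin 3) F)))) ∨
    (∃ (F : Type) (_ : Field F) (_ : Fintype F), Fintype.card F = 16 ∧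
      ∀ P : Sylow 2 (Cfsg.PSU 3 F 4), Nonempty (T ≃* ↥(P : Subgroup (Cfsg.PSU 3 F 4)))) := by
  by_cases hc : ∀ a b : T, a * b = b * a
  · rcases main_abelian H hc with h | h
    · exact Or.inl h
    · exact Or.inr (Or.inl h)
  · have h64 := card_eq_64_aux _ T V τ σ H rfl hc
    have S : Setup σ := ⟨Cfsg.Agent.Lib.Helper24.S2933FOA.fpf3 H, h64,
      fun h => hc (fun a b => h.is_comm.comm a b)⟩
    by_cases hinv : ∃ e : T, e * e = 1 ∧ e ∉ center T
    · obtain ⟨e, he2, hec⟩ := hinv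
      right; right; left
      exact ⟨K4, inferInstance, inferInstance, by decide,
        fun P => Cfsg.Agent.Lib.Helper29.S2933FOG.sylow_L S e he2 hec P⟩
    · push Not at hinv
      right; right; right
      obtain ⟨F, i1, i2, hF, hall⟩ := Cfsg.Agent.Lib.Helper29.S2933FOI.exists_UP_model.{_}
      exact ⟨F, i1, i2, hF, fun P => hall T σ S hinv P⟩

end Cfsg.Agent.Lib.Helper12.S2933
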