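import Mathlib
import Cfsg.Agent.Lib.Helper22.Jordan

/-!
# S4130 farm-out piece FO-1 (architect helper3): `sylow_elementary`

If `p² ∤ |G : C(x)|` for every `x` and `Z(G) = 1`, a Sylow `p`-subgroup is elementary abelian.
-/

set_option autoImplicit false

namespace Cfsg.Agent.Lib.Helper12.S4130FO1

open Subgroup

variable {G : Type*} [Group G]

/-- The intersection of all subgroups of `Q` of index `1` or `p`. -/
def W (p : ℕ) (Q : Subgroup G) : Subgroup G :=
  sInf {S : Subgroup G | S ≤ Q ∧ S.relIndex Q ∣ p}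

theorem W_le (p : ℕ) (Q : Subgroup G) : W p Q ≤ Q :=
  sInf_le ⟨le_refl _, by simp⟩

theorem W_le_of {p : ℕ} {Q S : Subgroup G} (h1 : S ≤ Q) (h2 : S.relIndex Q ∣ p) : W p Q ≤ S :=
  sInf_le ⟨h1, h2⟩

/-- A subgroup of index `1` or `p` of a finite `p`-group contains all commutators and `p`-th
powers. -/
theorem comm_pow_mem [Finite G] (p : ℕ) [Fact p.Prime] (Q S : Subgroup G) (hQ : IsPGroup p Q)
    (h1 : S ≤ Q) (h2 : S.relIndex Q ∣ p) (a b : G) (ha : a ∈ Q) (hb : b ∈ Q) :
    a * b * a⁻¹ * b⁻¹ ∈ S ∧ a ^ p ∈ S := by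
  have hp : p.Prime := Fact.out
  rcases (Nat.dvd_prime hp).mp h2 with h | h
  · have hle : Q ≤ S := Subgroup.relIndex_eq_one.mp h
    exact ⟨S.mul_mem (S.mul_mem (S.mul_mem (hle ha) (hle hb)) (S.inv_mem (hle ha)))
      (S.inv_mem (hle hb)), S.pow_mem (hle ha) p⟩
  · -- index p
    have hidx : (S.subgroupOf Q).index = p := h
    obtain ⟨n, hn⟩ := IsPGroup.iff_card.mp hQ
    have hdvd : (S.subgroupOf Q).index ∣ Nat.card Q := Subgroup.index_dvd_card _
    have hn0 : n ≠ 0 := by
      rintro rfl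
      rw [hidx, hn, pow_zero] at hdvd
      exact hp.one_lt.ne' (Nat.dvd_one.mp hdvd)
    have hmf : (Nat.card Q).minFac = p := by
      rw [hn]; exact Nat.Prime.pow_minFac hp hn0
    haveI hN : (S.subgroupOf Q).Normal :=
      Subgroup.normal_of_index_eq_minFac_card (by rw [hidx, hmf])
    have hcard : Nat.card (↥Q ⧸ S.subgroupOf Q) = p := by
      rw [← Subgroup.index_eq_card]; exact hidx
    haveI : Fact (Nat.card (↥Q ⧸ S.subgroupOf Q)).Prime := ⟨by rw [hcard]; exact hp⟩
    haveI : IsCyclic (↥Q ⧸ S.subgroupOf Q) := isCyclic_of_prime_card hcard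
    constructor
    · have : ((⟨a, ha⟩ * ⟨b, hb⟩ * ⟨a, ha⟩⁻¹ * ⟨b, hb⟩⁻¹ : ↥Q) : ↥Q ⧸ S.subgroupOf Q) = 1 := by
        letI := IsCyclic.commGroup (α := ↥Q ⧸ S.subgroupOf Q)
        simp only [QuotientGroup.mk_mul, QuotientGroup.mk_inv]
        rw [mul_comm ((⟨a, ha⟩ : ↥Q) : ↥Q ⧸ S.subgroupOf Q)]
        simp
      rw [QuotientGroup.eq_one_iff] at this
      exact this
    · have : ((⟨a, ha⟩ ^ p : ↥Q) : ↥Q ⧸ S.subgroupOf Q) = 1 := by
        rw [QuotientGroup.mk_pow]
        have := pow_card_eq_one' (G := ↥Q ⧸ S.subgroupOf Q)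
          (x := ((⟨a, ha⟩ : ↥Q) : ↥Q ⧸ S.subgroupOf Q))
        rwa [hcard] at this
      rw [QuotientGroup.eq_one_iff] at this
      exact this

/-- Covering step: every `g` has a conjugate centralizing `W p P`. -/
theorem exists_conj_mem_centralizer_W [Finite G] (p : ℕ) [Fact p.Prime]
    (h : ∀ x : G, ¬ p ^ 2 ∣ (centralizer ({x} : Set G)).index) (P : Sylow p G) (g : G) :
    ∃ x : G, x⁻¹ * g * x ∈ centralizer ((W p (P : Subgroup G) : Subgroup G) : Set G) := by
  have hp : p.Prime := Fact.out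
  set C : Subgroup G := centralizer ({g} : Set G) with hC
  obtain ⟨S₁'⟩ : Nonempty (Sylow p ↥C) := inferInstance
  set S₁ : Subgroup G := (S₁' : Subgroup ↥C).map C.subtype with hS₁
  have hS₁p : IsPGroup p S₁ := S₁'.isPGroup'.map C.subtype
  have hS₁C : S₁ ≤ C := Subgroup.map_subtype_le _
  have hS₁card : Nat.card S₁ = p ^ (Nat.card C).factorization p := by
    rw [← Sylow.card_eq_multiplicity S₁']
    exact Nat.card_congr ((S₁' : Subgroup ↥C).equivMapOfInjective C.subtype
      C.subtype_injective).symm.toEquiv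
  obtain ⟨Q, hQ⟩ := hS₁p.exists_le_sylow
  obtain ⟨k, hk⟩ := MulAction.exists_smul_eq G Q P
  -- S₂ = k S₁ k⁻¹ ≤ P
  set S₂ : Subgroup G := S₁.map (MulAut.conj k).toMonoidHom with hS₂
  have hS₂P : S₂ ≤ (P : Subgroup G) := by
    rintro _ ⟨s, hs, rfl⟩
    have : (MulAut.conj k) s ∈ ((k • Q : Sylow p G) : Subgroup G) := by
      rw [Sylow.smul_def]
      exact Subgroup.smul_mem_pointwise_smul _ _ _ (hQ hs)
    rw [hk] at this
    exact this
  have hS₂card : Nat.card S₂ = Nat.card S₁ :=
    Nat.card_congr (S₁.equivMapOfInjective (MulAut.conj k).toMonoidHom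
      (MulAut.conj k).injective).symm.toEquiv
  -- the index computation
  have hPcard : Nat.card (P : Subgroup G) = p ^ (Nat.card G).factorization p :=
    Sylow.card_eq_multiplicity P
  have hidx : Nat.card G = Nat.card C * C.index := (Subgroup.card_mul_index C).symm
  have hfac : (Nat.card G).factorization p ≤ (Nat.card C).factorization p + 1 := by
    have hC0 : Nat.card C ≠ 0 := Nat.card_pos.ne'
    have hi0 : C.index ≠ 0 := Subgroup.index_ne_zero_of_finite
    rw [hidx, Nat.factorization_mul hC0 hi0]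
    simp only [Finsupp.coe_add, Pi.add_apply]
    have : C.index.factorization p < 2 := by
      by_contra hcon
      push Not at hcon
      exact h g ((hp.pow_dvd_iff_le_factorization hi0).mpr hcon)
    omega
  have hrel : S₂.relIndex (P : Subgroup G) ∣ p := by
    have h1 : S₂.relIndex (P : Subgroup G) * Nat.card S₂ = Nat.card (P : Subgroup G) := by
      have := Subgroup.card_mul_index (S₂.subgroupOf (P : Subgroup G))
      rw [mul_comm] at this
      rw [← this, Subgroup.relIndex]
      congr 1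
      exact (Nat.card_congr (Subgroup.subgroupOfEquivOfLe hS₂P).toEquiv).symm
    rw [hS₂card, hS₁card, hPcard] at h1
    have hle : (Nat.card C).factorization p ≤ (Nat.card G).factorization p := by
      have : p ^ (Nat.card C).factorization p ∣ p ^ (Nat.card G).factorization p :=
        Dvd.intro_left _ h1
      exact (Nat.pow_dvd_pow_iff_le_right hp.one_lt).mp this
    obtain ⟨d, hd⟩ := Nat.exists_eq_add_of_le hle
    rw [hd, pow_add, mul_comm] at h1
    have h2 := Nat.eq_of_mul_eq_mul_left (pow_pos hp.pos _) h1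
    rw [h2]
    have : d ≤ 1 := by omega
    interval_cases d
    · simp
    · simp
  refine ⟨k⁻¹, ?_⟩
  have hW : W p (P : Subgroup G) ≤ S₂ := W_le_of hS₂P hrel
  rw [Subgroup.mem_centralizer_iff]
  intro w hw
  obtain ⟨s, hs, rfl⟩ := hW hw
  have hsg : g * s = s * g := by
    have := hS₁C hs
    rw [hC, Subgroup.mem_centralizer_iff] at this
    exact this g rfl
  simp only [MulEquiv.coe_toMonoidHom, MulAut.conj_apply, inv_inv]
  calc k * s * k⁻¹ * (k * g * k⁻¹) = k * (s * g) * k⁻¹ := by group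
    _ = k * (g * s) * k⁻¹ := by rw [hsg]
    _ = k * g * k⁻¹ * (k * s * k⁻¹) := by group

/-- **FO-1**. -/
theorem FO1_sylow_elementary [Finite G] (p : ℕ) [Fact p.Prime]
    (h : ∀ x : G, ¬ p ^ 2 ∣ (centralizer ({x} : Set G)).index)
    (hZ : center G = ⊥) (P : Sylow p G) :
    (∀ a ∈ (P : Subgroup G), ∀ b ∈ (P : Subgroup G), a * b = b * a) ∧
    (∀ a ∈ (P : Subgroup G), a ^ p = 1) := by
  have htop : centralizer ((W p (P : Subgroup G) : Subgroup G) : Set G) = ⊤ := by
    by_contra hne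
    obtain ⟨g, hg⟩ := Cfsg.Agent.Lib.Helper22.exists_forall_conj_not_mem _ hne
    obtain ⟨x, hx⟩ := exists_conj_mem_centralizer_W p h P g
    exact hg x hx
  have hWbot : W p (P : Subgroup G) = ⊥ := by
    rw [eq_bot_iff, ← hZ]
    intro w hw
    rw [Subgroup.mem_center_iff]
    intro g
    have hg : g ∈ centralizer ((W p (P : Subgroup G) : Subgroup G) : Set G) := by
      rw [htop]; exact Subgroup.mem_top g
    rw [Subgroup.mem_centralizer_iff] at hg
    exact (hg w hw).symm
  have key : ∀ a ∈ (P : Subgroup G), ∀ b ∈ (P : Subgroup G),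
      a * b * a⁻¹ * b⁻¹ ∈ W p (P : Subgroup G) ∧ a ^ p ∈ W p (P : Subgroup G) := by
    intro a ha b hb
    constructor
    · refine (Subgroup.mem_sInf).mpr ?_
      rintro S ⟨h1, h2⟩
      exact (comm_pow_mem p _ S P.isPGroup' h1 h2 a b ha hb).1
    · refine (Subgroup.mem_sInf).mpr ?_
      rintro S ⟨h1, h2⟩
      exact (comm_pow_mem p _ S P.isPGroup' h1 h2 a b ha hb).2
  rw [hWbot] at key
  constructor
  · intro a ha b hb
    have := (key a ha b hb).1
    rw [Subgroup.mem_bot] at this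
    calc a * b = (a * b * a⁻¹ * b⁻¹) * (b * a) := by group
      _ = b * a := by rw [this, one_mul]
  · intro a ha
    have := (key a ha a ha).2
    rwa [Subgroup.mem_bot] at this

end Cfsg.Agent.Lib.Helper12.S4130FO1
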