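import Mathlib
import Cfsg.Agent.Lib.Helper1.Cores
import Cfsg.Agent.Lib.Helper10.PComponent

/-!
# S4130 farm-out piece FO-7 (architect helper3): `commutator_quotient`

If `G'` is nilpotent then `(G/O_{p'}(G))'` is a `p`-group with the same `p`-part as `G'`.
-/

set_option autoImplicit false

namespace Cfsg.Agent.Lib.Helper12.S4130FO7

open Subgroup

/-- In a finite group `Q` with `O_{p'}(Q) = 1`, a nilpotent normal subgroup is a `p`-group. -/
theorem isPGroup_of_nilpotent_normal {Q : Type*} [Group Q] [Finite Q] (p : ℕ) [Fact p.Prime]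
    (hcore : Cfsg.pPrimeCore p Q = ⊥) (D : Subgroup Q) [hD : D.Normal]
    (hnil : Group.IsNilpotent D) : IsPGroup p D := by
  have hp : p.Prime := Fact.out
  have hcard : Nat.card D = p ^ (Nat.card D).primeFactorsList.length := by
    apply Nat.eq_prime_pow_of_unique_prime_dvd Nat.card_pos.ne'
    intro q hq hqd
    by_contra hqp
    haveI : Fact q.Prime := ⟨hq⟩
    obtain ⟨P⟩ : Nonempty (Sylow q ↥D) := inferInstance
    have hPn : (P : Subgroup ↥D).Normal := inferInstance
    haveI hPc : (P : Subgroup ↥D).Characteristic := Sylow.characteristic_of_normal P hPn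
    have hmapN : ((P : Subgroup ↥D).map D.subtype).Normal :=
      ConjAct.normal_of_characteristic_of_normal
    have hcop : (Nat.card ((P : Subgroup ↥D).map D.subtype)).Coprime p := by
      rw [Subgroup.card_map_of_injective D.subtype_injective]
      obtain ⟨k, hk⟩ := IsPGroup.iff_card.mp P.isPGroup'
      rw [hk]
      exact Nat.Coprime.pow_left k ((Nat.coprime_primes hq hp).mpr hqp)
    have hle := Cfsg.Agent.Lib.Helper1.le_pPrimeCore hmapN hcop
    rw [hcore, le_bot_iff, Subgroup.map_eq_bot_iff_of_injective _ D.subtype_injective] at hle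
    exact Sylow.ne_bot_of_dvd_card P hqd hle
  exact IsPGroup.of_card hcard

/-- **FO-7**. -/
theorem FO7_commutator_quotient {G : Type*} [Group G] [Finite G] (p : ℕ) [Fact p.Prime]
    (hnil : Group.IsNilpotent (commutator G)) [(Cfsg.pPrimeCore p G).Normal] :
    IsPGroup p (commutator (G ⧸ Cfsg.pPrimeCore p G)) ∧
    (p ^ 2 ∣ Nat.card (commutator G) →
      p ^ 2 ∣ Nat.card (commutator (G ⧸ Cfsg.pPrimeCore p G))) := by
  have hp : p.Prime := Fact.out
  have hmap : (commutator G).map (QuotientGroup.mk' (Cfsg.pPrimeCore p G)) =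
      commutator (G ⧸ Cfsg.pPrimeCore p G) := by
    rw [commutator_def, commutator_def, Subgroup.map_commutator,
      Subgroup.map_top_of_surjective _ (QuotientGroup.mk'_surjective _)]
  have hDnil : Group.IsNilpotent (commutator (G ⧸ Cfsg.pPrimeCore p G)) := by
    rw [← hmap]
    haveI := hnil
    exact Group.nilpotent_of_surjective
      ((QuotientGroup.mk' (Cfsg.pPrimeCore p G)).subgroupMap (commutator G))
      (MonoidHom.subgroupMap_surjective _ _)
  constructor
  · exact isPGroup_of_nilpotent_normal p (Cfsg.Agent.Lib.Helper10.pPrimeCore_quotient_eq_bot p)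
      (commutator (G ⧸ Cfsg.pPrimeCore p G)) hDnil
  · intro hdvd
    have hle : commutator G ≤ (commutator (G ⧸ Cfsg.pPrimeCore p G)).comap
        (QuotientGroup.mk' (Cfsg.pPrimeCore p G)) := by
      rw [← hmap]
      exact Subgroup.le_comap_map _ _
    have h1 : Nat.card (commutator G) ∣
        Nat.card (commutator (G ⧸ Cfsg.pPrimeCore p G)) * Nat.card (Cfsg.pPrimeCore p G) := by
      rw [← Cfsg.Agent.Lib.Helper1.card_comap_mk]
      exact Subgroup.card_dvd_of_le hle
    have h2 : (p ^ 2).Coprime (Nat.card (Cfsg.pPrimeCore p G)) :=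
      Nat.Coprime.pow_left 2 (Cfsg.Agent.Lib.Helper1.pPrimeCore_coprime p).symm
    exact h2.dvd_of_dvd_mul_right (hdvd.trans h1)

end Cfsg.Agent.Lib.Helper12.S4130FO7
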