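import Mathlib
import Cfsg.Prelude.Def_GeometricClasses
import Cfsg.Agent.Lib.Helper7.AschDefs
import Cfsg.Agent.Lib.Helper3.AschC6Defs
import Cfsg.Agent.Lib.Helper3.AschC6Basic

/-!
# S5630 block I6, half B: R-CARDZ (helper12): the centre of `R` is the group of scalars of order dividing `r·gcd(2,r)`
-/

set_option autoImplicit false
set_option linter.unusedSectionVars false

namespace Cfsg.Agent.Lib.Helper12.S5630I6BCardZ

open Matrix Cfsg.Geo Cfsg.Agent.Lib.Helper7.Asch Cfsg.Agent.Lib.Helper3.AschC6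

variable {F : Type*} [Field F] {n : ℕ}

/-- the scalar embedding `Fˣ → GL` -/
def scalarHom (n : ℕ) (F : Type*) [Field F] : Fˣ →* GL (Fin n) F :=
  Units.map (Matrix.scalar (Fin n) : F →+* Matrix (Fin n) (Fin n) F).toMonoidHom

theorem scalarHom_injective (hn : 0 < n) : Function.Injective (scalarHom n F) := by
  intro a b hab
  have : Nonempty (Fin n) := ⟨⟨0, hn⟩⟩
  have h1 := congrArg (fun g : GL (Fin n) F => (g : Matrix (Fin n) (Fin n) F)) hab
  simp only [scalarHom, Units.coe_map, RingHom.toMonoidHom_eq_coe, MonoidHom.coe_coe] at h1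
  exact Units.ext (Matrix.scalar_inj.1 h1)

theorem mem_scalars_iff_range (x : GL (Fin n) F) : x ∈ scalars (Fin n) F ↔ ∃ c, scalarHom n F c = x :=
  Iff.rfl

variable [Fintype F] {H R : Subgroup (GL (Fin n) F)} {r : ℕ}

theorem map_center_eq (hn : 2 ≤ n) (hR : SympCore H R r) :
    (Subgroup.center R).map R.subtype =
      ((powMonoidHom (r * Nat.gcd 2 r) : Fˣ →* Fˣ).ker).map (scalarHom n F) := by
  ext x
  constructor
  · rintro ⟨y, hy, rfl⟩
    have h1 := (mem_center_iff hR y).1 hy
    obtain ⟨c, hc⟩ := (mem_scalars_iff_range _).1 h1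
    refine ⟨c, ?_, hc⟩
    rw [SetLike.mem_coe, MonoidHom.mem_ker, powMonoidHom_apply]
    apply scalarHom_injective (by omega : 0 < n)
    rw [map_pow, hc, map_one]
    exact hR.exp _ y.2
  · rintro ⟨c, hc, rfl⟩
    rw [SetLike.mem_coe, MonoidHom.mem_ker, powMonoidHom_apply] at hc
    have h1 : scalarHom n F c ∈ scalars (Fin n) F := ⟨c, rfl⟩
    have h2 : scalarHom n F c ^ (r * Nat.gcd 2 r) = 1 := by
      rw [← map_pow, hc, map_one]
    have h3 : scalarHom n F c ∈ R := hR.scal _ h1 h2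
    exact ⟨⟨_, h3⟩, (mem_center_iff hR ⟨_, h3⟩).2 h1, rfl⟩

/-- **R-CARDZ** the centre of `R` is the group of scalars of order dividing `r·gcd(2,r)` -/
theorem card_center (hn : 2 ≤ n) (hR : SympCore H R r) :
    Nat.card (Subgroup.center R) = Nat.gcd (r * Nat.gcd 2 r) (Fintype.card F - 1) := by
  have h1 : Nat.card ((Subgroup.center R).map R.subtype) = Nat.card (Subgroup.center R) :=
    Subgroup.card_map_of_injective R.subtype_injective
  have h2 : Nat.card (((powMonoidHom (r * Nat.gcd 2 r) : Fˣ →* Fˣ).ker).map (scalarHom n F)) =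
      Nat.card ((powMonoidHom (r * Nat.gcd 2 r) : Fˣ →* Fˣ).ker) :=
    Subgroup.card_map_of_injective (scalarHom_injective (by omega : 0 < n))
  rw [← h1, map_center_eq hn hR, h2, IsCyclic.card_powMonoidHom_ker, Nat.card_units, Nat.card_eq_fintype_card,
    Nat.gcd_comm]

end Cfsg.Agent.Lib.Helper12.S5630I6BCardZ
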