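import Mathlib
import Cfsg.Prelude.Def_GeometricClasses
import Cfsg.Agent.Lib.Helper7.AschDefs
import Cfsg.Agent.Lib.Helper3.AschC6Defs

/-!
# S5630 block I6, half B: the FORM pieces (helper12)

FORM-B2 / B3 / B4 (Gram forms), FORM-U1 / U2 (the standard hermitian form and monomial matrices), FORM-B1 (an invariant
Gram matrix of an absolutely irreducible group is symmetric or skew-symmetric).
-/

set_option autoImplicit false

namespace Cfsg.Agent.Lib.Helper12.S5630I6BForm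

open Matrix Cfsg.Geo Cfsg.Agent.Lib.Helper7.Asch Cfsg.Agent.Lib.Helper3.AschC6

variable {F : Type*} [Field F] {n : ℕ}

/-! ### Gram forms -/

theorem gramForm_add_left (G : Matrix (Fin n) (Fin n) F) (x y v : Fin n → F) :
    gramForm G (x + y) v = gramForm G x v + gramForm G y v := by
  unfold gramForm
  rw [add_dotProduct]

theorem gramForm_smul_left (G : Matrix (Fin n) (Fin n) F) (c : F) (x v : Fin n → F) :
    gramForm G (c • x) v = c * gramForm G x v := by
  unfold gramForm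
  rw [smul_dotProduct, smul_eq_mul]

theorem gramForm_add_right (G : Matrix (Fin n) (Fin n) F) (v x y : Fin n → F) :
    gramForm G v (x + y) = gramForm G v x + gramForm G v y := by
  unfold gramForm
  rw [Matrix.mulVec_add, dotProduct_add]

theorem gramForm_smul_right (G : Matrix (Fin n) (Fin n) F) (c : F) (v x : Fin n → F) :
    gramForm G v (c • x) = c * gramForm G v x := by
  unfold gramForm
  rw [Matrix.mulVec_smul, dotProduct_smul, smul_eq_mul]

theorem isBilinearForm_gramForm (G : Matrix (Fin n) (Fin n) F) : IsBilinearForm (gramForm G) :=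
  ⟨gramForm_add_left G, gramForm_smul_left G, gramForm_add_right G, gramForm_smul_right G⟩

theorem gramForm_swap (G : Matrix (Fin n) (Fin n) F) (u v : Fin n → F) :
    gramForm G v u = gramForm Gᵀ u v := by
  unfold gramForm
  rw [dotProduct_comm, ← Matrix.vecMul_transpose, ← Matrix.dotProduct_mulVec]

theorem gramForm_neg (G : Matrix (Fin n) (Fin n) F) (u v : Fin n → F) :
    gramForm (-G) u v = - gramForm G u v := by
  unfold gramForm
  rw [Matrix.neg_mulVec, dotProduct_neg]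

theorem exists_gramForm_ne_zero (G : GL (Fin n) F) (v : Fin n → F) (hv : v ≠ 0) :
    ∃ x, gramForm (G : Matrix (Fin n) (Fin n) F) x v ≠ 0 := by
  have h1 : (G : Matrix (Fin n) (Fin n) F) *ᵥ v ≠ 0 := by
    intro h0
    apply hv
    have : ((G⁻¹ : GL (Fin n) F) : Matrix (Fin n) (Fin n) F) *ᵥ ((G : Matrix (Fin n) (Fin n) F) *ᵥ v) = v := by
      rw [Matrix.mulVec_mulVec, ← Units.val_mul, inv_mul_cancel, Units.val_one, Matrix.one_mulVec]
    rw [← this, h0, Matrix.mulVec_zero]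
  have h2 : ∃ i, ((G : Matrix (Fin n) (Fin n) F) *ᵥ v) i ≠ 0 := by
    by_contra hcon
    push Not at hcon
    exact h1 (funext hcon)
  obtain ⟨i, hi⟩ := h2
  refine ⟨Pi.single i 1, ?_⟩
  unfold gramForm
  rw [single_one_dotProduct]
  exact hi

/-- **FORM-B4** `gᵀ G g = G` means that `g` fixes the form with Gram matrix `G` -/
theorem gramForm_mulVec (G g : Matrix (Fin n) (Fin n) F) (hg : gᵀ * G * g = G) (u v : Fin n → F) :
    gramForm G (g *ᵥ u) (g *ᵥ v) = gramForm G u v := by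
  unfold gramForm
  conv_rhs => rw [← hg]
  rw [Matrix.mulVec_mulVec, ← Matrix.vecMul_transpose, ← Matrix.dotProduct_mulVec, Matrix.mulVec_mulVec,
    Matrix.mul_assoc]

/-- **FORM-B2** symmetric invertible Gram matrix, `2 ≠ 0`: `v ↦ vᵀ G v` is a non-degenerate quadratic form -/
theorem isNondegenerateQuadraticForm_gram (h2 : (2 : F) ≠ 0) (G : GL (Fin n) F)
    (hs : (G : Matrix (Fin n) (Fin n) F)ᵀ = (G : Matrix (Fin n) (Fin n) F)) :
    IsNondegenerateQuadraticForm (fun v : Fin n → F => gramForm (G : Matrix (Fin n) (Fin n) F) v v) := by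
  have hpol : ∀ u v : Fin n → F,
      QuadraticMap.polar (fun v : Fin n → F => gramForm (G : Matrix (Fin n) (Fin n) F) v v) u v =
        gramForm (G : Matrix (Fin n) (Fin n) F) u v + gramForm (G : Matrix (Fin n) (Fin n) F) v u := by
    intro u v
    unfold QuadraticMap.polar
    simp only [gramForm_add_left, gramForm_add_right]
    ring
  have hsym : ∀ u v : Fin n → F, gramForm (G : Matrix (Fin n) (Fin n) F) v u =
      gramForm (G : Matrix (Fin n) (Fin n) F) u v := by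
    intro u v
    rw [gramForm_swap, hs]
  have hpol2 : ∀ u v : Fin n → F,
      QuadraticMap.polar (fun v : Fin n → F => gramForm (G : Matrix (Fin n) (Fin n) F) v v) u v =
        2 * gramForm (G : Matrix (Fin n) (Fin n) F) u v := by
    intro u v
    rw [hpol, hsym u v]
    ring
  refine ⟨?_, ⟨?_, ?_, ?_, ?_⟩, ?_⟩
  · intro c v
    show gramForm _ (c • v) (c • v) = c ^ 2 * gramForm _ v v
    rw [gramForm_smul_left, gramForm_smul_right]
    ring
  · intro x y v
    rw [hpol2, hpol2, hpol2, gramForm_add_left]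
    ring
  · intro c x v
    rw [hpol2, hpol2, gramForm_smul_left]
    ring
  · intro v x y
    rw [hpol2, hpol2, hpol2, gramForm_add_right]
    ring
  · intro c v x
    rw [hpol2, hpol2, gramForm_smul_right]
    ring
  · intro v hv
    obtain ⟨x, hx⟩ := exists_gramForm_ne_zero G v hv
    refine ⟨⟨x, ?_⟩, ⟨x, ?_⟩⟩
    · rw [hpol2]
      exact mul_ne_zero h2 hx
    · rw [hpol2, hsym]
      exact mul_ne_zero h2 hx

/-- **FORM-B3** skew-symmetric invertible Gram matrix, `2 ≠ 0`: `(u,v) ↦ uᵀ G v` is a symplectic form -/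
theorem isSymplecticForm_gram (h2 : (2 : F) ≠ 0) (G : GL (Fin n) F)
    (hs : (G : Matrix (Fin n) (Fin n) F)ᵀ = - (G : Matrix (Fin n) (Fin n) F)) :
    IsSymplecticForm (gramForm (G : Matrix (Fin n) (Fin n) F)) := by
  have hskew : ∀ v w : Fin n → F, gramForm (G : Matrix (Fin n) (Fin n) F) v w =
      - gramForm (G : Matrix (Fin n) (Fin n) F) w v := by
    intro v w
    rw [gramForm_swap _ v w, hs, gramForm_neg, neg_neg]
  refine ⟨isBilinearForm_gramForm _, hskew, ?_, ?_⟩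
  · intro v
    have h := hskew v v
    have h3 : (2 : F) * gramForm (G : Matrix (Fin n) (Fin n) F) v v = 0 := by
      rw [two_mul]
      nth_rewrite 1 [h]
      exact neg_add_cancel _
    rcases mul_eq_zero.1 h3 with h4 | h4
    · exact absurd h4 h2
    · exact h4
  · intro v hv
    obtain ⟨x, hx⟩ := exists_gramForm_ne_zero G v hv
    refine ⟨⟨x, hx⟩, ⟨x, ?_⟩⟩
    rw [hskew]
    exact neg_ne_zero.2 hx

/-! ### The standard hermitian form -/

/-- **FORM-U1** the standard hermitian form in the coordinates `B` is a unitary form -/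
theorem isUnitaryForm_stdHerm (σ : F ≃+* F) (hne : σ ≠ RingEquiv.refl F) (hinv : ∀ a, σ (σ a) = a)
    (B : GL (Fin n) F) : IsUnitaryForm σ (stdHerm σ (B : Matrix (Fin n) (Fin n) F)) := by
  have hherm : ∀ v w : Fin n → F, stdHerm σ (B : Matrix (Fin n) (Fin n) F) v w =
      σ (stdHerm σ (B : Matrix (Fin n) (Fin n) F) w v) := by
    intro v w
    unfold stdHerm
    rw [map_sum]
    apply Finset.sum_congr rfl
    intro i _
    rw [map_mul, hinv, mul_comm]
  refine ⟨hne, hinv, ?_, ?_, hherm, ?_⟩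
  · intro x y v
    unfold stdHerm
    rw [← Finset.sum_add_distrib]
    apply Finset.sum_congr rfl
    intro i _
    rw [Matrix.mulVec_add, Pi.add_apply, add_mul]
  · intro c x v
    unfold stdHerm
    rw [Finset.mul_sum]
    apply Finset.sum_congr rfl
    intro i _
    rw [Matrix.mulVec_smul, Pi.smul_apply, smul_eq_mul, mul_assoc]
  · intro v hv
    have h1 : (B : Matrix (Fin n) (Fin n) F) *ᵥ v ≠ 0 := by
      intro h0
      apply hv
      have : ((B⁻¹ : GL (Fin n) F) : Matrix (Fin n) (Fin n) F) *ᵥ ((B : Matrix (Fin n) (Fin n) F) *ᵥ v) = v := by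
        rw [Matrix.mulVec_mulVec, ← Units.val_mul, inv_mul_cancel, Units.val_one, Matrix.one_mulVec]
      rw [← this, h0, Matrix.mulVec_zero]
    have h2 : ∃ i, ((B : Matrix (Fin n) (Fin n) F) *ᵥ v) i ≠ 0 := by
      by_contra hcon
      push Not at hcon
      exact h1 (funext hcon)
    obtain ⟨i, hi⟩ := h2
    have hx : stdHerm σ (B : Matrix (Fin n) (Fin n) F)
        (((B⁻¹ : GL (Fin n) F) : Matrix (Fin n) (Fin n) F) *ᵥ Pi.single i 1) v ≠ 0 := by
      unfold stdHerm
      rw [Matrix.mulVec_mulVec, ← Units.val_mul, mul_inv_cancel, Units.val_one, Matrix.one_mulVec]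
      rw [Finset.sum_eq_single i]
      · rw [Pi.single_eq_same, one_mul]
        exact (map_ne_zero σ).2 hi
      · intro j _ hji
        rw [Pi.single_eq_of_ne hji, zero_mul]
      · intro hi'
        exact absurd (Finset.mem_univ i) hi'
    refine ⟨⟨_, hx⟩, ⟨((B⁻¹ : GL (Fin n) F) : Matrix (Fin n) (Fin n) F) *ᵥ Pi.single i 1, ?_⟩⟩
    rw [hherm]
    exact (map_ne_zero σ).2 hx

/-- **FORM-U2** a matrix which is monomial over `μ_z` in the coordinates `B` fixes the standard hermitian form when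
`σ` inverts `μ_z` -/
theorem stdHerm_of_isMonoRoot (σ : F ≃+* F) (z : ℕ) (hσ : ∀ c : F, c ^ z = 1 → c * σ c = 1)
    (B g : GL (Fin n) F)
    (hg : IsMonoRoot z ((B : Matrix (Fin n) (Fin n) F) * (g : Matrix (Fin n) (Fin n) F) *
      ((B⁻¹ : GL (Fin n) F) : Matrix (Fin n) (Fin n) F)))
    (u v : Fin n → F) :
    stdHerm σ (B : Matrix (Fin n) (Fin n) F) ((g : Matrix (Fin n) (Fin n) F) *ᵥ u)
      ((g : Matrix (Fin n) (Fin n) F) *ᵥ v) = stdHerm σ (B : Matrix (Fin n) (Fin n) F) u v := by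
  obtain ⟨π, d, hd, hM⟩ := hg
  have hBg : ∀ w : Fin n → F, (B : Matrix (Fin n) (Fin n) F) *ᵥ ((g : Matrix (Fin n) (Fin n) F) *ᵥ w) =
      ((B : Matrix (Fin n) (Fin n) F) * (g : Matrix (Fin n) (Fin n) F) *
        ((B⁻¹ : GL (Fin n) F) : Matrix (Fin n) (Fin n) F)) *ᵥ ((B : Matrix (Fin n) (Fin n) F) *ᵥ w) := by
    intro w
    have hB2 : ((B⁻¹ : GL (Fin n) F) : Matrix (Fin n) (Fin n) F) * (B : Matrix (Fin n) (Fin n) F) = 1 := by
      rw [← Units.val_mul, inv_mul_cancel, Units.val_one]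
    rw [Matrix.mulVec_mulVec, Matrix.mulVec_mulVec, Matrix.mul_assoc _ _ (B : Matrix (Fin n) (Fin n) F),
      hB2, Matrix.mul_one]
  have hMx : ∀ (x : Fin n → F) (j : Fin n),
      (((B : Matrix (Fin n) (Fin n) F) * (g : Matrix (Fin n) (Fin n) F) *
        ((B⁻¹ : GL (Fin n) F) : Matrix (Fin n) (Fin n) F)) *ᵥ x) (π j) = d j * x j := by
    intro x j
    rw [Matrix.mulVec, dotProduct, Finset.sum_eq_single j]
    · rw [hM, if_pos rfl]
    · intro k _ hkj
      rw [hM, if_neg (fun h => hkj (π.injective h).symm), zero_mul]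
    · intro hj
      exact absurd (Finset.mem_univ j) hj
  unfold stdHerm
  rw [← Equiv.sum_comp π]
  apply Finset.sum_congr rfl
  intro j _
  rw [hBg, hBg, hMx, hMx, map_mul]
  have := hσ (d j) (hd j)
  calc d j * ((B : Matrix (Fin n) (Fin n) F) *ᵥ u) j * (σ (d j) * σ (((B : Matrix (Fin n) (Fin n) F) *ᵥ v) j))
      = (d j * σ (d j)) * (((B : Matrix (Fin n) (Fin n) F) *ᵥ u) j *
          σ (((B : Matrix (Fin n) (Fin n) F) *ᵥ v) j)) := by ring
    _ = ((B : Matrix (Fin n) (Fin n) F) *ᵥ u) j * σ (((B : Matrix (Fin n) (Fin n) F) *ᵥ v) j) := by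
        rw [this, one_mul]

/-! ### FORM-B1 -/

/-- **FORM-B1** an invertible Gram matrix fixed by an absolutely irreducible group is symmetric or skew-symmetric -/
theorem transpose_eq_or_eq_neg (R : Subgroup (GL (Fin n) F)) (hR : AbsIrr R) (G : GL (Fin n) F)
    (hG : ∀ g ∈ R, (g : Matrix (Fin n) (Fin n) F)ᵀ * (G : Matrix (Fin n) (Fin n) F) * (g : Matrix (Fin n) (Fin n) F)
      = (G : Matrix (Fin n) (Fin n) F)) :
    (G : Matrix (Fin n) (Fin n) F)ᵀ = (G : Matrix (Fin n) (Fin n) F) ∨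
      (G : Matrix (Fin n) (Fin n) F)ᵀ = - (G : Matrix (Fin n) (Fin n) F) := by
  have hGi1 : (G : Matrix (Fin n) (Fin n) F) * ((G⁻¹ : GL (Fin n) F) : Matrix (Fin n) (Fin n) F) = 1 := by
    rw [← Units.val_mul, mul_inv_cancel, Units.val_one]
  have hGi2 : ((G⁻¹ : GL (Fin n) F) : Matrix (Fin n) (Fin n) F) * (G : Matrix (Fin n) (Fin n) F) = 1 := by
    rw [← Units.val_mul, inv_mul_cancel, Units.val_one]
  -- `G g = (g⁻¹)ᵀ G` and `Gᵀ g = (g⁻¹)ᵀ Gᵀ`
  have hE1 : ∀ g ∈ R, (G : Matrix (Fin n) (Fin n) F) * (g : Matrix (Fin n) (Fin n) F) =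
      ((g⁻¹ : GL (Fin n) F) : Matrix (Fin n) (Fin n) F)ᵀ * (G : Matrix (Fin n) (Fin n) F) := by
    intro g hg
    have h := hG g⁻¹ (R.inv_mem hg)
    calc (G : Matrix (Fin n) (Fin n) F) * (g : Matrix (Fin n) (Fin n) F)
        = (((g⁻¹ : GL (Fin n) F) : Matrix (Fin n) (Fin n) F)ᵀ * (G : Matrix (Fin n) (Fin n) F) *
            ((g⁻¹ : GL (Fin n) F) : Matrix (Fin n) (Fin n) F)) * (g : Matrix (Fin n) (Fin n) F) := by rw [h]
      _ = ((g⁻¹ : GL (Fin n) F) : Matrix (Fin n) (Fin n) F)ᵀ * (G : Matrix (Fin n) (Fin n) F) := by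
          rw [Matrix.mul_assoc, ← Units.val_mul, inv_mul_cancel, Units.val_one, Matrix.mul_one]
  have hE2 : ∀ g ∈ R, (G : Matrix (Fin n) (Fin n) F)ᵀ * (g : Matrix (Fin n) (Fin n) F) =
      ((g⁻¹ : GL (Fin n) F) : Matrix (Fin n) (Fin n) F)ᵀ * (G : Matrix (Fin n) (Fin n) F)ᵀ := by
    intro g hg
    have h := congrArg Matrix.transpose (hG g⁻¹ (R.inv_mem hg))
    rw [Matrix.transpose_mul, Matrix.transpose_mul, Matrix.transpose_transpose, ← Matrix.mul_assoc] at h
    calc (G : Matrix (Fin n) (Fin n) F)ᵀ * (g : Matrix (Fin n) (Fin n) F)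
        = (((g⁻¹ : GL (Fin n) F) : Matrix (Fin n) (Fin n) F)ᵀ * (G : Matrix (Fin n) (Fin n) F)ᵀ *
            ((g⁻¹ : GL (Fin n) F) : Matrix (Fin n) (Fin n) F)) * (g : Matrix (Fin n) (Fin n) F) := by rw [h]
      _ = ((g⁻¹ : GL (Fin n) F) : Matrix (Fin n) (Fin n) F)ᵀ * (G : Matrix (Fin n) (Fin n) F)ᵀ := by
          rw [Matrix.mul_assoc, ← Units.val_mul, inv_mul_cancel, Units.val_one, Matrix.mul_one]
  -- `g G⁻¹ = G⁻¹ (g⁻¹)ᵀ`
  have hE3 : ∀ g ∈ R, (g : Matrix (Fin n) (Fin n) F) * ((G⁻¹ : GL (Fin n) F) : Matrix (Fin n) (Fin n) F) =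
      ((G⁻¹ : GL (Fin n) F) : Matrix (Fin n) (Fin n) F) *
        ((g⁻¹ : GL (Fin n) F) : Matrix (Fin n) (Fin n) F)ᵀ := by
    intro g hg
    calc (g : Matrix (Fin n) (Fin n) F) * ((G⁻¹ : GL (Fin n) F) : Matrix (Fin n) (Fin n) F)
        = ((G⁻¹ : GL (Fin n) F) : Matrix (Fin n) (Fin n) F) * ((G : Matrix (Fin n) (Fin n) F) *
            (g : Matrix (Fin n) (Fin n) F)) * ((G⁻¹ : GL (Fin n) F) : Matrix (Fin n) (Fin n) F) := by
          rw [← Matrix.mul_assoc, hGi2, Matrix.one_mul]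
      _ = ((G⁻¹ : GL (Fin n) F) : Matrix (Fin n) (Fin n) F) *
            ((g⁻¹ : GL (Fin n) F) : Matrix (Fin n) (Fin n) F)ᵀ := by
          rw [hE1 g hg, Matrix.mul_assoc, Matrix.mul_assoc, hGi1, Matrix.mul_one]
  obtain ⟨c, hc⟩ := hR.2 (((G⁻¹ : GL (Fin n) F) : Matrix (Fin n) (Fin n) F) * (G : Matrix (Fin n) (Fin n) F)ᵀ) (by
    rintro _ ⟨g, hg, rfl⟩
    rw [Matrix.mul_assoc, hE2 g hg, ← Matrix.mul_assoc, ← hE3 g hg, Matrix.mul_assoc])
  have hGT : (G : Matrix (Fin n) (Fin n) F)ᵀ = c • (G : Matrix (Fin n) (Fin n) F) := by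
    calc (G : Matrix (Fin n) (Fin n) F)ᵀ
        = (G : Matrix (Fin n) (Fin n) F) * (((G⁻¹ : GL (Fin n) F) : Matrix (Fin n) (Fin n) F) *
            (G : Matrix (Fin n) (Fin n) F)ᵀ) := by rw [← Matrix.mul_assoc, hGi1, Matrix.one_mul]
      _ = c • (G : Matrix (Fin n) (Fin n) F) := by rw [hc, Matrix.mul_smul, Matrix.mul_one]
  rcases Nat.eq_zero_or_pos n with h0 | hpos
  · left
    subst h0
    exact Subsingleton.elim _ _
  · have hcc : (c * c) • (G : Matrix (Fin n) (Fin n) F) = (G : Matrix (Fin n) (Fin n) F) := by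
      have h := congrArg Matrix.transpose hGT
      rw [Matrix.transpose_transpose, Matrix.transpose_smul, hGT, smul_smul] at h
      exact h.symm
    have h1 : (c * c) • (1 : Matrix (Fin n) (Fin n) F) = 1 := by
      calc (c * c) • (1 : Matrix (Fin n) (Fin n) F)
          = ((c * c) • (G : Matrix (Fin n) (Fin n) F)) * ((G⁻¹ : GL (Fin n) F) : Matrix (Fin n) (Fin n) F) := by
            rw [Matrix.smul_mul, hGi1]
        _ = 1 := by rw [hcc, hGi1]
    have h2 := congrFun (congrFun h1 ⟨0, hpos⟩) ⟨0, hpos⟩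
    rw [Matrix.smul_apply, Matrix.one_apply_eq, smul_eq_mul, mul_one] at h2
    rcases mul_self_eq_one_iff.1 h2 with h3 | h3
    · left
      rw [hGT, h3, one_smul]
    · right
      rw [hGT, h3, neg_smul, one_smul]

end Cfsg.Agent.Lib.Helper12.S5630I6BForm
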