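import Mathlib
import Cfsg.Prelude.Def_GeometricClasses
import Cfsg.Agent.Lib.Helper7.AschDefs
import Cfsg.Agent.Lib.Helper7.AschWrap
import Cfsg.Agent.Lib.Helper7.AschCore
import Cfsg.Agent.Lib.Helper12.S5630I8

/-!
# S5630 block I8 `s_case` (helper12), NEW stub signature (without `hsub`; class-5 exit through `InClass.of_realisable`)
-/

set_option autoImplicit false

namespace Cfsg.Agent.Lib.Helper12.S5630I8b

open Matrix Cfsg.Geo Cfsg.Agent.Lib.Helper7.Asch Cfsg.Agent.Lib.Helper12.S5630I8
open scoped commutatorElement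

variable {F : Type*} [Field F] {n : ℕ}

set_option linter.unusedVariables false in
/-- **I8** the almost simple case: class 8 or the residual class -/
theorem s_case [Fintype F] (hn : 3 ≤ n) (H L : Subgroup (GL (Fin n) F)) (hH : AbsIrr H) (hQP : QP H)
    (hLH : L ≤ H) (hLs : ¬ L ≤ scalars (Fin n) F) (hperf : ⁅L, L⁆ = L) (hqs : SimpleModScal L)
    (hnorm : NormBy H L) : InClass H ∨ InLinearResidualClass H := by
  have hLabs : AbsIrr L := (hQP L hLH hnorm).resolve_left hLs
  by_cases hreal : ∃ F₀ : Subfield F, F₀ ≠ ⊤ ∧ RealisableOver F₀ (matrixSet L)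
  · obtain ⟨F₀, h0, hr⟩ := hreal
    exact Or.inl (InClass.of_realisable L H hLabs hnorm F₀ h0 hr)
  by_cases hsym : ∃ f : (Fin n → F) → (Fin n → F) → F, IsSymplecticForm f ∧ FixesForm (matrixSet L) f
  · obtain ⟨f, hf, hfix⟩ := hsym
    left
    have he : Even n := even_of_isSymplecticForm f hf
    have h4 : 4 ≤ n := by
      obtain ⟨k, hk⟩ := he
      omega
    refine InClass.of_symplectic H f hf he h4 (fun h hh => ?_)
    exact mem_similarityGroup_of_normalizes L hLabs f hf.bilinear hf.nondegenerate hfix h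
      (fun x hx => hnorm h hh x hx)
  by_cases huni : ∃ (σ : F ≃+* F) (f : (Fin n → F) → (Fin n → F) → F), IsUnitaryForm σ f ∧ FixesForm (matrixSet L) f
  · obtain ⟨σ, f, hf, hfix⟩ := huni
    left
    refine InClass.of_unitary H σ f hf hn (fun h hh => ?_)
    exact mem_similarityGroup_of_normalizes_unitary L hLabs σ f hf hfix h (fun x hx => hnorm h hh x hx)
  by_cases hquad : ∃ Q : (Fin n → F) → F, IsNondegenerateQuadraticForm Q ∧ FixesQuadForm (matrixSet L) Q
  · obtain ⟨Q, hQ, hfix⟩ := hquad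
    by_cases ho : Odd (Fintype.card F)
    · left
      refine InClass.of_quadratic H Q hQ ho hn (fun h hh => ?_)
      exact mem_quadSimilarityGroup_of_normalizes L hLabs Q hQ ho hfix h (fun x hx => hnorm h hh x hx)
    · exact absurd ⟨QuadraticMap.polar Q, isSymplecticForm_polar Q hQ ho, fixesForm_polar _ Q hfix⟩ hsym
  right
  refine ⟨L, ⟨hLH, hnorm, hperf, isSimpleGroup_quotient L hLs hqs, not_comm_quotient L hLs hperf, ?_, hLabs, ?_⟩,
    hquad, hsym, huni⟩
  · intro h _ hh
    exact mem_scalars_of_comm (by omega) L hLabs h (comm_of_perfect L hperf h hh)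
  · intro F₀ h0 hr
    exact hreal ⟨F₀, h0, hr⟩

end Cfsg.Agent.Lib.Helper12.S5630I8b
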