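import Mathlib
import Cfsg.Prelude.Def_GeometricClasses
import Cfsg.Agent.Lib.Helper7.AschDefs
import Cfsg.Agent.Lib.Helper22.AschC7Defs
import Cfsg.Agent.Lib.Helper22.AschC7Core
import Cfsg.Agent.Lib.Helper16.SpADefs
import Cfsg.Agent.Lib.Helper12.S5630I6BForm
import Cfsg.Agent.Lib.Helper23.FCliffTENS

/-!
# S5662 SpI7, pieces C7-G, C7-S, C7-I, C7-E, C7-O (helper12): exact signatures of `Lib/Helper16/SpAC7Skel.lean`
(`TFP f e P G` is stated unfolded: `∀ x y, f (P (x ∘ e)) (P (y ∘ e)) = formOfGram id G x y`)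
-/

set_option autoImplicit false
set_option linter.unusedSectionVars false
set_option linter.unusedVariables false

namespace Cfsg.Agent.Lib.Helper12.S5662C7A

open Matrix Cfsg.Geo Cfsg.Agent.Lib.Helper7.Asch Cfsg.Agent.Lib.Helper16.SpA Cfsg.Agent.Lib.Helper22.AschC7
open scoped Kronecker commutatorElement

section gen

variable {F : Type*} [Field F] {κ : Type} [Fintype κ] [DecidableEq κ]

theorem formOfGram_id_eq_dot (G : Matrix κ κ F) (x y : κ → F) : formOfGram id G x y = x ⬝ᵥ G *ᵥ y := by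
  simp only [formOfGram, dotProduct, Matrix.mulVec, Finset.mul_sum, mul_assoc, id]

theorem formOfGram_id_single (G : Matrix κ κ F) (a b : κ) :
    formOfGram id G (Pi.single a 1) (Pi.single b 1) = G a b := by
  rw [formOfGram_id_eq_dot, Matrix.mulVec_single_one, single_one_dotProduct]
  rfl

theorem formOfGram_id_mulVec (G A : Matrix κ κ F) (x y : κ → F) :
    formOfGram id G (A *ᵥ x) (A *ᵥ y) = formOfGram id (Aᵀ * G * A) x y := by
  rw [formOfGram_id_eq_dot, formOfGram_id_eq_dot, Matrix.mulVec_mulVec, Matrix.mul_assoc, ← Matrix.mulVec_mulVec y Aᵀ,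
    Matrix.dotProduct_mulVec x Aᵀ, Matrix.vecMul_transpose]

/-- two matrices with the same bilinear form are equal -/
theorem eq_of_formOfGram_id_eq (G G' : Matrix κ κ F) (h : ∀ x y, formOfGram id G x y = formOfGram id G' x y) : G = G' := by
  ext a b
  have := h (Pi.single a 1) (Pi.single b 1)
  rw [formOfGram_id_single, formOfGram_id_single] at this
  exact this

end gen

variable {F : Type*} [Field F] [Fintype F] {n : ℕ} {f : (Fin n → F) → (Fin n → F) → F}

/-- **C7-E** -/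
theorem transpose_eq_or_neg {m : ℕ} (Y : Subgroup (GL (Fin m) F)) (hY : AbsIrr Y) (B : Matrix (Fin m) (Fin m) F)
    (hB : IsUnit B.det) (hinv : ∀ a ∈ Y, (a : Matrix (Fin m) (Fin m) F)ᵀ * B * (a : Matrix (Fin m) (Fin m) F) = B) :
    Bᵀ = B ∨ Bᵀ = -B :=
  Cfsg.Agent.Lib.Helper12.S5630I6BForm.transpose_eq_or_eq_neg Y hY (Matrix.nonsingInvUnit B hB) hinv

/-- **C7-G** -/
theorem exists_tfp (hf : IsBilinearForm f) (hnd : IsNondegenerateForm f) {m t : ℕ} (e : Fin n ≃ (Fin t → Fin m))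
    (P : GL (Fin n) F) : ∃ G : Matrix (Fin t → Fin m) (Fin t → Fin m) F, IsUnit G.det ∧
      ∀ x y : (Fin t → Fin m) → F,
        f ((P : Matrix (Fin n) (Fin n) F) *ᵥ (x ∘ e)) ((P : Matrix (Fin n) (Fin n) F) *ᵥ (y ∘ e)) = formOfGram id G x y := by
  have hP1 : (P : Matrix (Fin n) (Fin n) F) * ((P⁻¹ : GL (Fin n) F) : Matrix (Fin n) (Fin n) F) = 1 := by
    rw [← Units.val_mul, mul_inv_cancel, Units.val_one]
  have hP2 : ((P⁻¹ : GL (Fin n) F) : Matrix (Fin n) (Fin n) F) * (P : Matrix (Fin n) (Fin n) F) = 1 := by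
    rw [← Units.val_mul, inv_mul_cancel, Units.val_one]
  obtain ⟨g, hgdef⟩ : ∃ g : ((Fin t → Fin m) → F) → ((Fin t → Fin m) → F) → F, g = fun x y =>
      f ((P : Matrix (Fin n) (Fin n) F) *ᵥ (x ∘ e)) ((P : Matrix (Fin n) (Fin n) F) *ᵥ (y ∘ e)) := ⟨_, rfl⟩
  have hgapp : ∀ x y, g x y =
      f ((P : Matrix (Fin n) (Fin n) F) *ᵥ (x ∘ e)) ((P : Matrix (Fin n) (Fin n) F) *ᵥ (y ∘ e)) := by
    intro x y; rw [hgdef]
  have hg : Cfsg.Agent.Lib.Helper23.FCliffTENS.IsSesqK (RingEquiv.refl F) g := by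
    refine ⟨?_, ?_, ?_, ?_⟩
    · intro x y v
      rw [hgapp, hgapp, hgapp]
      have : (x + y) ∘ e = x ∘ e + y ∘ e := rfl
      rw [this, Matrix.mulVec_add, hf.add_left]
    · intro c x v
      rw [hgapp, hgapp]
      have : (c • x) ∘ e = c • (x ∘ e) := rfl
      rw [this, Matrix.mulVec_smul, hf.smul_left]
    · intro v x y
      rw [hgapp, hgapp, hgapp]
      have : (x + y) ∘ e = x ∘ e + y ∘ e := rfl
      rw [this, Matrix.mulVec_add, hf.add_right]
    · intro c v x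
      rw [hgapp, hgapp]
      have : (c • x) ∘ e = c • (x ∘ e) := rfl
      rw [this, Matrix.mulVec_smul, hf.smul_right]
      rfl
  have hgnd : IsNondegenerateForm g := by
    intro v hv
    have hve : v ∘ e ≠ 0 := by
      intro h0
      apply hv
      funext x
      have := congrFun h0 (e.symm x)
      simpa using this
    have hPv : (P : Matrix (Fin n) (Fin n) F) *ᵥ (v ∘ e) ≠ 0 := by
      intro h0
      apply hve
      have := congrArg (fun w => ((P⁻¹ : GL (Fin n) F) : Matrix (Fin n) (Fin n) F) *ᵥ w) h0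
      simp only [Matrix.mulVec_mulVec, hP2, Matrix.one_mulVec, Matrix.mulVec_zero] at this
      exact this
    obtain ⟨⟨x, hx⟩, ⟨y, hy⟩⟩ := hnd _ hPv
    have hback : ∀ w : Fin n → F, (P : Matrix (Fin n) (Fin n) F) *ᵥ
        (((((P⁻¹ : GL (Fin n) F) : Matrix (Fin n) (Fin n) F) *ᵥ w) ∘ e.symm) ∘ e) = w := by
      intro w
      have : ((((P⁻¹ : GL (Fin n) F) : Matrix (Fin n) (Fin n) F) *ᵥ w) ∘ e.symm) ∘ e =
          ((P⁻¹ : GL (Fin n) F) : Matrix (Fin n) (Fin n) F) *ᵥ w := by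
        funext i
        simp
      rw [this, Matrix.mulVec_mulVec, hP1, Matrix.one_mulVec]
    refine ⟨⟨(((P⁻¹ : GL (Fin n) F) : Matrix (Fin n) (Fin n) F) *ᵥ x) ∘ e.symm, ?_⟩,
      ⟨(((P⁻¹ : GL (Fin n) F) : Matrix (Fin n) (Fin n) F) *ᵥ y) ∘ e.symm, ?_⟩⟩
    · rw [hgapp, hback]
      exact hx
    · rw [hgapp, hback]
      exact hy
  refine ⟨gramMatrix g, (Matrix.isUnit_iff_isUnit_det _).mp
    (Cfsg.Agent.Lib.Helper23.FCliffTENS.gram_isUnitK g hg hgnd), ?_⟩
  intro x y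
  rw [← hgapp, Cfsg.Agent.Lib.Helper23.FCliffTENS.sesq_reprK g hg x y]
  rfl

/-- **C7-S** -/
theorem tfp_skew (hf : IsSymplecticForm f) {m t : ℕ} (e : Fin n ≃ (Fin t → Fin m)) (P : GL (Fin n) F)
    (G : Matrix (Fin t → Fin m) (Fin t → Fin m) F)
    (hT : ∀ x y : (Fin t → Fin m) → F,
      f ((P : Matrix (Fin n) (Fin n) F) *ᵥ (x ∘ e)) ((P : Matrix (Fin n) (Fin n) F) *ᵥ (y ∘ e)) = formOfGram id G x y) :
    Gᵀ = -G := by
  ext a b
  rw [Matrix.transpose_apply, Matrix.neg_apply, ← formOfGram_id_single G b a, ← formOfGram_id_single G a b, ← hT, ← hT]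
  exact hf.skew _ _

/-- **C7-I** -/
theorem pos_inv {m t : ℕ} (e : Fin n ≃ (Fin t → Fin m)) (P : GL (Fin n) F)
    (G : Matrix (Fin t → Fin m) (Fin t → Fin m) F)
    (hT : ∀ x y : (Fin t → Fin m) → F,
      f ((P : Matrix (Fin n) (Fin n) F) *ᵥ (x ∘ e)) ((P : Matrix (Fin n) (Fin n) F) *ᵥ (y ∘ e)) = formOfGram id G x y)
    (A : Matrix (Fin t → Fin m) (Fin t → Fin m) F)
    (g : GL (Fin n) F) (hg : g ∈ Iso f)
    (hgA : (g : Matrix (Fin n) (Fin n) F) = (P : Matrix (Fin n) (Fin n) F) * Matrix.reindex e.symm e.symm A *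
      ((P⁻¹ : GL (Fin n) F) : Matrix (Fin n) (Fin n) F)) : Aᵀ * G * A = G := by
  have hP2 : ((P⁻¹ : GL (Fin n) F) : Matrix (Fin n) (Fin n) F) * (P : Matrix (Fin n) (Fin n) F) = 1 := by
    rw [← Units.val_mul, inv_mul_cancel, Units.val_one]
  have hre : ∀ x : (Fin t → Fin m) → F, Matrix.reindex e.symm e.symm A *ᵥ (x ∘ e) = (A *ᵥ x) ∘ e := by
    intro x
    funext i
    simp only [Matrix.mulVec, dotProduct, Matrix.reindex_apply, Matrix.submatrix_apply, Equiv.symm_symm,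
      Function.comp_apply]
    exact Equiv.sum_comp e (fun y => A (e i) y * x y)
  have hact : ∀ x : (Fin t → Fin m) → F, (g : Matrix (Fin n) (Fin n) F) *ᵥ
      ((P : Matrix (Fin n) (Fin n) F) *ᵥ (x ∘ e)) = (P : Matrix (Fin n) (Fin n) F) *ᵥ ((A *ᵥ x) ∘ e) := by
    intro x
    rw [hgA, Matrix.mulVec_mulVec, Matrix.mul_assoc, Matrix.mul_assoc, hP2, Matrix.mul_one, ← Matrix.mulVec_mulVec, hre]
  apply eq_of_formOfGram_id_eq
  intro x y
  rw [← formOfGram_id_mulVec, ← hT, ← hT, ← hact, ← hact]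
  exact hg _ _

/-- a pure tensor power of a non-zero matrix is non-zero -/
theorem pt_const_ne_zero {m t : ℕ} (B : Matrix (Fin m) (Fin m) F) (hB : B ≠ 0) : pt (fun _ : Fin t => B) ≠ 0 := by
  obtain ⟨a, b, hab⟩ : ∃ a b, B a b ≠ 0 := by
    by_contra hcon
    push Not at hcon
    apply hB
    ext a b
    exact hcon a b
  intro h0
  have := congrFun (congrFun h0 (fun _ => a)) (fun _ => b)
  rw [pt_apply, Finset.prod_const, Matrix.zero_apply] at this
  exact hab (eq_zero_of_pow_eq_zero this)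

theorem ne_zero_of_isUnit_det {m : ℕ} (hm : 1 ≤ m) (B : Matrix (Fin m) (Fin m) F) (hB : IsUnit B.det) : B ≠ 0 := by
  intro h0
  rw [h0] at hB
  have : Nonempty (Fin m) := ⟨⟨0, by omega⟩⟩
  rw [Matrix.det_zero] at hB
  exact not_isUnit_zero hB

/-- **C7-O** -/
theorem odd_of_pt_skew (h2 : (2 : F) ≠ 0) {m t : ℕ} (B : Matrix (Fin m) (Fin m) F) (hB : IsUnit B.det) (hm : 1 ≤ m)
    (hsym : Bᵀ = B ∨ Bᵀ = -B) (hskew : (pt (fun _ : Fin t => B))ᵀ = -(pt (fun _ : Fin t => B))) : Bᵀ = -B ∧ Odd t := by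
  have hne := pt_const_ne_zero (t := t) B (ne_zero_of_isUnit_det hm B hB)
  have hcontra : (pt (fun _ : Fin t => B))ᵀ = pt (fun _ : Fin t => B) → False := by
    intro h
    rw [h] at hskew
    apply hne
    have h3 : (2 : F) • pt (fun _ : Fin t => B) = 0 := by
      rw [two_smul]
      nth_rewrite 1 [hskew]
      exact neg_add_cancel _
    rcases smul_eq_zero.mp h3 with h4 | h4
    · exact absurd h4 h2
    · exact h4
  rw [pt_transpose] at hskew hcontra
  rcases hsym with h | h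
  · exfalso
    apply hcontra
    simp only [h]
  · refine ⟨h, ?_⟩
    by_contra hto
    have hev : Even t := Nat.not_odd_iff_even.mp hto
    apply hcontra
    simp only [h]
    ext x y
    rw [pt_apply, pt_apply]
    simp only [Matrix.neg_apply]
    rw [Finset.prod_neg, Finset.card_univ, Fintype.card_fin, hev.neg_one_pow, one_mul]

end Cfsg.Agent.Lib.Helper12.S5662C7A
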