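import Mathlib
import Cfsg.Prelude.Def_GeometricClasses
import Cfsg.Agent.Lib.Helper7.AschDefs
import Cfsg.Agent.Lib.Helper22.AschC7Defs
import Cfsg.Agent.Lib.Helper22.AschC7Core
import Cfsg.Agent.Lib.Helper12.S5662C7A

/-!
# S5662 SpI7, piece C7-F `exists_inv_form` (helper12): exact signature of `Lib/Helper16/SpAC7Skel.lean`

A Gram matrix `G` on `X = Fin t → Fin m` which is invariant under all `pos i a`, `a ∈ Y` (`Y` absolutely irreducible and spanning
`M_m(F)`), is `c • pt (fun _ => B)` for one invertible `Y`-invariant `B`.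

Tools (general, no finiteness): `J i u : Matrix X (Fin m) F` (the embedding of the `i`-th slice through `u`), `pos_mul_J : pos i a * J i u =
J i u * a`, `slice_apply`, `slice_inv`, `pos_transpose`, `pos_mul_pos`, `pt_const_inv`.
-/

set_option autoImplicit false
set_option linter.unusedSectionVars false
set_option linter.unusedVariables false

namespace Cfsg.Agent.Lib.Helper12.S5662C7F

open Matrix Cfsg.Geo Cfsg.Agent.Lib.Helper7.Asch Cfsg.Agent.Lib.Helper22.AschC7

section tools

variable {F : Type*} [Field F] {m t : ℕ}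

/-- the embedding of the `i`-th slice through `u` -/
def J (i : Fin t) (u : Fin t → Fin m) : Matrix (Fin t → Fin m) (Fin m) F :=
  fun x α => if x = Function.update u i α then 1 else 0

theorem eq_update_of_forall (i : Fin t) (u x : Fin t → Fin m) (h : ∀ j, j ≠ i → x j = u j) :
    x = Function.update u i (x i) := by
  funext j
  by_cases hj : j = i
  · subst hj
    rw [Function.update_self]
  · rw [Function.update_of_ne hj, h j hj]

theorem pos_mul_J (i : Fin t) (a : Matrix (Fin m) (Fin m) F) (u : Fin t → Fin m) :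
    pos i a * (J i u : Matrix (Fin t → Fin m) (Fin m) F) = J i u * a := by
  ext x α
  show ∑ x', pos i a x x' * (J i u : Matrix (Fin t → Fin m) (Fin m) F) x' α =
    ∑ α', (J i u : Matrix (Fin t → Fin m) (Fin m) F) x α' * a α' α
  have hL : ∑ x', pos i a x x' * (J i u : Matrix (Fin t → Fin m) (Fin m) F) x' α = pos i a x (Function.update u i α) := by
    simp only [J, mul_ite, mul_one, mul_zero]
    rw [Finset.sum_ite_eq']
    simp
  rw [hL, Cfsg.Agent.Lib.Helper22.AschC7.pos_apply]
  by_cases hc : ∀ j, j ≠ i → x j = u j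
  · have hc' : ∀ j, j ≠ i → x j = Function.update u i α j := by
      intro j hj
      rw [Function.update_of_ne hj]
      exact hc j hj
    rw [if_pos hc', Function.update_self]
    rw [Finset.sum_eq_single (x i)]
    · simp only [J]
      rw [if_pos (eq_update_of_forall i u x hc), one_mul]
    · intro α' _ hα'
      simp only [J]
      rw [if_neg, zero_mul]
      intro hx
      apply hα'
      have := congrFun hx i
      rw [Function.update_self] at this
      exact this.symm
    · intro h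
      exact absurd (Finset.mem_univ _) h
  · have hc' : ¬ ∀ j, j ≠ i → x j = Function.update u i α j := by
      intro h
      apply hc
      intro j hj
      have := h j hj
      rw [Function.update_of_ne hj] at this
      exact this
    rw [if_neg hc']
    symm
    apply Finset.sum_eq_zero
    intro α' _
    simp only [J]
    rw [if_neg, zero_mul]
    intro hx
    apply hc
    intro j hj
    rw [hx, Function.update_of_ne hj]

/-- the slice of `G` through `(u, v)` in position `i` -/
theorem slice_apply (i : Fin t) (u v : Fin t → Fin m) (G : Matrix (Fin t → Fin m) (Fin t → Fin m) F) (α β : Fin m) :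
    (((J i u : Matrix (Fin t → Fin m) (Fin m) F)ᵀ * G * (J i v : Matrix (Fin t → Fin m) (Fin m) F) :
      Matrix (Fin m) (Fin m) F)) α β = G (Function.update u i α) (Function.update v i β) := by
  simp only [Matrix.mul_apply, Matrix.transpose_apply, J, mul_ite, mul_one, mul_zero, ite_mul, one_mul, zero_mul,
    Finset.sum_ite_eq', Finset.mem_univ, if_true]

/-- rectangular matrix algebra behind `slice_inv` -/
theorem slice_inv_aux {X : Type*} [Fintype X] [DecidableEq X] (Ju Jv : Matrix X (Fin m) F) (G p : Matrix X X F)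
    (a : Matrix (Fin m) (Fin m) F) (hu : p * Ju = Ju * a) (hv : p * Jv = Jv * a) (h : pᵀ * G * p = G) :
    aᵀ * (Juᵀ * G * Jv) * a = Juᵀ * G * Jv := by
  have h1 : aᵀ * Juᵀ = Juᵀ * pᵀ := by
    rw [← Matrix.transpose_mul, ← Matrix.transpose_mul, hu]
  calc aᵀ * (Juᵀ * G * Jv) * a = (aᵀ * Juᵀ) * G * (Jv * a) := by
        simp only [Matrix.mul_assoc]
    _ = (Juᵀ * pᵀ) * G * (p * Jv) := by rw [h1, hv]
    _ = Juᵀ * (pᵀ * G * p) * Jv := by
        simp only [Matrix.mul_assoc]
    _ = Juᵀ * G * Jv := by rw [h]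

/-- a slice of a `pos i a`-invariant matrix is `a`-invariant -/
theorem slice_inv (i : Fin t) (u v : Fin t → Fin m) (G : Matrix (Fin t → Fin m) (Fin t → Fin m) F)
    (a : Matrix (Fin m) (Fin m) F) (h : (pos i a)ᵀ * G * pos i a = G) :
    aᵀ * ((J i u : Matrix (Fin t → Fin m) (Fin m) F)ᵀ * G * (J i v : Matrix (Fin t → Fin m) (Fin m) F)) * a =
      (J i u : Matrix (Fin t → Fin m) (Fin m) F)ᵀ * G * (J i v : Matrix (Fin t → Fin m) (Fin m) F) :=
  slice_inv_aux (J i u) (J i v) G (pos i a) a (pos_mul_J i a u) (pos_mul_J i a v) h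

theorem pos_transpose (i : Fin t) (a : Matrix (Fin m) (Fin m) F) : (pos i a)ᵀ = pos i aᵀ := by
  rw [pos_def, pos_def, Cfsg.Agent.Lib.Helper22.AschC7.pt_transpose]
  congr 1
  funext j
  by_cases hj : j = i
  · subst hj
    rw [Function.update_self, Function.update_self]
  · rw [Function.update_of_ne hj, Function.update_of_ne hj, Matrix.transpose_one]

theorem pos_mul_pos (i : Fin t) (a b : Matrix (Fin m) (Fin m) F) : pos i a * pos i b = pos i (a * b) := by
  obtain ⟨ψ, hψ⟩ := Cfsg.Agent.Lib.Helper22.AschC7.exists_posAlgHom (F := F) (m := m) i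
  rw [← hψ, ← hψ, ← hψ, map_mul]

theorem pos_one (i : Fin t) : pos i (1 : Matrix (Fin m) (Fin m) F) = 1 := by
  obtain ⟨ψ, hψ⟩ := Cfsg.Agent.Lib.Helper22.AschC7.exists_posAlgHom (F := F) (m := m) i
  rw [← hψ, map_one]

/-- a constant pure tensor of an `a`-invariant matrix is `pos i a`-invariant -/
theorem pt_const_inv (i : Fin t) (a B : Matrix (Fin m) (Fin m) F) (h : aᵀ * B * a = B) :
    (pos i a)ᵀ * pt (fun _ : Fin t => B) * pos i a = pt (fun _ : Fin t => B) := by
  rw [pos_transpose, Cfsg.Agent.Lib.Helper22.AschC7.pos_mul_pt, Cfsg.Agent.Lib.Helper22.AschC7.pt_mul_pos,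
    Function.update_self, Function.update_idem, h, Function.update_eq_self]

end tools

variable {F : Type*} [Field F] [Fintype F]

/-- **C7-F** -/
theorem exists_inv_form {m t : ℕ} (hm : 1 ≤ m) (ht : 1 ≤ t) (Y : Subgroup (GL (Fin m) F)) (hY : AbsIrr Y)
    (hspan : Submodule.span F (matrixSet Y) = ⊤) (G : Matrix (Fin t → Fin m) (Fin t → Fin m) F) (hG : IsUnit G.det)
    (hinv : ∀ i : Fin t, ∀ a ∈ Y, (pos i (a : Matrix (Fin m) (Fin m) F))ᵀ * G * pos i (a : Matrix (Fin m) (Fin m) F) = G) :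
    ∃ (B : Matrix (Fin m) (Fin m) F) (c : F), c ≠ 0 ∧ IsUnit B.det ∧
      (∀ a ∈ Y, (a : Matrix (Fin m) (Fin m) F)ᵀ * B * (a : Matrix (Fin m) (Fin m) F) = B) ∧
      G = c • pt (fun _ : Fin t => B) := by
  classical
  have hG1 : G * G⁻¹ = 1 := Matrix.mul_nonsing_inv _ hG
  have hG2 : G⁻¹ * G = 1 := Matrix.nonsing_inv_mul _ hG
  -- a non-zero entry
  have hGne : G ≠ 0 := by
    intro h0
    rw [h0] at hG
    have : Nonempty (Fin t → Fin m) := ⟨fun _ => ⟨0, by omega⟩⟩
    rw [Matrix.det_zero] at hG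
    exact not_isUnit_zero hG
  obtain ⟨x₀, y₀, hxy⟩ : ∃ x₀ y₀, G x₀ y₀ ≠ 0 := by
    by_contra hcon
    push Not at hcon
    apply hGne
    ext x y
    exact hcon x y
  obtain ⟨i₀⟩ : Nonempty (Fin t) := ⟨⟨0, by omega⟩⟩
  obtain ⟨B, hBdef⟩ : ∃ B : Matrix (Fin m) (Fin m) F,
      B = (J i₀ x₀ : Matrix (Fin t → Fin m) (Fin m) F)ᵀ * G * (J i₀ y₀ : Matrix (Fin t → Fin m) (Fin m) F) := ⟨_, rfl⟩
  have hBne : B ≠ 0 := by
    intro h0
    apply hxy
    have := congrFun (congrFun h0 (x₀ i₀)) (y₀ i₀)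
    rw [hBdef, slice_apply, Function.update_eq_self, Function.update_eq_self] at this
    exact this
  have hBinv : ∀ a ∈ Y, (a : Matrix (Fin m) (Fin m) F)ᵀ * B * (a : Matrix (Fin m) (Fin m) F) = B := by
    intro a ha
    rw [hBdef]
    exact slice_inv i₀ x₀ y₀ G _ (hinv i₀ a ha)
  -- `B` is invertible
  have hBunit : IsUnit B := by
    rw [← Matrix.mulVec_injective_iff_isUnit]
    have hker : ∀ s ∈ matrixSet Y, (LinearMap.ker (Matrix.toLin' B)).map (Matrix.toLin' s) ≤
        LinearMap.ker (Matrix.toLin' B) := by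
      rintro _ ⟨a, ha, rfl⟩
      rintro _ ⟨v, hv, rfl⟩
      have hv' : B *ᵥ v = 0 := by
        have : Matrix.toLin' B v = 0 := hv
        rwa [Matrix.toLin'_apply] at this
      show Matrix.toLin' B (Matrix.toLin' (a : Matrix (Fin m) (Fin m) F) v) = 0
      rw [Matrix.toLin'_apply, Matrix.toLin'_apply, Matrix.mulVec_mulVec]
      have ha1 : ((a⁻¹ : GL (Fin m) F) : Matrix (Fin m) (Fin m) F)ᵀ * (a : Matrix (Fin m) (Fin m) F)ᵀ = 1 := by
        rw [← Matrix.transpose_mul, ← Units.val_mul, mul_inv_cancel, Units.val_one, Matrix.transpose_one]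
      have h1 : B * (a : Matrix (Fin m) (Fin m) F) =
          ((a⁻¹ : GL (Fin m) F) : Matrix (Fin m) (Fin m) F)ᵀ * B := by
        calc B * (a : Matrix (Fin m) (Fin m) F)
            = (((a⁻¹ : GL (Fin m) F) : Matrix (Fin m) (Fin m) F)ᵀ * (a : Matrix (Fin m) (Fin m) F)ᵀ) * B *
                (a : Matrix (Fin m) (Fin m) F) := by rw [ha1, Matrix.one_mul]
          _ = ((a⁻¹ : GL (Fin m) F) : Matrix (Fin m) (Fin m) F)ᵀ *
                ((a : Matrix (Fin m) (Fin m) F)ᵀ * B * (a : Matrix (Fin m) (Fin m) F)) := by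
              simp only [Matrix.mul_assoc]
          _ = _ := by rw [hBinv a ha]
      rw [h1, ← Matrix.mulVec_mulVec, hv', Matrix.mulVec_zero]
    rcases hY.1 _ hker with hbot | htop
    · intro v w hvw
      have : v - w ∈ LinearMap.ker (Matrix.toLin' B) := by
        rw [LinearMap.mem_ker, Matrix.toLin'_apply, Matrix.mulVec_sub]
        exact sub_eq_zero.mpr hvw
      rw [hbot, Submodule.mem_bot] at this
      exact sub_eq_zero.mp this
    · exfalso
      apply hBne
      ext α β
      have : (Pi.single β 1 : Fin m → F) ∈ LinearMap.ker (Matrix.toLin' B) := by rw [htop]; trivial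
      rw [LinearMap.mem_ker, Matrix.toLin'_apply, Matrix.mulVec_single_one] at this
      have := congrFun this α
      exact this
  have hBdet : IsUnit B.det := (Matrix.isUnit_iff_isUnit_det _).mp hBunit
  -- the constant pure tensor
  obtain ⟨T, hTdef⟩ : ∃ T : Matrix (Fin t → Fin m) (Fin t → Fin m) F, T = pt (fun _ : Fin t => B) := ⟨_, rfl⟩
  have hTne : T ≠ 0 := by
    rw [hTdef]
    exact Cfsg.Agent.Lib.Helper12.S5662C7A.pt_const_ne_zero B hBne
  have hTinv : ∀ i : Fin t, ∀ a ∈ Y,
      (pos i (a : Matrix (Fin m) (Fin m) F))ᵀ * T * pos i (a : Matrix (Fin m) (Fin m) F) = T := by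
    intro i a ha
    rw [hTdef]
    exact pt_const_inv i _ B (hBinv a ha)
  -- `Z = G⁻¹ T` commutes with all `pos i a`, `a ∈ Y`
  have hZY : ∀ i : Fin t, ∀ a ∈ Y, (G⁻¹ * T) * pos i (a : Matrix (Fin m) (Fin m) F) =
      pos i (a : Matrix (Fin m) (Fin m) F) * (G⁻¹ * T) := by
    intro i a ha
    obtain ⟨p, hp⟩ : ∃ p : Matrix (Fin t → Fin m) (Fin t → Fin m) F, p = pos i (a : Matrix (Fin m) (Fin m) F) := ⟨_, rfl⟩
    obtain ⟨q, hq⟩ : ∃ q : Matrix (Fin t → Fin m) (Fin t → Fin m) F,
        q = (pos i ((a⁻¹ : GL (Fin m) F) : Matrix (Fin m) (Fin m) F))ᵀ := ⟨_, rfl⟩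
    have hqp : q * pᵀ = 1 := by
      rw [hq, hp, ← Matrix.transpose_mul, pos_mul_pos, ← Units.val_mul, mul_inv_cancel, Units.val_one, pos_one,
        Matrix.transpose_one]
    have e1 : G * p = q * G := by
      calc G * p = (q * pᵀ) * G * p := by rw [hqp, Matrix.one_mul]
        _ = q * (pᵀ * G * p) := by simp only [Matrix.mul_assoc]
        _ = q * G := by rw [hp, hinv i a ha]
    have e2 : T * p = q * T := by
      calc T * p = (q * pᵀ) * T * p := by rw [hqp, Matrix.one_mul]
        _ = q * (pᵀ * T * p) := by simp only [Matrix.mul_assoc]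
        _ = q * T := by rw [hp, hTinv i a ha]
    have e3 : p * G⁻¹ = G⁻¹ * q := by
      calc p * G⁻¹ = (G⁻¹ * G) * p * G⁻¹ := by rw [hG2, Matrix.one_mul]
        _ = G⁻¹ * (G * p) * G⁻¹ := by simp only [Matrix.mul_assoc]
        _ = G⁻¹ * q * (G * G⁻¹) := by rw [e1]; simp only [Matrix.mul_assoc]
        _ = G⁻¹ * q := by rw [hG1, Matrix.mul_one]
    rw [← hp]
    calc G⁻¹ * T * p = G⁻¹ * (T * p) := by rw [Matrix.mul_assoc]
      _ = G⁻¹ * q * T := by rw [e2, Matrix.mul_assoc]
      _ = p * (G⁻¹ * T) := by rw [← e3, Matrix.mul_assoc]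
  -- extension to all matrices by linearity
  have hZall : ∀ (i : Fin t) (a : Matrix (Fin m) (Fin m) F), (G⁻¹ * T) * pos i a = pos i a * (G⁻¹ * T) := by
    intro i a
    obtain ⟨ψ, hψ⟩ := Cfsg.Agent.Lib.Helper22.AschC7.exists_posAlgHom (F := F) (m := m) (t := t) i
    have ha : a ∈ Submodule.span F (matrixSet Y) := by rw [hspan]; trivial
    induction ha using Submodule.span_induction with
    | mem s hs =>
      obtain ⟨y, hy, rfl⟩ := hs
      exact hZY i y hy
    | zero =>
      rw [← hψ, map_zero, Matrix.mul_zero, Matrix.zero_mul]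
    | add a b _ _ iha ihb =>
      rw [← hψ, map_add, Matrix.mul_add, Matrix.add_mul, hψ, hψ, iha, ihb]
    | smul c a _ iha =>
      rw [← hψ, map_smul, Matrix.mul_smul, Matrix.smul_mul, hψ, iha]
  obtain ⟨c', hc'⟩ := Cfsg.Agent.Lib.Helper22.AschC7.scalar_of_commute_pos (G⁻¹ * T) hZall
  have hTG : T = c' • G := by
    calc T = (G * G⁻¹) * T := by rw [hG1, Matrix.one_mul]
      _ = G * (G⁻¹ * T) := by rw [Matrix.mul_assoc]
      _ = c' • G := by rw [hc', Matrix.mul_smul, Matrix.mul_one]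
  have hc'0 : c' ≠ 0 := by
    intro h0
    apply hTne
    rw [hTG, h0, zero_smul]
  refine ⟨B, c'⁻¹, inv_ne_zero hc'0, hBdet, hBinv, ?_⟩
  rw [← hTdef, hTG, smul_smul, inv_mul_cancel₀ hc'0, one_smul]

end Cfsg.Agent.Lib.Helper12.S5662C7F
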