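import Mathlib
import Cfsg.Prelude.Def_GeometricClasses
import Cfsg.Agent.Lib.Helper7.AschDefs
import Cfsg.Agent.Lib.Helper16.SpADefs
import Cfsg.Agent.Lib.Helper12.AschDescent

/-!
# S5662 SpI8-U (helper12): an absolutely irreducible group of isometries of a symplectic form fixing a unitary form is
realisable over a proper subfield
-/

set_option autoImplicit false
set_option linter.unusedSectionVars false

namespace Cfsg.Agent.Lib.Helper12.S5662I8U

open Matrix Cfsg.Geo Cfsg.Agent.Lib.Helper7.Asch Cfsg.Agent.Lib.Helper16.SpA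

variable {F : Type*} [Field F] [Fintype F] {n : ℕ} {f : (Fin n → F) → (Fin n → F) → F}

/-- a subgroup of the isometry group fixes the form -/
theorem fixesForm_of_le_Iso (L : Subgroup (GL (Fin n) F)) (hLI : L ≤ Iso f) : FixesForm (matrixSet L) f := by
  rintro _ ⟨x, hx, rfl⟩ u v
  exact hLI hx u v

/-- general version: any non-degenerate bilinear form -/
theorem realisable_of_fixes_bilinear_unitary (L : Subgroup (GL (Fin n) F)) (hL : AbsIrr L)
    (b : (Fin n → F) → (Fin n → F) → F) (hb : IsBilinearForm b) (hnd : IsNondegenerateForm b)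
    (hfixb : FixesForm (matrixSet L) b)
    (σ : F ≃+* F) (g : (Fin n → F) → (Fin n → F) → F) (hg : IsUnitaryForm σ g)
    (hfix : FixesForm (matrixSet L) g) : ∃ F₀ : Subfield F, F₀ ≠ ⊤ ∧ RealisableOver F₀ (matrixSet L) := by
  refine ⟨Cfsg.Agent.Lib.Helper12.AschDescent.fixedField σ,
    Cfsg.Agent.Lib.Helper12.AschDescent.fixedField_ne_top σ hg.ne_refl, ?_⟩
  rcases Nat.eq_zero_or_pos n with h0 | hpos
  · subst h0
    exact ⟨1, fun s _ i => i.elim0⟩
  · exact Cfsg.Agent.Lib.Helper12.AschDescent.realisable_of_bilinear_unitary hpos L hL b hb hnd hfixb σ g hg hfix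

/-- **SpI8-U** -/
theorem realisable_of_fixes_unitary (hf : IsSymplecticForm f) (L : Subgroup (GL (Fin n) F)) (hLI : L ≤ Iso f)
    (hL : AbsIrr L) (σ : F ≃+* F) (g : (Fin n → F) → (Fin n → F) → F) (hg : IsUnitaryForm σ g)
    (hfix : FixesForm (matrixSet L) g) : ∃ F₀ : Subfield F, F₀ ≠ ⊤ ∧ RealisableOver F₀ (matrixSet L) :=
  realisable_of_fixes_bilinear_unitary L hL f hf.bilinear hf.nondegenerate (fixesForm_of_le_Iso L hLI) σ g hg hfix

end Cfsg.Agent.Lib.Helper12.S5662I8U
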