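import Mathlib
import Cfsg.Prelude.Def_GeometricClasses
import Cfsg.Agent.Lib.Helper7.AschDefs
import Cfsg.Agent.Lib.Helper16.SpADefs
import Cfsg.Agent.Lib.Helper12.AschG3
import Cfsg.Agent.Lib.Helper12.FormDescent

/-!
# S5662 SF (helper12): `H` normalises an absolutely irreducible group of isometries realisable over a proper subfield: class 5
-/

set_option autoImplicit false
set_option linter.unusedSectionVars false

namespace Cfsg.Agent.Lib.Helper12.S5662SF

open Matrix Cfsg.Geo Cfsg.Agent.Lib.Helper7.Asch Cfsg.Agent.Lib.Helper16.SpA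

variable {F : Type*} [Field F] [Fintype F] {n : ℕ} {f : (Fin n → F) → (Fin n → F) → F}

/-- general version (any non-degenerate bilinear form, multipliers in the subfield): the data of a class-5 member -/
theorem exists_subfield_data (hfb : IsBilinearForm f) (hnd : IsNondegenerateForm f)
    (H R : Subgroup (GL (Fin n) F)) (hR : AbsIrr R) (hnorm : NormBy H R) (F₀ : Subfield F) (h0 : F₀ ≠ ⊤)
    (hreal : RealisableOver F₀ (matrixSet R))
    (hmult : ∀ g ∈ R, ∃ c : F, c ∈ F₀ ∧ ∀ u v, f ((g : Matrix (Fin n) (Fin n) F) *ᵥ u)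
      ((g : Matrix (Fin n) (Fin n) F) *ᵥ v) = c * f u v) :
    ∃ (F₁ : Subfield F) (r : ℕ) (P : GL (Fin n) F) (ζ : F), r.Prime ∧ Fintype.card F = Nat.card F₁ ^ r ∧ ζ ≠ 0 ∧
      IsFormRationalStructure f F₁ ζ P ∧ H ≤ subfieldSubgroup F₁ P := by
  obtain ⟨F₁, r, h01, hr, hcard⟩ := Cfsg.Agent.Lib.Helper12.AschG3.exists_prime_index_subfield F₀ h0
  obtain ⟨B, hB⟩ := hreal
  have hB1 : ∀ s ∈ matrixSet R, ∀ i j,
      ((B : Matrix (Fin n) (Fin n) F) * s * ((B⁻¹ : GL (Fin n) F) : Matrix (Fin n) (Fin n) F)) i j ∈ F₁ :=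
    fun s hs i j => h01 (hB s hs i j)
  obtain ⟨ζ, hζ, hform⟩ := Cfsg.Agent.Lib.Helper12.FormDescent.exists_formRational (RingEquiv.refl F) f
    (Cfsg.Agent.Lib.Helper23.S5630CoreF.isSesq_of_isBilinearForm f hfb) hnd F₁ (fun x hx => hx) R hR B hB1
    (fun g hg => by
      obtain ⟨c, hc, h⟩ := hmult g hg
      exact ⟨c, h01 hc, h⟩)
  refine ⟨F₁, r, B⁻¹, ζ, hr, hcard, hζ, hform, ?_⟩
  exact (Cfsg.Agent.Lib.Helper12.AschG3.le_normalizer_of_forall H R hnorm).trans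
    (Cfsg.Agent.Lib.Helper12.AschG3.normalizer_le_subfieldSubgroup F₁ R hR B hB1)

/-- **SF** -/
theorem sp_realisable (hf : IsSymplecticForm f) (H R : Subgroup (GL (Fin n) F)) (hHI : H ≤ Iso f) (hRI : R ≤ Iso f)
    (hR : AbsIrr R) (hnorm : NormBy H R) (F₀ : Subfield F) (h0 : F₀ ≠ ⊤)
    (hreal : RealisableOver F₀ (matrixSet R)) : InSp f H := by
  obtain ⟨F₁, r, P, ζ, hr, hcard, hζ, hform, hH⟩ := exists_subfield_data hf.bilinear hf.nondegenerate H R hR hnorm F₀ h0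
    hreal (fun g hg => ⟨1, F₀.one_mem, fun u v => by rw [one_mul]; exact hRI hg u v⟩)
  exact .subfield F₁ r P ζ hr hcard hζ hform hH

end Cfsg.Agent.Lib.Helper12.S5662SF
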