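import Mathlib
import Cfsg.Prelude.Def_GeometricClasses
import Cfsg.Agent.Lib.Helper7.AschDefs
import Cfsg.Agent.Lib.Helper24.AschUDefs
import Cfsg.Agent.Lib.Helper2.FormRedU
import Cfsg.Agent.Lib.Helper23.S5630CoreF1

/-!
# S5663 U5, part A (helper12): general lemmas for the unitary form descent

* `frob hF : F ≃+* F`, `x ↦ x ^ q` when `card F = q ^ 2`; `isSesq_hermForm`;
* `alt_dot_eq_zero` : an alternating matrix gives `u ⬝ᵥ X *ᵥ u = 0` (all characteristics);
* `dot_self_eq_zero_of_symm_char_two` : in characteristic 2 a symmetric matrix `Y` with `sᵀ Y s = c_s Y` for all `s` of an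
  irreducible set of matrices (`n ≥ 2`) has `v ⬝ᵥ Y *ᵥ v = 0` for all `v`;
* `dot_conj` : `(s u)ᵀ Y (s u) = uᵀ (sᵀ Y s) u`;
* `le_subfieldSubgroup_smul` : rescaling the change of basis does not change the subfield group;
* `exists_hilbert90_scalar` : Hilbert 90 inside a `σ`-stable subfield on which `σ` is not trivial.
-/

set_option autoImplicit false
set_option linter.unusedSectionVars false

namespace Cfsg.Agent.Lib.Helper12.S5663U5A

open Matrix Cfsg Cfsg.Geo Cfsg.Agent.Lib.Helper7.Asch Cfsg.Agent.Lib.Helper23.S5630CoreF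

section frob

variable {F : Type*} [Field F] [Fintype F] {n q : ℕ}

/-- the Frobenius `x ↦ x ^ q` of the field with `q ^ 2` elements -/
noncomputable def frob (hF : Fintype.card F = q ^ 2) : F ≃+* F where
  toFun x := x ^ q
  invFun x := x ^ q
  left_inv x := Cfsg.Agent.Lib.Helper2.FormRedU.pow_card_sq hF x
  right_inv x := Cfsg.Agent.Lib.Helper2.FormRedU.pow_card_sq hF x
  map_mul' a b := mul_pow a b q
  map_add' a b := Cfsg.Agent.Lib.Helper2.FormRedU.add_pow_q hF a b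

theorem frob_apply (hF : Fintype.card F = q ^ 2) (x : F) : frob hF x = x ^ q := rfl

theorem frob_invol (hF : Fintype.card F = q ^ 2) (x : F) : frob hF (frob hF x) = x :=
  Cfsg.Agent.Lib.Helper2.FormRedU.pow_card_sq hF x

theorem two_le_q (hF : Fintype.card F = q ^ 2) : 2 ≤ q := by
  have h1 : 1 < Fintype.card F := Fintype.one_lt_card
  rw [hF] at h1
  by_contra h
  have : q ≤ 1 := by omega
  have h2 : q ^ 2 ≤ 1 ^ 2 := Nat.pow_le_pow_left this 2
  omega

theorem frob_ne_refl (hF : Fintype.card F = q ^ 2) : frob hF ≠ RingEquiv.refl F := by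
  classical
  intro h
  have hq := two_le_q hF
  obtain ⟨g, hg⟩ := IsCyclic.exists_generator (α := Fˣ)
  have hog : orderOf g = q ^ 2 - 1 := by
    rw [orderOf_eq_card_of_forall_mem_zpowers hg, Nat.card_eq_fintype_card, Fintype.card_units, hF]
  have h1 : (g : F) ^ q = g := by
    have := congrArg (fun e : F ≃+* F => e (g : F)) h
    exact this
  have h2 : g ^ (q - 1) = 1 := by
    apply Units.ext
    rw [Units.val_pow_eq_pow_val, Units.val_one]
    apply mul_left_cancel₀ g.ne_zero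
    rw [← pow_succ', Nat.sub_add_cancel (by omega), h1, mul_one]
  have h3 := orderOf_dvd_of_pow_eq_one h2
  rw [hog] at h3
  have h4 := Nat.le_of_dvd (by omega) h3
  have h5 : q ^ 2 = q * q := sq q
  have h6 : 2 * q ≤ q * q := Nat.mul_le_mul_right q hq
  omega

theorem isSesq_hermForm (hF : Fintype.card F = q ^ 2) : IsSesq (frob hF) (hermForm n F q) where
  add_left := (Cfsg.Agent.Lib.Helper2.FormRedU.isUnitaryFormPow_hermForm hF).add_left
  smul_left := (Cfsg.Agent.Lib.Helper2.FormRedU.isUnitaryFormPow_hermForm hF).smul_left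
  add_right v x y := by
    simp only [hermForm, Pi.add_apply]
    rw [← Finset.sum_add_distrib]
    refine Finset.sum_congr rfl fun i _ => ?_
    rw [Cfsg.Agent.Lib.Helper2.FormRedU.add_pow_q hF, mul_add]
  smul_right c v x := by
    simp only [hermForm, Pi.smul_apply, smul_eq_mul, frob_apply]
    rw [Finset.mul_sum]
    refine Finset.sum_congr rfl fun i _ => ?_
    rw [mul_pow]
    ring

end frob

section alt

variable {F : Type*} [Field F] {n : ℕ}

/-- an alternating matrix gives an alternating form (all characteristics) -/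
theorem alt_dot_eq_zero (X : Matrix (Fin n) (Fin n) F) (h0 : ∀ i, X i i = 0) (hs : ∀ i j, X i j = - X j i)
    (u : Fin n → F) : u ⬝ᵥ X *ᵥ u = 0 := by
  simp only [dotProduct, mulVec, Finset.mul_sum]
  rw [← Finset.sum_product']
  refine Finset.sum_involution (fun p _ => (p.2, p.1)) ?_ ?_ (fun _ _ => Finset.mem_univ _) (fun _ _ => rfl)
  · intro p _
    simp only
    rw [hs p.1 p.2]
    ring
  · intro p _ hne heq
    apply hne
    have h1 : p.2 = p.1 := congrArg Prod.fst heq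
    rw [h1, h0, zero_mul, mul_zero]

/-- `Q(s u)` for the quadratic map `Q(u) = uᵀ Y u` -/
theorem dot_conj (Y s : Matrix (Fin n) (Fin n) F) (u : Fin n → F) :
    (s *ᵥ u) ⬝ᵥ Y *ᵥ (s *ᵥ u) = u ⬝ᵥ (sᵀ * Y * s) *ᵥ u := by
  rw [Matrix.mulVec_mulVec, Matrix.mul_assoc, ← Matrix.mulVec_mulVec u sᵀ, Matrix.dotProduct_mulVec u sᵀ,
    Matrix.vecMul_transpose]

/-- `Q(u + v) = Q(u) + Q(v) + 2 β(u, v)` for a symmetric matrix -/
theorem dot_add_symm (Y : Matrix (Fin n) (Fin n) F) (hY : Yᵀ = Y) (u v : Fin n → F) :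
    (u + v) ⬝ᵥ Y *ᵥ (u + v) = u ⬝ᵥ Y *ᵥ u + v ⬝ᵥ Y *ᵥ v + 2 * (u ⬝ᵥ Y *ᵥ v) := by
  have h1 : v ⬝ᵥ Y *ᵥ u = u ⬝ᵥ Y *ᵥ v := by
    rw [Matrix.dotProduct_mulVec, ← Matrix.mulVec_transpose, hY, dotProduct_comm]
  rw [Matrix.mulVec_add, add_dotProduct, dotProduct_add, dotProduct_add, h1]
  ring

/-- in characteristic 2, a symmetric matrix preserved up to scalars by an irreducible set of matrices is alternating (`n ≥ 2`) -/
theorem dot_self_eq_zero_of_symm_char_two [Finite F] (h2 : (2 : F) = 0) (hn : 2 ≤ n)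
    (S : Set (Matrix (Fin n) (Fin n) F)) (hirr : ActsIrreducibly S)
    (Y : Matrix (Fin n) (Fin n) F) (hY : Yᵀ = Y) (hfix : ∀ s ∈ S, ∃ c : F, sᵀ * Y * s = c • Y) (v : Fin n → F) :
    v ⬝ᵥ Y *ᵥ v = 0 := by
  classical
  have hadd : ∀ u w : Fin n → F, (u + w) ⬝ᵥ Y *ᵥ (u + w) = u ⬝ᵥ Y *ᵥ u + w ⬝ᵥ Y *ᵥ w := by
    intro u w
    rw [dot_add_symm Y hY, h2, zero_mul, add_zero]
  have hsmul : ∀ (c : F) (u : Fin n → F), (c • u) ⬝ᵥ Y *ᵥ (c • u) = c * c * (u ⬝ᵥ Y *ᵥ u) := by
    intro c u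
    rw [Matrix.mulVec_smul, smul_dotProduct, dotProduct_smul, smul_eq_mul, smul_eq_mul, mul_assoc]
  let W : Submodule F (Fin n → F) :=
    { carrier := {u | u ⬝ᵥ Y *ᵥ u = 0}
      add_mem' := by
        intro a b ha hb
        show (a + b) ⬝ᵥ Y *ᵥ (a + b) = 0
        rw [hadd, ha, hb, add_zero]
      zero_mem' := by
        show (0 : Fin n → F) ⬝ᵥ Y *ᵥ 0 = 0
        rw [zero_dotProduct]
      smul_mem' := by
        intro c a ha
        show (c • a) ⬝ᵥ Y *ᵥ (c • a) = 0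
        rw [hsmul, ha, mul_zero] }
  have hW : ∀ u, u ∈ W ↔ u ⬝ᵥ Y *ᵥ u = 0 := fun u => Iff.rfl
  have hinv : ∀ s ∈ S, W.map (Matrix.toLin' s) ≤ W := by
    intro s hs
    rintro _ ⟨u, hu, rfl⟩
    obtain ⟨c, hc⟩ := hfix s hs
    rw [hW, Matrix.toLin'_apply]
    rw [dot_conj, hc, Matrix.smul_mulVec, dotProduct_smul, (hW u).mp hu, smul_zero]
  rcases hirr W hinv with hbot | htop
  · -- `Q` is an injective additive map `F^n → F`: impossible for `n ≥ 2`
    exfalso
    have hneg : ∀ u : Fin n → F, (-u) ⬝ᵥ Y *ᵥ (-u) = u ⬝ᵥ Y *ᵥ u := by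
      intro u
      rw [Matrix.mulVec_neg, neg_dotProduct, dotProduct_neg, neg_neg]
    have hinj : Function.Injective (fun u : Fin n → F => u ⬝ᵥ Y *ᵥ u) := by
      intro a b hab
      simp only at hab
      have h3 : a + (-b) ∈ W := by
        rw [hW, hadd, hneg, hab]
        have : b ⬝ᵥ Y *ᵥ b + b ⬝ᵥ Y *ᵥ b = 2 * (b ⬝ᵥ Y *ᵥ b) := by ring
        rw [this, h2, zero_mul]
      rw [hbot, Submodule.mem_bot] at h3
      exact add_neg_eq_zero.mp h3
    have : Fintype F := Fintype.ofFinite F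
    have hcard := Fintype.card_le_of_injective _ hinj
    rw [Fintype.card_fun, Fintype.card_fin] at hcard
    have h1F : 1 < Fintype.card F := Fintype.one_lt_card
    have : Fintype.card F ^ 2 ≤ Fintype.card F ^ n := Nat.pow_le_pow_right (by omega) hn
    have h5 : Fintype.card F ^ 2 = Fintype.card F * Fintype.card F := sq _
    nlinarith
  · have : v ∈ W := by rw [htop]; trivial
    exact (hW v).mp this

end alt

section scal

variable {F : Type*} [Field F] {n : ℕ}

/-- rescaling the change of basis does not change the subfield group -/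
theorem le_subfieldSubgroup_smul (F₁ : Subfield F) (P P' : GL (Fin n) F) (ν : F)
    (hP' : (P' : Matrix (Fin n) (Fin n) F) = ν • (P : Matrix (Fin n) (Fin n) F)) :
    subfieldSubgroup F₁ P ≤ subfieldSubgroup F₁ P' := by
  intro g hg
  unfold subfieldSubgroup at hg ⊢
  rw [Subgroup.mem_map] at hg ⊢
  obtain ⟨k, hk, hkg⟩ := hg
  refine ⟨k, hk, ?_⟩
  have hkg' : P * k * P⁻¹ = g := hkg
  show P' * k * P'⁻¹ = g
  rw [← hkg']
  -- `P' * k = (P * k * P⁻¹) * P'`
  rw [mul_inv_eq_iff_eq_mul]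
  apply Units.ext
  simp only [Units.val_mul]
  have hP1 : ((P⁻¹ : GL (Fin n) F) : Matrix (Fin n) (Fin n) F) * (P : Matrix (Fin n) (Fin n) F) = 1 := by
    rw [← Units.val_mul, inv_mul_cancel, Units.val_one]
  rw [hP', Matrix.smul_mul, Matrix.mul_smul, Matrix.mul_assoc _ _ (P : Matrix (Fin n) (Fin n) F), hP1, Matrix.mul_one]

end scal

section h90

variable {F : Type*} [Field F]

/-- **Hilbert 90** inside a `σ`-stable subfield on which the involution `σ` is not trivial -/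
theorem exists_hilbert90_scalar (σ : F ≃+* F) (hinv : ∀ a, σ (σ a) = a) (F₁ : Subfield F) (hσ : ∀ x ∈ F₁, σ x ∈ F₁)
    (c₀ : F) (hc₀ : c₀ ∈ F₁) (hc₀' : σ c₀ ≠ c₀) (ε : F) (hε : ε ∈ F₁) (hε1 : ε * σ ε = 1) :
    ∃ b : F, b ∈ F₁ ∧ b ≠ 0 ∧ σ b = ε * b := by
  have hε0 : ε ≠ 0 := by
    intro h
    rw [h, zero_mul] at hε1
    exact zero_ne_one hε1
  by_cases h1 : ε + 1 = 0
  · -- `ε = -1`, `b = c₀ - σ c₀`
    have hεm : ε = -1 := eq_neg_of_add_eq_zero_left h1
    refine ⟨c₀ - σ c₀, F₁.sub_mem hc₀ (hσ _ hc₀), sub_ne_zero.mpr (Ne.symm hc₀'), ?_⟩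
    rw [map_sub, hinv, hεm]
    ring
  · -- `b = 1 + σ ε`
    refine ⟨1 + σ ε, F₁.add_mem F₁.one_mem (hσ _ hε), ?_, ?_⟩
    · intro h0
      apply h1
      have h3 : σ ε = -1 := eq_neg_of_add_eq_zero_right h0
      have h4 : ε = -1 := by
        rw [← hinv ε, h3, map_neg, map_one]
      rw [h4, neg_add_cancel]
    · rw [map_add, map_one, hinv, mul_add, mul_one, hε1, add_comm]

end h90

end Cfsg.Agent.Lib.Helper12.S5663U5A
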