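import Mathlib
import Cfsg.Prelude.Def_GeometricClasses
import Cfsg.Agent.Lib.Helper7.AschDefs
import Cfsg.Agent.Lib.Helper24.AschUDefs
import Cfsg.Agent.Lib.Helper2.FormRedU
import Cfsg.Agent.Lib.Helper14.S5630CoreF45
import Cfsg.Agent.Lib.Helper12.AschG3
import Cfsg.Agent.Lib.Helper12.AschDescent
import Cfsg.Agent.Lib.Helper12.FormDescent
import Cfsg.Agent.Lib.Helper12.S5663U5A

/-!
# S5663 U5 (helper12): the class-5 exit of the unitary hub (`InClassU.of_realisable`, exact signature of helper24's skeleton)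
-/

set_option autoImplicit false
set_option linter.unusedSectionVars false
set_option linter.unusedVariables false

namespace Cfsg.Agent.Lib.Helper12.S5663U5

open Matrix Cfsg Cfsg.Geo Cfsg.Agent.Lib.Helper7.Asch Cfsg.Agent.Lib.Helper24.AschU
  Cfsg.Agent.Lib.Helper23.S5630CoreF Cfsg.Agent.Lib.Helper12.S5663U5A

variable {F : Type*} [Field F] [Fintype F] {n q : ℕ}

/-- a bilinear expression with all data in a subfield lies in the subfield -/
theorem dot_mem (F₁ : Subfield F) (X : Matrix (Fin n) (Fin n) F) (hX : ∀ i j, X i j ∈ F₁) (u w : Fin n → F)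
    (hu : ∀ i, u i ∈ F₁) (hw : ∀ i, w i ∈ F₁) : u ⬝ᵥ X *ᵥ w ∈ F₁ := by
  simp only [dotProduct, mulVec]
  apply F₁.sum_mem
  intro a _
  apply F₁.mul_mem (hu a)
  apply F₁.sum_mem
  intro b _
  exact F₁.mul_mem (hX a b) (hw b)

/-- rescaling: if `ζ b` is fixed by the Frobenius for some `b ∈ F₁ˣ`, a scalar multiple of `P₀` is a form-rational structure with
constant `1` -/
theorem exists_rescale (hF : Fintype.card F = q ^ 2) (H : Subgroup (GL (Fin n) F)) (F₁ : Subfield F)
    (P₀ : GL (Fin n) F) (hH0 : H ≤ subfieldSubgroup F₁ P₀) (ζ : F) (X : Matrix (Fin n) (Fin n) F)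
    (hX : ∀ i j, X i j ∈ F₁)
    (hrepr : ∀ u v : Fin n → F, ζ * hermForm n F q ((P₀ : Matrix (Fin n) (Fin n) F) *ᵥ u)
      ((P₀ : Matrix (Fin n) (Fin n) F) *ᵥ v) = u ⬝ᵥ X *ᵥ (fun i => v i ^ q))
    (b : F) (hb : b ∈ F₁) (hb0 : ζ * b ≠ 0) (hfix : (ζ * b) ^ q = ζ * b) :
    ∃ P' : GL (Fin n) F, IsFormRationalStructure (hermForm n F q) F₁ 1 P' ∧ H ≤ subfieldSubgroup F₁ P' := by
  obtain ⟨ν, hν⟩ := Cfsg.Agent.Lib.Helper12.AschDescent.exists_norm_eq (frob hF) (frob_ne_refl hF) (frob_invol hF)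
    (ζ * b) hfix
  rw [frob_apply] at hν
  have hν0 : ν ≠ 0 := by
    intro h
    rw [h, zero_mul] at hν
    exact hb0 hν.symm
  obtain ⟨z, hz⟩ : ∃ z : GL (Fin n) F, (z : Matrix (Fin n) (Fin n) F) = ν • (1 : Matrix (Fin n) (Fin n) F) := by
    refine ⟨Units.map (Matrix.scalar (Fin n) : F →+* Matrix (Fin n) (Fin n) F).toMonoidHom (Units.mk0 ν hν0), ?_⟩
    simp only [Units.coe_map, RingHom.toMonoidHom_eq_coe, MonoidHom.coe_coe, Units.val_mk0, Matrix.scalar_apply]
    rw [← Matrix.smul_one_eq_diagonal]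
  have hP' : ((P₀ * z : GL (Fin n) F) : Matrix (Fin n) (Fin n) F) = ν • (P₀ : Matrix (Fin n) (Fin n) F) := by
    rw [Units.val_mul, hz, Matrix.mul_smul, Matrix.mul_one]
  refine ⟨P₀ * z, ?_, hH0.trans (le_subfieldSubgroup_smul F₁ P₀ (P₀ * z) ν hP')⟩
  intro u v hu hv
  have hs := isSesq_hermForm (n := n) hF
  rw [one_mul, hP', Matrix.smul_mulVec, Matrix.smul_mulVec, hs.smul_left, hs.smul_right, frob_apply, ← mul_assoc, hν,
    mul_comm ζ b, mul_assoc, hrepr]
  apply F₁.mul_mem hb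
  exact dot_mem F₁ X hX u _ hu (fun i => F₁.pow_mem (hv i) q)

/-- the symplectic alternative of class 5 -/
theorem caseB_symp (hF : Fintype.card F = q ^ 2) (H : Subgroup (GL (Fin n) F)) (hHU : H ≤ GU n F q)
    (F₁ : Subfield F) (hcard : Fintype.card F = Nat.card F₁ ^ 2) (P₀ : GL (Fin n) F)
    (hH0 : H ≤ subfieldSubgroup F₁ P₀) (ζ : F) (hζ : ζ ≠ 0) (X : Matrix (Fin n) (Fin n) F)
    (hX : ∀ i j, X i j ∈ F₁) (hXunit : IsUnit X)
    (hrepr : ∀ u v : Fin n → F, ζ * hermForm n F q ((P₀ : Matrix (Fin n) (Fin n) F) *ᵥ u)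
      ((P₀ : Matrix (Fin n) (Fin n) F) *ᵥ v) = u ⬝ᵥ X *ᵥ (fun i => v i ^ q))
    (hfix : ∀ x ∈ F₁, x ^ q = x) (h0 : ∀ i, X i i = 0) (hs : ∀ i j, X i j = - X j i) (hζq : ζ + ζ ^ q = 0) :
    InClassU n q H := by
  have hn : Even n := by
    by_contra hne
    have hodd : Odd n := Nat.not_even_iff_odd.mp hne
    have hdet := Cfsg.Agent.Lib.Helper14.S5630Core.det_eq_zero_of_alt_of_odd hodd X h0 hs
    have h1 := (Matrix.isUnit_iff_isUnit_det _).mp hXunit
    rw [hdet] at h1
    exact not_isUnit_zero h1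
  refine InClassU.of_subfield_symp H hHU F₁ P₀ ζ hn hcard hζ hζq ?_ ?_ hH0
  · intro u v hu hv
    rw [hrepr]
    exact dot_mem F₁ X hX u _ hu (fun i => F₁.pow_mem (hv i) q)
  · intro u hu
    have h1 := hrepr u u
    have h2 : (fun i => u i ^ q) = u := funext fun i => hfix _ (hu i)
    rw [h2, alt_dot_eq_zero X h0 hs u] at h1
    rcases mul_eq_zero.mp h1 with h | h
    · exact absurd h hζ
    · exact h

/-- in case B (`F₁` fixed by the Frobenius) the index is `2` -/
theorem caseB_index (hF : Fintype.card F = q ^ 2) (F₁ : Subfield F) (r : ℕ) (hr : r.Prime)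
    (hcard : Fintype.card F = Nat.card F₁ ^ r) (hfix : ∀ x ∈ F₁, x ^ q = x) : r = 2 := by
  classical
  have h1K : F₁ ≤ Cfsg.Agent.Lib.Helper12.AschDescent.fixedField (frob hF) := by
    intro x hx
    rw [Cfsg.Agent.Lib.Helper12.AschDescent.mem_fixedField, frob_apply]
    exact hfix x hx
  have hK2 := Cfsg.Agent.Lib.Helper12.AschDescent.card_eq_sq (frob hF) (frob_ne_refl hF) (frob_invol hF)
  let K' : Submodule F₁ F :=
    { carrier := (Cfsg.Agent.Lib.Helper12.AschDescent.fixedField (frob hF) : Set F)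
      add_mem' := fun ha hb => (Cfsg.Agent.Lib.Helper12.AschDescent.fixedField (frob hF)).add_mem ha hb
      zero_mem' := (Cfsg.Agent.Lib.Helper12.AschDescent.fixedField (frob hF)).zero_mem
      smul_mem' := fun c x hx => (Cfsg.Agent.Lib.Helper12.AschDescent.fixedField (frob hF)).mul_mem (h1K c.2) hx }
  have h3 := Module.natCard_eq_pow_finrank (K := F₁) (V := K')
  have h4 : Nat.card K' = Nat.card (Cfsg.Agent.Lib.Helper12.AschDescent.fixedField (frob hF)) := rfl
  rw [h4] at h3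
  rw [h3, ← pow_mul] at hK2
  rw [hcard] at hK2
  have h5 : 2 ≤ Nat.card F₁ := by
    rw [Nat.card_eq_fintype_card]
    exact Fintype.one_lt_card
  have h6 := Nat.pow_right_injective h5 hK2
  have h7 : 2 ∣ r := ⟨_, by rw [h6, mul_comm]⟩
  exact ((Nat.prime_dvd_prime_iff_eq Nat.prime_two hr).mp h7).symm

/-- **the descent**, after the choice of the prime-index subfield -/
theorem of_descent (hF : Fintype.card F = q ^ 2) (hn : 3 ≤ n) (L H : Subgroup (GL (Fin n) F))
    (hHU : H ≤ GU n F q) (hL : AbsIrr L) (F₁ : Subfield F) (r : ℕ) (hr : r.Prime)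
    (hcard : Fintype.card F = Nat.card F₁ ^ r) (B : GL (Fin n) F)
    (hB1 : ∀ s ∈ matrixSet L, ∀ i j,
      ((B : Matrix (Fin n) (Fin n) F) * s * ((B⁻¹ : GL (Fin n) F) : Matrix (Fin n) (Fin n) F)) i j ∈ F₁)
    (hmult : ∀ g ∈ L, ∃ c : F, c ∈ F₁ ∧ ∀ u v : Fin n → F,
      hermForm n F q ((g : Matrix (Fin n) (Fin n) F) *ᵥ u) ((g : Matrix (Fin n) (Fin n) F) *ᵥ v) =
        c * hermForm n F q u v)
    (hH0 : H ≤ subfieldSubgroup F₁ B⁻¹) : InClassU n q H := by
  classical
  have hsesq := isSesq_hermForm (n := n) hF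
  have hup := Cfsg.Agent.Lib.Helper2.FormRedU.isUnitaryFormPow_hermForm (n := n) hF
  have hnd : IsNondegenerateForm (hermForm n F q) := hup.nondegenerate
  have hσF₁ : ∀ x ∈ F₁, frob hF x ∈ F₁ := fun x hx => F₁.pow_mem hx q
  have hB1m : (B : Matrix (Fin n) (Fin n) F) * ((B⁻¹ : GL (Fin n) F) : Matrix (Fin n) (Fin n) F) = 1 := by
    rw [← Units.val_mul, mul_inv_cancel, Units.val_one]
  have hB2m : ((B⁻¹ : GL (Fin n) F) : Matrix (Fin n) (Fin n) F) * (B : Matrix (Fin n) (Fin n) F) = 1 := by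
    rw [← Units.val_mul, inv_mul_cancel, Units.val_one]
  obtain ⟨ζ, hζ, hXent⟩ := Cfsg.Agent.Lib.Helper12.FormDescent.exists_gram_rational (frob hF) (hermForm n F q) hsesq
    hnd F₁ hσF₁ L hL B hB1 hmult
  -- the transported form and its Gram matrix
  obtain ⟨f', hf'def⟩ : ∃ f' : (Fin n → F) → (Fin n → F) → F, f' = fun u v =>
      hermForm n F q (((B⁻¹ : GL (Fin n) F) : Matrix (Fin n) (Fin n) F) *ᵥ u)
        (((B⁻¹ : GL (Fin n) F) : Matrix (Fin n) (Fin n) F) *ᵥ v) := ⟨_, rfl⟩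
  have hf'app : ∀ u v, f' u v = hermForm n F q (((B⁻¹ : GL (Fin n) F) : Matrix (Fin n) (Fin n) F) *ᵥ u)
      (((B⁻¹ : GL (Fin n) F) : Matrix (Fin n) (Fin n) F) *ᵥ v) := by
    intro u v; rw [hf'def]
  rw [← hf'def] at hXent
  have hf' : IsSesq (frob hF) f' := by
    rw [hf'def]
    exact isSesq_comp (frob hF) _ hsesq _
  have hnd' : IsNondegenerateForm f' := by
    rw [hf'def]
    exact Cfsg.Agent.Lib.Helper12.FormDescent.nondegenerate_comp _ hnd B⁻¹
  have hG'unit : IsUnit (gramMatrix f') := gram_isUnit (frob hF) f' hf' hnd'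
  obtain ⟨X, hXdef⟩ : ∃ X : Matrix (Fin n) (Fin n) F, X = ζ • gramMatrix f' := ⟨_, rfl⟩
  rw [← hXdef] at hXent
  have hXunit : IsUnit X := by
    rw [hXdef, Matrix.isUnit_iff_isUnit_det, Matrix.det_smul]
    exact ((isUnit_iff_ne_zero.mpr hζ).pow _).mul ((Matrix.isUnit_iff_isUnit_det _).mp hG'unit)
  have hXne : X ≠ 0 := by
    intro h0
    rw [h0] at hXunit
    have : Nontrivial (Matrix (Fin n) (Fin n) F) := by
      have : Nonempty (Fin n) := ⟨⟨0, by omega⟩⟩
      infer_instance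
    exact not_isUnit_zero hXunit
  have hrepr : ∀ u v : Fin n → F, ζ * hermForm n F q (((B⁻¹ : GL (Fin n) F) : Matrix (Fin n) (Fin n) F) *ᵥ u)
      (((B⁻¹ : GL (Fin n) F) : Matrix (Fin n) (Fin n) F) *ᵥ v) = u ⬝ᵥ X *ᵥ (fun i => v i ^ q) := by
    intro u v
    rw [← hf'app, sesq_repr (frob hF) f' hf' u v, hXdef, Matrix.smul_mulVec, dotProduct_smul, smul_eq_mul]
    rfl
  -- hermitian symmetry
  have hherm : ∀ i j, ζ ^ q * X j i = ζ * X i j ^ q := by
    intro i j
    have h1 : gramMatrix f' j i = (gramMatrix f' i j) ^ q := by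
      show f' _ _ = (f' _ _) ^ q
      rw [hf'app, hf'app]
      exact hup.herm _ _
    rw [hXdef, Matrix.smul_apply, Matrix.smul_apply, smul_eq_mul, smul_eq_mul, h1, mul_pow]
    ring
  by_cases hA : ∃ c₀ ∈ F₁, c₀ ^ q ≠ c₀
  · -- case A: `r` is odd
    obtain ⟨c₀, hc₀, hc₀'⟩ := hA
    have hr2 : r ≠ 2 := by
      intro h2
      apply hc₀'
      rw [h2, hF] at hcard
      have h3 : q = Nat.card F₁ := Nat.pow_left_injective (by norm_num : (2 : ℕ) ≠ 0) hcard
      have h4 := FiniteField.pow_card (⟨c₀, hc₀⟩ : F₁)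
      rw [← Nat.card_eq_fintype_card, ← h3] at h4
      exact congrArg Subtype.val h4
    have hodd : Odd r := hr.eq_two_or_odd'.resolve_left hr2
    -- `ε = ζ / ζ^q ∈ F₁`
    have hζq0 : ζ ^ q ≠ 0 := pow_ne_zero _ hζ
    obtain ⟨i, j, hij⟩ : ∃ i j, X i j ≠ 0 := by
      by_contra hcon
      push Not at hcon
      apply hXne
      ext i j
      exact hcon i j
    have hijq : X i j ^ q ≠ 0 := pow_ne_zero _ hij
    have hεF₁ : ζ / ζ ^ q ∈ F₁ := by
      have h1 : ζ / ζ ^ q = X j i / X i j ^ q := by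
        rw [div_eq_div_iff hζq0 hijq, ← hherm i j, mul_comm]
      rw [h1]
      exact F₁.div_mem (hXent j i) (F₁.pow_mem (hXent i j) q)
    have hε1 : ζ / ζ ^ q * frob hF (ζ / ζ ^ q) = 1 := by
      rw [frob_apply, div_pow, Cfsg.Agent.Lib.Helper2.FormRedU.pow_card_sq hF]
      field_simp
    obtain ⟨b, hb, hb0, hσb⟩ := exists_hilbert90_scalar (frob hF) (frob_invol hF) F₁ hσF₁ c₀ hc₀ hc₀' _ hεF₁ hε1
    rw [frob_apply] at hσb
    have hfixt : (ζ * b) ^ q = ζ * b := by
      rw [mul_pow, hσb]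
      field_simp
    obtain ⟨P', hP', hHP'⟩ := exists_rescale hF H F₁ B⁻¹ hH0 ζ X hXent hrepr b hb (mul_ne_zero hζ hb0) hfixt
    exact InClassU.of_subfield_odd H hHU F₁ r P' hr hodd hcard hP' hHP'
  · -- case B: the Frobenius is trivial on `F₁`, `r = 2`
    push Not at hA
    have hr2 : r = 2 := caseB_index hF F₁ r hr hcard hA
    rw [hr2] at hcard
    have hsw : ∀ i j, ζ ^ q * X j i = ζ * X i j := by
      intro i j
      rw [hherm i j, hA _ (hXent i j)]
    -- `(ζ^q)² = ζ²`
    have hsq : ζ ^ q * ζ ^ q = ζ * ζ := by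
      obtain ⟨i, j, hij⟩ : ∃ i j, X i j ≠ 0 := by
        by_contra hcon
        push Not at hcon
        apply hXne
        ext i j
        exact hcon i j
      have h1 : ζ ^ q * ζ ^ q * X i j = ζ * ζ * X i j := by
        calc ζ ^ q * ζ ^ q * X i j = ζ ^ q * (ζ ^ q * X i j) := by ring
          _ = ζ ^ q * (ζ * X j i) := by rw [hsw j i]
          _ = ζ * (ζ ^ q * X j i) := by ring
          _ = ζ * (ζ * X i j) := by rw [hsw i j]
          _ = ζ * ζ * X i j := by ring
      exact mul_right_cancel₀ hij h1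
    have hpm : ζ ^ q = ζ ∨ ζ ^ q = -ζ := by
      have : (ζ ^ q - ζ) * (ζ ^ q + ζ) = 0 := by
        have : (ζ ^ q - ζ) * (ζ ^ q + ζ) = ζ ^ q * ζ ^ q - ζ * ζ := by ring
        rw [this, hsq, sub_self]
      rcases mul_eq_zero.mp this with h | h
      · exact Or.inl (sub_eq_zero.mp h)
      · exact Or.inr (eq_neg_of_add_eq_zero_left h)
    by_cases h2 : (2 : F) = 0
    · -- characteristic 2
      have hnegF : ∀ x : F, -x = x := by
        intro x
        have : x + x = 0 := by rw [← two_mul, h2, zero_mul]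
        exact neg_eq_of_add_eq_zero_left this
      have hζfix : ζ ^ q = ζ := by
        rcases hpm with h | h
        · exact h
        · rw [h, hnegF]
      have hsymm : ∀ i j, X j i = X i j := by
        intro i j
        have := hsw i j
        rw [hζfix] at this
        exact mul_left_cancel₀ hζ this
      have hXT : Xᵀ = X := by
        ext i j
        exact hsymm i j
      -- the matrix `Y = Bᵀ X B` is preserved up to scalars by `L`
      have hY : ((B : Matrix (Fin n) (Fin n) F)ᵀ * X * (B : Matrix (Fin n) (Fin n) F))ᵀ =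
          (B : Matrix (Fin n) (Fin n) F)ᵀ * X * (B : Matrix (Fin n) (Fin n) F) := by
        rw [Matrix.transpose_mul, Matrix.transpose_mul, Matrix.transpose_transpose, hXT, Matrix.mul_assoc]
      have hfixY : ∀ s ∈ matrixSet L, ∃ c : F,
          sᵀ * ((B : Matrix (Fin n) (Fin n) F)ᵀ * X * (B : Matrix (Fin n) (Fin n) F)) * s =
            c • ((B : Matrix (Fin n) (Fin n) F)ᵀ * X * (B : Matrix (Fin n) (Fin n) F)) := by
        rintro _ ⟨x, hx, rfl⟩
        obtain ⟨c, -, hcf⟩ := hmult x hx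
        refine ⟨c, ?_⟩
        obtain ⟨s', hs'⟩ : ∃ s' : Matrix (Fin n) (Fin n) F, s' = (B : Matrix (Fin n) (Fin n) F) *
            (x : Matrix (Fin n) (Fin n) F) * ((B⁻¹ : GL (Fin n) F) : Matrix (Fin n) (Fin n) F) := ⟨_, rfl⟩
        have hs'ent : ∀ i j, s' i j ∈ F₁ := by
          intro i j
          rw [hs']
          exact hB1 _ ⟨x, hx, rfl⟩ i j
        have hs'σ : s'.map (frob hF) = s' := by
          ext i j
          rw [Matrix.map_apply, frob_apply]
          exact hA _ (hs'ent i j)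
        have e : ∀ w : Fin n → F, ((B⁻¹ : GL (Fin n) F) : Matrix (Fin n) (Fin n) F) *ᵥ (s' *ᵥ w) =
            (x : Matrix (Fin n) (Fin n) F) *ᵥ (((B⁻¹ : GL (Fin n) F) : Matrix (Fin n) (Fin n) F) *ᵥ w) := by
          intro w
          rw [hs', Matrix.mulVec_mulVec, Matrix.mulVec_mulVec, ← Matrix.mul_assoc, ← Matrix.mul_assoc, hB2m,
            Matrix.one_mul]
        have h3 := Cfsg.Agent.Lib.Helper12.FormDescent.gram_semifix (frob hF) f' hf' c s' (by
          intro u v
          rw [hf'app, hf'app, e, e, hcf])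
        rw [hs'σ] at h3
        have h4 : s'ᵀ * X * s' = c • X := by
          rw [hXdef, Matrix.mul_smul, Matrix.smul_mul, h3, smul_smul, smul_smul, mul_comm]
        have h5 : s' * (B : Matrix (Fin n) (Fin n) F) = (B : Matrix (Fin n) (Fin n) F) * (x : Matrix (Fin n) (Fin n) F) := by
          rw [hs', Matrix.mul_assoc, hB2m, Matrix.mul_one]
        calc (x : Matrix (Fin n) (Fin n) F)ᵀ * ((B : Matrix (Fin n) (Fin n) F)ᵀ * X * (B : Matrix (Fin n) (Fin n) F)) *
              (x : Matrix (Fin n) (Fin n) F)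
            = ((B : Matrix (Fin n) (Fin n) F) * (x : Matrix (Fin n) (Fin n) F))ᵀ * X *
                ((B : Matrix (Fin n) (Fin n) F) * (x : Matrix (Fin n) (Fin n) F)) := by
              rw [Matrix.transpose_mul]
              simp only [Matrix.mul_assoc]
          _ = (B : Matrix (Fin n) (Fin n) F)ᵀ * (s'ᵀ * X * s') * (B : Matrix (Fin n) (Fin n) F) := by
              rw [← h5, Matrix.transpose_mul]
              simp only [Matrix.mul_assoc]
          _ = c • ((B : Matrix (Fin n) (Fin n) F)ᵀ * X * (B : Matrix (Fin n) (Fin n) F)) := by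
              rw [h4, Matrix.mul_smul, Matrix.smul_mul]
      have hQ : ∀ w : Fin n → F, w ⬝ᵥ X *ᵥ w = 0 := by
        intro w
        have h3 := dot_self_eq_zero_of_symm_char_two h2 (by omega) (matrixSet L) hL.1 _ hY hfixY
          (((B⁻¹ : GL (Fin n) F) : Matrix (Fin n) (Fin n) F) *ᵥ w)
        rw [← dot_conj, Matrix.mulVec_mulVec, hB1m, Matrix.one_mulVec] at h3
        exact h3
      have h0 : ∀ i, X i i = 0 := by
        intro i
        have := hQ (Pi.single i 1)
        rw [Matrix.mulVec_single_one, single_one_dotProduct] at this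
        exact this
      refine caseB_symp hF H hHU F₁ hcard B⁻¹ hH0 ζ hζ X hXent hXunit hrepr hA h0 ?_ ?_
      · intro i j
        rw [hnegF]
        exact hsymm j i
      · rw [hζfix, ← two_mul, h2, zero_mul]
    · -- odd characteristic
      have hqodd : Odd q := by
        by_contra hne
        have he : Even q := Nat.not_odd_iff_even.mp hne
        have h3 : Fintype.card F % 2 = 0 := by
          rw [hF]
          exact Nat.even_iff.mp (Nat.even_pow.mpr ⟨he, two_ne_zero⟩)
        have h4 : ringChar F = 2 := FiniteField.even_card_iff_char_two.mpr h3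
        have : CharP F 2 := ringChar.of_eq h4
        exact h2 (CharP.cast_eq_zero F 2)
      rcases hpm with h | h
      · -- orthogonal alternative
        have hfixt : (ζ * 1) ^ q = ζ * 1 := by rw [mul_one, h]
        obtain ⟨P', hP', hHP'⟩ := exists_rescale hF H F₁ B⁻¹ hH0 ζ X hXent hrepr 1 F₁.one_mem
          (by rw [mul_one]; exact hζ) hfixt
        exact InClassU.of_subfield_orth H hHU F₁ P' hqodd hcard hP' hHP'
      · -- symplectic alternative
        have hskew : ∀ i j, X i j = - X j i := by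
          intro i j
          have := hsw i j
          rw [h, neg_mul] at this
          have h3 : ζ * (- X j i) = ζ * X i j := by rw [mul_neg]; exact this
          exact (mul_left_cancel₀ hζ h3).symm
        have h0 : ∀ i, X i i = 0 := by
          intro i
          have h3 := hskew i i
          have h4 : 2 * X i i = 0 := by
            rw [two_mul]
            nth_rewrite 1 [h3]
            exact neg_add_cancel _
          rcases mul_eq_zero.mp h4 with h5 | h5
          · exact absurd h5 h2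
          · exact h5
        refine caseB_symp hF H hHU F₁ hcard B⁻¹ hH0 ζ hζ X hXent hXunit hrepr hA h0 hskew ?_
        rw [h, add_neg_cancel]

/-- **U5** form descent: an absolutely irreducible `L` normalised by `H ≤ GU_n(q)`, realisable over a proper subfield
`F₀` and preserving the form up to multipliers in `F₀`, puts `H` into class 5 -/
theorem InClassU.of_realisable (hF : Fintype.card F = q ^ 2) (hn : 3 ≤ n) (L H : Subgroup (GL (Fin n) F))
    (hHU : H ≤ GU n F q) (hL : AbsIrr L) (hnorm : NormBy H L) (F₀ : Subfield F) (h0 : F₀ ≠ ⊤)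
    (hreal : RealisableOver F₀ (matrixSet L))
    (hmult : ∀ g ∈ L, ∃ c : F, c ∈ F₀ ∧ ∀ u v : Fin n → F,
      hermForm n F q ((g : Matrix (Fin n) (Fin n) F) *ᵥ u) ((g : Matrix (Fin n) (Fin n) F) *ᵥ v) =
        c * hermForm n F q u v) : InClassU n q H := by
  obtain ⟨F₁, r, h01, hr, hcard⟩ := Cfsg.Agent.Lib.Helper12.AschG3.exists_prime_index_subfield F₀ h0
  obtain ⟨B, hB⟩ := hreal
  have hB1 : ∀ s ∈ matrixSet L, ∀ i j,
      ((B : Matrix (Fin n) (Fin n) F) * s * ((B⁻¹ : GL (Fin n) F) : Matrix (Fin n) (Fin n) F)) i j ∈ F₁ :=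
    fun s hs i j => h01 (hB s hs i j)
  have hH0 : H ≤ subfieldSubgroup F₁ B⁻¹ :=
    (Cfsg.Agent.Lib.Helper12.AschG3.le_normalizer_of_forall H L hnorm).trans
      (Cfsg.Agent.Lib.Helper12.AschG3.normalizer_le_subfieldSubgroup F₁ L hL B hB1)
  exact of_descent hF hn L H hHU hL F₁ r hr hcard B hB1
    (fun g hg => by
      obtain ⟨c, hc, h⟩ := hmult g hg
      exact ⟨c, h01 hc, h⟩) hH0

end Cfsg.Agent.Lib.Helper12.S5663U5
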