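import Mathlib
import Cfsg.Agent.Lib.Helper7.SpExtDefs

/-!
# S5664 FO-BR1 (helper12): bridge between `Geo.subalgebraNormalizer K` and `SpExt.Normalizes K.val`
(port of helper20's `S5886BR.mem_normalizer_iff` to a general index type)
-/

set_option autoImplicit false

namespace Cfsg.Agent.Lib.Helper12.S5664FOBR1

open Matrix Module Cfsg Cfsg.Agent.Lib.Helper7.SpExt

variable {F : Type*} [Field F] [Fintype F] {ι : Type} [Fintype ι] [DecidableEq ι]

/-- conjugation by `g` maps `K` into itself, hence onto itself (finite dimension) -/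
theorem conj_mem_iff (K : Subalgebra F (Matrix ι ι F)) (g : GL ι F)
    (h : ∀ k ∈ K, (g : Matrix ι ι F) * k * ((g⁻¹ : GL ι F) : Matrix ι ι F) ∈ K)
    (k : Matrix ι ι F) :
    k ∈ K ↔ (g : Matrix ι ι F) * k * ((g⁻¹ : GL ι F) : Matrix ι ι F) ∈ K := by
  refine ⟨h k, ?_⟩
  intro hk
  -- the linear map `c : K → K`
  let c : ↥K →ₗ[F] ↥K :=
    { toFun := fun a => ⟨(g : Matrix ι ι F) * a.1 *
        ((g⁻¹ : GL ι F) : Matrix ι ι F), h a.1 a.2⟩
      map_add' := by
        intro a b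
        apply Subtype.ext
        simp [Matrix.mul_add, Matrix.add_mul]
      map_smul' := by
        intro t a
        apply Subtype.ext
        simp }
  have hinj : Function.Injective c := by
    intro a b hab
    have h1 : (g : Matrix ι ι F) * a.1 * ((g⁻¹ : GL ι F) : Matrix ι ι F)
        = (g : Matrix ι ι F) * b.1 * ((g⁻¹ : GL ι F) : Matrix ι ι F) :=
      congrArg Subtype.val hab
    have h2 := congrArg (fun m => ((g⁻¹ : GL ι F) : Matrix ι ι F) * m *
      (g : Matrix ι ι F)) h1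
    have e : ∀ m : Matrix ι ι F, ((g⁻¹ : GL ι F) : Matrix ι ι F) *
        ((g : Matrix ι ι F) * m * ((g⁻¹ : GL ι F) : Matrix ι ι F)) *
        (g : Matrix ι ι F) = m := by
      intro m
      have e1 : ((g⁻¹ : GL ι F) : Matrix ι ι F) * (g : Matrix ι ι F) = 1 := by
        rw [← Units.val_mul, inv_mul_cancel, Units.val_one]
      calc _ = (((g⁻¹ : GL ι F) : Matrix ι ι F) * (g : Matrix ι ι F)) * m *
            (((g⁻¹ : GL ι F) : Matrix ι ι F) * (g : Matrix ι ι F)) := by
            simp only [Matrix.mul_assoc]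
        _ = m := by rw [e1, Matrix.one_mul, Matrix.mul_one]
    rw [e, e] at h2
    exact Subtype.ext h2
  have hsurj : Function.Surjective c := LinearMap.surjective_of_injective hinj
  obtain ⟨a, ha⟩ := hsurj ⟨_, hk⟩
  have h1 : (g : Matrix ι ι F) * a.1 * ((g⁻¹ : GL ι F) : Matrix ι ι F)
      = (g : Matrix ι ι F) * k * ((g⁻¹ : GL ι F) : Matrix ι ι F) :=
    congrArg Subtype.val ha
  have e1 : ((g⁻¹ : GL ι F) : Matrix ι ι F) * (g : Matrix ι ι F) = 1 := by
    rw [← Units.val_mul, inv_mul_cancel, Units.val_one]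
  have h2 := congrArg (fun m => ((g⁻¹ : GL ι F) : Matrix ι ι F) * m *
    (g : Matrix ι ι F)) h1
  have e : ∀ m : Matrix ι ι F, ((g⁻¹ : GL ι F) : Matrix ι ι F) *
      ((g : Matrix ι ι F) * m * ((g⁻¹ : GL ι F) : Matrix ι ι F)) *
      (g : Matrix ι ι F) = m := by
    intro m
    calc _ = (((g⁻¹ : GL ι F) : Matrix ι ι F) * (g : Matrix ι ι F)) * m *
          (((g⁻¹ : GL ι F) : Matrix ι ι F) * (g : Matrix ι ι F)) := by
          simp only [Matrix.mul_assoc]
      _ = m := by rw [e1, Matrix.one_mul, Matrix.mul_one]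
  rw [e, e] at h2
  rw [← h2]
  exact a.2

/-- FO-BR1 -/
theorem mem_normalizer_iff [Nonempty ι] {r : ℕ} (K : Subalgebra F (Matrix ι ι F))
    (hK : Cfsg.Geo.IsFieldSubalgebra r K) (g : GL ι F) :
    letI := fieldOf K hK
    g ∈ Cfsg.Geo.subalgebraNormalizer K ↔ Normalizes K.val g := by
  have e1 : ((g⁻¹ : GL ι F) : Matrix ι ι F) * (g : Matrix ι ι F) = 1 := by
    rw [← Units.val_mul, inv_mul_cancel, Units.val_one]
  have e2 : (g : Matrix ι ι F) * ((g⁻¹ : GL ι F) : Matrix ι ι F) = 1 := by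
    rw [← Units.val_mul, mul_inv_cancel, Units.val_one]
  constructor
  · intro hg a
    have h1 : (g : Matrix ι ι F) * a.1 * ((g⁻¹ : GL ι F) : Matrix ι ι F) ∈ K :=
      (hg a.1).1 a.2
    refine ⟨⟨_, h1⟩, ?_⟩
    change (g : Matrix ι ι F) * a.1 =
      (g : Matrix ι ι F) * a.1 * ((g⁻¹ : GL ι F) : Matrix ι ι F) *
        (g : Matrix ι ι F)
    rw [Matrix.mul_assoc _ _ (g : Matrix ι ι F), e1, Matrix.mul_one]
  · intro hg
    have h : ∀ k ∈ K, (g : Matrix ι ι F) * k *
        ((g⁻¹ : GL ι F) : Matrix ι ι F) ∈ K := by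
      intro k hk
      obtain ⟨b, hb⟩ := hg ⟨k, hk⟩
      have hb' : (g : Matrix ι ι F) * k = b.1 * (g : Matrix ι ι F) := hb
      rw [hb', Matrix.mul_assoc, e2, Matrix.mul_one]
      exact b.2
    intro k
    exact conj_mem_iff K g h k

end Cfsg.Agent.Lib.Helper12.S5664FOBR1
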