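import Mathlib
import Cfsg.Agent.Lib.Helper7.SpExtDefs
import Cfsg.Agent.Lib.Helper7.SpExtBas

/-!
# S5664 FO-BR3 (helper12): an `F`-transvection `T_{u,c}` does not normalise the embedded field
-/

set_option autoImplicit false

namespace Cfsg.Agent.Lib.Helper12.S5664FOBR3

open Matrix Module Cfsg.Agent.Lib.Helper7.SpExt

variable {F : Type*} [Field F] [Fintype F] {L : Type*} [Field L] [Algebra F L] {ι : Type} [Fintype ι]
  [DecidableEq ι] {ρ : L →ₐ[F] Matrix ι ι F} {f : (ι → F) →ₗ[F] (ι → F) →ₗ[F] F} {τ : L →ₗ[F] F}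
  {B : (ι → F) →ₗ[F] (ι → F) →ₗ[F] L} {r : ℕ}

omit [Fintype F] in
/-- `ρ c` is injective for `c ≠ 0` -/
theorem rho_injective {c : L} (hc : c ≠ 0) {v : ι → F} (hv : ρ c *ᵥ v = 0) : v = 0 := by
  have h1 : ρ c⁻¹ *ᵥ (ρ c *ᵥ v) = v := by
    rw [← rho_mul_mulVec, inv_mul_cancel₀ hc, rho_one_mulVec]
  rw [hv, Matrix.mulVec_zero] at h1
  exact h1.symm

omit [Fintype F] in
theorem exists_not_algebraMap (hrk : finrank F L = r) (hr : 2 ≤ r) :
    ∃ a : L, ∀ s : F, algebraMap F L s ≠ a := by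
  by_contra hcon
  push Not at hcon
  have : finrank F L ≤ 1 := by
    apply finrank_le_one (1 : L)
    intro w
    obtain ⟨s, hs⟩ := hcon w
    exact ⟨s, by rw [← hs, Algebra.algebraMap_eq_smul_one]⟩
  omega

omit [Fintype F] [DecidableEq ι] in
/-- the kernel of a functional on `ι → F`, `3 ≤ |ι|`, is not contained in a line -/
theorem exists_ker_not_mem_span (hn : 3 ≤ Fintype.card ι) (φ : (ι → F) →ₗ[F] F) (u : ι → F) :
    ∃ v, φ v = 0 ∧ v ∉ Submodule.span F {u} := by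
  by_contra hcon
  push Not at hcon
  have hle : LinearMap.ker φ ≤ Submodule.span F {u} := fun v hv => hcon v (LinearMap.mem_ker.mp hv)
  have h0 : finrank F (Submodule.span F {u}) ≤ 1 := by
    have := finrank_span_le_card (R := F) ({u} : Set (ι → F))
    simpa using this
  have h1 : finrank F (LinearMap.ker φ) ≤ 1 :=
    le_trans (Submodule.finrank_mono hle) h0
  have h2 := LinearMap.finrank_range_add_finrank_ker φ
  have h3 : finrank F (LinearMap.range φ) ≤ 1 := by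
    have := Submodule.finrank_le (LinearMap.range φ)
    rwa [finrank_self] at this
  rw [finrank_pi, ] at h2
  omega

omit [Fintype F] in
/-- **FO-BR3** -/
theorem tv_not_normalizes (S : SpStr ρ f τ B) (hrk : finrank F L = r) (hr : 2 ≤ r)
    (hn : 3 ≤ Fintype.card ι) (u : ι → F) (hu : u ≠ 0) (c : F) (hc : c ≠ 0) (g : GL ι F)
    (hg : IsTv f u c g) : ¬ Normalizes ρ g := by
  intro hN
  obtain ⟨a, ha⟩ := exists_not_algebraMap (F := F) (L := L) hrk hr
  obtain ⟨b, hb⟩ := hN a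
  -- the functional `φ v = c * f v u`
  let φ : (ι → F) →ₗ[F] F := c • (f.flip u)
  have hφ : ∀ v, φ v = c * f v u := fun v => rfl
  have hφu : φ u = 0 := by rw [hφ, f_alt S, mul_zero]
  obtain ⟨w₀, hw₀⟩ := S.nondeg u hu
  have hφw : φ w₀ ≠ 0 := by
    rw [hφ, f_skew S]
    exact mul_ne_zero hc (neg_ne_zero.mpr hw₀)
  -- action of the two sides
  have hact : ∀ v : ι → F, ρ a *ᵥ v + φ (ρ a *ᵥ v) • u = ρ b *ᵥ (v + φ v • u) := by
    intro v
    have h1 : ((g : Matrix ι ι F) * ρ a) *ᵥ v = (ρ b * (g : Matrix ι ι F)) *ᵥ v := by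
      rw [hb]
    rw [← Matrix.mulVec_mulVec, ← Matrix.mulVec_mulVec] at h1
    have h2 := hg (ρ a *ᵥ v)
    have h3 := hg v
    unfold act at h2 h3
    rw [h2, h3] at h1
    exact h1
  -- `b = a`
  have hba : b = a := by
    by_contra hne
    have hc' : b - a ≠ 0 := sub_ne_zero.mpr hne
    have key : ∀ v : ι → F, φ v = 0 → ρ (b - a) *ᵥ v = φ (ρ a *ᵥ v) • u := by
      intro v hv
      have := hact v
      rw [hv, zero_smul, add_zero] at this
      rw [map_sub, Matrix.sub_mulVec, ← this, add_sub_cancel_left]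
    obtain ⟨v₂, hv₂, hv₂u⟩ := exists_ker_not_mem_span hn φ u
    have h1 := key u hφu
    have h2 := key v₂ hv₂
    have h3 : ρ (b - a) *ᵥ (φ (ρ a *ᵥ v₂) • u - φ (ρ a *ᵥ u) • v₂) = 0 := by
      rw [Matrix.mulVec_sub, Matrix.mulVec_smul, Matrix.mulVec_smul, h1, h2, smul_smul, smul_smul,
        mul_comm, sub_self]
    have h4 := rho_injective hc' h3
    have hs1 : φ (ρ a *ᵥ u) = 0 := by
      by_contra hs
      apply hv₂u
      rw [Submodule.mem_span_singleton]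
      refine ⟨(φ (ρ a *ᵥ u))⁻¹ * φ (ρ a *ᵥ v₂), ?_⟩
      have h5 : φ (ρ a *ᵥ v₂) • u = φ (ρ a *ᵥ u) • v₂ := sub_eq_zero.mp h4
      rw [mul_smul, h5, smul_smul, inv_mul_cancel₀ hs, one_smul]
    rw [hs1, zero_smul] at h1
    exact hu (rho_injective hc' h1)
  -- `ρ a u ∈ F u`
  rw [hba] at hact
  have h7 := hact ((φ w₀)⁻¹ • w₀)
  have h71 : φ ((φ w₀)⁻¹ • w₀) = 1 := by
    rw [map_smul, smul_eq_mul, inv_mul_cancel₀ hφw]
  rw [h71, one_smul, Matrix.mulVec_add] at h7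
  have h8 : ρ a *ᵥ u = φ (ρ a *ᵥ ((φ w₀)⁻¹ • w₀)) • u := (add_left_cancel h7).symm
  have h9 : ρ (a - algebraMap F L (φ (ρ a *ᵥ ((φ w₀)⁻¹ • w₀)))) *ᵥ u = 0 := by
    rw [map_sub, Matrix.sub_mulVec, rho_algebraMap_mulVec, ← h8, sub_self]
  by_cases hz : a - algebraMap F L (φ (ρ a *ᵥ ((φ w₀)⁻¹ • w₀))) = 0
  · exact ha _ (sub_eq_zero.mp hz).symm
  · exact hu (rho_injective hz h9)

end Cfsg.Agent.Lib.Helper12.S5664FOBR3
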