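import Mathlib
import Cfsg.Agent.Lib.Helper28.TensUDefs
import Cfsg.Agent.Lib.Helper26.S5670T3cDefs
import Cfsg.Agent.Lib.Helper25.S5670FOHS

/-!
# S5670, sub-assembly T3c, piece B: `XS q M k₀` is an additive group (helper12)

NOTE: `XS_zero` needs `q ≠ 0` (for `q = 0` one has `hs 0 x 0 = ∑ i, x i`), so it takes `hF` like the other two.
-/

set_option autoImplicit false
set_option linter.unusedSectionVars false
set_option linter.unusedVariables false

namespace Cfsg.Agent.Lib.Helper12.S5670T3cB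

open Matrix Module
open Cfsg.Agent.Lib.Helper16.Tens Cfsg.Agent.Lib.Helper10.TensFund Cfsg.Agent.Lib.Helper28.TensU
  Cfsg.Agent.Lib.Helper26.T3c
open scoped Kronecker

variable {F : Type*} [Field F] [Fintype F] {a b : ℕ} {q : ℕ}
variable {M : Subgroup (GL (Fin a × Fin b) F)}

local notation "K" => Cfsg.Geo.kroneckerSubgroup a b F
local notation "V" => (Fin a × Fin b → F)

theorem hs_zero_left' {κ : Type*} [Fintype κ] (y : κ → F) : hs q (0 : κ → F) y = 0 := by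
  simp [hs]

theorem hs_zero_right_of_ne_zero {κ : Type*} [Fintype κ] (hq : q ≠ 0) (x : κ → F) : hs q x (0 : κ → F) = 0 := by
  simp [hs, hq]

theorem hs_neg_left' {κ : Type*} [Fintype κ] (x y : κ → F) : hs q (-x) y = - hs q x y := by
  simp [hs, Finset.sum_neg_distrib]

theorem skewM_zero_of_ne_zero (hq : q ≠ 0) : SkewM q (0 : Matrix (Fin a) (Fin a) F) := by
  intro x y
  rw [Matrix.zero_mulVec, Matrix.zero_mulVec, hs_zero_left', hs_zero_right_of_ne_zero hq, add_zero]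

theorem isZ_one (k₀ : Fin b → F) : IsZ q k₀ (0 : Matrix (Fin a) (Fin a) F) (1 : GL (Fin a × Fin b) F) := by
  intro v
  rw [act_one, Matrix.zero_mulVec]
  have : pur (0 : Fin a → F) k₀ = 0 := by
    funext p; simp [pur]
  rw [this, add_zero]

/-- T3c-B (a), for `q ≠ 0` -/
theorem XS_zero_of_ne_zero (hq : q ≠ 0) (k₀ : Fin b → F) : (0 : Matrix (Fin a) (Fin a) F) ∈ XS q M k₀ :=
  ⟨skewM_zero_of_ne_zero hq, 1, M.one_mem, isZ_one k₀⟩

/-- T3c-B (a) (with the extra hypothesis `hF`; the statement is false for `q = 0`) -/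
theorem XS_zero (hF : Fintype.card F = q ^ 2) (k₀ : Fin b → F) : (0 : Matrix (Fin a) (Fin a) F) ∈ XS q M k₀ :=
  XS_zero_of_ne_zero (Nat.pos_iff_ne_zero.mp (Cfsg.Agent.Lib.Helper25.S5670HS.q_pos hF)) k₀

theorem ctr_cj_pur_self (k₀ : Fin b → F) (hk : hs q k₀ k₀ = 0) (u : Fin a → F) :
    ctr (cj q k₀) (pur u k₀) = 0 := by
  rw [ctr_pur, ← hs_eq_dotProduct, hk, zero_smul]

/-- T3c-B (b) -/
theorem XS_add (hF : Fintype.card F = q ^ 2) (k₀ : Fin b → F) (hk : hs q k₀ k₀ = 0)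
    {S S' : Matrix (Fin a) (Fin a) F} (hS : S ∈ XS q M k₀) (hS' : S' ∈ XS q M k₀) :
    S + S' ∈ XS q M k₀ := by
  obtain ⟨hsk, g, hg, hgZ⟩ := hS
  obtain ⟨hsk', g', hg', hgZ'⟩ := hS'
  refine ⟨?_, g * g', M.mul_mem hg hg', ?_⟩
  · intro x y
    rw [Matrix.add_mulVec, Matrix.add_mulVec, Cfsg.Agent.Lib.Helper25.S5670HS.hs_add_left,
      Cfsg.Agent.Lib.Helper25.S5670HS.hs_add_right hF]
    have h1 := hsk x y
    have h2 := hsk' x y
    linear_combination h1 + h2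
  · intro v
    rw [act_mul, hgZ' v, hgZ, map_add, ctr_cj_pur_self k₀ hk, add_zero, Matrix.add_mulVec, pur_add_left]
    abel

/-- T3c-B (c) -/
theorem XS_neg (hF : Fintype.card F = q ^ 2) (k₀ : Fin b → F) (hk : hs q k₀ k₀ = 0)
    {S : Matrix (Fin a) (Fin a) F} (hS : S ∈ XS q M k₀) : -S ∈ XS q M k₀ := by
  obtain ⟨hsk, g, hg, hgZ⟩ := hS
  refine ⟨?_, g⁻¹, M.inv_mem hg, ?_⟩
  · intro x y
    rw [Matrix.neg_mulVec, Matrix.neg_mulVec, hs_neg_left']
    have h1 := hsk x y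
    have h2 : hs q x (-(S *ᵥ y)) = - hs q x (S *ᵥ y) := by
      have h3 := Cfsg.Agent.Lib.Helper25.S5670HS.hs_add_right hF x (S *ᵥ y) (-(S *ᵥ y))
      rw [add_neg_cancel, hs_zero_right_of_ne_zero
        (Nat.pos_iff_ne_zero.mp (Cfsg.Agent.Lib.Helper25.S5670HS.q_pos hF))] at h3
      linear_combination -h3
    rw [h2]
    linear_combination -h1
  · intro v
    have h1 : act g (v + pur (-S *ᵥ ctr (cj q k₀) v) k₀) = v := by
      rw [hgZ, map_add, ctr_cj_pur_self k₀ hk, add_zero, Matrix.neg_mulVec, pur_neg_left]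
      abel
    calc act g⁻¹ v = act g⁻¹ (act g (v + pur (-S *ᵥ ctr (cj q k₀) v) k₀)) := by rw [h1]
      _ = v + pur (-S *ᵥ ctr (cj q k₀) v) k₀ := act_inv_act g _

end Cfsg.Agent.Lib.Helper12.S5670T3cB
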