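import Mathlib
import Cfsg.Agent.Lib.Helper13.UOmDefs
import Cfsg.Agent.Lib.Helper13.S5700FOG0

/-!
# S5700 farm-out piece FO-I: irreducibility of `(Kv)^⊥ / Kv` under the unitary transvections
fixing `v` (for helper13's skeleton).  `irr_step_of_KX` takes the complement `X` of FO-G0 as a
hypothesis.
-/

set_option autoImplicit false
set_option linter.unusedSectionVars false
set_option linter.unusedVariables false

namespace Cfsg.Agent.Lib.Helper12.S5700I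

open Matrix Module QuadraticMap Cfsg.Agent.Lib.Helper6 Cfsg.Agent.Lib.Helper13
open Cfsg.Agent.Lib.Helper13.OND

universe u
variable {F : Type u} [Field F] [Fintype F] {ι : Type} [Fintype ι] [DecidableEq ι]
variable {Q : QuadraticForm F (ι → F)} {δ : Matrix ι ι F} {τ ν : F} {M : Subgroup (GL ι F)}

/-- one move with `polar y z = 0` puts `y` itself into `Lsub` -/
theorem mem_of_move (hU : UStr Q δ τ ν) (hM : ∀ y, Q y = 0 → SIn Q M y (δ *ᵥ y))
    {v : ι → F} (hv : Q v = 0) {y : ι → F} (hy : Q y = 0) (hyv : y ∈ KPerp Q δ v)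
    {z : ι → F} (hz : z ∈ Lsub M v hv) (h0 : polar (⇑Q) y z = 0)
    (hc : polar (⇑Q) (δ *ᵥ y) z ≠ 0) : y ∈ Lsub M v hv := by
  have h1 := Lsub_move hU hM hv hy hyv hz
  rw [h0, zero_smul, sub_zero] at h1
  have h2 := (Lsub M v hv).smul_mem (polar (⇑Q) (δ *ᵥ y) z)⁻¹ h1
  rwa [smul_smul, inv_mul_cancel₀ hc, one_smul] at h2

/-- spreading: if the `K`-line of `s` lies in `Lsub`, so does every singular `y` of `(Kv)^⊥`
not orthogonal to the `K`-line of `s` -/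
theorem spread (hU : UStr Q δ τ ν) (hM : ∀ y, Q y = 0 → SIn Q M y (δ *ᵥ y))
    {v : ι → F} (hv : Q v = 0) {s : ι → F} (hs : s ∈ Lsub M v hv)
    (hds : δ *ᵥ s ∈ Lsub M v hv) {y : ι → F} (hy : Q y = 0) (hyv : y ∈ KPerp Q δ v)
    (hys : y ∉ KPerp Q δ s) : y ∈ Lsub M v hv := by
  obtain ⟨α, hα⟩ : ∃ α, α = polar (⇑Q) y s := ⟨_, rfl⟩
  obtain ⟨β, hβ⟩ : ∃ β, β = polar (⇑Q) y (δ *ᵥ s) := ⟨_, rfl⟩
  have hne : β ≠ 0 ∨ -α ≠ 0 := by
    by_contra hcon
    push Not at hcon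
    apply hys
    refine mem_KPerp.mpr ⟨?_, ?_⟩
    · rw [polar_comm, ← hα]
      exact neg_eq_zero.mp hcon.2
    · rw [polar_comm, ← hβ]
      exact hcon.1
  have hD := hU.norm_ne hne
  have hu : (-β) • s + α • (δ *ᵥ s) ∈ Lsub M v hv :=
    (Lsub M v hv).add_mem ((Lsub M v hv).smul_mem _ hs) ((Lsub M v hv).smul_mem _ hds)
  apply mem_of_move hU hM hv hy hyv hu
  · rw [polar_add_right, polar_smul_right, polar_smul_right, ← hα, ← hβ]
    simp only [smul_eq_mul]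
    ring
  · rw [polar_add_right, polar_smul_right, polar_smul_right, hU.adj'' y s, hU.polar_dd, ← hα,
      ← hβ]
    intro h
    apply hD
    simp only [smul_eq_mul] at h
    linear_combination h

/-- FO-I with the complement `X` of FO-G0 as a hypothesis -/
theorem irr_step_of_KX (hU : UStr Q δ τ ν) (hn : 14 ≤ Fintype.card ι)
    (hM : ∀ y, Q y = 0 → SIn Q M y (δ *ᵥ y))
    (v : ι → F) (hv : Q v = 0)
    (X : Submodule F (ι → F)) (hX : NdOn Q X) (hXdim : Fintype.card ι ≤ finrank F X + 4)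
    (hXδ : ∀ x ∈ X, δ *ᵥ x ∈ X) (hXP : X ≤ KPerp Q δ v)
    (hdec : ∀ z ∈ KPerp Q δ v, ∃ k ∈ Kl δ v, ∃ x ∈ X, z = k + x)
    (w : ι → F) (hw : w ∈ Lsub M v hv) (hwP : w ∈ KPerp Q δ v) (hwK : w ∉ Kl δ v) :
    KPerp Q δ v ≤ Lsub M v hv := by
  have hKL : Kl δ v ≤ Lsub M v hv := Kl_le_Lsub hU hM hv
  have h3 : 3 ≤ finrank F X := by omega
  -- (a) a nonzero element of `X ∩ L`
  obtain ⟨k, hk, x0, hx0X, hwx⟩ := hdec w hwP
  have hx0L : x0 ∈ Lsub M v hv := by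
    have e : x0 = w - k := by rw [hwx]; abel
    rw [e]
    exact (Lsub M v hv).sub_mem hw (hKL hk)
  have hx00 : x0 ≠ 0 := by
    rintro rfl
    apply hwK
    rw [hwx, add_zero]
    exact hk
  -- (b) a nonzero singular element of `X ∩ L`
  obtain ⟨y0, hy0X, hy0⟩ := hX x0 hx0X hx00
  obtain ⟨y, hyX, hy, hyker⟩ := exists_singular_not_mem Q X (LinearMap.ker (polarBilin Q x0)) hX h3
    (fun hle => hy0 (by
      have := hle hy0X
      rwa [LinearMap.mem_ker, polarBilin_apply_apply] at this))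
  have hyx0 : polar (⇑Q) x0 y ≠ 0 := by
    intro h
    apply hyker
    rw [LinearMap.mem_ker, polarBilin_apply_apply]
    exact h
  have hy_ne : y ≠ 0 := by
    rintro rfl
    apply hyx0
    simp
  obtain ⟨z, hzdef⟩ :
      ∃ z, z = polar (⇑Q) (δ *ᵥ y) x0 • y - polar (⇑Q) y x0 • (δ *ᵥ y) := ⟨_, rfl⟩
  have hzL : z ∈ Lsub M v hv := by
    rw [hzdef]
    exact Lsub_move hU hM hv hy (hXP hyX) hx0L
  have hzX : z ∈ X := by
    rw [hzdef]
    exact X.sub_mem (X.smul_mem _ hyX) (X.smul_mem _ (hXδ y hyX))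
  have hzKl : z ∈ Kl δ y :=
    mem_Kl.mpr ⟨polar (⇑Q) (δ *ᵥ y) x0, -polar (⇑Q) y x0, by
      rw [hzdef, neg_smul, sub_eq_add_neg]⟩
  have hQz : Q z = 0 := hU.Q_Kl hy hzKl
  have hz0 : z ≠ 0 := by
    intro h0
    rw [hzdef, sub_eq_add_neg, ← neg_smul] at h0
    have := (hU.comb_eq_zero hy_ne h0).2
    apply hyx0
    rw [polar_comm]
    exact neg_eq_zero.mp this
  -- (c) a singular `y2 ∈ X ∩ L` with `polar y2 z = 0`, `polar (δ y2) z ≠ 0`
  obtain ⟨p, hpX, hQp, hzp⟩ := exists_partner Q X hX hzX hz0 hQz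
  obtain ⟨γ, hγ⟩ : ∃ γ, γ = polar (⇑Q) z (δ *ᵥ p) := ⟨_, rfl⟩
  have a1 : polar (⇑Q) p z = 1 := by rw [polar_comm]; exact hzp
  have a2 : polar (⇑Q) (δ *ᵥ p) z = γ := by rw [polar_comm, hγ]
  have a3 : polar (⇑Q) p (δ *ᵥ z) = τ - γ := by rw [hU.adj' p z, a1, a2, mul_one]
  have a4 : polar (⇑Q) (δ *ᵥ p) (δ *ᵥ z) = ν := by rw [hU.polar_dd, a1, mul_one]
  obtain ⟨y2, hy2def⟩ : ∃ y2, y2 = δ *ᵥ p - γ • p := ⟨_, rfl⟩
  have hy2X : y2 ∈ X := by
    rw [hy2def]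
    exact X.sub_mem (hXδ p hpX) (X.smul_mem _ hpX)
  have hQy2 : Q y2 = 0 := by
    apply hU.Q_Kl hQp
    exact mem_Kl.mpr ⟨-γ, 1, by rw [hy2def, neg_smul, one_smul]; abel⟩
  have hy2z : polar (⇑Q) y2 z = 0 := by
    rw [hy2def, polar_sub_left, polar_smul_left, a1, a2]
    simp
  have hy2dz : polar (⇑Q) y2 (δ *ᵥ z) = ν - γ * (τ - γ) := by
    rw [hy2def, polar_sub_left, polar_smul_left, a3, a4, smul_eq_mul]
  have hc : polar (⇑Q) (δ *ᵥ y2) z ≠ 0 := by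
    rw [hU.adj'' y2 z, hy2z, hy2dz]
    intro h
    apply hU.irr γ
    linear_combination -h
  have hy2L : y2 ∈ Lsub M v hv := mem_of_move hU hM hv hQy2 (hXP hy2X) hzL hy2z hc
  -- every singular `s ∈ X`, orthogonal to `y2` and to the `K`-line of `z`, lies in `L`
  have hsL : ∀ s ∈ X, Q s = 0 → polar (⇑Q) y2 s = 0 → s ∈ KPerp Q δ z → s ∈ Lsub M v hv := by
    intro s hsX hQs hy2s hsz
    obtain ⟨hzs, hdzs⟩ := mem_KPerp.mp hsz
    have hsz' : polar (⇑Q) s z = 0 := by rw [polar_comm]; exact hzs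
    have hsdz : polar (⇑Q) s (δ *ᵥ z) = 0 := by rw [polar_comm]; exact hdzs
    have hQ2 : Q (y2 + s) = 0 := by rw [Q_add, hQy2, hQs, hy2s]; ring
    have h1 : polar (⇑Q) (y2 + s) z = 0 := by rw [polar_add_left, hy2z, hsz', add_zero]
    have h2 : polar (⇑Q) (δ *ᵥ (y2 + s)) z ≠ 0 := by
      rw [mulVec_add, polar_add_left, hU.adj'' s z, hsz', hsdz]
      simpa using hc
    have h3 := mem_of_move hU hM hv hQ2 (hXP (X.add_mem hy2X hsX)) hzL h1 h2
    have e : s = (y2 + s) - y2 := by abel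
    rw [e]
    exact (Lsub M v hv).sub_mem h3 hy2L
  -- a singular `s'` with `K`-line in `L`
  have hcut := finrank_cut2 Q X z (δ *ᵥ z)
  obtain ⟨s', hs'P, hs'0, hQs', hy2s', hdy2s'⟩ := exists_singular_cut2 Q
    ((X ⊓ LinearMap.ker (polarBilin Q z)) ⊓ LinearMap.ker (polarBilin Q (δ *ᵥ z))) y2 (δ *ᵥ y2)
    (by omega)
  simp only [Submodule.mem_inf, LinearMap.mem_ker, polarBilin_apply_apply] at hs'P
  obtain ⟨⟨hs'X, hzs'⟩, hdzs'⟩ := hs'P
  have hs'Kz : s' ∈ KPerp Q δ z := mem_KPerp.mpr ⟨hzs', hdzs'⟩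
  have hs'L : s' ∈ Lsub M v hv := hsL s' hs'X hQs' hy2s' hs'Kz
  have hds'L : δ *ᵥ s' ∈ Lsub M v hv := by
    apply hsL (δ *ᵥ s') (hXδ s' hs'X) (hU.Q_delta hQs') _ (hU.delta_mem_KPerp hs'Kz)
    rw [hU.adj' y2 s', hy2s', hdy2s']
    ring
  -- (d) all singular vectors of `X` lie in `L`
  obtain ⟨p', hp'X, hQp', hsp'⟩ := exists_partner Q X hX hs'X hs'0 hQs'
  have hp'L : p' ∈ Lsub M v hv := by
    apply spread hU hM hv hs'L hds'L hQp' (hXP hp'X)
    intro h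
    have := (mem_KPerp.mp h).1
    rw [hsp'] at this
    exact one_ne_zero this
  have hsing : ∀ y'' ∈ X, Q y'' = 0 → y'' ∈ Lsub M v hv := by
    intro y'' hy''X hQy''
    by_cases hK : y'' ∈ KPerp Q δ s'
    · have hs'y'' : polar (⇑Q) s' y'' = 0 := (mem_KPerp.mp hK).1
      obtain ⟨u, hudef⟩ : ∃ u, u = y'' + p' - polar (⇑Q) y'' p' • s' := ⟨_, rfl⟩
      have huX : u ∈ X := by
        rw [hudef]
        exact X.sub_mem (X.add_mem hy''X hp'X) (X.smul_mem _ hs'X)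
      have hQu : Q u = 0 := by
        rw [hudef, Q_sub, Q_add, Q_smul, hQy'', hQp', hQs', polar_smul_right, polar_add_left,
          polar_comm (⇑Q) y'' s', hs'y'', polar_comm (⇑Q) p' s', hsp']
        simp only [smul_eq_mul]
        ring
      have hs'u : polar (⇑Q) s' u = 1 := by
        rw [hudef, polar_sub_right, polar_add_right, polar_smul_right, hs'y'', hsp', polar_self,
          hQs']
        simp
      have huL : u ∈ Lsub M v hv := by
        apply spread hU hM hv hs'L hds'L hQu (hXP huX)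
        intro h
        have := (mem_KPerp.mp h).1
        rw [hs'u] at this
        exact one_ne_zero this
      have e : y'' = u - p' + polar (⇑Q) y'' p' • s' := by rw [hudef]; abel
      rw [e]
      exact (Lsub M v hv).add_mem ((Lsub M v hv).sub_mem huL hp'L)
        ((Lsub M v hv).smul_mem _ hs'L)
    · exact spread hU hM hv hs'L hds'L hQy'' (hXP hy''X) hK
  have hXL : X ≤ Lsub M v hv := by
    by_contra hcon
    obtain ⟨z'', hz''X, hQz'', hz''L⟩ := exists_singular_not_mem Q X (Lsub M v hv) hX h3 hcon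
    exact hz''L (hsing z'' hz''X hQz'')
  intro t ht
  obtain ⟨k', hk', x', hx', rfl⟩ := hdec t ht
  exact (Lsub M v hv).add_mem (hKL hk') (hXL hx')

/-- FO-I: irreducibility of `(Kv)^⊥ / Kv` under the unitary transvections fixing `v` -/
theorem irr_step (hU : UStr Q δ τ ν) (hQ : (polarBilin Q).Nondegenerate)
    (hn : 14 ≤ Fintype.card ι) (hM : ∀ y, Q y = 0 → SIn Q M y (δ *ᵥ y))
    (v : ι → F) (hv0 : v ≠ 0) (hv : Q v = 0) (w : ι → F) (hw : w ∈ Lsub M v hv)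
    (hwP : w ∈ KPerp Q δ v) (hwK : w ∉ Kl δ v) : KPerp Q δ v ≤ Lsub M v hv := by
  obtain ⟨X, hX, hXdim, hXδ, hXP, -, hdec⟩ := exists_KX hU hQ hn v hv0 hv
  exact irr_step_of_KX hU hn hM v hv X hX hXdim hXδ hXP hdec w hw hwP hwK

end Cfsg.Agent.Lib.Helper12.S5700I
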