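import Mathlib
import Cfsg.Prelude.Def_GeometricClasses

/-!
# S5781 FO-CYC (helper12): characteristic abelian subgroups of a group with scalar commutators of order two

(a) `R ≤ GL ι F` containing the scalar `i₀` (`i₀² = -1`), all commutators `±1`, all squares `±1`: every characteristic
commutative subgroup is central.  (b) a central subgroup of a group with scalar commutant is cyclic.
-/

set_option autoImplicit false

namespace Cfsg.Agent.Lib.Helper12.S5781CYC

open Cfsg Cfsg.Geo
open scoped MatrixGroups Matrix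

variable {ι : Type} [Fintype ι] [DecidableEq ι] {F : Type*} [Field F]

/-- central elements are scalar when the commutant is scalar -/
theorem center_scalar (R : Subgroup (GL ι F))
    (habs : ∀ M : Matrix ι ι F, (∀ s ∈ matrixSet R, M * s = s * M) → ∃ c : F, M = c • (1 : Matrix ι ι F))
    (z : R) (hz : z ∈ Subgroup.center R) : ∃ c : F, ((z : GL ι F) : Matrix ι ι F) = c • (1 : Matrix ι ι F) := by
  apply habs
  rintro s ⟨g, hg, rfl⟩
  have h1 := (Subgroup.mem_center_iff.1 hz) ⟨g, hg⟩
  have h2 := congrArg (fun y : R => ((y : GL ι F) : Matrix ι ι F)) h1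
  simp only [Subgroup.coe_mul, Units.val_mul] at h2
  exact h2.symm

/-- FO-CYC (b) -/
theorem isCyclic_of_le_center [Finite F] (R : Subgroup (GL ι F))
    (habs : ∀ M : Matrix ι ι F, (∀ s ∈ matrixSet R, M * s = s * M) → ∃ c : F, M = c • (1 : Matrix ι ι F))
    (A : Subgroup R) (hA : A ≤ Subgroup.center R) : IsCyclic A := by
  rcases isEmpty_or_nonempty ι with hι | ⟨⟨i₀⟩⟩
  · have h1 : Subsingleton (GL ι F) := ⟨fun a b => Units.ext (Subsingleton.elim _ _)⟩
    have h2 : Subsingleton A := ⟨fun a b => Subtype.ext (Subtype.ext (Subsingleton.elim _ _))⟩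
    exact isCyclic_of_subsingleton
  · have hsc : ∀ z : A, ∃ c : F, (((z : R) : GL ι F) : Matrix ι ι F) = c • (1 : Matrix ι ι F) :=
      fun z => center_scalar R habs z (hA z.2)
    let f : A →* F :=
      { toFun := fun z => (((z : R) : GL ι F) : Matrix ι ι F) i₀ i₀
        map_one' := by simp
        map_mul' := by
          intro z w
          obtain ⟨c, hc⟩ := hsc z
          simp only [Subgroup.coe_mul, Units.val_mul]
          rw [hc, Matrix.smul_mul, Matrix.one_mul, Matrix.smul_apply, Matrix.smul_apply, Matrix.one_apply_eq,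
            smul_eq_mul, smul_eq_mul, mul_one] }
    have hinj : Function.Injective f := by
      intro z w hzw
      obtain ⟨c, hc⟩ := hsc z
      obtain ⟨d, hd⟩ := hsc w
      have h1 : c = d := by
        have h2 : (((z : R) : GL ι F) : Matrix ι ι F) i₀ i₀ = (((w : R) : GL ι F) : Matrix ι ι F) i₀ i₀ := hzw
        rw [hc, hd, Matrix.smul_apply, Matrix.smul_apply, Matrix.one_apply_eq, smul_eq_mul, smul_eq_mul, mul_one,
          mul_one] at h2
        exact h2
      apply Subtype.ext
      apply Subtype.ext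
      apply Units.ext
      rw [hc, hd, h1]
    exact isCyclic_of_injective_ringHom f hinj

/-- FO-CYC (a) -/
theorem characteristic_le_center (R : Subgroup (GL ι F)) (h2 : (2 : F) ≠ 0) (i₀ : F) (hi : i₀ ^ 2 = -1)
    (hs : ∃ z ∈ R, (z : Matrix ι ι F) = i₀ • (1 : Matrix ι ι F))
    (hcomm : ∀ x ∈ R, ∀ y ∈ R, (x : Matrix ι ι F) * (y : Matrix ι ι F) = (y : Matrix ι ι F) * (x : Matrix ι ι F) ∨
      (x : Matrix ι ι F) * (y : Matrix ι ι F) = - ((y : Matrix ι ι F) * (x : Matrix ι ι F)))
    (hsq : ∀ x ∈ R, (x : Matrix ι ι F) * (x : Matrix ι ι F) = 1 ∨ (x : Matrix ι ι F) * (x : Matrix ι ι F) = -1)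
    (A : Subgroup R) (hA : A.Characteristic) (hAc : IsMulCommutative A) : A ≤ Subgroup.center R := by
  intro a ha
  rw [Subgroup.mem_center_iff]
  intro g
  by_contra hne
  have hga : ((g : GL ι F) : Matrix ι ι F) * ((a : GL ι F) : Matrix ι ι F) =
      - (((a : GL ι F) : Matrix ι ι F) * ((g : GL ι F) : Matrix ι ι F)) := by
    rcases hcomm g g.2 a a.2 with h | h
    · exfalso
      apply hne
      apply Subtype.ext
      apply Units.ext
      simpa only [Subgroup.coe_mul, Units.val_mul] using h
    · exact h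
  -- the element `t` with `t² = -1` anticommuting with `a`
  obtain ⟨t, htR, htt, hta⟩ : ∃ t ∈ R, (t : Matrix ι ι F) * (t : Matrix ι ι F) = -1 ∧
      (t : Matrix ι ι F) * ((a : GL ι F) : Matrix ι ι F) = - (((a : GL ι F) : Matrix ι ι F) * (t : Matrix ι ι F)) := by
    rcases hsq g g.2 with h | h
    · obtain ⟨z, hz, hzz⟩ := hs
      refine ⟨z * g, R.mul_mem hz g.2, ?_, ?_⟩
      · rw [Units.val_mul, hzz]
        simp only [Matrix.smul_mul, Matrix.mul_smul, Matrix.one_mul, smul_smul]
        rw [h, ← pow_two, hi, neg_smul, one_smul]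
      · rw [Units.val_mul, hzz, Matrix.smul_mul, Matrix.one_mul, Matrix.smul_mul, hga, Matrix.mul_smul, smul_neg]
    · exact ⟨g, g.2, h, hga⟩
  -- `C = 1 + t` is invertible
  have hhalf : (2 : F)⁻¹ * 2 = 1 := inv_mul_cancel₀ h2
  have hC1 : ((1 : Matrix ι ι F) + (t : Matrix ι ι F)) * ((2 : F)⁻¹ • ((1 : Matrix ι ι F) - (t : Matrix ι ι F))) = 1 := by
    rw [Matrix.mul_smul]
    have : ((1 : Matrix ι ι F) + (t : Matrix ι ι F)) * ((1 : Matrix ι ι F) - (t : Matrix ι ι F)) =
        (2 : F) • (1 : Matrix ι ι F) := by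
      rw [Matrix.add_mul, Matrix.mul_sub, Matrix.mul_sub, htt, Matrix.one_mul, Matrix.one_mul, Matrix.mul_one, two_smul]
      abel
    rw [this, smul_smul, hhalf, one_smul]
  have hC2 : ((2 : F)⁻¹ • ((1 : Matrix ι ι F) - (t : Matrix ι ι F))) * ((1 : Matrix ι ι F) + (t : Matrix ι ι F)) = 1 := by
    rw [Matrix.smul_mul]
    have : ((1 : Matrix ι ι F) - (t : Matrix ι ι F)) * ((1 : Matrix ι ι F) + (t : Matrix ι ι F)) =
        (2 : F) • (1 : Matrix ι ι F) := by
      rw [Matrix.sub_mul, Matrix.mul_add, Matrix.mul_add, htt, Matrix.one_mul, Matrix.one_mul, Matrix.mul_one, two_smul]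
      abel
    rw [this, smul_smul, hhalf, one_smul]
  let Cu : GL ι F := ⟨1 + (t : Matrix ι ι F), (2 : F)⁻¹ • ((1 : Matrix ι ι F) - (t : Matrix ι ι F)), hC1, hC2⟩
  have hCu : (Cu : Matrix ι ι F) = 1 + (t : Matrix ι ι F) := rfl
  have httt : ((t * t * t : GL ι F) : Matrix ι ι F) = - (t : Matrix ι ι F) := by
    rw [Units.val_mul, Units.val_mul, htt, Matrix.neg_mul, Matrix.one_mul]
  -- conjugation by `Cu` preserves `R`
  have hconj : ∀ x ∈ R, (Cu * x * Cu⁻¹ = x ∧ Cu⁻¹ * x * Cu = x) ∨
      (Cu * x * Cu⁻¹ = t * x ∧ Cu⁻¹ * x * Cu = t * t * t * x) := by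
    intro x hx
    rcases hcomm t htR x hx with h | h
    · left
      have h1 : Cu * x = x * Cu := by
        apply Units.ext
        rw [Units.val_mul, Units.val_mul, hCu, Matrix.add_mul, Matrix.mul_add, Matrix.one_mul, Matrix.mul_one, h]
      constructor
      · rw [h1, mul_assoc, mul_inv_cancel, mul_one]
      · calc Cu⁻¹ * x * Cu = Cu⁻¹ * (x * Cu) := mul_assoc _ _ _
          _ = Cu⁻¹ * (Cu * x) := by rw [h1]
          _ = x := by group
    · right
      have hxt : (x : Matrix ι ι F) * (t : Matrix ι ι F) = - ((t : Matrix ι ι F) * (x : Matrix ι ι F)) := by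
        rw [h, neg_neg]
      have hTXT : (t : Matrix ι ι F) * (x : Matrix ι ι F) * (t : Matrix ι ι F) = (x : Matrix ι ι F) := by
        rw [Matrix.mul_assoc, hxt, Matrix.mul_neg, ← Matrix.mul_assoc, htt, Matrix.neg_mul, Matrix.one_mul, neg_neg]
      have hTTX : (t : Matrix ι ι F) * ((t : Matrix ι ι F) * (x : Matrix ι ι F)) = - (x : Matrix ι ι F) := by
        rw [← Matrix.mul_assoc, htt, Matrix.neg_mul, Matrix.one_mul]
      have h1 : Cu * x = (t * x) * Cu := by
        apply Units.ext
        rw [Units.val_mul, Units.val_mul, Units.val_mul, hCu, Matrix.add_mul, Matrix.one_mul, Matrix.mul_add,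
          Matrix.mul_one, hTXT, add_comm]
      have hval : ((t * t * t * x : GL ι F) : Matrix ι ι F) = - ((t : Matrix ι ι F) * (x : Matrix ι ι F)) := by
        rw [Units.val_mul, httt, Matrix.neg_mul]
      have h3 : Cu * (t * t * t * x) = x * Cu := by
        apply Units.ext
        rw [Units.val_mul, hval, Units.val_mul, hCu, Matrix.add_mul, Matrix.one_mul, Matrix.mul_neg, hTTX, neg_neg,
          Matrix.mul_add, Matrix.mul_one, hxt, add_comm]
      constructor
      · rw [h1, mul_assoc, mul_inv_cancel, mul_one]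
      · calc Cu⁻¹ * x * Cu = Cu⁻¹ * (x * Cu) := mul_assoc _ _ _
          _ = Cu⁻¹ * (Cu * (t * t * t * x)) := by rw [h3]
          _ = t * t * t * x := by group
  have ht3R : t * t * t ∈ R := R.mul_mem (R.mul_mem htR htR) htR
  have hmem1 : ∀ x ∈ R, Cu * x * Cu⁻¹ ∈ R := by
    intro x hx
    rcases hconj x hx with h | h
    · rw [h.1]; exact hx
    · rw [h.1]; exact R.mul_mem htR hx
  have hmem2 : ∀ x ∈ R, Cu⁻¹ * x * Cu ∈ R := by
    intro x hx
    rcases hconj x hx with h | h
    · rw [h.2]; exact hx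
    · rw [h.2]; exact R.mul_mem ht3R hx
  let φ : R ≃* R :=
    { toFun := fun x => ⟨Cu * x * Cu⁻¹, hmem1 x x.2⟩
      invFun := fun x => ⟨Cu⁻¹ * x * Cu, hmem2 x x.2⟩
      left_inv := by
        intro x
        apply Subtype.ext
        show Cu⁻¹ * (Cu * x * Cu⁻¹) * Cu = x
        group
      right_inv := by
        intro x
        apply Subtype.ext
        show Cu * (Cu⁻¹ * x * Cu) * Cu⁻¹ = x
        group
      map_mul' := by
        intro x y
        apply Subtype.ext
        show Cu * ((x * y : R) : GL ι F) * Cu⁻¹ = (Cu * x * Cu⁻¹) * (Cu * y * Cu⁻¹)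
        rw [Subgroup.coe_mul]
        group }
  -- `φ a = t a ∈ A`
  have hφa : φ a ∈ A := by
    have := hA.fixed φ
    rw [← this] at ha
    exact ha
  have hφa' : ((φ a : R) : GL ι F) = t * a := by
    show Cu * a * Cu⁻¹ = t * a
    rcases hconj a a.2 with h | h
    · -- then `t a = a t`, contradiction with anticommutation unless the matrix ring is trivial
      exfalso
      have h1 : Cu * a = a * Cu := by
        have := h.1
        calc Cu * a = Cu * a * Cu⁻¹ * Cu := by group
          _ = a * Cu := by rw [this]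
      have h3 := congrArg (fun y : GL ι F => (y : Matrix ι ι F)) h1
      simp only [Units.val_mul, hCu, Matrix.add_mul, Matrix.mul_add, Matrix.one_mul, Matrix.mul_one] at h3
      have h4 : (t : Matrix ι ι F) * ((a : GL ι F) : Matrix ι ι F) =
          ((a : GL ι F) : Matrix ι ι F) * (t : Matrix ι ι F) := add_left_cancel h3
      -- so `2 a t = 0`
      have h5 : (2 : F) • (((a : GL ι F) : Matrix ι ι F) * (t : Matrix ι ι F)) = 0 := by
        rw [two_smul]
        nth_rewrite 1 [← h4]
        rw [hta]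
        exact neg_add_cancel _
      have h6 : ((a : GL ι F) : Matrix ι ι F) * (t : Matrix ι ι F) = 0 := by
        have := congrArg (fun M : Matrix ι ι F => (2 : F)⁻¹ • M) h5
        simpa only [smul_smul, hhalf, one_smul, smul_zero] using this
      have h7 : (1 : Matrix ι ι F) = 0 := by
        have : (((a : GL ι F) * t : GL ι F) : Matrix ι ι F) = 0 := by rw [Units.val_mul]; exact h6
        rw [← Units.mul_inv ((a : GL ι F) * t), this, Matrix.zero_mul]
      apply hne
      apply Subtype.ext
      apply Units.ext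
      have h8 : ∀ M : Matrix ι ι F, M = 0 := fun M => by rw [← Matrix.mul_one M, h7, Matrix.mul_zero]
      rw [h8 ((g * a : R) : GL ι F).1, h8 ((a * g : R) : GL ι F).1]
    · exact h.1
  -- commutativity of `A`
  have hcom : (⟨a, ha⟩ : A) * ⟨φ a, hφa⟩ = ⟨φ a, hφa⟩ * ⟨a, ha⟩ := hAc.is_comm.comm _ _
  have hcom' : (a : GL ι F) * (t * a) = (t * a) * a := by
    have := congrArg (fun y : A => ((y : R) : GL ι F)) hcom
    simp only [Subgroup.coe_mul] at this
    rw [hφa'] at this
    exact this
  have hat : (a : GL ι F) * t = t * a := by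
    have : (a : GL ι F) * t * a = t * a * a := by rw [mul_assoc]; exact hcom'
    exact mul_right_cancel this
  have h4 : ((a : GL ι F) : Matrix ι ι F) * (t : Matrix ι ι F) =
      (t : Matrix ι ι F) * ((a : GL ι F) : Matrix ι ι F) := by
    have := congrArg (fun y : GL ι F => (y : Matrix ι ι F)) hat
    simpa only [Units.val_mul] using this
  have h5 : (2 : F) • (((a : GL ι F) : Matrix ι ι F) * (t : Matrix ι ι F)) = 0 := by
    rw [two_smul]
    nth_rewrite 1 [h4]
    rw [hta]
    exact neg_add_cancel _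
  have h6 : ((a : GL ι F) : Matrix ι ι F) * (t : Matrix ι ι F) = 0 := by
    have := congrArg (fun M : Matrix ι ι F => (2 : F)⁻¹ • M) h5
    simpa only [smul_smul, hhalf, one_smul, smul_zero] using this
  have h7 : (1 : Matrix ι ι F) = 0 := by
    have : (((a : GL ι F) * t : GL ι F) : Matrix ι ι F) = 0 := by rw [Units.val_mul]; exact h6
    rw [← Units.mul_inv ((a : GL ι F) * t), this, Matrix.zero_mul]
  apply hne
  apply Subtype.ext
  apply Units.ext
  have h8 : ∀ M : Matrix ι ι F, M = 0 := fun M => by rw [← Matrix.mul_one M, h7, Matrix.mul_zero]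
  rw [h8 ((g * a : R) : GL ι F).1, h8 ((a * g : R) : GL ι F).1]

end Cfsg.Agent.Lib.Helper12.S5781CYC
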