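import Mathlib
import Cfsg.Prelude.Def_GeometricClasses
import Cfsg.Agent.Lib.Helper12.AschDescent

/-!
# S5802 hB, part a : rational structures from semilinear involutions

A `σ`-semilinear involution `Θ` of `F^n` (`σ` an involutive automorphism of the finite field `F`) has a basis of fixed
vectors (Hilbert 90, `AschDescent.exists_basis_fixed`); a matrix commuting with `Θ` has its entries in the fixed field
of `σ` with respect to such a basis.
-/

set_option autoImplicit false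
set_option linter.unusedSectionVars false
set_option linter.unusedVariables false

namespace Cfsg.Agent.Lib.Helper12.S5802HB

open Matrix Module Cfsg Cfsg.Geo Cfsg.Agent.Lib.Helper12.AschDescent

variable {F : Type*} [Field F] {n : ℕ}

/-- a `σ`-semilinear involution of `F^n` -/
structure SemiInv (σ : F ≃+* F) (Θ : (Fin n → F) → (Fin n → F)) : Prop where
  add : ∀ u v, Θ (u + v) = Θ u + Θ v
  smul : ∀ (c : F) v, Θ (c • v) = σ c • Θ v
  invol : ∀ v, Θ (Θ v) = v

namespace SemiInv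

variable {σ : F ≃+* F} {Θ : (Fin n → F) → (Fin n → F)}

theorem zero (h : SemiInv σ Θ) : Θ 0 = 0 := by
  have := h.add 0 0
  rw [add_zero] at this
  exact left_eq_add.mp this

theorem sum (h : SemiInv σ Θ) {κ : Type*} (s : Finset κ) (c : κ → F) (v : κ → Fin n → F) :
    Θ (∑ j ∈ s, c j • v j) = ∑ j ∈ s, σ (c j) • Θ (v j) := by
  classical
  induction s using Finset.induction_on with
  | empty => simp [h.zero]
  | insert a s ha ih => rw [Finset.sum_insert ha, Finset.sum_insert ha, h.add, h.smul, ih]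

/-- the matrix of `Θ ∘ σ` -/
def mat (Θ : (Fin n → F) → (Fin n → F)) : Matrix (Fin n) (Fin n) F :=
  Matrix.of fun i j => Θ (Pi.single j 1) i

theorem eq_mat (h : SemiInv σ Θ) (v : Fin n → F) : Θ v = mat Θ *ᵥ sv σ v := by
  have hv : v = ∑ j, v j • (Pi.single j 1 : Fin n → F) := by
    funext i
    rw [Finset.sum_apply, Finset.sum_eq_single i]
    · simp
    · intro j _ hji
      simp [Pi.single_eq_of_ne (Ne.symm hji)]
    · intro hi
      exact absurd (Finset.mem_univ i) hi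
  conv_lhs => rw [hv]
  rw [h.sum]
  funext i
  rw [Finset.sum_apply, Matrix.mulVec, dotProduct]
  apply Finset.sum_congr rfl
  intro j _
  rw [Pi.smul_apply, smul_eq_mul, mat, Matrix.of_apply, mul_comm]
  rfl

theorem mat_mul (h : SemiInv σ Θ) (hinv : ∀ a, σ (σ a) = a) : mat Θ * (mat Θ).map σ = 1 := by
  apply Matrix.toLin'.injective
  apply LinearMap.ext
  intro v
  rw [Matrix.toLin'_apply, Matrix.toLin'_one, LinearMap.id_apply, ← Matrix.mulVec_mulVec]
  have h1 := h.invol v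
  rw [h.eq_mat (Θ v), h.eq_mat v, sv_mulVec, sv_sv σ hinv] at h1
  exact h1

end SemiInv

/-- **descent** : a basis of fixed vectors, with respect to which every matrix commuting with `Θ` is rational -/
theorem exists_fixed_basis [Fintype F] (σ : F ≃+* F) (hne : σ ≠ RingEquiv.refl F) (hinv : ∀ a, σ (σ a) = a)
    (Θ : (Fin n → F) → (Fin n → F)) (h : SemiInv σ Θ) :
    ∃ P : GL (Fin n) F,
      (∀ x : Fin n → F, Θ ((P : Matrix (Fin n) (Fin n) F) *ᵥ x) = (P : Matrix (Fin n) (Fin n) F) *ᵥ sv σ x) ∧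
      (∀ u : Fin n → F, (∀ i, u i ∈ fixedField σ) →
        Θ ((P : Matrix (Fin n) (Fin n) F) *ᵥ u) = (P : Matrix (Fin n) (Fin n) F) *ᵥ u) ∧
      (∀ g : Matrix (Fin n) (Fin n) F, (∀ v, g *ᵥ Θ v = Θ (g *ᵥ v)) →
        ∀ i j, (((P⁻¹ : GL (Fin n) F) : Matrix (Fin n) (Fin n) F) * g *
          (P : Matrix (Fin n) (Fin n) F)) i j ∈ fixedField σ) := by
  have hBB := h.mat_mul hinv
  have hA : ((SemiInv.mat Θ).map σ).map σ * (SemiInv.mat Θ).map σ = 1 := by
    rw [map_map_inv σ hinv]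
    exact hBB
  obtain ⟨C, hC⟩ := exists_basis_fixed σ hne hinv ((SemiInv.mat Θ).map σ) hA
  have key : ∀ x : Fin n → F, Θ ((C : Matrix (Fin n) (Fin n) F) *ᵥ x) =
      (C : Matrix (Fin n) (Fin n) F) *ᵥ sv σ x := by
    intro x
    rw [h.eq_mat, sv_mulVec, hC, ← Matrix.mulVec_mulVec, Matrix.mulVec_mulVec, hBB, Matrix.one_mulVec]
  have hfix : ∀ u : Fin n → F, (∀ i, u i ∈ fixedField σ) → sv σ u = u := by
    intro u hu
    funext i
    exact hu i
  refine ⟨C, key, ?_, ?_⟩
  · intro u hu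
    rw [key, hfix u hu]
  · intro g hg i j
    rw [mem_fixedField]
    -- the `j`-th column
    have hw : Θ (g *ᵥ ((C : Matrix (Fin n) (Fin n) F) *ᵥ Pi.single j 1)) =
        g *ᵥ ((C : Matrix (Fin n) (Fin n) F) *ᵥ Pi.single j 1) := by
      rw [← hg, key]
      congr 2
      funext l
      by_cases hl : l = j
      · subst hl
        simp [sv]
      · simp [sv, Pi.single_eq_of_ne hl]
    have hCC : ((C⁻¹ : GL (Fin n) F) : Matrix (Fin n) (Fin n) F) * (C : Matrix (Fin n) (Fin n) F) = 1 := by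
      rw [← Units.val_mul, inv_mul_cancel, Units.val_one]
    have hCC' : (C : Matrix (Fin n) (Fin n) F) * ((C⁻¹ : GL (Fin n) F) : Matrix (Fin n) (Fin n) F) = 1 := by
      rw [← Units.val_mul, mul_inv_cancel, Units.val_one]
    have hx : ∀ w : Fin n → F, Θ w = w →
        sv σ (((C⁻¹ : GL (Fin n) F) : Matrix (Fin n) (Fin n) F) *ᵥ w) =
          ((C⁻¹ : GL (Fin n) F) : Matrix (Fin n) (Fin n) F) *ᵥ w := by
      intro w hw'
      have h1 : (C : Matrix (Fin n) (Fin n) F) *ᵥ
          (((C⁻¹ : GL (Fin n) F) : Matrix (Fin n) (Fin n) F) *ᵥ w) = w := by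
        rw [Matrix.mulVec_mulVec, hCC', Matrix.one_mulVec]
      have h2 := key (((C⁻¹ : GL (Fin n) F) : Matrix (Fin n) (Fin n) F) *ᵥ w)
      rw [h1, hw'] at h2
      have h3 : ((C⁻¹ : GL (Fin n) F) : Matrix (Fin n) (Fin n) F) *ᵥ w =
          ((C⁻¹ : GL (Fin n) F) : Matrix (Fin n) (Fin n) F) *ᵥ ((C : Matrix (Fin n) (Fin n) F) *ᵥ
            sv σ (((C⁻¹ : GL (Fin n) F) : Matrix (Fin n) (Fin n) F) *ᵥ w)) := congrArg _ h2
      rw [Matrix.mulVec_mulVec, hCC, Matrix.one_mulVec] at h3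
      exact h3.symm
    have hent : (((C⁻¹ : GL (Fin n) F) : Matrix (Fin n) (Fin n) F) * g * (C : Matrix (Fin n) (Fin n) F)) i j =
        (((C⁻¹ : GL (Fin n) F) : Matrix (Fin n) (Fin n) F) *ᵥ
          (g *ᵥ ((C : Matrix (Fin n) (Fin n) F) *ᵥ Pi.single j 1))) i := by
      rw [Matrix.mulVec_mulVec, Matrix.mulVec_mulVec, Matrix.mulVec_single_one]
      rfl
    rw [hent]
    exact congrFun (hx _ hw) i

end Cfsg.Agent.Lib.Helper12.S5802HB
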