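import Mathlib

/-!
# S5802 hB, part b : the fields with `4` and `64` elements

`F` has `4` elements, `L` is an extension of degree `3`.
-/

set_option autoImplicit false
set_option linter.unusedSectionVars false
set_option linter.unusedVariables false

namespace Cfsg.Agent.Lib.Helper12.S5802HB

open Module

variable {F L : Type*} [Field F] [Fintype F] [Field L] [Algebra F L] [Finite L]

theorem two_eq_zero_F (hF : Fintype.card F = 4) : (2 : F) = 0 := by
  have h3 : Fintype.card F % 2 = 0 := by rw [hF]
  have h4 : ringChar F = 2 := FiniteField.even_card_iff_char_two.mpr h3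
  have : CharP F 2 := ringChar.of_eq h4
  exact_mod_cast (CharP.cast_eq_zero F 2)

theorem two_eq_zero_L (hF : Fintype.card F = 4) : (2 : L) = 0 := by
  have h := congrArg (algebraMap F L) (two_eq_zero_F hF)
  rw [map_ofNat, map_zero] at h
  exact h

theorem add_self_L (hF : Fintype.card F = 4) (z : L) : z + z = 0 := by
  rw [← two_mul, two_eq_zero_L (F := F) hF, zero_mul]

theorem add_self_F (hF : Fintype.card F = 4) (z : F) : z + z = 0 := by
  rw [← two_mul, two_eq_zero_F hF, zero_mul]

theorem pow_four_F (hF : Fintype.card F = 4) (c : F) : c ^ 4 = c := by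
  have := FiniteField.pow_card c
  rwa [hF] at this

theorem pow_64 (hF : Fintype.card F = 4) (hL : finrank F L = 3) (z : L) : z ^ 64 = z := by
  have : Fintype L := Fintype.ofFinite L
  have hc : Fintype.card L = 64 := by
    rw [Module.card_eq_pow_finrank (K := F) (V := L), hF, hL]
    norm_num
  have := FiniteField.pow_card z
  rwa [hc] at this

/-- squaring is injective -/
theorem sq_inj (hF : Fintype.card F = 4) {x y : L} (h : x ^ 2 = y ^ 2) : x = y := by
  have h1 : (x - y) ^ 2 = 0 := by
    have : (x - y) ^ 2 = x ^ 2 + y ^ 2 - (2 : L) * (x * y) := by ring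
    rw [this, two_eq_zero_L (F := F) hF, h, ← two_mul, two_eq_zero_L (F := F) hF]
    ring
  exact sub_eq_zero.mp ((pow_eq_zero_iff (two_ne_zero)).mp h1)

/-- the elements of `F` inside `L` -/
theorem mem_range_of_pow_four (hF : Fintype.card F = 4) (z : L) (hz : z ^ 4 = z) :
    z ∈ Set.range (algebraMap F L) := by
  have : FiniteDimensional F L := inferInstance
  rw [IsGalois.mem_range_algebraMap_iff_fixed]
  intro f
  obtain ⟨j, hj⟩ := (FiniteField.bijective_frobeniusAlgEquivOfAlgebraic_pow F L).2 f
  have hj' : FiniteField.frobeniusAlgEquivOfAlgebraic F L ^ j.1 = f := hj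
  rw [← hj', AlgEquiv.coe_pow]
  apply Function.iterate_fixed
  rw [FiniteField.coe_frobeniusAlgEquivOfAlgebraic, hF]
  exact hz

theorem mem_range_of_pow_three (hF : Fintype.card F = 4) (z : L) (hz : z ^ 3 = 1) :
    z ∈ Set.range (algebraMap F L) := by
  apply mem_range_of_pow_four hF
  rw [pow_succ, hz, one_mul]

/-- the trace -/
theorem trace_formula (hF : Fintype.card F = 4) (hL : finrank F L = 3) (z : L) :
    algebraMap F L (Algebra.trace F L z) = z + z ^ 4 + z ^ 16 := by
  rw [FiniteField.algebraMap_trace_eq_sum_pow, hL, Nat.card_eq_fintype_card, hF]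
  simp [Finset.sum_range_succ]

/-- a primitive cube root of unity -/
theorem exists_omega (hF : Fintype.card F = 4) : ∃ ω : F, ω ^ 2 + ω = 1 := by
  classical
  obtain ⟨x, hx0, hx1⟩ : ∃ x : F, x ≠ 0 ∧ x ≠ 1 := by
    by_contra hcon
    push Not at hcon
    have hsub : (Finset.univ : Finset F) ⊆ {0, 1} := by
      intro x _
      by_cases hx : x = 0
      · simp [hx]
      · simp [hcon x hx]
    have := Finset.card_le_card hsub
    rw [Finset.card_univ, hF] at this
    have h2 : ({0, 1} : Finset F).card ≤ 2 := Finset.card_le_two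
    omega
  refine ⟨x, ?_⟩
  have h4 := pow_four_F hF x
  have h3 : x ^ 3 = 1 := by
    have : x * (x ^ 3 - 1) = 0 := by linear_combination h4
    rcases mul_eq_zero.mp this with h | h
    · exact absurd h hx0
    · exact sub_eq_zero.mp h
  have h5 : (x - 1) * (x ^ 2 + x + 1) = 0 := by linear_combination h3
  rcases mul_eq_zero.mp h5 with h | h
  · exact absurd (sub_eq_zero.mp h) hx1
  · have h2 := add_self_F hF (1 : F)
    linear_combination h - h2

/-- an involutive ring endomorphism of `L` acting as squaring on `F` is `z ↦ z ^ 8` -/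
theorem tau_eq_pow (hF : Fintype.card F = 4) (hL : finrank F L = 3) (τ : L →+* L) (hττ : ∀ z, τ (τ z) = z)
    (hτc : ∀ c : F, τ (algebraMap F L c) = algebraMap F L (c ^ 2)) (z : L) : τ z = z ^ 8 := by
  have : FiniteDimensional F L := inferInstance
  -- `ψ z = τ (z ^ 2)` is an `F`-algebra endomorphism
  let ψ : L →ₐ[F] L :=
    { toFun := fun z => τ (z ^ 2)
      map_one' := by simp
      map_mul' := fun a b => by rw [mul_pow, map_mul]
      map_zero' := by simp
      map_add' := fun a b => by
        have : (a + b) ^ 2 = a ^ 2 + b ^ 2 + (2 : L) * (a * b) := by ring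
        rw [this, two_eq_zero_L (F := F) hF, zero_mul, add_zero, map_add]
      commutes' := fun c => by
        change τ ((algebraMap F L c) ^ 2) = algebraMap F L c
        rw [← map_pow, hτc, ← pow_mul]
        exact congrArg _ (pow_four_F hF c) }
  have hψ : ∀ x, ψ x = τ (x ^ 2) := fun x => rfl
  let ψ' : L ≃ₐ[F] L := AlgEquiv.ofBijective ψ (Algebra.IsAlgebraic.algHom_bijective ψ)
  have hψ' : ∀ x, ψ' x = τ (x ^ 2) := fun x => rfl
  obtain ⟨j, hj⟩ := (FiniteField.bijective_frobeniusAlgEquivOfAlgebraic_pow F L).2 ψ'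
  have hj' : FiniteField.frobeniusAlgEquivOfAlgebraic F L ^ j.1 = ψ' := hj
  have hφx : ∀ x : L, FiniteField.frobeniusAlgEquivOfAlgebraic F L x = x ^ 4 := by
    intro x
    rw [FiniteField.coe_frobeniusAlgEquivOfAlgebraic, hF]
  have hsq : ψ' * ψ' = FiniteField.frobeniusAlgEquivOfAlgebraic F L := by
    apply AlgEquiv.ext
    intro x
    rw [AlgEquiv.mul_apply, hψ', hψ', ← map_pow, hττ, hφx, ← pow_mul]
  rw [← hj', ← pow_add] at hsq
  have hord : orderOf (FiniteField.frobeniusAlgEquivOfAlgebraic F L) = 3 := by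
    rw [FiniteField.orderOf_frobeniusAlgEquivOfAlgebraic, hL]
  have hmod : j.1 + j.1 ≡ 1 [MOD 3] := by
    rw [← hord]
    apply (pow_eq_pow_iff_modEq).1
    rw [hsq, pow_one]
  have hj3 : j.1 < 3 := lt_of_lt_of_eq j.2 hL
  have hj2 : j.1 = 2 := by
    have : (j.1 + j.1) % 3 = 1 % 3 := hmod
    omega
  -- so `τ (z ^ 2) = z ^ 16`
  have h16 : τ (z ^ 2) = z ^ 16 := by
    rw [← hψ', ← hj', hj2, pow_two, AlgEquiv.mul_apply, hφx, hφx, ← pow_mul]
  apply sq_inj (F := F) hF
  rw [← map_pow, h16, ← pow_mul]

end Cfsg.Agent.Lib.Helper12.S5802HB
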