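import Mathlib
import Cfsg.Prelude.Def_GeometricClasses
import Cfsg.Prelude.Def_LieClassical
import Cfsg.Agent.Lib.Helper7.SpExtDefs
import Cfsg.Agent.Lib.Helper18.S5663U2
import Cfsg.Agent.Lib.Helper12.S5802HBb

/-!
# S5802 hB, part c : the `L`-valued Hermitian form of an adjoint-closed cubic field in `M₆(F₄)`

`ρ : L →ₐ[F] M₆(F)` an embedded field with `64` elements whose adjoint for the standard Hermitian form `h` is
`z ↦ z ^ 8`.  `hK x y ∈ L` is defined by `h (z x) y = Tr (hK x y * z)`; it is a non-degenerate Hermitian form on the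
`L`-plane `F⁶`, which has a hyperbolic pair.
-/

set_option autoImplicit false
set_option linter.unusedSectionVars false
set_option linter.unusedVariables false

namespace Cfsg.Agent.Lib.Helper12.S5802HB

open Matrix Module Cfsg Cfsg.Geo Cfsg.Agent.Lib.Helper7.SpExt

variable {F L : Type*} [Field F] [Fintype F] [Field L] [Algebra F L] [Finite L]

/-- the hypotheses -/
structure Setup (ρ : L →ₐ[F] Matrix (Fin 6) (Fin 6) F) : Prop where
  hF : Fintype.card F = 4
  hL : finrank F L = 3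
  adj : ∀ (z : L) (u v : Fin 6 → F),
    hermForm 6 F 2 (ρ z *ᵥ u) v = hermForm 6 F 2 u (ρ (z ^ 8) *ᵥ v)

section form

theorem hF2 (hF : Fintype.card F = 4) : Fintype.card F = 2 ^ 2 := by rw [hF]; norm_num

theorem h_add_left (hF : Fintype.card F = 4) (x y v : Fin 6 → F) :
    hermForm 6 F 2 (x + y) v = hermForm 6 F 2 x v + hermForm 6 F 2 y v :=
  (Cfsg.Agent.Lib.Helper18.S5663U2.adjForm_hermForm (hF2 hF)).add_left x y v

theorem h_smul_left (hF : Fintype.card F = 4) (c : F) (x v : Fin 6 → F) :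
    hermForm 6 F 2 (c • x) v = c * hermForm 6 F 2 x v :=
  (Cfsg.Agent.Lib.Helper18.S5663U2.adjForm_hermForm (hF2 hF)).smul_left c x v

theorem h_add_right (hF : Fintype.card F = 4) (v x y : Fin 6 → F) :
    hermForm 6 F 2 v (x + y) = hermForm 6 F 2 v x + hermForm 6 F 2 v y :=
  Cfsg.Agent.Lib.Helper18.S5663U2.hermForm_add_right (hF2 hF) v x y

theorem h_swap (hF : Fintype.card F = 4) (u v : Fin 6 → F) :
    hermForm 6 F 2 u v = (hermForm 6 F 2 v u) ^ 2 :=
  Cfsg.Agent.Lib.Helper18.S5663U2.hermForm_swap (hF2 hF) u v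

theorem h_nondeg (hF : Fintype.card F = 4) (x : Fin 6 → F) (hx : ∀ y, hermForm 6 F 2 x y = 0) : x = 0 := by
  by_contra hne
  obtain ⟨-, y, hy⟩ := (Cfsg.Agent.Lib.Helper18.S5663U2.adjForm_hermForm (n := 6) (hF2 hF)).nondeg x hne
  exact hy (hx y)

end form

section kform

variable (ρ : L →ₐ[F] Matrix (Fin 6) (Fin 6) F)

/-- the functional `z ↦ h (z x) y` -/
noncomputable def fnl (x y : Fin 6 → F) : Module.Dual F L where
  toFun z := hermForm 6 F 2 (ρ z *ᵥ x) y
  map_add' a b := by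
    rw [rho_add_mulVec]
    unfold hermForm
    rw [← Finset.sum_add_distrib]
    apply Finset.sum_congr rfl
    intro i _
    rw [Pi.add_apply, add_mul]
  map_smul' c a := by
    rw [rho_smul_mulVec]
    unfold hermForm
    rw [RingHom.id_apply, smul_eq_mul, Finset.mul_sum]
    apply Finset.sum_congr rfl
    intro i _
    rw [Pi.smul_apply, smul_eq_mul, mul_assoc]

/-- the `L`-valued Hermitian form -/
noncomputable def hK (x y : Fin 6 → F) : L :=
  ((Algebra.traceForm F L).toDual (traceForm_nondegenerate F L)).symm (fnl ρ x y)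

theorem trace_hK (x y : Fin 6 → F) (z : L) :
    Algebra.trace F L (hK ρ x y * z) = hermForm 6 F 2 (ρ z *ᵥ x) y := by
  have h := LinearMap.BilinForm.apply_toDual_symm_apply (B := Algebra.traceForm F L)
    (hB := traceForm_nondegenerate F L) (fnl ρ x y) z
  rw [Algebra.traceForm_apply] at h
  exact h

theorem eq_of_trace {a b : L} (h : ∀ z, Algebra.trace F L (a * z) = Algebra.trace F L (b * z)) : a = b := by
  have h1 := (traceForm_nondegenerate F L).1 (a - b) (fun z => by
    rw [Algebra.traceForm_apply, sub_mul, map_sub, h z, sub_self])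
  exact sub_eq_zero.mp h1

variable {ρ}

theorem trace_pow_eight (S : Setup ρ) (w : L) :
    Algebra.trace F L (w ^ 8) = (Algebra.trace F L w) ^ 2 := by
  apply (algebraMap F L).injective
  rw [map_pow (algebraMap F L), trace_formula S.hF S.hL, trace_formula S.hF S.hL]
  have h2 := two_eq_zero_L (F := F) (L := L) S.hF
  have h64 := pow_64 S.hF S.hL w
  have h128 : (w ^ 8) ^ 16 = w ^ 2 := by
    rw [← pow_mul]
    have : w ^ (8 * 16) = w ^ 64 * w ^ 64 := by rw [← pow_add]
    rw [this, h64]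
    ring
  rw [h128]
  have : (w + w ^ 4 + w ^ 16) ^ 2 = w ^ 2 + w ^ 8 + w ^ 32 +
      (2 : L) * (w * w ^ 4 + w * w ^ 16 + w ^ 4 * w ^ 16) := by ring
  rw [this, h2, zero_mul, add_zero]
  ring

theorem hK_smul_left (S : Setup ρ) (a : L) (x y : Fin 6 → F) : hK ρ (ρ a *ᵥ x) y = a * hK ρ x y := by
  apply eq_of_trace (F := F)
  intro z
  rw [trace_hK, ← rho_mul_mulVec, ← trace_hK]
  congr 1
  ring

theorem adj_right (S : Setup ρ) (a : L) (u v : Fin 6 → F) :
    hermForm 6 F 2 u (ρ a *ᵥ v) = hermForm 6 F 2 (ρ (a ^ 8) *ᵥ u) v := by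
  have h8 : (a ^ 8) ^ 8 = a := by rw [← pow_mul]; exact pow_64 S.hF S.hL a
  rw [S.adj, h8]

theorem hK_smul_right (S : Setup ρ) (a : L) (x y : Fin 6 → F) :
    hK ρ x (ρ a *ᵥ y) = a ^ 8 * hK ρ x y := by
  apply eq_of_trace (F := F)
  intro z
  rw [trace_hK, adj_right S, ← rho_mul_mulVec, ← trace_hK]
  congr 1
  ring

theorem hK_add_left (S : Setup ρ) (x x' y : Fin 6 → F) : hK ρ (x + x') y = hK ρ x y + hK ρ x' y := by
  apply eq_of_trace (F := F)
  intro z
  rw [add_mul, map_add, trace_hK, trace_hK, trace_hK, Matrix.mulVec_add, h_add_left S.hF]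

theorem hK_add_right (S : Setup ρ) (x y y' : Fin 6 → F) : hK ρ x (y + y') = hK ρ x y + hK ρ x y' := by
  apply eq_of_trace (F := F)
  intro z
  rw [add_mul, map_add, trace_hK, trace_hK, trace_hK, h_add_right S.hF]

theorem hK_swap (S : Setup ρ) (x y : Fin 6 → F) : hK ρ y x = (hK ρ x y) ^ 8 := by
  apply eq_of_trace (F := F)
  intro z
  have h1 : (hK ρ x y) ^ 8 * z = (hK ρ x y * z ^ 8) ^ 8 := by
    have h8 : (z ^ 8) ^ 8 = z := by rw [← pow_mul]; exact pow_64 S.hF S.hL z
    rw [mul_pow, h8]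
  rw [trace_hK, h1, trace_pow_eight S, trace_hK, h_swap S.hF, adj_right S]

theorem h_eq_trace (x y : Fin 6 → F) : hermForm 6 F 2 x y = Algebra.trace F L (hK ρ x y) := by
  have := trace_hK ρ x y 1
  rw [mul_one, rho_one_mulVec] at this
  exact this.symm

theorem hK_nondeg (S : Setup ρ) (x : Fin 6 → F) (hx : ∀ y, hK ρ x y = 0) : x = 0 := by
  apply h_nondeg S.hF
  intro y
  rw [h_eq_trace (ρ := ρ), hx, map_zero]

theorem hK_zero_left (S : Setup ρ) (y : Fin 6 → F) : hK ρ 0 y = 0 := by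
  have := hK_add_left S 0 0 y
  rw [add_zero] at this
  exact left_eq_add.mp this

theorem hK_zero_right (S : Setup ρ) (x : Fin 6 → F) : hK ρ x 0 = 0 := by
  have := hK_add_right S x 0 0
  rw [add_zero] at this
  exact left_eq_add.mp this

end kform

end Cfsg.Agent.Lib.Helper12.S5802HB
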