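import Mathlib
import Cfsg.Prelude.Def_GeometricClasses
import Cfsg.Prelude.Def_LieClassical
import Cfsg.Agent.Lib.Helper7.SpExtDefs
import Cfsg.Agent.Lib.Helper12.S5663U5A
import Cfsg.Agent.Lib.Helper12.S5802HBa
import Cfsg.Agent.Lib.Helper12.S5802HBc

/-!
# S5802 hB, part d : hyperbolic pair, coordinates and the semilinear involution

The `L`-plane `F⁶` with its Hermitian form `hK` has a hyperbolic pair `u₁, u₂`; `v = (hK v u₂) u₁ + (hK v u₁) u₂`;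
`Θ (a u₁ + b u₂) = a⁸ u₁ + b⁸ u₂` is a Frobenius-semilinear involution of `F⁶` whose fixed vectors form an `F₂`-form of
`F⁶` on which the Hermitian form `h` is alternating with values in `F₂`.
-/

set_option autoImplicit false
set_option linter.unusedSectionVars false
set_option linter.unusedVariables false

namespace Cfsg.Agent.Lib.Helper12.S5802HB

open Matrix Module Cfsg Cfsg.Geo Cfsg.Agent.Lib.Helper7.SpExt

variable {F L : Type*} [Field F] [Fintype F] [Field L] [Algebra F L] [Finite L]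
variable {ρ : L →ₐ[F] Matrix (Fin 6) (Fin 6) F}

theorem hK_smulF_left (S : Setup ρ) (c : F) (v x : Fin 6 → F) :
    hK ρ (c • v) x = algebraMap F L c * hK ρ v x := by
  rw [← rho_algebraMap_mulVec ρ c v, hK_smul_left S]

/-- `hK (·) x` as an `F`-linear map -/
noncomputable def hKlin (S : Setup ρ) (x : Fin 6 → F) : (Fin 6 → F) →ₗ[F] L where
  toFun v := hK ρ v x
  map_add' a b := hK_add_left S a b x
  map_smul' c a := by
    rw [RingHom.id_apply, hK_smulF_left S, Algebra.smul_def]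

theorem hK_self_pow (S : Setup ρ) (x : Fin 6 → F) : (hK ρ x x) ^ 8 = hK ρ x x := (hK_swap S x x).symm

theorem pow_seven_of_fixed {s : L} (hs : s ^ 8 = s) (h0 : s ≠ 0) : s ^ 7 = 1 := by
  have : s * s ^ 7 = s * 1 := by rw [mul_one, ← pow_succ', hs]
  exact mul_left_cancel₀ h0 this

theorem exists_pow_nine {s : L} (hs : s ^ 8 = s) : ∃ t : L, t ^ 9 = s := by
  by_cases h0 : s = 0
  · exact ⟨0, by rw [h0]; exact zero_pow (by norm_num)⟩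
  · refine ⟨s ^ 4, ?_⟩
    have h7 := pow_seven_of_fixed hs h0
    calc (s ^ 4) ^ 9 = (s ^ 7) ^ 5 * s := by ring
      _ = s := by rw [h7, one_pow, one_mul]

theorem hK_comb (S : Setup ρ) (a b c d : L) (u₁ u₂ : Fin 6 → F) :
    hK ρ (ρ a *ᵥ u₁ + ρ b *ᵥ u₂) (ρ c *ᵥ u₁ + ρ d *ᵥ u₂) =
      a * c ^ 8 * hK ρ u₁ u₁ + a * d ^ 8 * hK ρ u₁ u₂ + b * c ^ 8 * hK ρ u₂ u₁ + b * d ^ 8 * hK ρ u₂ u₂ := by
  simp only [hK_add_left S, hK_add_right S, hK_smul_left S, hK_smul_right S]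
  ring

theorem exists_isotropic (S : Setup ρ) : ∃ u : Fin 6 → F, u ≠ 0 ∧ hK ρ u u = 0 := by
  classical
  have : FiniteDimensional F L := inferInstance
  obtain ⟨x, hx⟩ : ∃ x : Fin 6 → F, x ≠ 0 := ⟨Pi.single 0 1, by
    intro h
    have := congrFun h 0
    simp at this⟩
  by_cases hp : hK ρ x x = 0
  · exact ⟨x, hx, hp⟩
  have hker : LinearMap.ker (hKlin S x) ≠ ⊥ := by
    apply LinearMap.ker_ne_bot_of_finrank_lt
    rw [S.hL, Module.finrank_fin_fun]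
    norm_num
  obtain ⟨y, hy, hy0⟩ := Submodule.exists_mem_ne_zero_of_ne_bot hker
  have hyx : hK ρ y x = 0 := hy
  have hxy : hK ρ x y = 0 := by rw [hK_swap S y x, hyx]; exact zero_pow (by norm_num)
  by_cases hr : hK ρ y y = 0
  · exact ⟨y, hy0, hr⟩
  have hp8 : (hK ρ x x) ^ 8 = hK ρ x x := hK_self_pow S x
  have hr8 : (hK ρ y y) ^ 8 = hK ρ y y := hK_self_pow S y
  have hs8 : (hK ρ x x * (hK ρ y y)⁻¹) ^ 8 = hK ρ x x * (hK ρ y y)⁻¹ := by rw [mul_pow, inv_pow, hp8, hr8]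
  obtain ⟨t, ht⟩ := exists_pow_nine hs8
  refine ⟨ρ 1 *ᵥ x + ρ t *ᵥ y, ?_, ?_⟩
  · intro h0
    have h1 : hK ρ (ρ 1 *ᵥ x + ρ t *ᵥ y) x = hK ρ x x := by
      rw [hK_add_left S, hK_smul_left S, hK_smul_left S, hyx]; ring
    rw [h0, hK_zero_left S] at h1
    exact hp h1.symm
  · rw [hK_comb S 1 t 1 t x y, hxy, hyx]
    have h9 : t * t ^ 8 = hK ρ x x * (hK ρ y y)⁻¹ := by rw [← pow_succ', ht]
    have h10 : t * t ^ 8 * hK ρ y y = hK ρ x x := by rw [h9, mul_assoc, inv_mul_cancel₀ hr, mul_one]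
    rw [h10]
    have := add_self_L (F := F) S.hF (hK ρ x x)
    linear_combination this

/-- a hyperbolic pair for `hK` -/
structure Hyp (ρ : L →ₐ[F] Matrix (Fin 6) (Fin 6) F) (u₁ u₂ : Fin 6 → F) : Prop where
  h11 : hK ρ u₁ u₁ = 0
  h22 : hK ρ u₂ u₂ = 0
  h12 : hK ρ u₁ u₂ = 1
  h21 : hK ρ u₂ u₁ = 1

theorem exists_hyperbolic (S : Setup ρ) : ∃ u₁ u₂ : Fin 6 → F, Hyp ρ u₁ u₂ := by
  obtain ⟨u₁, hu0, hu⟩ := exists_isotropic S
  obtain ⟨w, hw⟩ : ∃ w, hK ρ u₁ w ≠ 0 := by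
    by_contra hcon
    push Not at hcon
    exact hu0 (hK_nondeg S u₁ hcon)
  have he8 : (((hK ρ u₁ w)⁻¹) ^ 8) ^ 8 = (hK ρ u₁ w)⁻¹ := by rw [← pow_mul]; exact pow_64 S.hF S.hL _
  have h1 : hK ρ u₁ (ρ ((hK ρ u₁ w)⁻¹ ^ 8) *ᵥ w) = 1 := by
    rw [hK_smul_right S, he8, inv_mul_cancel₀ hw]
  obtain ⟨w', hw'⟩ : ∃ w', hK ρ u₁ w' = 1 := ⟨_, h1⟩
  have hw'1 : hK ρ w' u₁ = 1 := by rw [hK_swap S u₁ w', hw', one_pow]
  obtain ⟨ω, hω⟩ := exists_omega S.hF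
  have hp8 := hK_self_pow S w'
  have hω8 : (algebraMap F L ω) ^ 8 = (algebraMap F L ω) ^ 2 := by
    rw [← map_pow, ← map_pow]
    congr 1
    have h4 := pow_four_F S.hF ω
    calc ω ^ 8 = (ω ^ 4) ^ 2 := by ring
      _ = ω ^ 2 := by rw [h4]
  have hω1 : (algebraMap F L ω) ^ 2 + algebraMap F L ω = 1 := by
    rw [← map_pow, ← map_add, hω, map_one]
  have h2 := add_self_L (F := F) S.hF (hK ρ w' w')
  refine ⟨u₁, w' + ρ (algebraMap F L ω * hK ρ w' w') *ᵥ u₁, hu, ?_, ?_, ?_⟩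
  · simp only [hK_add_left S, hK_add_right S, hK_smul_left S, hK_smul_right S]
    rw [hu, hw', hw'1, mul_pow, hp8, hω8]
    linear_combination (hK ρ w' w') * hω1 + h2
  · simp only [hK_add_left S, hK_add_right S, hK_smul_left S, hK_smul_right S]
    rw [hu, hw', mul_zero, add_zero]
  · simp only [hK_add_left S, hK_add_right S, hK_smul_left S, hK_smul_right S]
    rw [hu, hw'1, mul_zero, add_zero]

section coords

variable {u₁ u₂ : Fin 6 → F}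

theorem hK_comb_two (S : Setup ρ) (H : Hyp ρ u₁ u₂) (a b : L) :
    hK ρ (ρ a *ᵥ u₁ + ρ b *ᵥ u₂) u₂ = a := by
  rw [hK_add_left S, hK_smul_left S, hK_smul_left S, H.h12, H.h22]; ring

theorem hK_comb_one (S : Setup ρ) (H : Hyp ρ u₁ u₂) (a b : L) :
    hK ρ (ρ a *ᵥ u₁ + ρ b *ᵥ u₂) u₁ = b := by
  rw [hK_add_left S, hK_smul_left S, hK_smul_left S, H.h11, H.h21]; ring

theorem hK_comb_hyp (S : Setup ρ) (H : Hyp ρ u₁ u₂) (a b c d : L) :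
    hK ρ (ρ a *ᵥ u₁ + ρ b *ᵥ u₂) (ρ c *ᵥ u₁ + ρ d *ᵥ u₂) = a * d ^ 8 + b * c ^ 8 := by
  rw [hK_comb S, H.h11, H.h12, H.h21, H.h22]; ring

/-- the coordinate map -/
noncomputable def Psi (ρ : L →ₐ[F] Matrix (Fin 6) (Fin 6) F) (u₁ u₂ : Fin 6 → F) : (L × L) →ₗ[F] (Fin 6 → F) where
  toFun p := ρ p.1 *ᵥ u₁ + ρ p.2 *ᵥ u₂
  map_add' p q := by
    rw [Prod.fst_add, Prod.snd_add, rho_add_mulVec, rho_add_mulVec]; abel
  map_smul' c p := by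
    rw [RingHom.id_apply, Prod.smul_fst, Prod.smul_snd, rho_smul_mulVec, rho_smul_mulVec, smul_add]

theorem Psi_apply (p : L × L) : Psi ρ u₁ u₂ p = ρ p.1 *ᵥ u₁ + ρ p.2 *ᵥ u₂ := rfl

theorem Psi_injective (S : Setup ρ) (H : Hyp ρ u₁ u₂) : Function.Injective (Psi ρ u₁ u₂) := by
  intro p q hpq
  have h1 : hK ρ (Psi ρ u₁ u₂ p) u₂ = hK ρ (Psi ρ u₁ u₂ q) u₂ := by rw [hpq]
  have h2 : hK ρ (Psi ρ u₁ u₂ p) u₁ = hK ρ (Psi ρ u₁ u₂ q) u₁ := by rw [hpq]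
  rw [Psi_apply, Psi_apply, hK_comb_two S H, hK_comb_two S H] at h1
  rw [Psi_apply, Psi_apply, hK_comb_one S H, hK_comb_one S H] at h2
  exact Prod.ext h1 h2

theorem Psi_surjective (S : Setup ρ) (H : Hyp ρ u₁ u₂) : Function.Surjective (Psi ρ u₁ u₂) := by
  have : FiniteDimensional F L := inferInstance
  apply (LinearMap.injective_iff_surjective_of_finrank_eq_finrank ?_).mp (Psi_injective S H)
  rw [Module.finrank_prod, S.hL, Module.finrank_fin_fun]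

theorem decomp (S : Setup ρ) (H : Hyp ρ u₁ u₂) (v : Fin 6 → F) :
    v = ρ (hK ρ v u₂) *ᵥ u₁ + ρ (hK ρ v u₁) *ᵥ u₂ := by
  obtain ⟨⟨a, b⟩, hab⟩ := Psi_surjective S H v
  rw [Psi_apply] at hab
  rw [← hab, hK_comb_two S H, hK_comb_one S H]

/-- the semilinear involution -/
noncomputable def Theta (ρ : L →ₐ[F] Matrix (Fin 6) (Fin 6) F) (u₁ u₂ : Fin 6 → F) (v : Fin 6 → F) : Fin 6 → F :=
  ρ ((hK ρ v u₂) ^ 8) *ᵥ u₁ + ρ ((hK ρ v u₁) ^ 8) *ᵥ u₂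

theorem Theta_comb (S : Setup ρ) (H : Hyp ρ u₁ u₂) (a b : L) :
    Theta ρ u₁ u₂ (ρ a *ᵥ u₁ + ρ b *ᵥ u₂) = ρ (a ^ 8) *ᵥ u₁ + ρ (b ^ 8) *ᵥ u₂ := by
  unfold Theta
  rw [hK_comb_two S H, hK_comb_one S H]

theorem add_pow_eight (S : Setup ρ) (a b : L) : (a + b) ^ 8 = a ^ 8 + b ^ 8 := by
  have h2 := two_eq_zero_L (F := F) (L := L) S.hF
  have e1 : ∀ x y : L, (x + y) ^ 2 = x ^ 2 + y ^ 2 := by
    intro x y
    have : (x + y) ^ 2 = x ^ 2 + y ^ 2 + (2 : L) * (x * y) := by ring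
    rw [this, h2, zero_mul, add_zero]
  calc (a + b) ^ 8 = (((a + b) ^ 2) ^ 2) ^ 2 := by ring
    _ = ((a ^ 2) ^ 2) ^ 2 + ((b ^ 2) ^ 2) ^ 2 := by rw [e1, e1, e1]
    _ = a ^ 8 + b ^ 8 := by ring

theorem Theta_smul_rho (S : Setup ρ) (H : Hyp ρ u₁ u₂) (a : L) (v : Fin 6 → F) :
    Theta ρ u₁ u₂ (ρ a *ᵥ v) = ρ (a ^ 8) *ᵥ Theta ρ u₁ u₂ v := by
  unfold Theta
  rw [hK_smul_left S, hK_smul_left S, mul_pow, mul_pow, Matrix.mulVec_add, rho_mul_mulVec, rho_mul_mulVec]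

theorem Theta_add (S : Setup ρ) (H : Hyp ρ u₁ u₂) (v w : Fin 6 → F) :
    Theta ρ u₁ u₂ (v + w) = Theta ρ u₁ u₂ v + Theta ρ u₁ u₂ w := by
  unfold Theta
  rw [hK_add_left S, hK_add_left S, add_pow_eight S, add_pow_eight S, rho_add_mulVec, rho_add_mulVec]
  abel

theorem Theta_invol (S : Setup ρ) (H : Hyp ρ u₁ u₂) (v : Fin 6 → F) :
    Theta ρ u₁ u₂ (Theta ρ u₁ u₂ v) = v := by
  have h1 : Theta ρ u₁ u₂ v = ρ ((hK ρ v u₂) ^ 8) *ᵥ u₁ + ρ ((hK ρ v u₁) ^ 8) *ᵥ u₂ := rfl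
  rw [h1, Theta_comb S H]
  have e : ∀ z : L, (z ^ 8) ^ 8 = z := fun z => by rw [← pow_mul]; exact pow_64 S.hF S.hL z
  rw [e, e]
  exact (decomp S H v).symm

theorem Theta_semiInv (S : Setup ρ) (H : Hyp ρ u₁ u₂) :
    SemiInv (Cfsg.Agent.Lib.Helper12.S5663U5A.frob (q := 2) (hF2 S.hF)) (Theta ρ u₁ u₂) where
  add := Theta_add S H
  smul c v := by
    rw [← rho_algebraMap_mulVec ρ c v, Theta_smul_rho S H, ← map_pow, Cfsg.Agent.Lib.Helper12.S5663U5A.frob_apply]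
    have h4 := pow_four_F S.hF c
    have : c ^ 8 = c ^ 2 := by
      calc c ^ 8 = (c ^ 4) ^ 2 := by ring
        _ = c ^ 2 := by rw [h4]
    rw [this, rho_algebraMap_mulVec]
  invol := Theta_invol S H

/-- the coordinates of a fixed vector are fixed -/
theorem fixed_coord (S : Setup ρ) (H : Hyp ρ u₁ u₂) (x : Fin 6 → F) (hx : Theta ρ u₁ u₂ x = x) :
    (hK ρ x u₂) ^ 8 = hK ρ x u₂ ∧ (hK ρ x u₁) ^ 8 = hK ρ x u₁ := by
  have h1 : Theta ρ u₁ u₂ x = ρ ((hK ρ x u₂) ^ 8) *ᵥ u₁ + ρ ((hK ρ x u₁) ^ 8) *ᵥ u₂ := rfl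
  constructor
  · have := hK_comb_two S H ((hK ρ x u₂) ^ 8) ((hK ρ x u₁) ^ 8)
    rw [← h1, hx] at this
    exact this.symm
  · have := hK_comb_one S H ((hK ρ x u₂) ^ 8) ((hK ρ x u₁) ^ 8)
    rw [← h1, hx] at this
    exact this.symm

/-- the `L`-form of two fixed vectors is fixed -/
theorem hK_fixed (S : Setup ρ) (H : Hyp ρ u₁ u₂) (x y : Fin 6 → F) (hx : Theta ρ u₁ u₂ x = x)
    (hy : Theta ρ u₁ u₂ y = y) :
    hK ρ x y = hK ρ x u₂ * hK ρ y u₁ + hK ρ x u₁ * hK ρ y u₂ := by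
  obtain ⟨hx2, hx1⟩ := fixed_coord S H x hx
  obtain ⟨hy2, hy1⟩ := fixed_coord S H y hy
  conv_lhs => rw [decomp S H x, decomp S H y]
  rw [hK_comb_hyp S H, hy1, hy2]

/-- the form `h` is `F₂`-valued on fixed vectors -/
theorem h_fixed (S : Setup ρ) (H : Hyp ρ u₁ u₂) (x y : Fin 6 → F) (hx : Theta ρ u₁ u₂ x = x)
    (hy : Theta ρ u₁ u₂ y = y) : (hermForm 6 F 2 x y) ^ 2 = hermForm 6 F 2 x y := by
  obtain ⟨hx2, hx1⟩ := fixed_coord S H x hx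
  obtain ⟨hy2, hy1⟩ := fixed_coord S H y hy
  rw [h_eq_trace (ρ := ρ), ← trace_pow_eight S, hK_fixed S H x y hx hy, add_pow_eight S, mul_pow, mul_pow,
    hx1, hx2, hy1, hy2]

/-- the form `h` is alternating on fixed vectors -/
theorem h_fixed_self (S : Setup ρ) (H : Hyp ρ u₁ u₂) (x : Fin 6 → F) (hx : Theta ρ u₁ u₂ x = x) :
    hermForm 6 F 2 x x = 0 := by
  rw [h_eq_trace (ρ := ρ), hK_fixed S H x x hx hx]
  have : hK ρ x u₂ * hK ρ x u₁ + hK ρ x u₁ * hK ρ x u₂ = 0 := by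
    have := add_self_L (F := F) S.hF (hK ρ x u₂ * hK ρ x u₁)
    linear_combination this
  rw [this, map_zero]

end coords

end Cfsg.Agent.Lib.Helper12.S5802HB
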