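import Mathlib
import Cfsg.Prelude.Def_GeometricClasses
import Cfsg.Prelude.Def_LieClassical
import Cfsg.Agent.Lib.Helper7.SpExtDefs
import Cfsg.Agent.Lib.Helper29.S5775Q4B
import Cfsg.Agent.Lib.Helper12.S5802HBd

/-!
# S5802 hB, part e : the normaliser of the cubic field inside `SU₆(2)` preserves the `F₂`-form up to scalars

`g` normalising `ρ L` (acting on it as `z ↦ z ^ (4 ^ j)`), unitary, of determinant `1` : then `g = c • m` with `c ∈ F`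
and `m` commuting with the semilinear involution `Θ`.
-/

set_option autoImplicit false
set_option linter.unusedSectionVars false
set_option linter.unusedVariables false
set_option linter.unusedSimpArgs false

namespace Cfsg.Agent.Lib.Helper12.S5802HB

open Matrix Module Cfsg Cfsg.Geo Cfsg.Agent.Lib.Helper7.SpExt Cfsg.Agent.Lib.Helper12.AschDescent

variable {F L : Type*} [Field F] [Fintype F] [Field L] [Algebra F L] [Finite L]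
variable {ρ : L →ₐ[F] Matrix (Fin 6) (Fin 6) F}

section frobpow

theorem add_pow_four (S : Setup ρ) (a b : L) : (a + b) ^ 4 = a ^ 4 + b ^ 4 := by
  have h2 := two_eq_zero_L (F := F) (L := L) S.hF
  have e1 : ∀ x y : L, (x + y) ^ 2 = x ^ 2 + y ^ 2 := by
    intro x y
    have : (x + y) ^ 2 = x ^ 2 + y ^ 2 + (2 : L) * (x * y) := by ring
    rw [this, h2, zero_mul, add_zero]
  calc (a + b) ^ 4 = ((a + b) ^ 2) ^ 2 := by ring
    _ = (a ^ 2) ^ 2 + (b ^ 2) ^ 2 := by rw [e1, e1]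
    _ = a ^ 4 + b ^ 4 := by ring

theorem add_pow_four_pow (S : Setup ρ) (j : ℕ) (a b : L) : (a + b) ^ (4 ^ j) = a ^ (4 ^ j) + b ^ (4 ^ j) := by
  induction j with
  | zero => simp
  | succ j ih => rw [pow_succ, pow_mul, pow_mul, pow_mul, ih, add_pow_four S]

theorem pow_four_pow_inj (S : Setup ρ) (j : ℕ) (a b : L) (h : a ^ (4 ^ j) = b ^ (4 ^ j)) : a = b := by
  induction j with
  | zero => simpa using h
  | succ j ih =>
    apply ih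
    have h' : ((a ^ (4 ^ j)) ^ 2) ^ 2 = ((b ^ (4 ^ j)) ^ 2) ^ 2 := by
      rw [← pow_mul, ← pow_mul, ← pow_mul, ← pow_mul]
      have : 4 ^ j * (2 * 2) = 4 ^ (j + 1) := by ring
      rw [this]
      exact h
    exact sq_inj S.hF (sq_inj S.hF h')

theorem pow_four_pow_surj (S : Setup ρ) (j : ℕ) (w : L) : ∃ z : L, z ^ (4 ^ j) = w := by
  have hinj : Function.Injective (fun z : L => z ^ (4 ^ j)) := fun a b h => pow_four_pow_inj S j a b h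
  exact Finite.surjective_of_injective hinj w

theorem trace_pow_four (S : Setup ρ) (w : L) : Algebra.trace F L (w ^ 4) = Algebra.trace F L w := by
  apply (algebraMap F L).injective
  rw [trace_formula S.hF S.hL, trace_formula S.hF S.hL]
  have h64 : (w ^ 4) ^ 16 = w := by rw [← pow_mul]; exact pow_64 S.hF S.hL w
  rw [h64]
  ring

theorem trace_pow_four_pow (S : Setup ρ) (j : ℕ) (w : L) :
    Algebra.trace F L (w ^ (4 ^ j)) = Algebra.trace F L w := by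
  induction j with
  | zero => simp
  | succ j ih => rw [pow_succ, pow_mul, trace_pow_four S, ih]

end frobpow

/-- a unitary matrix normalising `ρ L` acts on the `L`-form through the field automorphism -/
theorem hK_map (S : Setup ρ) (g : Matrix (Fin 6) (Fin 6) F) (j : ℕ)
    (hgj : ∀ z : L, g * ρ z = ρ (z ^ (4 ^ j)) * g)
    (hgU : ∀ u v, hermForm 6 F 2 (g *ᵥ u) (g *ᵥ v) = hermForm 6 F 2 u v) (x y : Fin 6 → F) :
    hK ρ (g *ᵥ x) (g *ᵥ y) = (hK ρ x y) ^ (4 ^ j) := by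
  apply eq_of_trace (F := F)
  intro z'
  obtain ⟨z, rfl⟩ := pow_four_pow_surj S j z'
  rw [trace_hK, Matrix.mulVec_mulVec, ← hgj, ← Matrix.mulVec_mulVec, hgU, ← trace_hK, ← mul_pow,
    trace_pow_four_pow S]

theorem u2_algebra (h2 : (2 : L) = 0) (a b c d : L) (r1 : a * c ^ 8 + c * a ^ 8 = 0)
    (r2 : b * d ^ 8 + d * b ^ 8 = 0) (r3 : a * d ^ 8 + c * b ^ 8 = 1) (r4 : b * c ^ 8 + d * a ^ 8 = 1) :
    a ^ 8 * (a * d + b * c) = a ∧ b ^ 8 * (a * d + b * c) = b ∧ c ^ 8 * (a * d + b * c) = c ∧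
      d ^ 8 * (a * d + b * c) = d := by
  refine ⟨?_, ?_, ?_, ?_⟩
  · linear_combination a * r4 + b * r1 - (a * b * c ^ 8) * h2
  · linear_combination a * r2 + b * r3 - (a * b * d ^ 8) * h2
  · linear_combination d * r1 + c * r4 - (c * d * a ^ 8) * h2
  · linear_combination d * r3 + c * r2 - (c * d * b ^ 8) * h2

theorem fix_scaled (z δ a : L) (hz : z ≠ 0) (hzδ : z ^ 8 * δ = z) (ha : a ^ 8 * δ = a) :
    (z⁻¹ * a) ^ 8 = z⁻¹ * a := by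
  have h1 : (z⁻¹ * a) ^ 8 * z = (z⁻¹ * a) * z := by
    calc (z⁻¹ * a) ^ 8 * z = (z⁻¹ * a) ^ 8 * (z ^ 8 * δ) := by rw [hzδ]
      _ = (z⁻¹ * z) ^ 8 * (a ^ 8 * δ) := by ring
      _ = a := by rw [inv_mul_cancel₀ hz, ha, one_pow, one_mul]
      _ = (z⁻¹ * a) * z := by rw [mul_comm z⁻¹ a, mul_assoc, inv_mul_cancel₀ hz, mul_one]
  exact mul_right_cancel₀ hz h1

theorem exists_scalar (S : Setup ρ) (a b c d : L) (r1 : a * c ^ 8 + c * a ^ 8 = 0)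
    (r2 : b * d ^ 8 + d * b ^ 8 = 0) (r3 : a * d ^ 8 + c * b ^ 8 = 1) (r4 : b * c ^ 8 + d * a ^ 8 = 1) :
    ∃ z : L, z ≠ 0 ∧ (z⁻¹ * a) ^ 8 = z⁻¹ * a ∧ (z⁻¹ * b) ^ 8 = z⁻¹ * b ∧ (z⁻¹ * c) ^ 8 = z⁻¹ * c ∧
      (z⁻¹ * d) ^ 8 = z⁻¹ * d := by
  have h2 := two_eq_zero_L (F := F) (L := L) S.hF
  obtain ⟨ha, hb, hc, hd⟩ := u2_algebra h2 a b c d r1 r2 r3 r4
  have hδ9 : (a * d + b * c) ^ 9 = 1 := by
    calc (a * d + b * c) ^ 9 = (a * d + b * c) ^ 8 * (a * d + b * c) := by ring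
      _ = (a ^ 8 * d ^ 8 + b ^ 8 * c ^ 8) * (a * d + b * c) := by rw [add_pow_eight S, mul_pow, mul_pow]
      _ = (a ^ 8 * (a * d + b * c)) * d ^ 8 + b ^ 8 * (c ^ 8 * (a * d + b * c)) := by ring
      _ = a * d ^ 8 + b ^ 8 * c := by rw [ha, hc]
      _ = 1 := by rw [mul_comm (b ^ 8) c]; exact r3
  obtain ⟨z, hz0, hzδ⟩ : ∃ z : L, z ≠ 0 ∧ z ^ 8 * (a * d + b * c) = z := by
    by_cases h1 : a * d + b * c = 1
    · exact ⟨1, one_ne_zero, by rw [h1]; ring⟩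
    · refine ⟨1 + (a * d + b * c), ?_, ?_⟩
      · intro h0
        apply h1
        have := add_self_L (F := F) S.hF (1 : L)
        linear_combination h0 - this
      · rw [add_pow_eight S, one_pow]
        linear_combination hδ9
  exact ⟨z, hz0, fix_scaled z _ a hz0 hzδ ha, fix_scaled z _ b hz0 hzδ hb, fix_scaled z _ c hz0 hzδ hc,
    fix_scaled z _ d hz0 hzδ hd⟩

variable {u₁ u₂ : Fin 6 → F}

/-- after division by a suitable element of `L`, `g` commutes with `Θ` -/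
theorem normalizer_descent (S : Setup ρ) (H : Hyp ρ u₁ u₂) (g : Matrix (Fin 6) (Fin 6) F) (j : ℕ)
    (hgj : ∀ z : L, g * ρ z = ρ (z ^ (4 ^ j)) * g)
    (hgU : ∀ u v, hermForm 6 F 2 (g *ᵥ u) (g *ᵥ v) = hermForm 6 F 2 u v) :
    ∃ z : L, z ≠ 0 ∧ ∀ v, (ρ z⁻¹ * g) *ᵥ Theta ρ u₁ u₂ v = Theta ρ u₁ u₂ ((ρ z⁻¹ * g) *ᵥ v) := by
  have h4 : 4 ^ j ≠ 0 := pow_ne_zero j (by norm_num)
  obtain ⟨a, c, hA⟩ : ∃ a c : L, g *ᵥ u₁ = ρ a *ᵥ u₁ + ρ c *ᵥ u₂ := ⟨_, _, decomp S H _⟩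
  obtain ⟨b, d, hB⟩ : ∃ b d : L, g *ᵥ u₂ = ρ b *ᵥ u₁ + ρ d *ᵥ u₂ := ⟨_, _, decomp S H _⟩
  have r1 : a * c ^ 8 + c * a ^ 8 = 0 := by
    have := hK_map S g j hgj hgU u₁ u₁
    rw [H.h11, zero_pow h4, hA, hK_comb_hyp S H] at this
    exact this
  have r2 : b * d ^ 8 + d * b ^ 8 = 0 := by
    have := hK_map S g j hgj hgU u₂ u₂
    rw [H.h22, zero_pow h4, hB, hK_comb_hyp S H] at this
    exact this
  have r3 : a * d ^ 8 + c * b ^ 8 = 1 := by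
    have := hK_map S g j hgj hgU u₁ u₂
    rw [H.h12, one_pow, hA, hB, hK_comb_hyp S H] at this
    exact this
  have r4 : b * c ^ 8 + d * a ^ 8 = 1 := by
    have := hK_map S g j hgj hgU u₂ u₁
    rw [H.h21, one_pow, hA, hB, hK_comb_hyp S H] at this
    exact this
  obtain ⟨z, hz0, fa, fb, fc, fd⟩ := exists_scalar S a b c d r1 r2 r3 r4
  refine ⟨z, hz0, ?_⟩
  -- semilinearity
  have hsemi : ∀ (w : L) (x : Fin 6 → F), (ρ z⁻¹ * g) *ᵥ (ρ w *ᵥ x) = ρ (w ^ (4 ^ j)) *ᵥ ((ρ z⁻¹ * g) *ᵥ x) := by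
    intro w x
    rw [Matrix.mulVec_mulVec, Matrix.mulVec_mulVec, Matrix.mul_assoc, hgj, ← Matrix.mul_assoc, ← Matrix.mul_assoc,
      ← map_mul, ← map_mul, mul_comm]
  have hm1 : (ρ z⁻¹ * g) *ᵥ u₁ = ρ (z⁻¹ * a) *ᵥ u₁ + ρ (z⁻¹ * c) *ᵥ u₂ := by
    rw [← Matrix.mulVec_mulVec, hA, Matrix.mulVec_add, ← rho_mul_mulVec, ← rho_mul_mulVec]
  have hm2 : (ρ z⁻¹ * g) *ᵥ u₂ = ρ (z⁻¹ * b) *ᵥ u₁ + ρ (z⁻¹ * d) *ᵥ u₂ := by
    rw [← Matrix.mulVec_mulVec, hB, Matrix.mulVec_add, ← rho_mul_mulVec, ← rho_mul_mulVec]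
  have hf1 : Theta ρ u₁ u₂ ((ρ z⁻¹ * g) *ᵥ u₁) = (ρ z⁻¹ * g) *ᵥ u₁ := by
    rw [hm1, Theta_comb S H, fa, fc]
  have hf2 : Theta ρ u₁ u₂ ((ρ z⁻¹ * g) *ᵥ u₂) = (ρ z⁻¹ * g) *ᵥ u₂ := by
    rw [hm2, Theta_comb S H, fb, fd]
  intro v
  obtain ⟨α, β, hv⟩ : ∃ α β : L, v = ρ α *ᵥ u₁ + ρ β *ᵥ u₂ := ⟨_, _, decomp S H v⟩
  rw [hv, Theta_comb S H, Matrix.mulVec_add, Matrix.mulVec_add, hsemi, hsemi, hsemi, hsemi, Theta_add S H,
    Theta_smul_rho S H, Theta_smul_rho S H, hf1, hf2, pow_right_comm α, pow_right_comm β]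

/-- the final membership -/
theorem mem_subfield (S : Setup ρ) (H : Hyp ρ u₁ u₂) (P : GL (Fin 6) F)
    (hP : ∀ m : Matrix (Fin 6) (Fin 6) F, (∀ v, m *ᵥ Theta ρ u₁ u₂ v = Theta ρ u₁ u₂ (m *ᵥ v)) →
      ∀ i j, (((P⁻¹ : GL (Fin 6) F) : Matrix (Fin 6) (Fin 6) F) * m * (P : Matrix (Fin 6) (Fin 6) F)) i j ∈
        fixedField (Cfsg.Agent.Lib.Helper12.S5663U5A.frob (q := 2) (hF2 S.hF)))
    (hdetK : ∀ z : L, (ρ z).det = 1 → z ^ 21 = 1)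
    (g : GL (Fin 6) F) (j : ℕ)
    (hgj : ∀ z : L, (g : Matrix (Fin 6) (Fin 6) F) * ρ z = ρ (z ^ (4 ^ j)) * (g : Matrix (Fin 6) (Fin 6) F))
    (hgU : ∀ u v, hermForm 6 F 2 ((g : Matrix (Fin 6) (Fin 6) F) *ᵥ u) ((g : Matrix (Fin 6) (Fin 6) F) *ᵥ v) =
      hermForm 6 F 2 u v)
    (hdet : (g : Matrix (Fin 6) (Fin 6) F).det = 1) :
    g ∈ subfieldSubgroup (fixedField (Cfsg.Agent.Lib.Helper12.S5663U5A.frob (q := 2) (hF2 S.hF))) P := by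
  obtain ⟨z, hz0, hcomm⟩ := normalizer_descent S H (g : Matrix (Fin 6) (Fin 6) F) j hgj hgU
  have hent := hP _ hcomm
  -- the determinant of `ρ z⁻¹`
  have hdet1 : (ρ z⁻¹).det = 1 := by
    have hM : ((((P⁻¹ : GL (Fin 6) F) : Matrix (Fin 6) (Fin 6) F) * (ρ z⁻¹ * (g : Matrix (Fin 6) (Fin 6) F)) *
        (P : Matrix (Fin 6) (Fin 6) F))).det = (ρ z⁻¹).det := by
      rw [Matrix.det_units_conj', Matrix.det_mul, hdet, mul_one]
    have hσ : ((ρ z⁻¹).det) ^ 2 = (ρ z⁻¹).det := by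
      rw [← hM, ← Cfsg.Agent.Lib.Helper12.S5663U5A.frob_apply (hF2 S.hF)]
      have h1 := RingHom.map_det ((Cfsg.Agent.Lib.Helper12.S5663U5A.frob (q := 2) (hF2 S.hF) : F ≃+* F) : F →+* F)
        ((((P⁻¹ : GL (Fin 6) F) : Matrix (Fin 6) (Fin 6) F) * (ρ z⁻¹ * (g : Matrix (Fin 6) (Fin 6) F)) *
        (P : Matrix (Fin 6) (Fin 6) F)))
      rw [RingHom.mapMatrix_apply] at h1
      have h2 : ((((P⁻¹ : GL (Fin 6) F) : Matrix (Fin 6) (Fin 6) F) * (ρ z⁻¹ * (g : Matrix (Fin 6) (Fin 6) F)) *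
        (P : Matrix (Fin 6) (Fin 6) F))).map
          ((Cfsg.Agent.Lib.Helper12.S5663U5A.frob (q := 2) (hF2 S.hF) : F ≃+* F) : F →+* F) =
          (((P⁻¹ : GL (Fin 6) F) : Matrix (Fin 6) (Fin 6) F) * (ρ z⁻¹ * (g : Matrix (Fin 6) (Fin 6) F)) *
        (P : Matrix (Fin 6) (Fin 6) F)) := by
        ext i j
        exact hent i j
      rw [h2] at h1
      exact h1
    have hne : (ρ z⁻¹).det ≠ 0 := by
      intro h0
      have h1 : (ρ z⁻¹).det * (ρ z).det = 1 := by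
        rw [← Matrix.det_mul, ← map_mul, inv_mul_cancel₀ hz0, map_one, Matrix.det_one]
      rw [h0, zero_mul] at h1
      exact zero_ne_one h1
    have : (ρ z⁻¹).det * (ρ z⁻¹).det = (ρ z⁻¹).det * 1 := by rw [mul_one, ← sq]; exact hσ
    exact mul_left_cancel₀ hne this
  have hz21 : z ^ 21 = 1 := by
    have := hdetK z⁻¹ hdet1
    rw [inv_pow, inv_eq_one] at this
    exact this
  obtain ⟨c, hc⟩ := mem_range_of_pow_three S.hF (z ^ 7) (by rw [← pow_mul]; exact hz21)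
  have hk8 : (z ^ 15) ^ 8 = z ^ 15 := by
    calc (z ^ 15) ^ 8 = (z ^ 21) ^ 5 * z ^ 15 := by ring
      _ = z ^ 15 := by rw [hz21, one_pow, one_mul]
  have hc0 : c ≠ 0 := by
    intro h0
    rw [h0, map_zero] at hc
    exact pow_ne_zero 7 hz0 hc.symm
  -- `m₂ = ρ (z ^ 15) * (ρ z⁻¹ * g)` commutes with `Θ`
  have hcomm2 : ∀ v, (ρ (z ^ 15) * (ρ z⁻¹ * (g : Matrix (Fin 6) (Fin 6) F))) *ᵥ Theta ρ u₁ u₂ v =
      Theta ρ u₁ u₂ ((ρ (z ^ 15) * (ρ z⁻¹ * (g : Matrix (Fin 6) (Fin 6) F))) *ᵥ v) := by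
    intro v
    calc (ρ (z ^ 15) * (ρ z⁻¹ * (g : Matrix (Fin 6) (Fin 6) F))) *ᵥ Theta ρ u₁ u₂ v
        = ρ (z ^ 15) *ᵥ ((ρ z⁻¹ * (g : Matrix (Fin 6) (Fin 6) F)) *ᵥ Theta ρ u₁ u₂ v) := by
          rw [Matrix.mulVec_mulVec]
      _ = ρ (z ^ 15) *ᵥ Theta ρ u₁ u₂ ((ρ z⁻¹ * (g : Matrix (Fin 6) (Fin 6) F)) *ᵥ v) := by rw [hcomm]
      _ = ρ ((z ^ 15) ^ 8) *ᵥ Theta ρ u₁ u₂ ((ρ z⁻¹ * (g : Matrix (Fin 6) (Fin 6) F)) *ᵥ v) := by rw [hk8]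
      _ = Theta ρ u₁ u₂ (ρ (z ^ 15) *ᵥ ((ρ z⁻¹ * (g : Matrix (Fin 6) (Fin 6) F)) *ᵥ v)) := by
          rw [Theta_smul_rho S H]
      _ = Theta ρ u₁ u₂ ((ρ (z ^ 15) * (ρ z⁻¹ * (g : Matrix (Fin 6) (Fin 6) F))) *ᵥ v) := by
          rw [Matrix.mulVec_mulVec]
  have hent2 := hP _ hcomm2
  have hg : (g : Matrix (Fin 6) (Fin 6) F) = c • (ρ (z ^ 15) * (ρ z⁻¹ * (g : Matrix (Fin 6) (Fin 6) F))) := by
    have h1 : c • (ρ (z ^ 15) * (ρ z⁻¹ * (g : Matrix (Fin 6) (Fin 6) F))) =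
        ρ (algebraMap F L c * z ^ 15 * z⁻¹) * (g : Matrix (Fin 6) (Fin 6) F) := by
      rw [map_mul, map_mul, AlgHom.commutes, Algebra.algebraMap_eq_smul_one, Matrix.mul_assoc, Matrix.mul_assoc,
        Matrix.smul_mul, Matrix.one_mul]
    rw [h1, hc]
    have h2 : z ^ 7 * z ^ 15 * z⁻¹ = 1 := by
      calc z ^ 7 * z ^ 15 * z⁻¹ = z ^ 21 * (z * z⁻¹) := by ring
        _ = 1 := by rw [hz21, mul_inv_cancel₀ hz0, mul_one]
    rw [h2, map_one, Matrix.one_mul]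
  refine Cfsg.Agent.Lib.Helper29.S5775Q4.mem_subfieldSubgroup_of_map _ P g c hc0
    (Matrix.of fun i j => ⟨_, hent2 i j⟩) ?_
  rw [Units.val_mul, Units.val_mul]
  conv_lhs => rw [hg]
  rw [Matrix.mul_smul, Matrix.smul_mul]
  congr 1

end Cfsg.Agent.Lib.Helper12.S5802HB
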