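import Mathlib
import Cfsg.Prelude.Def_GeometricClasses
import Cfsg.Prelude.Def_LieClassical
import Cfsg.Agent.Lib.Helper18.FormField
import Cfsg.Agent.Lib.Helper18.S5663U2
import Cfsg.Agent.Lib.Helper22.S5802HB
import Cfsg.Agent.Lib.Helper12.S5802HBe

/-!
# S5802 hB : `N(K) ∩ SU₆(2)` for an adjoint-closed cubic field `K ≤ M₆(F₄)` lies in a symplectic-type subfield group

`GU₂(8).3 ∩ SU₆(2) ≤ Sp₆(2) × 3`.
-/

set_option autoImplicit false
set_option linter.unusedSectionVars false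
set_option linter.unusedVariables false

namespace Cfsg.Agent.Lib.Helper12.S5802HB

open Matrix Module Cfsg Cfsg.Geo Cfsg.Agent.Lib.Helper18.AschC3 Cfsg.Agent.Lib.Helper18.FormField
  Cfsg.Agent.Lib.Helper12.AschDescent

theorem field3_le_subfield {F : Type*} [Field F] [Fintype F] (hF : Fintype.card F = 2 ^ 2)
    (K : Subalgebra F (Matrix (Fin 6) (Fin 6) F)) (hK : Cfsg.Geo.IsFieldSubalgebra 3 K)
    (hadj : Cfsg.Geo.IsAdjointClosedFor (Cfsg.hermForm 6 F 2) K) :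
    ∃ (F₀ : Subfield F) (P : Matrix.GeneralLinearGroup (Fin 6) F) (ζ : F),
      Fintype.card F = Nat.card F₀ ^ 2 ∧ ζ ≠ 0 ∧ ζ + ζ ^ 2 = 0 ∧
      Cfsg.Geo.IsFormRationalStructure (Cfsg.hermForm 6 F 2) F₀ ζ P ∧
      (∀ u : Fin 6 → F, (∀ i, u i ∈ F₀) →
        Cfsg.hermForm 6 F 2 ((P : Matrix (Fin 6) (Fin 6) F) *ᵥ u) ((P : Matrix (Fin 6) (Fin 6) F) *ᵥ u) = 0) ∧
      Cfsg.Geo.subalgebraNormalizer K ⊓ (Cfsg.GU 6 F 2 ⊓ Cfsg.Geo.specialLinear (Fin 6) F) ≤
        Cfsg.Geo.subfieldSubgroup F₀ P := by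
  classical
  let _instK : Field ↥K := fieldOf K hK
  have hF4 : Fintype.card F = 4 := by rw [hF]; norm_num
  have hL : finrank F ↥K = 3 := hK.finrank_eq
  have hf := Cfsg.Agent.Lib.Helper18.S5663U2.adjForm_hermForm (n := 6) hF
  -- the adjoint
  let τ : ↥K →+* ↥K := adjK hf K hK.comm hadj
  have hττ : ∀ x, τ (τ x) = x := fun x => adjFun_adjFun hf K hadj x
  have hcq : ∀ c : F, (c ^ 2) ^ 2 = c := by
    intro c
    rw [← pow_mul]
    exact pow_four_F hF4 c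
  have hτc : ∀ c : F, τ (algebraMap F ↥K c) = algebraMap F ↥K (c ^ 2) := by
    intro c
    apply Subtype.ext
    apply adjFun_eq hf K hadj
    intro u v
    change hermForm 6 F 2 ((algebraMap F (Matrix (Fin 6) (Fin 6) F) c) *ᵥ u) v =
      hermForm 6 F 2 u ((algebraMap F (Matrix (Fin 6) (Fin 6) F) (c ^ 2)) *ᵥ v)
    rw [Algebra.algebraMap_eq_smul_one, Algebra.algebraMap_eq_smul_one, Matrix.smul_mulVec, Matrix.smul_mulVec,
      Matrix.one_mulVec, Matrix.one_mulVec, hf.smul_left, Cfsg.Agent.Lib.Helper18.S5663U2.hermForm_smul_right, hcq]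
  have hτ8 : ∀ z : ↥K, τ z = z ^ 8 := tau_eq_pow hF4 hL τ hττ hτc
  have S : Setup (K.val) := by
    refine ⟨hF4, hL, ?_⟩
    intro z u v
    have h1 := adjFun_spec K hadj z u v
    have h2 : adjFun K hadj z = z ^ 8 := hτ8 z
    rw [h2] at h1
    exact h1
  obtain ⟨u₁, u₂, H⟩ := exists_hyperbolic S
  have hne := Cfsg.Agent.Lib.Helper12.S5663U5A.frob_ne_refl (q := 2) (hF2 S.hF)
  have hinv := Cfsg.Agent.Lib.Helper12.S5663U5A.frob_invol (q := 2) (hF2 S.hF)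
  obtain ⟨P, hP1, hP2, hP3⟩ := exists_fixed_basis
    (Cfsg.Agent.Lib.Helper12.S5663U5A.frob (q := 2) (hF2 S.hF)) hne hinv (Theta K.val u₁ u₂) (Theta_semiInv S H)
  refine ⟨fixedField (Cfsg.Agent.Lib.Helper12.S5663U5A.frob (q := 2) (hF2 S.hF)), P, 1, ?_, one_ne_zero, ?_, ?_,
    ?_, ?_⟩
  · exact card_eq_sq _ hne hinv
  · rw [one_pow]
    exact add_self_F hF4 1
  · intro u v hu hv
    rw [one_mul, mem_fixedField, Cfsg.Agent.Lib.Helper12.S5663U5A.frob_apply]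
    exact h_fixed S H _ _ (hP2 u hu) (hP2 v hv)
  · intro u hu
    exact h_fixed_self S H _ (hP2 u hu)
  · intro g hg
    obtain ⟨hgN, hgUS⟩ := Subgroup.mem_inf.mp hg
    obtain ⟨hgU, hgS⟩ := Subgroup.mem_inf.mp hgUS
    obtain ⟨j, hj⟩ := Cfsg.Agent.Lib.Helper22.S5802HB.conj_eq_pow K hK hgN
    refine mem_subfield S H P hP3 ?_ g j ?_ ?_ ?_
    · intro z hz
      have h1 := Cfsg.Agent.Lib.Helper22.S5802HB.pow_eq_one_of_det hF K hK z.2 hz
      apply Subtype.ext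
      rw [SubmonoidClass.coe_pow]
      exact h1
    · intro z
      have h1 := hj z z.2
      rw [hF4] at h1
      have h2 : (g : Matrix (Fin 6) (Fin 6) F) * (z : Matrix (Fin 6) (Fin 6) F) =
          (z : Matrix (Fin 6) (Fin 6) F) ^ (4 ^ j) * (g : Matrix (Fin 6) (Fin 6) F) := by
        rw [← h1, Matrix.mul_assoc, ← Units.val_mul, inv_mul_cancel, Units.val_one, Matrix.mul_one]
      change (g : Matrix (Fin 6) (Fin 6) F) * (z : Matrix (Fin 6) (Fin 6) F) =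
        ((z ^ (4 ^ j) : ↥K) : Matrix (Fin 6) (Fin 6) F) * (g : Matrix (Fin 6) (Fin 6) F)
      rw [SubmonoidClass.coe_pow]
      exact h2
    · intro u v
      exact hgU u v
    · have h1 : Matrix.GeneralLinearGroup.det g = 1 := hgS
      have h2 : ((Matrix.GeneralLinearGroup.det g : Fˣ) : F) = 1 := by rw [h1, Units.val_one]
      rw [Matrix.GeneralLinearGroup.val_det_apply] at h2
      exact h2

end Cfsg.Agent.Lib.Helper12.S5802HB
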