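import Cfsg.Agent.Lib.Helper12.SC3.PC2.Defs

set_option autoImplicit false

namespace Cfsg.Agent.Lib.Helper12.SC3.PC2.Q02

variable {X : Type*} [Group X]

/-- `Ω_k(N)` -/
def Om (N : Subgroup X) (hab : Ab N) (k : ℕ) : Subgroup X where
  carrier := {v | v ∈ N ∧ v ^ (2 ^ k) = 1}
  one_mem' := ⟨N.one_mem, one_pow _⟩
  mul_mem' := by
    rintro a b ⟨ha, ha'⟩ ⟨hb, hb'⟩
    refine ⟨N.mul_mem ha hb, ?_⟩
    have hc : Commute a b := hab a ha b hb
    rw [hc.mul_pow, ha', hb', one_mul]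
  inv_mem' := by
    rintro a ⟨ha, ha'⟩
    exact ⟨N.inv_mem ha, by rw [inv_pow, ha', inv_one]⟩

theorem mem_Om {N : Subgroup X} {hab : Ab N} {k : ℕ} {v : X} :
    v ∈ Om N hab k ↔ v ∈ N ∧ v ^ (2 ^ k) = 1 := Iff.rfl

theorem Om_le {N : Subgroup X} {hab : Ab N} (k : ℕ) : Om N hab k ≤ N := fun _ h => h.1

theorem Om_mono {N : Subgroup X} {hab : Ab N} {k l : ℕ} (h : k ≤ l) : Om N hab k ≤ Om N hab l := by
  intro v hv
  refine ⟨hv.1, ?_⟩
  obtain ⟨d, rfl⟩ := Nat.exists_eq_add_of_le h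
  rw [pow_add, pow_mul, hv.2, one_pow]

/-- the power hom `v ↦ v^(2^j)` on a subgroup `H ≤ N` -/
def pw (N : Subgroup X) (hab : Ab N) (H : Subgroup X) (hH : H ≤ N) (j : ℕ) : H →* X where
  toFun v := (v : X) ^ (2 ^ j)
  map_one' := by simp
  map_mul' := by
    intro a b
    have hc : Commute (a : X) (b : X) := hab a (hH a.2) b (hH b.2)
    simp only [Subgroup.coe_mul]
    exact hc.mul_pow _

theorem card_ker_pw [Finite X] (N : Subgroup X) (hab : Ab N) (l j : ℕ) (hjl : j ≤ l) :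
    Nat.card (pw N hab (Om N hab l) (Om_le l) j).ker = Nat.card (Om N hab j) := by
  apply Nat.card_congr
  refine ⟨fun v => ⟨v.1.1, ⟨v.1.2.1, v.2⟩⟩, fun v => ⟨⟨v.1, Om_mono hjl v.2⟩, v.2.2⟩, ?_, ?_⟩
  · intro v; rfl
  · intro v; rfl

theorem card_Om_succ [Finite X] (N : Subgroup X) (hab : Ab N) (k : ℕ) :
    Nat.card (Om N hab (k + 1)) =
      Nat.card (Om N hab k) * Nat.card (pw N hab (Om N hab (k + 1)) (Om_le (k + 1)) k).range := by
  rw [← card_ker_pw N hab (k + 1) k (Nat.le_succ k), ← Subgroup.index_ker, Subgroup.card_mul_index]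


theorem range_le [Finite X] {N : Subgroup X} (hab : Ab N) (hom : ∀ v ∈ N, v ^ 2 = 1 → v ∈ Om1Z X) (k : ℕ) :
    (pw N hab (Om N hab (k + 1)) (Om_le (k + 1)) k).range ≤ Om1Z X := by
  rintro r ⟨v, rfl⟩
  apply hom
  · exact N.pow_mem v.2.1 _
  · show ((v : X) ^ (2 ^ k)) ^ 2 = 1
    rw [← pow_mul, ← pow_succ]
    exact v.2.2

theorem range_inv [Finite X] {A : Subgroup (MulAut X)} {N : Subgroup X} (hab : Ab N) (hinv : Inv A N) (k : ℕ) :
    Inv A (pw N hab (Om N hab (k + 1)) (Om_le (k + 1)) k).range := by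
  rintro φ hφ r ⟨v, rfl⟩
  refine ⟨⟨φ v.1, ⟨hinv φ hφ _ v.2.1, ?_⟩⟩, ?_⟩
  · rw [← map_pow, v.2.2, map_one]
  · show (φ (v : X)) ^ (2 ^ k) = φ ((v : X) ^ (2 ^ k))
    rw [map_pow]

/-- if the `k`-th layer is trivial the chain stops -/
theorem Om_stab {N : Subgroup X} {hab : Ab N} {k : ℕ} (h : Om N hab (k + 1) = Om N hab k) :
    ∀ j, k ≤ j → Om N hab j = Om N hab k := by
  intro j hj
  induction j, hj using Nat.le_induction with
  | base => rfl
  | succ j hj ih =>
    apply le_antisymm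
    · intro v hv
      have h1 : v ^ 2 ∈ Om N hab j := by
        refine ⟨N.pow_mem hv.1 _, ?_⟩
        rw [← pow_mul, ← pow_succ']
        exact hv.2
      rw [ih] at h1
      have h2 : v ∈ Om N hab (k + 1) := by
        refine ⟨hv.1, ?_⟩
        rw [pow_succ', pow_mul]
        exact h1.2
      rw [h] at h2
      exact h2
    · exact Om_mono (Nat.le_succ_of_le hj)

theorem layer [Finite X] {A : Subgroup (MulAut X)} {N : Subgroup X} (hab : Ab N) (hinv : Inv A N)
    (hR4 : Nat.card (Om1Z X) = 4) (hom : ∀ v ∈ N, v ^ 2 = 1 → v ∈ Om1Z X)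
    (hirr : ∀ S : Subgroup X, S ≤ Om1Z X → Inv A S → S = ⊥ ∨ S = Om1Z X) (k : ℕ) :
    Om N hab (k + 1) = Om N hab k ∨ Nat.card (Om N hab (k + 1)) = Nat.card (Om N hab k) * 4 := by
  rcases hirr _ (range_le hab hom k) (range_inv hab hinv k) with h | h
  · left
    apply le_antisymm _ (Om_mono (Nat.le_succ k))
    intro v hv
    refine ⟨hv.1, ?_⟩
    have : (pw N hab (Om N hab (k + 1)) (Om_le (k + 1)) k) ⟨v, hv⟩ ∈
        (pw N hab (Om N hab (k + 1)) (Om_le (k + 1)) k).range := ⟨_, rfl⟩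
    rw [h, Subgroup.mem_bot] at this
    exact this
  · right
    rw [card_Om_succ, h, hR4]


theorem card_ker_pw_top [Finite X] (N : Subgroup X) (hab : Ab N) (j : ℕ) :
    Nat.card (pw N hab N le_rfl j).ker = Nat.card (Om N hab j) := by
  apply Nat.card_congr
  refine ⟨fun v => ⟨v.1.1, ⟨v.1.2, v.2⟩⟩, fun v => ⟨⟨v.1, v.2.1⟩, v.2.2⟩, ?_, ?_⟩
  · intro v; rfl
  · intro v; rfl

theorem homocyclic' [Finite X] {A : Subgroup (MulAut X)} {N : Subgroup X} (c : Ctx2 A N)
    (hR4 : Nat.card (Om1Z X) = 4)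
    (hom : ∀ v ∈ N, v ^ 2 = 1 → v ∈ Om1Z X)
    (hirr : ∀ S : Subgroup X, S ≤ Om1Z X → Inv A S → S = ⊥ ∨ S = Om1Z X) :
    ∃ n : ℕ, 2 ≤ n ∧ Nat.card N = 4 ^ n ∧ (∀ v ∈ N, v ^ (2 ^ n) = 1) ∧
      (∀ k ≤ n, ∀ v ∈ N, v ^ (2 ^ k) = 1 → ∃ u ∈ N, v = u ^ (2 ^ (n - k))) := by
  classical
  have hab := c.ab
  have hex : ∃ m, Om N hab m = N := by
    obtain ⟨m, hm⟩ := (c.hyp.two.to_subgroup N).exists_card_eq
    refine ⟨m, le_antisymm (Om_le m) ?_⟩
    intro v hv
    refine ⟨hv, ?_⟩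
    have h1 : (⟨v, hv⟩ : N) ^ Nat.card N = 1 := pow_card_eq_one'
    rw [hm] at h1
    have h2 := congrArg Subtype.val h1
    simpa using h2
  have hn : Om N hab (Nat.find hex) = N := Nat.find_spec hex
  have hmin : ∀ k < Nat.find hex, Om N hab k ≠ N := fun k hk => Nat.find_min hex hk
  generalize Nat.find hex = n at hn hmin
  have hstrict : ∀ k < n, Nat.card (Om N hab (k + 1)) = Nat.card (Om N hab k) * 4 := by
    intro k hk
    rcases layer hab c.inv hR4 hom hirr k with h | h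
    · exfalso
      have h1 := Om_stab h n (le_of_lt hk)
      exact hmin k hk (h1 ▸ hn)
    · exact h
  have hcard : ∀ k ≤ n, Nat.card (Om N hab k) = 4 ^ k := by
    intro k
    induction k with
    | zero =>
      intro _
      have : Om N hab 0 = ⊥ := by
        rw [eq_bot_iff]
        intro v hv
        have := hv.2
        rw [pow_zero, pow_one] at this
        rw [Subgroup.mem_bot]
        exact this
      rw [this, pow_zero]
      exact Subgroup.card_bot
    | succ k ih =>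
      intro hk
      rw [hstrict k (by omega), ih (by omega), pow_succ]
  have hN4 : Nat.card N = 4 ^ n := by
    have := hcard n le_rfl
    rwa [hn] at this
  have h2n : 2 ≤ n := by
    by_contra hlt
    apply c.ncen
    have hle : N ≤ Om N hab 1 := by
      calc N = Om N hab n := hn.symm
        _ ≤ Om N hab 1 := Om_mono (by omega)
    intro v hv
    have h1 := hle hv
    have h2 : v ^ 2 = 1 := by
      have := h1.2
      rwa [pow_one] at this
    exact (hom v hv h2).1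
  refine ⟨n, h2n, hN4, ?_, ?_⟩
  · intro v hv
    have : v ∈ Om N hab n := by rw [hn]; exact hv
    exact this.2
  · intro k hk v hv hvk
    have hvO : v ∈ Om N hab k := ⟨hv, hvk⟩
    have hrl : (pw N hab N le_rfl (n - k)).range ≤ Om N hab k := by
      rintro r ⟨u, rfl⟩
      refine ⟨N.pow_mem u.2 _, ?_⟩
      show ((u : X) ^ (2 ^ (n - k))) ^ (2 ^ k) = 1
      rw [← pow_mul, ← pow_add, Nat.sub_add_cancel hk]
      have : (u : X) ∈ Om N hab n := by rw [hn]; exact u.2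
      exact this.2
    have hcr : Nat.card (pw N hab N le_rfl (n - k)).range = 4 ^ k := by
      have h1 := Subgroup.card_mul_index (pw N hab N le_rfl (n - k)).ker
      rw [Subgroup.index_ker, card_ker_pw_top, hcard (n - k) (Nat.sub_le n k), hN4] at h1
      have h3 : (4 : ℕ) ^ n = 4 ^ (n - k) * 4 ^ k := by
        rw [← pow_add, Nat.sub_add_cancel hk]
      rw [h3] at h1
      exact Nat.eq_of_mul_eq_mul_left (by positivity) h1
    have heq : (pw N hab N le_rfl (n - k)).range = Om N hab k := by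
      apply Subgroup.eq_of_le_of_card_ge hrl
      rw [hcr, hcard k hk]
    rw [← heq] at hvO
    obtain ⟨u, hu⟩ := hvO
    exact ⟨u.1, u.2, hu.symm⟩

end Cfsg.Agent.Lib.Helper12.SC3.PC2.Q02
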