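import Cfsg.Agent.Lib.Helper12.SLBP1b
import Cfsg.Agent.Lib.Helper6.SLBP1Fin
import Cfsg.Agent.S2391

/-!
S4538 farm (architect helper24), SPARE of leaf [P1] (helper12): a nontrivial radical
`p`-subgroup `D` of `SL_n(F)` (`O_p(N(D)) = D`) has all `p`-regular elements of its centralizer
central.  Assembly of: the Borel–Tits flag (S2391), the unipotent radical of the flag
(`SLBP1a`, `SLBP1b`), the transvections of `V 1`, and helper6's last step (`SLBP1Fin`).
-/

set_option autoImplicit false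

namespace Cfsg.Agent.Lib.Helper24.SLB

open Matrix

variable {n : ℕ} {F : Type*} [Field F]

namespace Helper12

/-- the transvection `1 + v φᵀ` (`φ ⬝ᵥ v = 0`) as an element of `SL_n(F)` -/
def tvSL (v φ : Fin n → F) (h : φ ⬝ᵥ v = 0) : SpecialLinearGroup (Fin n) F :=
  ⟨1 + vecMulVec v φ, by
    rw [vecMulVec_eq (Fin 1), det_one_add_replicateCol_mul_replicateRow, h, add_zero]⟩

theorem tvSL_coe (v φ : Fin n → F) (h : φ ⬝ᵥ v = 0) :
    ((tvSL v φ h : SpecialLinearGroup (Fin n) F) : Matrix (Fin n) (Fin n) F)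
      = 1 + vecMulVec v φ := rfl

theorem tvSL_mulVec_sub (v φ : Fin n → F) (h : φ ⬝ᵥ v = 0) (w : Fin n → F) :
    ((tvSL v φ h : SpecialLinearGroup (Fin n) F) : Matrix (Fin n) (Fin n) F).mulVec w - w
      = (φ ⬝ᵥ w) • v := by
  rw [tvSL_coe, Matrix.add_mulVec, Matrix.one_mulVec, add_sub_cancel_left, vecMulVec_mulVec,
    op_smul_eq_smul]

/-- the transvections of `V 1` lie in the unipotent radical of the flag -/
theorem tvSL_isFlagUnip {k : ℕ} (V : Fin (k + 2) → Submodule F (Fin n → F)) (hmono : Monotone V)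
    (v φ : Fin n → F) (hv : v ∈ V (Fin.succ 0)) (hφ : ∀ w ∈ V (Fin.succ 0), φ ⬝ᵥ w = 0) :
    IsFlagUnip V (tvSL v φ (hφ v hv)) := by
  intro i w hw
  rw [tvSL_mulVec_sub]
  by_cases hi : i = 0
  · subst hi
    rw [hφ w hw, zero_smul]
    exact Submodule.zero_mem _
  · have hle : (Fin.succ 0 : Fin (k + 2)) ≤ Fin.castSucc i := by
      rw [Fin.le_def]
      have : (i : ℕ) ≠ 0 := fun h => hi (Fin.ext h)
      simp only [Fin.val_succ, Fin.val_zero, Fin.val_castSucc]
      omega
    exact Submodule.smul_mem _ _ (hmono hle hv)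

variable [Fintype F]

/-- SPARE of **[P1]** -/
theorem pregular_centralizer_central_spare (p : ℕ) [Fact p.Prime] [CharP F p]
    (D : Subgroup (SpecialLinearGroup (Fin n) F)) (hD : IsPGroup p D) (hne : D ≠ ⊥)
    (hcore : (Cfsg.pCore p (Subgroup.normalizer (D : Set (SpecialLinearGroup (Fin n) F)))).map
      (Subgroup.normalizer (D : Set (SpecialLinearGroup (Fin n) F))).subtype = D) :
    ∀ g ∈ Subgroup.centralizer (D : Set (SpecialLinearGroup (Fin n) F)), ¬ p ∣ orderOf g →
      g ∈ Subgroup.center (SpecialLinearGroup (Fin n) F) := by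
  obtain ⟨k, V, hk, hsm, hV0, hVt, hNV, hDV⟩ := Cfsg.Agent.S2391.result p n D hD hne
  have hmono : Monotone V := hsm.monotone
  have hN : ∀ g ∈ Subgroup.normalizer (D : Set (SpecialLinearGroup (Fin n) F)), ∀ j, ∀ v ∈ V j,
      (g : Matrix (Fin n) (Fin n) F).mulVec v ∈ V j := by
    intro g hg j v hv
    have h1 := hNV g hg j
    have h2 : Matrix.mulVecLin (g : Matrix (Fin n) (Fin n) F) v
        ∈ (V j).map (Matrix.mulVecLin (g : Matrix (Fin n) (Fin n) F)) :=
      Submodule.mem_map_of_mem hv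
    rw [h1, Matrix.mulVecLin_apply] at h2
    exact h2
  have hDle : D ≤ flagUnip V hmono hV0 := fun u hu => hDV u hu
  have hEq := flagUnip_le_of_radical p V hmono hV0 hVt D hcore hN hDle
  intro g hg hreg
  have hW0 : V (Fin.succ 0) ≠ ⊥ := by
    have h1 : V 0 < V (Fin.succ 0) := hsm (Fin.succ_pos 0)
    rw [hV0] at h1
    exact h1.ne'
  have hW1 : V (Fin.succ 0) ≠ ⊤ := by
    have h0 : (Fin.succ 0 : Fin (k + 2)) < Fin.last (k + 1) := by
      rw [Fin.lt_def]
      simp only [Fin.val_succ, Fin.val_zero, Fin.val_last]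
      omega
    have h1 : V (Fin.succ 0) < V (Fin.last (k + 1)) := hsm h0
    rw [hVt] at h1
    exact h1.ne
  apply Helper6.mem_center_of_commute_transvections p (V (Fin.succ 0)) hW0 hW1 g hreg
  intro v hv φ hφ
  have hτ : tvSL v φ (hφ v hv) ∈ D := hEq (tvSL_isFlagUnip V hmono v φ hv hφ)
  have hc := Subgroup.mem_centralizer_iff.1 hg (tvSL v φ (hφ v hv)) hτ
  have h2 := congrArg (fun x : SpecialLinearGroup (Fin n) F => (x : Matrix (Fin n) (Fin n) F)) hc
  simp only [Matrix.SpecialLinearGroup.coe_mul, tvSL_coe] at h2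
  exact h2.symm

end Helper12

end Cfsg.Agent.Lib.Helper24.SLB
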