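import Cfsg.Agent.Lib.Helper4.SLBFlag
import Cfsg.Prelude.Def_Solvable

/-!
S4538 farm (architect helper24), SPARE material for leaf [P1] (helper12): the unipotent radical
`flagUnip V` of a flag `V` of `F^n` as a subgroup of `SL_n(F)`; it is a `p`-group, it is
normalized by every element stabilizing the flag, and a radical `p`-subgroup `D ≤ flagUnip V`
whose normalizer stabilizes the flag is equal to `flagUnip V`.
-/

set_option autoImplicit false

namespace Cfsg.Agent.Lib.Helper24.SLB

open Matrix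

variable {n : ℕ} {F : Type*} [Field F]

namespace Helper12

/-- membership predicate of the unipotent radical of the flag `V` -/
def IsFlagUnip {k : ℕ} (V : Fin (k + 2) → Submodule F (Fin n → F))
    (g : SpecialLinearGroup (Fin n) F) : Prop :=
  ∀ i : Fin (k + 1), ∀ v ∈ V i.succ,
    (g : Matrix (Fin n) (Fin n) F).mulVec v - v ∈ V (Fin.castSucc i)

/-- an element of the unipotent radical stabilizes every member of the flag -/
theorem IsFlagUnip.stable {k : ℕ} {V : Fin (k + 2) → Submodule F (Fin n → F)}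
    (hmono : Monotone V) (hV0 : V 0 = ⊥) {g : SpecialLinearGroup (Fin n) F}
    (hg : IsFlagUnip V g) : ∀ j, ∀ v ∈ V j, (g : Matrix (Fin n) (Fin n) F).mulVec v ∈ V j := by
  intro j
  refine Fin.cases ?_ (fun i => ?_) j
  · intro v hv
    rw [hV0, Submodule.mem_bot] at hv
    rw [hv, Matrix.mulVec_zero]
    exact Submodule.zero_mem _
  · intro v hv
    have h1 := hg i v hv
    have h2 : V (Fin.castSucc i) ≤ V i.succ := hmono (Fin.castSucc_lt_succ (i := i)).le
    have h3 := Submodule.add_mem _ (h2 h1) hv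
    simpa using h3

theorem isFlagUnip_one {k : ℕ} (V : Fin (k + 2) → Submodule F (Fin n → F)) :
    IsFlagUnip V (1 : SpecialLinearGroup (Fin n) F) := by
  intro i v _
  simp

theorem IsFlagUnip.mul {k : ℕ} {V : Fin (k + 2) → Submodule F (Fin n → F)}
    (hmono : Monotone V) (hV0 : V 0 = ⊥) {g h : SpecialLinearGroup (Fin n) F}
    (hg : IsFlagUnip V g) (hh : IsFlagUnip V h) : IsFlagUnip V (g * h) := by
  intro i v hv
  have h1 := hh i v hv
  have h2 := hg.stable hmono hV0 _ _ h1
  have h3 := hg i v hv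
  have h4 := Submodule.add_mem _ h2 h3
  have e : ((g * h : SpecialLinearGroup (Fin n) F) : Matrix (Fin n) (Fin n) F).mulVec v - v
      = (g : Matrix (Fin n) (Fin n) F).mulVec ((h : Matrix (Fin n) (Fin n) F).mulVec v - v)
        + ((g : Matrix (Fin n) (Fin n) F).mulVec v - v) := by
    rw [Matrix.SpecialLinearGroup.coe_mul, ← Matrix.mulVec_mulVec, Matrix.mulVec_sub]
    abel
  rw [e]
  exact h4

variable [Fintype F]

/-- the unipotent radical of a flag as a subgroup of `SL_n(F)` -/
def flagUnip {k : ℕ} (V : Fin (k + 2) → Submodule F (Fin n → F)) (hmono : Monotone V)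
    (hV0 : V 0 = ⊥) : Subgroup (SpecialLinearGroup (Fin n) F) where
  carrier := {g | IsFlagUnip V g}
  one_mem' := isFlagUnip_one V
  mul_mem' := fun hg hh => IsFlagUnip.mul hmono hV0 hg hh
  inv_mem' := by
    intro g hg
    have hpow : ∀ m : ℕ, IsFlagUnip V (g ^ m) := by
      intro m
      induction m with
      | zero => rw [pow_zero]; exact isFlagUnip_one V
      | succ m ih => rw [pow_succ]; exact IsFlagUnip.mul hmono hV0 ih hg
    have hpos : 0 < orderOf g := orderOf_pos g
    have hinv : g⁻¹ = g ^ (orderOf g - 1) := by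
      apply inv_eq_of_mul_eq_one_right
      rw [← pow_succ', Nat.sub_add_cancel hpos, pow_orderOf_eq_one]
    show IsFlagUnip V g⁻¹
    rw [hinv]
    exact hpow _

theorem mem_flagUnip {k : ℕ} {V : Fin (k + 2) → Submodule F (Fin n → F)} {hmono : Monotone V}
    {hV0 : V 0 = ⊥} {g : SpecialLinearGroup (Fin n) F} :
    g ∈ flagUnip V hmono hV0 ↔ IsFlagUnip V g := Iff.rfl

/-- the unipotent radical of a flag is a `p`-group -/
theorem flagUnip_isPGroup (p : ℕ) [Fact p.Prime] [CharP F p] {k : ℕ}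
    (V : Fin (k + 2) → Submodule F (Fin n → F)) (hmono : Monotone V) (hV0 : V 0 = ⊥)
    (hVt : V (Fin.last (k + 1)) = ⊤) : IsPGroup p (flagUnip V hmono hV0) := by
  intro g
  refine ⟨k + 1, ?_⟩
  have hg : IsFlagUnip V (g : SpecialLinearGroup (Fin n) F) := g.2
  have hN : ∀ i : Fin (k + 1), ∀ v ∈ V i.succ,
      (((g : SpecialLinearGroup (Fin n) F) : Matrix (Fin n) (Fin n) F) - 1) *ᵥ v
        ∈ V i.castSucc := by
    intro i v hv
    rw [Matrix.sub_mulVec, Matrix.one_mulVec]
    exact hg i v hv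
  have h0 := Helper4B.pow_eq_zero_of_flag V hV0 hVt _ hN
  have h1 := Helper4B.pow_p_pow_eq_one p
    ((g : SpecialLinearGroup (Fin n) F) : Matrix (Fin n) (Fin n) F) (k + 1) h0
  apply Subtype.ext
  apply Subtype.ext
  rw [Subgroup.coe_pow, Matrix.SpecialLinearGroup.coe_pow, h1]
  rfl

/-- an element stabilizing the flag (together with its inverse) normalizes the unipotent radical -/
theorem flagUnip_conj_mem {k : ℕ} {V : Fin (k + 2) → Submodule F (Fin n → F)}
    {hmono : Monotone V} {hV0 : V 0 = ⊥} (x : SpecialLinearGroup (Fin n) F)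
    (hx : ∀ j, ∀ v ∈ V j, (x : Matrix (Fin n) (Fin n) F).mulVec v ∈ V j)
    (hx' : ∀ j, ∀ v ∈ V j, ((x⁻¹ : SpecialLinearGroup (Fin n) F) :
      Matrix (Fin n) (Fin n) F).mulVec v ∈ V j)
    (g : SpecialLinearGroup (Fin n) F) (hg : g ∈ flagUnip V hmono hV0) :
    x * g * x⁻¹ ∈ flagUnip V hmono hV0 := by
  intro i v hv
  have h1 := hx' _ v hv
  have h2 := hg i _ h1
  have h3 := hx _ _ h2
  have hxx : (x : Matrix (Fin n) (Fin n) F) *
      ((x⁻¹ : SpecialLinearGroup (Fin n) F) : Matrix (Fin n) (Fin n) F) = 1 := by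
    rw [← Matrix.SpecialLinearGroup.coe_mul, mul_inv_cancel, Matrix.SpecialLinearGroup.coe_one]
  have e : ((x * g * x⁻¹ : SpecialLinearGroup (Fin n) F) : Matrix (Fin n) (Fin n) F).mulVec v - v
      = (x : Matrix (Fin n) (Fin n) F).mulVec
        ((g : Matrix (Fin n) (Fin n) F).mulVec
          (((x⁻¹ : SpecialLinearGroup (Fin n) F) : Matrix (Fin n) (Fin n) F).mulVec v)
          - ((x⁻¹ : SpecialLinearGroup (Fin n) F) : Matrix (Fin n) (Fin n) F).mulVec v) := by
    rw [Matrix.mulVec_sub, Matrix.mulVec_mulVec, Matrix.mulVec_mulVec, Matrix.mulVec_mulVec,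
      hxx, Matrix.one_mulVec, Matrix.SpecialLinearGroup.coe_mul,
      Matrix.SpecialLinearGroup.coe_mul, Matrix.mul_assoc]
  rw [e]
  exact h3

end Helper12

end Cfsg.Agent.Lib.Helper24.SLB
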