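import Cfsg.Agent.Lib.Helper12.SLBP1a

/-!
S4538 farm (architect helper24), SPARE material for leaf [P1] (helper12): a radical
`p`-subgroup `D` of `SL_n(F)` contained in the unipotent radical of a flag stabilized by `N(D)`
is the whole unipotent radical (normalizers grow in the finite `p`-group `flagUnip V`).
-/

set_option autoImplicit false

namespace Cfsg.Agent.Lib.Helper24.SLB

open Matrix

variable {n : ℕ} {F : Type*} [Field F] [Fintype F]

namespace Helper12

/-- the part of the unipotent radical normalizing a radical subgroup `D` lies in `D` -/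
theorem flagUnip_inf_normalizer_le (p : ℕ) [Fact p.Prime] [CharP F p] {k : ℕ}
    (V : Fin (k + 2) → Submodule F (Fin n → F)) (hmono : Monotone V) (hV0 : V 0 = ⊥)
    (hVt : V (Fin.last (k + 1)) = ⊤)
    (D : Subgroup (SpecialLinearGroup (Fin n) F))
    (hcore : (Cfsg.pCore p (Subgroup.normalizer (D : Set (SpecialLinearGroup (Fin n) F)))).map
      (Subgroup.normalizer (D : Set (SpecialLinearGroup (Fin n) F))).subtype = D)
    (hN : ∀ g ∈ Subgroup.normalizer (D : Set (SpecialLinearGroup (Fin n) F)), ∀ j, ∀ v ∈ V j,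
      (g : Matrix (Fin n) (Fin n) F).mulVec v ∈ V j) :
    flagUnip V hmono hV0 ⊓ Subgroup.normalizer (D : Set (SpecialLinearGroup (Fin n) F)) ≤ D := by
  set N := Subgroup.normalizer (D : Set (SpecialLinearGroup (Fin n) F)) with hNdef
  have hnorm : ((flagUnip V hmono hV0 ⊓ N).subgroupOf N).Normal := by
    refine ⟨fun q hq y => ?_⟩
    rw [Subgroup.mem_subgroupOf] at hq ⊢
    refine ⟨?_, (y * q * y⁻¹).2⟩
    have h1 := flagUnip_conj_mem (hmono := hmono) (hV0 := hV0) (y : SpecialLinearGroup (Fin n) F)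
      (hN _ y.2) (hN _ (N.inv_mem y.2)) (q : SpecialLinearGroup (Fin n) F) hq.1
    simpa using h1
  have hp : IsPGroup p ((flagUnip V hmono hV0 ⊓ N).subgroupOf N) :=
    ((flagUnip_isPGroup p V hmono hV0 hVt).to_le inf_le_left).comap_subtype
  have hle : (flagUnip V hmono hV0 ⊓ N).subgroupOf N ≤ Cfsg.pCore p N := le_sSup ⟨hnorm, hp⟩
  intro x hx
  rw [← hcore]
  exact Subgroup.mem_map.2 ⟨⟨x, hx.2⟩, hle (Subgroup.mem_subgroupOf.2 hx), rfl⟩

/-- a radical `p`-subgroup inside the unipotent radical of a flag stabilized by its normalizer is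
the whole unipotent radical -/
theorem flagUnip_le_of_radical (p : ℕ) [Fact p.Prime] [CharP F p] {k : ℕ}
    (V : Fin (k + 2) → Submodule F (Fin n → F)) (hmono : Monotone V) (hV0 : V 0 = ⊥)
    (hVt : V (Fin.last (k + 1)) = ⊤)
    (D : Subgroup (SpecialLinearGroup (Fin n) F))
    (hcore : (Cfsg.pCore p (Subgroup.normalizer (D : Set (SpecialLinearGroup (Fin n) F)))).map
      (Subgroup.normalizer (D : Set (SpecialLinearGroup (Fin n) F))).subtype = D)
    (hN : ∀ g ∈ Subgroup.normalizer (D : Set (SpecialLinearGroup (Fin n) F)), ∀ j, ∀ v ∈ V j,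
      (g : Matrix (Fin n) (Fin n) F).mulVec v ∈ V j)
    (hD : D ≤ flagUnip V hmono hV0) : flagUnip V hmono hV0 ≤ D := by
  have hinf := flagUnip_inf_normalizer_le p V hmono hV0 hVt D hcore hN
  have hpg := flagUnip_isPGroup p V hmono hV0 hVt
  have hnil : Group.IsNilpotent (flagUnip V hmono hV0) := hpg.isNilpotent
  have nc : NormalizerCondition (flagUnip V hmono hV0) := Group.normalizerCondition_of_isNilpotent
  by_contra hne
  have hlt : D.subgroupOf (flagUnip V hmono hV0) < ⊤ := by
    rw [lt_top_iff_ne_top, Ne, Subgroup.subgroupOf_eq_top]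
    exact hne
  obtain ⟨x, hxN, hxH⟩ := SetLike.exists_of_lt (nc _ hlt)
  apply hxH
  rw [Subgroup.mem_subgroupOf]
  apply hinf
  rw [Subgroup.mem_normalizer_iff] at hxN
  refine Subgroup.mem_inf.2 ⟨x.2, Subgroup.mem_normalizer_iff.2 ?_⟩
  intro h
  constructor
  · intro hh
    have h1 := (hxN ⟨h, hD hh⟩).1 (Subgroup.mem_subgroupOf.2 hh)
    rw [Subgroup.mem_subgroupOf] at h1
    simpa using h1
  · intro hh
    have hU : h ∈ flagUnip V hmono hV0 := by
      have h1 : (x : SpecialLinearGroup (Fin n) F)⁻¹ * ((x : SpecialLinearGroup (Fin n) F) * h *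
          (x : SpecialLinearGroup (Fin n) F)⁻¹) * (x : SpecialLinearGroup (Fin n) F)
          ∈ flagUnip V hmono hV0 :=
        Subgroup.mul_mem _ (Subgroup.mul_mem _ (Subgroup.inv_mem _ x.2) (hD hh)) x.2
      have e : (x : SpecialLinearGroup (Fin n) F)⁻¹ * ((x : SpecialLinearGroup (Fin n) F) * h *
          (x : SpecialLinearGroup (Fin n) F)⁻¹) * (x : SpecialLinearGroup (Fin n) F) = h := by
        group
      rwa [e] at h1
    have h2 := (hxN ⟨h, hU⟩).2 (by
      rw [Subgroup.mem_subgroupOf]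
      simpa using hh)
    rwa [Subgroup.mem_subgroupOf] at h2

end Helper12

end Cfsg.Agent.Lib.Helper24.SLB
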