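import Mathlib
import Cfsg.Prelude.Def_KGroupFacts
import Cfsg.Agent.Lib.Helper12.SchurMore

/-!
Tools for lifting projective representations to Schur covers: extension of homomorphisms into
divisible groups, divisibility of the centre of `GL n ℂ`, and the kernel of the map from the
free central extension to a Schur cover.
-/

set_option autoImplicit false
set_option linter.style.haveILetI false
set_option linter.unusedSectionVars false

open scoped commutatorElement

namespace Cfsg.Agent.Lib.Helper12.Schur

universe u v w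

/-- The kernel of the map from `E` onto a Schur cover meets `E'` trivially. -/
theorem ker_lift_inf_commutator {Q : Type u} [Group Q] [Finite Q] {X : Type u} [Finite X]
    (π : FreeGroup X →* Q) (hπ : Function.Surjective π) {A : Type v} [CommGroup A]
    (hA : Cfsg.HasSchurMultiplier Q A) {Γ : Type w} [Group Γ] [Finite Γ] (σ : Γ →* Q)
    (hσ : Cfsg.IsStemExtension σ) (hk : Nonempty (σ.ker ≃* A)) (φ : CovE π →* Γ)
    (hφ : σ.comp φ = covρ π) : φ.ker ⊓ commutator (CovE π) = ⊥ := by
  obtain ⟨e⟩ := hk
  obtain ⟨e2⟩ := mulEquiv_of_hasSchurMultiplier hA (hasSchurMultiplier_covT π hπ)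
  haveI : Finite (covT π) := finite_covT π hπ
  have hφ' : ∀ x, σ (φ x) = covρ π x := fun x => DFunLike.congr_fun hφ x
  have hmem : ∀ t : covT π, φ (t : CovE π) ∈ σ.ker := by
    intro t
    rw [MonoidHom.mem_ker, hφ']
    exact ((mem_covT π).mp t.2).1
  have hsurj : Function.Surjective (fun t : covT π => (⟨φ (t : CovE π), hmem t⟩ : σ.ker)) := by
    intro k
    obtain ⟨t, ht, htk⟩ := exists_mem_covT_of_mem_ker π hπ σ hσ φ hφ k.1 k.2
    exact ⟨⟨t, ht⟩, Subtype.ext htk⟩
  have hcard : Nat.card (covT π) ≤ Nat.card σ.ker := by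
    rw [Nat.card_congr e.toEquiv, Nat.card_congr e2.toEquiv]
  have hbij := hsurj.bijective_of_nat_card_le hcard
  rw [eq_bot_iff]
  intro x hx
  obtain ⟨hx1, hx2⟩ := Subgroup.mem_inf.mp hx
  have hxT : x ∈ covT π := by
    refine (mem_covT π).mpr ⟨?_, hx2⟩
    rw [← hφ', MonoidHom.mem_ker.mp hx1, map_one]
  have h1 : (fun t : covT π => (⟨φ (t : CovE π), hmem t⟩ : σ.ker)) ⟨x, hxT⟩ =
      (fun t : covT π => (⟨φ (t : CovE π), hmem t⟩ : σ.ker)) 1 := by
    apply Subtype.ext
    change φ x = φ 1
    rw [MonoidHom.mem_ker.mp hx1, map_one]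
  have h2 := hbij.1 h1
  rw [Subgroup.mem_bot]
  exact congrArg Subtype.val h2

/-- Homomorphisms into a divisible abelian group extend from a subgroup meeting the commutator
subgroup trivially. -/
theorem exists_extension_of_divisible {E : Type*} [Group E] (S : Subgroup E)
    (hS : S ⊓ commutator E = ⊥) {D : Type*} [CommGroup D]
    (hD : ∀ m : ℕ, m ≠ 0 → ∀ d : D, ∃ d' : D, d' ^ m = d) (g : S →* D) :
    ∃ χ : E →* D, ∀ s : S, χ s = g s := by
  classical
  haveI : DivisibleBy (Additive D) ℤ := by
    apply divisibleByOfSMulRightSurj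
    intro n hn a
    obtain ⟨k, rfl | rfl⟩ := Int.eq_nat_or_neg n
    · have hk : k ≠ 0 := by
        rintro rfl
        exact hn rfl
      obtain ⟨d', hd'⟩ := hD k hk (Additive.toMul a)
      refine ⟨Additive.ofMul d', ?_⟩
      change (k : ℤ) • Additive.ofMul d' = a
      rw [natCast_zsmul, ← ofMul_pow, hd']
      rfl
    · have hk : k ≠ 0 := by
        rintro rfl
        exact hn (by simp)
      obtain ⟨d', hd'⟩ := hD k hk (Additive.toMul a)
      refine ⟨Additive.ofMul d'⁻¹, ?_⟩
      change (-(k : ℤ)) • Additive.ofMul d'⁻¹ = a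
      rw [neg_smul, natCast_zsmul, ← ofMul_pow, inv_pow, hd', ofMul_inv, neg_neg]
      rfl
  have hBaer : Module.Baer ℤ (Additive D) := Module.Baer.of_divisible (Additive D)
  have hinj : ∀ s : S, Abelianization.of (s : E) = 1 → s = 1 := by
    intro s hs
    have h1 : (s : E) ∈ commutator E := by
      rw [← Abelianization.ker_of E]; exact hs
    have h2 : (s : E) ∈ S ⊓ commutator E := Subgroup.mem_inf.mpr ⟨s.2, h1⟩
    rw [hS, Subgroup.mem_bot] at h2
    exact Subtype.ext h2
  have hcomm : ∀ a b : S, a * b = b * a := by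
    intro a b
    have h1 : (a * b) * (b * a)⁻¹ = 1 := by
      apply hinj
      rw [Subgroup.coe_mul, Subgroup.coe_inv, Subgroup.coe_mul, Subgroup.coe_mul, map_mul,
        map_inv, map_mul, map_mul, mul_comm (Abelianization.of (b : E)), mul_inv_cancel]
    exact mul_inv_eq_one.mp h1
  letI cg : CommGroup S := { (inferInstance : Group S) with mul_comm := hcomm }
  let f : Additive S →+ Additive (Abelianization E) :=
    AddMonoidHom.mk' (fun x => Additive.ofMul (Abelianization.of ((Additive.toMul x : S) : E)))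
      (fun a b => by
        change Additive.ofMul (Abelianization.of
          (((Additive.toMul a : S) * (Additive.toMul b : S) : S) : E)) = _
        rw [Subgroup.coe_mul, map_mul, ofMul_mul])
  let g' : Additive S →+ Additive D :=
    AddMonoidHom.mk' (fun x => Additive.ofMul (g (Additive.toMul x)))
      (fun a b => by
        change Additive.ofMul (g ((Additive.toMul a : S) * (Additive.toMul b : S))) = _
        rw [map_mul, ofMul_mul])
  have hf : Function.Injective f := by
    rw [injective_iff_map_eq_zero]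
    intro x hx
    have h1 : Abelianization.of ((Additive.toMul x : S) : E) = 1 := ofMul_eq_zero.mp hx
    have h2 := hinj _ h1
    exact toMul_eq_one.mp h2
  obtain ⟨h, hh⟩ := hBaer.extension_property_addMonoidHom f hf g'
  refine ⟨{ toFun := fun e => Additive.toMul (h (Additive.ofMul (Abelianization.of e)))
            map_one' := by rw [map_one, ofMul_one, map_zero, toMul_zero]
            map_mul' := fun a b => by
              rw [map_mul, ofMul_mul, map_add, toMul_add] }, ?_⟩
  intro s
  have h1 := DFunLike.congr_fun hh (Additive.ofMul s)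
  change Additive.toMul (h (f (Additive.ofMul s))) = g s
  rw [AddMonoidHom.comp_apply] at h1
  rw [h1]
  rfl

/-- The centre of `GL n ℂ` is divisible. -/
theorem center_GL_divisible (n : ℕ) (m : ℕ) (hm : m ≠ 0)
    (z : Subgroup.center (GL (Fin n) ℂ)) :
    ∃ z' : Subgroup.center (GL (Fin n) ℂ), z' ^ m = z := by
  have hz : (z : GL (Fin n) ℂ) ∈ (Matrix.GeneralLinearGroup.scalar (Fin n)).range := by
    rw [← Matrix.GeneralLinearGroup.center_eq_range_scalar]; exact z.2
  obtain ⟨u, hu⟩ := hz
  obtain ⟨w, hw⟩ := IsAlgClosed.exists_pow_nat_eq (u : ℂ) (Nat.pos_of_ne_zero hm)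
  have hw0 : w ≠ 0 := by
    rintro rfl
    rw [zero_pow hm] at hw
    exact u.ne_zero hw.symm
  refine ⟨⟨Matrix.GeneralLinearGroup.scalar (Fin n) (Units.mk0 w hw0), ?_⟩, ?_⟩
  · rw [Matrix.GeneralLinearGroup.center_eq_range_scalar]; exact ⟨_, rfl⟩
  · apply Subtype.ext
    rw [Subgroup.coe_pow, ← hu, ← map_pow]
    congr 1
    apply Units.ext
    rw [Units.val_pow_eq_pow_val, Units.val_mk0, hw]

end Cfsg.Agent.Lib.Helper12.Schur
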