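import Mathlib
import Cfsg.Prelude.Def_KGroupFacts
import Cfsg.Agent.Lib.Helper12.SchurProj

/-!
Monomial (induced) representations of a central extension, and the converse to lifting of
projective representations: a stem extension along which all projective representations lift
is a Schur cover.
-/

set_option autoImplicit false
set_option linter.style.haveILetI false
set_option linter.unusedSectionVars false

open scoped commutatorElement

namespace Cfsg.Agent.Lib.Helper12.Schur

universe u v w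

section Mono

variable {E Q : Type*} [Group E] [Group Q] [Finite Q] (ρ : E →* Q)
  (hρ : Function.Surjective ρ) (μ : ρ.ker →* ℂˣ)

open scoped Classical in
/-- extension of `μ` by zero -/
noncomputable def muTilde (x : E) : ℂ := if h : x ∈ ρ.ker then ((μ ⟨x, h⟩ : ℂˣ) : ℂ) else 0

theorem muTilde_of_mem {x : E} (h : x ∈ ρ.ker) : muTilde ρ μ x = ((μ ⟨x, h⟩ : ℂˣ) : ℂ) := by
  unfold muTilde
  exact dif_pos h

theorem muTilde_mul {x y : E} (hx : x ∈ ρ.ker) (hy : y ∈ ρ.ker) :
    muTilde ρ μ (x * y) = muTilde ρ μ x * muTilde ρ μ y := by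
  rw [muTilde_of_mem _ _ hx, muTilde_of_mem _ _ hy, muTilde_of_mem _ _ (mul_mem hx hy)]
  have h1 : (⟨x * y, mul_mem hx hy⟩ : ρ.ker) = ⟨x, hx⟩ * ⟨y, hy⟩ := rfl
  rw [h1, map_mul, Units.val_mul]

/-- the cocycle element `s(ρ(g) q)⁻¹ g s(q)` -/
noncomputable def kk (g : E) (q : Q) : E :=
  (Function.surjInv hρ (ρ g * q))⁻¹ * g * Function.surjInv hρ q

theorem kk_mem (g : E) (q : Q) : kk ρ hρ g q ∈ ρ.ker := by
  rw [MonoidHom.mem_ker]
  unfold kk
  rw [map_mul, map_mul, map_inv, Function.surjInv_eq hρ, Function.surjInv_eq hρ]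
  group

theorem kk_mul (g h : E) (q : Q) :
    kk ρ hρ (g * h) q = kk ρ hρ g (ρ h * q) * kk ρ hρ h q := by
  unfold kk
  rw [map_mul, mul_assoc (ρ g)]
  group

theorem kk_central (a : E) (ha : a ∈ ρ.ker) (hc : a ∈ Subgroup.center E) (q : Q) :
    kk ρ hρ a q = a := by
  unfold kk
  rw [MonoidHom.mem_ker.mp ha, one_mul, mul_assoc, ← Subgroup.mem_center_iff.mp hc _,
    inv_mul_cancel_left]

open scoped Classical in
/-- the monomial representation induced from `μ`, as matrices -/
noncomputable def monoMat : E →* Matrix (Fin (Nat.card Q)) (Fin (Nat.card Q)) ℂ where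
  toFun g := Matrix.of fun i j =>
    if (Finite.equivFin Q).symm i = ρ g * (Finite.equivFin Q).symm j then
      muTilde ρ μ (kk ρ hρ g ((Finite.equivFin Q).symm j)) else 0
  map_one' := by
    ext i j
    rw [Matrix.of_apply, Matrix.one_apply]
    by_cases hij : i = j
    · subst hij
      rw [if_pos rfl, if_pos (by rw [map_one, one_mul]), kk_central ρ hρ 1 (one_mem _) (one_mem _),
        muTilde_of_mem ρ μ (one_mem _)]
      have h1 : (⟨1, one_mem _⟩ : ρ.ker) = 1 := rfl
      rw [h1, map_one, Units.val_one]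
    · rw [if_neg hij, if_neg]
      rw [map_one, one_mul]
      intro h
      exact hij ((Finite.equivFin Q).symm.injective h)
  map_mul' g h := by
    ext i j
    rw [Matrix.mul_apply]
    simp only [Matrix.of_apply]
    rw [Finset.sum_eq_single ((Finite.equivFin Q) (ρ h * (Finite.equivFin Q).symm j))]
    · rw [Equiv.symm_apply_apply, if_pos rfl]
      by_cases hq : (Finite.equivFin Q).symm i = ρ (g * h) * (Finite.equivFin Q).symm j
      · have hq' : (Finite.equivFin Q).symm i = ρ g * (ρ h * (Finite.equivFin Q).symm j) := by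
          rw [hq, map_mul, mul_assoc]
        rw [if_pos hq, if_pos hq', kk_mul, muTilde_mul _ _ (kk_mem ρ hρ _ _) (kk_mem ρ hρ _ _)]
      · have hq' : ¬ (Finite.equivFin Q).symm i = ρ g * (ρ h * (Finite.equivFin Q).symm j) := by
          rw [← mul_assoc, ← map_mul]; exact hq
        rw [if_neg hq, if_neg hq', zero_mul]
    · intro l _ hl
      have h1 : ¬ (Finite.equivFin Q).symm l = ρ h * (Finite.equivFin Q).symm j := by
        intro h'
        apply hl
        rw [← h', Equiv.apply_symm_apply]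
      rw [if_neg h1, mul_zero]
    · intro h'
      exact absurd (Finset.mem_univ _) h'

theorem monoMat_central (a : E) (ha : a ∈ ρ.ker) (hc : a ∈ Subgroup.center E) :
    monoMat ρ hρ μ a = Matrix.scalar (Fin (Nat.card Q)) ((μ ⟨a, ha⟩ : ℂˣ) : ℂ) := by
  classical
  ext i j
  rw [Matrix.scalar_apply, Matrix.diagonal_apply]
  change (if (Finite.equivFin Q).symm i = ρ a * (Finite.equivFin Q).symm j then
      muTilde ρ μ (kk ρ hρ a ((Finite.equivFin Q).symm j)) else 0) = _
  rw [kk_central ρ hρ a ha hc, MonoidHom.mem_ker.mp ha, one_mul, muTilde_of_mem ρ μ ha]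
  by_cases hij : i = j
  · subst hij
    rw [if_pos rfl, if_pos rfl]
  · rw [if_neg hij, if_neg]
    intro h
    exact hij ((Finite.equivFin Q).symm.injective h)

/-- the monomial representation as a homomorphism to `GL` -/
noncomputable def monoRep : E →* GL (Fin (Nat.card Q)) ℂ := (monoMat ρ hρ μ).toHomUnits

theorem monoRep_val (g : E) : ((monoRep ρ hρ μ g : GL (Fin (Nat.card Q)) ℂ) :
    Matrix (Fin (Nat.card Q)) (Fin (Nat.card Q)) ℂ) = monoMat ρ hρ μ g := rfl

theorem monoRep_mem_center (a : E) (ha : a ∈ ρ.ker) (hc : a ∈ Subgroup.center E) :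
    monoRep ρ hρ μ a ∈ Subgroup.center (GL (Fin (Nat.card Q)) ℂ) := by
  rw [Matrix.GeneralLinearGroup.mem_center_iff_val_mem_range_scalar]
  exact ⟨_, (monoMat_central ρ hρ μ a ha hc).symm⟩

theorem monoRep_eq_one (a : E) (ha : a ∈ ρ.ker) (hc : a ∈ Subgroup.center E)
    (h1 : monoRep ρ hρ μ a = 1) : μ ⟨a, ha⟩ = 1 := by
  have h2 : monoMat ρ hρ μ a = 1 := by
    rw [← monoRep_val, h1]; rfl
  rw [monoMat_central ρ hρ μ a ha hc] at h2
  have hpos : 0 < Nat.card Q := Nat.card_pos
  have h3 := congrFun (congrFun h2 ⟨0, hpos⟩) ⟨0, hpos⟩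
  rw [Matrix.scalar_apply, Matrix.diagonal_apply_eq, Matrix.one_apply_eq] at h3
  exact Units.ext h3

end Mono

/-- Two homomorphisms that agree modulo the centre agree on the commutator subgroup. -/
theorem eq_on_commutator_of_eq_mod_center {E G : Type*} [Group E] [Group G] (R₁ R₂ : E →* G)
    (h : ∀ e, (R₂ e)⁻¹ * R₁ e ∈ Subgroup.center G) : ∀ x ∈ commutator E, R₁ x = R₂ x := by
  have hle : commutator E ≤ R₁.eqLocus R₂ := by
    rw [commutator_eq_closure, Subgroup.closure_le]
    rintro _ ⟨a, b, rfl⟩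
    change R₁ ⁅a, b⁆ = R₂ ⁅a, b⁆
    rw [map_commutatorElement, map_commutatorElement]
    exact comm_eq_of_central (h a) (h b)
  exact fun x hx => hle hx

theorem units_complex_divisible (m : ℕ) (hm : m ≠ 0) (d : ℂˣ) : ∃ d' : ℂˣ, d' ^ m = d := by
  obtain ⟨w, hw⟩ := IsAlgClosed.exists_pow_nat_eq (d : ℂ) (Nat.pos_of_ne_zero hm)
  have hw0 : w ≠ 0 := by
    rintro rfl
    rw [zero_pow hm] at hw
    exact d.ne_zero hw.symm
  refine ⟨Units.mk0 w hw0, ?_⟩
  apply Units.ext
  rw [Units.val_pow_eq_pow_val, Units.val_mk0, hw]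

/-- A finite stem extension along which all projective representations lift is a Schur cover. -/
theorem surjection_of_lifts {Q : Type u} [Group Q] [Finite Q] {Γ : Type v} [Group Γ] [Finite Γ]
    (σ : Γ →* Q) (hσ : Cfsg.IsStemExtension σ)
    (hlift : ∀ (n : ℕ) (γ : Q →* (GL (Fin n) ℂ ⧸ Subgroup.center (GL (Fin n) ℂ))),
      ∃ ρ : Γ →* GL (Fin n) ℂ,
        (QuotientGroup.mk' (Subgroup.center (GL (Fin n) ℂ))).comp ρ = γ.comp σ)
    {Δ : Type w} [Group Δ] (τ : Δ →* Q) (hτ : Cfsg.IsStemExtension τ) :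
    ∃ p : σ.ker →* τ.ker, Function.Surjective p := by
  classical
  obtain ⟨π, hπdef⟩ : ∃ π : FreeGroup Q →* Q, π = FreeGroup.lift id := ⟨_, rfl⟩
  have hπ : Function.Surjective π := by rw [hπdef]; exact lift_id_surjective Q
  obtain ⟨φΓ, hφΓ⟩ := exists_lift π σ hσ.1 hσ.2.1
  have hφΓ' : ∀ x, σ (φΓ x) = covρ π x := fun x => DFunLike.congr_fun hφΓ x
  haveI : Finite (covT π) := finite_covT π hπ
  have hρs := covρ_surjective π hπ
  have hρc := covρ_ker_le_center π
  have hkey : ∀ t ∈ covT π, φΓ t = 1 → t = 1 := by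
    intro t ht hφt
    by_contra hne
    haveI : NeZero ((Monoid.exponent (covT π) : ℕ) : ℂ) :=
      ⟨Nat.cast_ne_zero.mpr Monoid.exponent_ne_zero_of_finite⟩
    obtain ⟨lam, hlam⟩ := CommGroup.exists_apply_ne_one_of_hasEnoughRootsOfUnity (covT π) ℂ
      (a := ⟨t, ht⟩) (by intro h; exact hne (congrArg Subtype.val h))
    have htA : t ∈ (covρ π).ker := MonoidHom.mem_ker.mpr ((mem_covT π).mp ht).1
    have hTA : covT π ≤ (covρ π).ker := fun x hx => MonoidHom.mem_ker.mpr ((mem_covT π).mp hx).1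
    -- extend `lam` to the kernel
    have hcommA : commutator (covρ π).ker = ⊥ := by
      rw [eq_bot_iff, commutator_eq_closure, Subgroup.closure_le]
      rintro _ ⟨a, b, rfl⟩
      rw [SetLike.mem_coe, Subgroup.mem_bot, commutatorElement_eq_one_iff_mul_comm]
      apply Subtype.ext
      exact Subgroup.mem_center_iff.mp (hρc b.2) a.1
    obtain ⟨μ, hμ⟩ := exists_extension_of_divisible ((covT π).subgroupOf (covρ π).ker)
      (by rw [hcommA, inf_bot_eq]) units_complex_divisible
      (lam.comp (Subgroup.subgroupOfEquivOfLe hTA).toMonoidHom)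
    have hμt : μ ⟨t, htA⟩ ≠ 1 := by
      have h1 := hμ ⟨⟨t, htA⟩, Subgroup.mem_subgroupOf.mpr ht⟩
      rw [h1]
      exact hlam
    -- the monomial representation and its projective class
    have hle : (covρ π).ker ≤ ((QuotientGroup.mk' (Subgroup.center
        (GL (Fin (Nat.card Q)) ℂ))).comp (monoRep (covρ π) hρs μ)).ker := by
      intro a ha
      rw [MonoidHom.mem_ker, MonoidHom.comp_apply]
      exact (QuotientGroup.eq_one_iff _).mpr (monoRep_mem_center (covρ π) hρs μ a ha (hρc ha))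
    obtain ⟨ρ', hρ'⟩ := hlift (Nat.card Q) ((covρ π).liftOfSurjective hρs ⟨_, hle⟩)
    have hγ : ∀ e, ((covρ π).liftOfSurjective hρs ⟨_, hle⟩) (covρ π e) =
        QuotientGroup.mk' (Subgroup.center (GL (Fin (Nat.card Q)) ℂ))
          (monoRep (covρ π) hρs μ e) := fun e =>
      MonoidHom.liftOfRightInverse_comp_apply (covρ π) (Function.surjInv hρs)
        (Function.rightInverse_surjInv hρs) ⟨_, hle⟩ e
    have hagree : ∀ e, ((ρ'.comp φΓ) e)⁻¹ * monoRep (covρ π) hρs μ e ∈
        Subgroup.center (GL (Fin (Nat.card Q)) ℂ) := by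
      intro e
      rw [← QuotientGroup.eq]
      have h1 := DFunLike.congr_fun hρ' (φΓ e)
      rw [MonoidHom.comp_apply, MonoidHom.comp_apply, hφΓ', hγ] at h1
      exact h1
    have h2 := eq_on_commutator_of_eq_mod_center (monoRep (covρ π) hρs μ) (ρ'.comp φΓ) hagree t
      ((mem_covT π).mp ht).2
    rw [MonoidHom.comp_apply, hφt, map_one] at h2
    exact hμt (monoRep_eq_one (covρ π) hρs μ t htA (hρc htA) h2)
  -- the restriction of `φΓ` to `T` is an isomorphism onto `ker σ`
  have hmem : ∀ t : covT π, (φΓ.comp (covT π).subtype) t ∈ σ.ker := by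
    intro t
    rw [MonoidHom.mem_ker, MonoidHom.comp_apply, hφΓ']
    exact ((mem_covT π).mp t.2).1
  have hinj : Function.Injective ((φΓ.comp (covT π).subtype).codRestrict _ hmem) := by
    rw [injective_iff_map_eq_one]
    intro t ht
    have h1 : φΓ (t : CovE π) = 1 := congrArg Subtype.val ht
    exact Subtype.ext (hkey t.1 t.2 h1)
  have hsurj : Function.Surjective ((φΓ.comp (covT π).subtype).codRestrict _ hmem) := by
    intro k
    obtain ⟨t, ht, htk⟩ := exists_mem_covT_of_mem_ker π hπ σ hσ φΓ hφΓ k.1 k.2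
    exact ⟨⟨t, ht⟩, Subtype.ext htk⟩
  obtain ⟨pτ, hpτ⟩ := exists_surjection_covT π hπ τ hτ
  exact ⟨pτ.comp (MulEquiv.ofBijective _ ⟨hinj, hsurj⟩).symm.toMonoidHom,
    hpτ.comp (MulEquiv.surjective _)⟩

end Cfsg.Agent.Lib.Helper12.Schur
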