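import Mathlib
import Cfsg.Prelude.Def_KGroupFacts
import Cfsg.Agent.Lib.Helper12.SchurMore

/-!
Generators of the Schur multiplier from a finite presentation: if `ker π` is the normal closure
of `r` relators (free group on `n` letters), the multiplier is generated by `r - n` elements.
-/

set_option autoImplicit false
set_option linter.style.haveILetI false
set_option linter.unusedSectionVars false

open scoped commutatorElement

namespace Cfsg.Agent.Lib.Helper12.Schur

universe u v w

section Rank

variable {X : Type w} {Q : Type u} [Group Q] (π : FreeGroup X →* Q)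

instance covA_commGroup : CommGroup (covρ π).ker :=
  { (inferInstance : Group (covρ π).ker) with
    mul_comm := fun a b => Subtype.ext
      (Subgroup.mem_center_iff.mp (covρ_ker_le_center π b.2) a.1) }

/-- the map `A → F/F'` as an additive map -/
noncomputable def covLadd :
    Additive (covρ π).ker →+ Additive (Abelianization (FreeGroup X)) :=
  AddMonoidHom.mk'
    (fun a => Additive.ofMul (abE π ((Additive.toMul a : (covρ π).ker) : CovE π)))
    (fun a b => by
      change Additive.ofMul (abE π (((Additive.toMul a : (covρ π).ker) *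
        (Additive.toMul b : (covρ π).ker) : (covρ π).ker) : CovE π)) = _
      rw [Subgroup.coe_mul, map_mul, ofMul_mul])

/-- the map `A → F/F'` as a `ℤ`-linear map -/
noncomputable def covL :
    Additive (covρ π).ker →ₗ[ℤ] Additive (Abelianization (FreeGroup X)) :=
  (covLadd π).toIntLinearMap

theorem covL_apply (a : Additive (covρ π).ker) :
    covL π a = Additive.ofMul (abE π ((Additive.toMul a : (covρ π).ker) : CovE π)) := rfl

theorem finrank_abF [Fintype X] :
    Module.finrank ℤ (Additive (Abelianization (FreeGroup X))) = Fintype.card X := by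
  have h1 : Module.finrank ℤ (FreeAbelianGroup X) = Module.finrank ℤ (X →₀ ℤ) :=
    LinearEquiv.finrank_eq (FreeAbelianGroup.equivFinsupp X).toIntLinearEquiv
  rw [Module.finrank_finsupp_self] at h1
  exact h1

theorem finrank_range_covL [Fintype X] [Finite Q] :
    Module.finrank ℤ (LinearMap.range (covL π)) = Fintype.card X := by
  haveI : Module.Free ℤ (Additive (Abelianization (FreeGroup X))) := free_abF
  haveI : Module.Finite ℤ (Additive (Abelianization (FreeGroup X))) := finite_abF
  rw [← finrank_abF (X := X)]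
  apply le_antisymm (Submodule.finrank_le _)
  have hm : ∀ y : Additive (Abelianization (FreeGroup X)),
      (LinearMap.lsmul ℤ (Additive (Abelianization (FreeGroup X))) (Nat.card Q : ℤ)) y ∈
        LinearMap.range (covL π) := by
    intro y
    obtain ⟨w, hw⟩ := QuotientGroup.mk_surjective (Additive.toMul y)
    have hwm : w ^ Nat.card Q ∈ π.ker := by
      rw [MonoidHom.mem_ker, map_pow, pow_card_eq_one']
    refine ⟨Additive.ofMul ⟨((w ^ Nat.card Q : FreeGroup X) : CovE π), by
      rw [MonoidHom.mem_ker, covρ_mk]; exact hwm⟩, ?_⟩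
    have hy : y = Additive.ofMul (Abelianization.of w) := by
      apply Additive.toMul.injective
      exact hw.symm
    rw [covL_apply, LinearMap.lsmul_apply, hy, natCast_zsmul, ← ofMul_pow, ← map_pow]
    rfl
  exact ((LinearMap.lsmul ℤ _ (Nat.card Q : ℤ)).codRestrict (LinearMap.range (covL π))
    hm).finrank_le_finrank_of_injective
    ((LinearMap.lsmul_injective (by exact_mod_cast Nat.card_pos.ne')).codRestrict _)

/-- If `ker π` is the normal closure of the finite set `rels`, then the multiplier `covT π` is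
generated by a set `S` with `|S| + |X| ≤ |rels|`. -/
theorem exists_generators_covT [Fintype X] [Finite Q] (rels : Finset (FreeGroup X))
    (hrels : π.ker = Subgroup.normalClosure (rels : Set (FreeGroup X))) :
    ∃ S : Finset (CovE π), covT π = Subgroup.closure (S : Set (CovE π)) ∧
      S.card + Fintype.card X ≤ rels.card := by
  classical
  have hRA : ∀ s : rels, ((s : FreeGroup X) : CovE π) ∈ (covρ π).ker := by
    intro s
    rw [MonoidHom.mem_ker, covρ_mk]
    have h1 : (s : FreeGroup X) ∈ π.ker := by
      rw [hrels]; exact Subgroup.subset_normalClosure s.2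
    exact h1
  obtain ⟨Φ, hΦdef⟩ : ∃ Φ : (rels →₀ ℤ) →ₗ[ℤ] Additive (covρ π).ker,
      Φ = Finsupp.linearCombination ℤ
        (fun s : rels => Additive.ofMul (⟨((s : FreeGroup X) : CovE π), hRA s⟩ : (covρ π).ker)) :=
    ⟨_, rfl⟩
  obtain ⟨j, hjdef⟩ : ∃ j : Additive (covρ π).ker → CovE π,
      j = fun a => ((Additive.toMul a : (covρ π).ker) : CovE π) := ⟨_, rfl⟩
  have hj_add : ∀ a b, j (a + b) = j a * j b := fun a b => by rw [hjdef]; rfl
  have hj_zero : j 0 = 1 := by rw [hjdef]; rfl
  have hj_neg : ∀ a, j (-a) = (j a)⁻¹ := fun a => by rw [hjdef]; rfl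
  have hj_zsmul : ∀ (z : ℤ) a, j (z • a) = (j a) ^ z := by
    intro z a
    rw [hjdef]
    change (((Additive.toMul a : (covρ π).ker) ^ z : (covρ π).ker) : CovE π) = _
    rw [Subgroup.coe_zpow]
  have hj_ker : ∀ a, covρ π (j a) = 1 := fun a => by
    rw [hjdef]; exact MonoidHom.mem_ker.mp (Additive.toMul a : (covρ π).ker).2
  have hΦ_aux : ∀ w ∈ Subgroup.normalClosure (rels : Set (FreeGroup X)),
      ∃ c : rels →₀ ℤ, j (Φ c) = (w : CovE π) := by
    intro w hw
    unfold Subgroup.normalClosure at hw
    refine Subgroup.closure_induction (p := fun (w : FreeGroup X) _ => ∃ c : rels →₀ ℤ, j (Φ c) = (w : CovE π))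
      ?_ ?_ ?_ ?_ hw
    · intro x hx
      obtain ⟨b, hb, hconj⟩ := Group.mem_conjugatesOfSet_iff.mp hx
      obtain ⟨g, rfl⟩ := isConj_iff.mp hconj
      refine ⟨Finsupp.single ⟨b, hb⟩ 1, ?_⟩
      rw [hΦdef, Finsupp.linearCombination_single, one_smul, hjdef]
      change ((b : FreeGroup X) : CovE π) = ((g * b * g⁻¹ : FreeGroup X) : CovE π)
      have hc := covρ_ker_le_center π (hRA ⟨b, hb⟩)
      rw [QuotientGroup.mk_mul, QuotientGroup.mk_mul, QuotientGroup.mk_inv,
        Subgroup.mem_center_iff.mp hc (g : CovE π), mul_inv_cancel_right]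
    · exact ⟨0, by rw [map_zero, hj_zero]; rfl⟩
    · intro x y _ _ hx hy
      obtain ⟨c₁, h₁⟩ := hx
      obtain ⟨c₂, h₂⟩ := hy
      exact ⟨c₁ + c₂, by rw [map_add, hj_add, h₁, h₂]; rfl⟩
    · intro x _ hx
      obtain ⟨c, h⟩ := hx
      exact ⟨-c, by rw [map_neg, hj_neg, h]; rfl⟩
  have hΦ_surj : ∀ a : (covρ π).ker, ∃ c, Φ c = Additive.ofMul a := by
    intro a
    obtain ⟨w, hw⟩ := QuotientGroup.mk_surjective (a : CovE π)
    have hwk : w ∈ π.ker := by
      have h1 := a.2
      rw [MonoidHom.mem_ker, ← hw, covρ_mk] at h1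
      exact h1
    rw [hrels] at hwk
    obtain ⟨c, hc⟩ := hΦ_aux w hwk
    refine ⟨c, ?_⟩
    apply Additive.toMul.injective
    apply Subtype.ext
    rw [hjdef] at hc
    exact hc.trans hw
  have hΦs : Function.Surjective Φ := by
    intro a
    obtain ⟨c, hc⟩ := hΦ_surj (Additive.toMul a)
    exact ⟨c, hc⟩
  have hLker : ∀ a, covL π a = 0 ↔ j a ∈ commutator (CovE π) := by
    intro a
    rw [covL_apply, ofMul_eq_zero, ← MonoidHom.mem_ker, ker_abE, hjdef]
  haveI : Module.Free ℤ (Additive (Abelianization (FreeGroup X))) := free_abF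
  haveI : Module.Finite ℤ (Additive (Abelianization (FreeGroup X))) := finite_abF
  have hrg : LinearMap.range (covL π ∘ₗ Φ) = LinearMap.range (covL π) :=
    LinearMap.range_comp_of_range_eq_top (covL π) (LinearMap.range_eq_top.mpr hΦs)
  have hrn := Submodule.finrank_quotient_add_finrank (LinearMap.ker (covL π ∘ₗ Φ))
  have hq : Module.finrank ℤ ((rels →₀ ℤ) ⧸ LinearMap.ker (covL π ∘ₗ Φ)) = Fintype.card X := by
    rw [LinearEquiv.finrank_eq (covL π ∘ₗ Φ).quotKerEquivRange, hrg, finrank_range_covL]
  rw [hq, Module.finrank_finsupp_self, Fintype.card_coe] at hrn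
  obtain ⟨d, ⟨bK⟩⟩ := Submodule.nonempty_basis_of_pid
    (Finsupp.basisSingleOne (R := ℤ) (ι := rels)) (LinearMap.ker (covL π ∘ₗ Φ))
  have hd : Module.finrank ℤ (LinearMap.ker (covL π ∘ₗ Φ)) = d := by
    rw [Module.finrank_eq_card_basis bK, Fintype.card_fin]
  refine ⟨Finset.image (fun i : Fin d => j (Φ (bK i : rels →₀ ℤ))) Finset.univ, ?_, ?_⟩
  · apply le_antisymm
    · intro t ht
      obtain ⟨ht1, ht2⟩ := (mem_covT π).mp ht
      obtain ⟨c, hc⟩ := hΦ_surj ⟨t, MonoidHom.mem_ker.mpr ht1⟩
      have hjc : j (Φ c) = t := by rw [hc, hjdef]; rfl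
      have hck : c ∈ LinearMap.ker (covL π ∘ₗ Φ) := by
        rw [LinearMap.mem_ker, LinearMap.comp_apply, hLker, hjc]; exact ht2
      have hspan : (⟨c, hck⟩ : LinearMap.ker (covL π ∘ₗ Φ)) ∈
          Submodule.span ℤ (Set.range bK) := by rw [bK.span_eq]; trivial
      have key : ∀ x ∈ Submodule.span ℤ (Set.range bK),
          j (Φ (x : rels →₀ ℤ)) ∈ Subgroup.closure
            ((Finset.image (fun i : Fin d => j (Φ (bK i : rels →₀ ℤ))) Finset.univ :
              Finset (CovE π)) : Set (CovE π)) := by
        intro x hx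
        refine Submodule.span_induction (p := fun (x : LinearMap.ker (covL π ∘ₗ Φ)) _ => j (Φ (x : rels →₀ ℤ)) ∈
          Subgroup.closure
            ((Finset.image (fun i : Fin d => j (Φ (bK i : rels →₀ ℤ))) Finset.univ :
              Finset (CovE π)) : Set (CovE π))) ?_ ?_ ?_ ?_ hx
        · rintro _ ⟨i, rfl⟩
          apply Subgroup.subset_closure
          rw [Finset.mem_coe, Finset.mem_image]
          exact ⟨i, Finset.mem_univ _, rfl⟩
        · rw [Submodule.coe_zero, map_zero, hj_zero]; exact one_mem _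
        · intro x y _ _ hx hy
          rw [Submodule.coe_add, map_add, hj_add]; exact mul_mem hx hy
        · intro z x _ hx
          rw [Submodule.coe_smul, map_smul, hj_zsmul]; exact zpow_mem hx z
      have h1 := key _ hspan
      rw [← hjc]
      exact h1
    · rw [Subgroup.closure_le]
      intro x hx
      rw [Finset.mem_coe, Finset.mem_image] at hx
      obtain ⟨i, -, rfl⟩ := hx
      refine (mem_covT π).mpr ⟨hj_ker _, ?_⟩
      rw [← hLker]
      exact (bK i).2
  · have h1 := Finset.card_image_le (s := (Finset.univ : Finset (Fin d)))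
      (f := fun i : Fin d => j (Φ (bK i : rels →₀ ℤ)))
    rw [Finset.card_univ, Fintype.card_fin] at h1
    omega

end Rank

end Cfsg.Agent.Lib.Helper12.Schur
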