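import Cfsg.Agent.Lib.Helper28.BSGSPerm
import Cfsg.Agent.Lib.Helper28.BSGSCore2

/-!
# Element orders in a permutation group from a stabilizer chain with two levels (helper12)

Port of helper29's `SpecJ1Defs` from `BSGSMat` to helper28's `BSGSPerm`.  Every element of the group is
conjugate, under the stabilizer of the first base point, to a product of the transversal element of an orbit
representative and an element of the second transversal; for these products some power with exponent in a given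
list is checked to fix both base points, hence to be the identity.
-/

set_option autoImplicit false

namespace Cfsg.Agent.Lib.Helper12.SpecPerm

open Cfsg.Agent.Lib.Helper28.BSGS

section

variable (n w : ℕ) [NeZero n]

/-- every element of the group sifts through a verified chain -/
theorem perm_complete (gens : List (ℕ × ℕ)) (levels : List CLevel)
    (hg : gensOK n w gens = true) (hc : checkChain n w gens levels = true) :
    ∀ z ∈ genGroup n w gens, Sifts (semLevels n w gens levels) z :=
  chain_complete _ _ (checkChain_sound n w levels gens (gensOK_spec n w hg) hc)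

theorem semU_spec {b : ℕ} {T : List Entry} (k3 : ∀ e ∈ T, entryOK n w b e = true)
    (e : Entry) (he : e ∈ T) :
    ∃ e' ∈ T, e'.1 = e.1 ∧ semU n w T (pt n e.1) = permOf n w e'.2.1 e'.2.2 := by
  obtain ⟨e', he'⟩ := findE_of_mem he
  obtain ⟨m1, m2⟩ := findE_some he'
  refine ⟨e', m1, m2, ?_⟩
  unfold semU
  rw [pt_val n (entryOK_spec n w (k3 e he)).1, he']

/-- every element is a product of two transversal elements -/
theorem two_level_decomp (gens : List (ℕ × ℕ)) (b1 : ℕ) (T1 : List Entry) (b2 : ℕ)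
    (T2 : List Entry) (hg : gensOK n w gens = true)
    (hc : checkChain n w gens [(b1, T1), (b2, T2)] = true)
    (z : Equiv.Perm (Fin n)) (hz : z ∈ genGroup n w gens) :
    ∃ e1 ∈ T1, ∃ e2 ∈ T2, z (pt n b1) = pt n e1.1 ∧
      z = permOf n w e1.2.1 e1.2.2 * permOf n w e2.2.1 e2.2.2 := by
  have hs := perm_complete n w gens _ hg hc z hz
  have hc' := hc
  unfold checkChain at hc'
  rw [Bool.and_eq_true] at hc'
  obtain ⟨hl1, hc2⟩ := hc'
  unfold checkChain at hc2
  rw [Bool.and_eq_true] at hc2
  obtain ⟨hl2, _⟩ := hc2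
  obtain ⟨_, _, k3, _⟩ := levelOK_spec n w hl1
  obtain ⟨_, _, k3', _⟩ := levelOK_spec n w hl2
  obtain ⟨h1, h2, h3⟩ : z • pt n b1 ∈ (T1.map fun e => pt n e.1) ∧
      ((semU n w T1 (z • pt n b1))⁻¹ * z) • pt n b2 ∈ (T2.map fun e => pt n e.1) ∧
      (semU n w T2 (((semU n w T1 (z • pt n b1))⁻¹ * z) • pt n b2))⁻¹ *
        ((semU n w T1 (z • pt n b1))⁻¹ * z) = 1 := hs
  rw [List.mem_map] at h1
  obtain ⟨e, he, hez⟩ := h1
  obtain ⟨e1, he1, m2, m3⟩ := semU_spec n w k3 e he
  rw [← hez, m3] at h2 h3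
  rw [List.mem_map] at h2
  obtain ⟨e', he', hez'⟩ := h2
  obtain ⟨e2, he2, m2', m3'⟩ := semU_spec n w k3' e' he'
  rw [← hez', m3'] at h3
  refine ⟨e1, he1, e2, he2, ?_, ?_⟩
  · rw [m2]; exact hez.symm
  · have hz' : z = permOf n w e1.2.1 e1.2.2 * (permOf n w e2.2.1 e2.2.2 *
        ((permOf n w e2.2.1 e2.2.2)⁻¹ * ((permOf n w e1.2.1 e1.2.2)⁻¹ * z))) := by group
    rw [hz', h3, mul_one]

/-- an element of the group fixing both base points is the identity -/
theorem eq_one_of_fix (gens : List (ℕ × ℕ)) (b1 : ℕ) (T1 : List Entry) (b2 : ℕ) (T2 : List Entry)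
    (hg : gensOK n w gens = true) (hc : checkChain n w gens [(b1, T1), (b2, T2)] = true)
    (z : Equiv.Perm (Fin n)) (hz : z ∈ genGroup n w gens)
    (h1 : z (pt n b1) = pt n b1) (h2 : z (pt n b2) = pt n b2) : z = 1 := by
  have hgood := checkChain_sound n w _ gens (gensOK_spec n w hg) hc
  have hs := perm_complete n w gens _ hg hc z hz
  obtain ⟨_, _, _, hu1, _, _, _, hrest⟩ := hgood
  obtain ⟨_, _, _, hu2, _⟩ := hrest
  have hu1' : semU n w T1 (pt n b1) = 1 := hu1
  have hu2' : semU n w T2 (pt n b2) = 1 := hu2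
  obtain ⟨_, _, hs3⟩ : z • pt n b1 ∈ (T1.map fun e => pt n e.1) ∧
      ((semU n w T1 (z • pt n b1))⁻¹ * z) • pt n b2 ∈ (T2.map fun e => pt n e.1) ∧
      (semU n w T2 (((semU n w T1 (z • pt n b1))⁻¹ * z) • pt n b2))⁻¹ *
        ((semU n w T1 (z • pt n b1))⁻¹ * z) = 1 := hs
  have e1 : z • pt n b1 = pt n b1 := h1
  have e2 : z • pt n b2 = pt n b2 := h2
  rw [e1, hu1', inv_one, one_mul, e2, hu2', inv_one, one_mul] at hs3
  exact hs3

end

/-- the `k`-th power of the product of the two tables fixes the point `b` -/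
def fixB (w k u1 u2 b : ℕ) : Bool :=
  evalW w (List.replicate k [u1, u2]).flatten b == b

/-- some power of the product of the two tables, with exponent in the list, fixes both points -/
def ordOK (w : ℕ) (expos : List ℕ) (b1 b2 u1 u2 : ℕ) : Bool :=
  expos.any fun k => fixB w k u1 u2 b1 && fixB w k u1 u2 b2

/-- the products of the transversal elements of the representatives and the elements of the second
transversal have good orders -/
def mainOK (w : ℕ) (expos : List ℕ) (b1 b2 : ℕ) (reps : List ℕ) (es1 es2 : List Entry) : Bool :=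
  es1.all fun e1 => !(reps.any fun r => Nat.beq r e1.1) ||
    es2.all fun e2 => ordOK w expos b1 b2 e1.2.1 e2.2.1

/-- the listed table pairs are valid, belong to the group and fix the base point -/
def ssOK (n w : ℕ) (levels : List CLevel) (b : ℕ) (ss : List (ℕ × ℕ)) : Bool :=
  ss.all fun s => pairOK n w s.1 s.2 && siftB n w levels [s.1] && Nat.beq (look w s.1 b) b

/-- every point of the first transversal is the image of a representative under a listed element -/
def hintsOK (n w : ℕ) (reps : List ℕ) (ss : List (ℕ × ℕ)) : List Entry → List (ℕ × ℕ) → Bool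
  | [], _ => true
  | _ :: _, [] => false
  | e1 :: es, h :: hs =>
      (reps.any fun r => Nat.beq r h.1) && Nat.blt h.1 n &&
      (match ss[h.2]? with
        | none => false
        | some s => Nat.beq (look w s.1 h.1) e1.1) && hintsOK n w reps ss es hs

theorem hintsOK_spec (n w : ℕ) (reps : List ℕ) (ss : List (ℕ × ℕ)) :
    ∀ (es : List Entry) (hs : List (ℕ × ℕ)), hintsOK n w reps ss es hs = true →
    ∀ e1 ∈ es, ∃ r ∈ reps, r < n ∧ ∃ s ∈ ss, look w s.1 r = e1.1 := by
  intro es
  induction es with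
  | nil => intro hs _ e1 he1; simp at he1
  | cons e es ih =>
    intro hs h e1 he1
    cases hs with
    | nil => simp [hintsOK] at h
    | cons h0 hs =>
      rw [hintsOK] at h
      simp only [Bool.and_eq_true] at h
      obtain ⟨⟨⟨k1, k2⟩, k3⟩, k4⟩ := h
      rcases List.mem_cons.mp he1 with rfl | hmem
      · rw [List.any_eq_true] at k1
        obtain ⟨r, hr, hrr⟩ := k1
        have hr' : r = h0.1 := Nat.eq_of_beq_eq_true hrr
        refine ⟨h0.1, hr' ▸ hr, ?_, ?_⟩
        · rw [Nat.blt_eq] at k2; exact k2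
        · cases hsj : ss[h0.2]? with
          | none => rw [hsj] at k3; simp at k3
          | some s =>
            rw [hsj] at k3
            exact ⟨s, List.mem_of_getElem? hsj, Nat.eq_of_beq_eq_true k3⟩
      · exact ih hs k4 e1 hmem

theorem ssOK_spec {n w : ℕ} {levels : List CLevel} {b : ℕ} {ss : List (ℕ × ℕ)}
    (h : ssOK n w levels b ss = true) :
    ∀ s ∈ ss, pairOK n w s.1 s.2 = true ∧ siftB n w levels [s.1] = true ∧ look w s.1 b = b := by
  intro s hs
  unfold ssOK at h
  rw [List.all_eq_true] at h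
  have h1 := h s hs
  simp only [Bool.and_eq_true] at h1
  exact ⟨h1.1.1, h1.1.2, Nat.eq_of_beq_eq_true h1.2⟩

section

variable (n w : ℕ) [NeZero n]

theorem apply_pt_of_actsByW {g : Equiv.Perm (Fin n)} {ws : List ℕ} (hg : ActsByW n w g ws)
    {b : ℕ} (hb : b < n) (h : evalW w ws b = b) : g (pt n b) = pt n b := by
  apply Fin.ext
  rw [hg, pt_val n hb, h]

omit [NeZero n] in
theorem actsByW_append {g h : Equiv.Perm (Fin n)} {ws ws' : List ℕ} (hg : ActsByW n w g ws)
    (hh : ActsByW n w h ws') : ActsByW n w (g * h) (ws ++ ws') := by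
  intro a
  show (g (h a)).val = evalW w (ws ++ ws') a.val
  rw [hg, hh]
  unfold evalW
  rw [List.foldr_append]

theorem actsByW_pow_word {g : Equiv.Perm (Fin n)} {ws : List ℕ} (hg : ActsByW n w g ws) (k : ℕ) :
    ActsByW n w (g ^ k) (List.replicate k ws).flatten := by
  induction k with
  | zero => rw [pow_zero]; exact actsByW_one n w
  | succ k ih =>
    rw [pow_succ', List.replicate_succ, List.flatten_cons]
    exact actsByW_append n w hg ih

/-- every element of the group has a power, with exponent in the list, equal to the identity -/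
theorem pow_eq_one_of_certs (expos : List ℕ) (gens : List (ℕ × ℕ)) (b1 : ℕ) (T1 : List Entry)
    (b2 : ℕ) (T2 : List Entry)
    (hg : gensOK n w gens = true) (hc : checkChain n w gens [(b1, T1), (b2, T2)] = true)
    (reps : List ℕ) (ss : List (ℕ × ℕ)) (hints : List (ℕ × ℕ))
    (hss : ssOK n w [(b1, T1), (b2, T2)] b1 ss = true)
    (hh : hintsOK n w reps ss T1 hints = true)
    (hm : mainOK w expos b1 b2 reps T1 T2 = true)
    (z : Equiv.Perm (Fin n)) (hz : z ∈ genGroup n w gens) : ∃ k ∈ expos, z ^ k = 1 := by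
  have hwf := checkChain_wf n w _ _ hc
  obtain ⟨hb1, w1⟩ := hwf (b1, T1) List.mem_cons_self
  obtain ⟨hb2, w2⟩ := hwf (b2, T2) (List.mem_cons_of_mem _ List.mem_cons_self)
  obtain ⟨e1, he1, e2, _, hpt, _⟩ := two_level_decomp n w gens b1 T1 b2 T2 hg hc z hz
  obtain ⟨r, hr, hrlt, s, hs, hsr⟩ := hintsOK_spec n w reps ss _ _ hh e1 he1
  obtain ⟨hsinv, hssift, hsfix⟩ := ssOK_spec hss s hs
  have hsmem : permOf n w s.1 s.2 ∈ genGroup n w gens :=
    (perm_main n w gens _ hg hc).2 _ _ (actsByW_single (permOf_apply hsinv)) hssift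
  have hsb : permOf n w s.1 s.2 (pt n b1) = pt n b1 := by
    rw [permOf_pt n w hsinv hb1, hsfix]
  have hsr' : permOf n w s.1 s.2 (pt n r) = pt n e1.1 := by
    rw [permOf_pt n w hsinv hrlt, hsr]
  -- the conjugate
  have hz' : (permOf n w s.1 s.2)⁻¹ * z * permOf n w s.1 s.2 ∈ genGroup n w gens :=
    Subgroup.mul_mem _ (Subgroup.mul_mem _ (Subgroup.inv_mem _ hsmem) hz) hsmem
  have hpt' : ((permOf n w s.1 s.2)⁻¹ * z * permOf n w s.1 s.2) (pt n b1) = pt n r := by
    rw [Equiv.Perm.mul_apply, Equiv.Perm.mul_apply, hsb, hpt, Equiv.Perm.inv_eq_iff_eq, hsr']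
  obtain ⟨e1', he1', e2', he2', hpt2, hzz⟩ :=
    two_level_decomp n w gens b1 T1 b2 T2 hg hc _ hz'
  obtain ⟨q1, q2⟩ := w1 e1' he1'
  obtain ⟨_, q2'⟩ := w2 e2' he2'
  have hkey : e1'.1 = r := by
    have h0 : pt n e1'.1 = pt n r := by rw [← hpt2, hpt']
    have h1 := congrArg Fin.val h0
    rwa [pt_val n q1, pt_val n hrlt] at h1
  -- the main check
  unfold mainOK at hm
  rw [List.all_eq_true] at hm
  have h1 := hm e1' he1'
  have hany : (reps.any fun r => Nat.beq r e1'.1) = true := by
    rw [List.any_eq_true]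
    exact ⟨r, hr, by rw [hkey]; exact Nat.beq_refl r⟩
  rw [hany, Bool.not_true, Bool.false_or, List.all_eq_true] at h1
  have h2 := h1 e2' he2'
  unfold ordOK at h2
  rw [List.any_eq_true] at h2
  obtain ⟨k, hk, hid⟩ := h2
  rw [Bool.and_eq_true] at hid
  obtain ⟨hid1, hid2⟩ := hid
  refine ⟨k, hk, ?_⟩
  have hact : ActsByW n w ((permOf n w s.1 s.2)⁻¹ * z * permOf n w s.1 s.2)
      [e1'.2.1, e2'.2.1] := by
    rw [hzz]
    exact actsByW_cons (permOf_apply q2) (actsByW_single (permOf_apply q2'))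
  have hactk := actsByW_pow_word n w hact k
  have hone : ((permOf n w s.1 s.2)⁻¹ * z * permOf n w s.1 s.2) ^ k = 1 := by
    apply eq_one_of_fix n w gens b1 T1 b2 T2 hg hc _ (Subgroup.pow_mem _ hz' k)
    · exact apply_pt_of_actsByW n w hactk hb1 (beq_iff_eq.mp hid1)
    · exact apply_pt_of_actsByW n w hactk hb2 (beq_iff_eq.mp hid2)
  have hconj : ((permOf n w s.1 s.2)⁻¹ * z * permOf n w s.1 s.2) ^ k =
      (permOf n w s.1 s.2)⁻¹ * z ^ k * permOf n w s.1 s.2 := by
    have := conj_pow (a := (permOf n w s.1 s.2)⁻¹) (b := z) (i := k)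
    rwa [inv_inv] at this
  rw [hconj] at hone
  have : z ^ k = permOf n w s.1 s.2 *
      ((permOf n w s.1 s.2)⁻¹ * z ^ k * permOf n w s.1 s.2) * (permOf n w s.1 s.2)⁻¹ := by group
  rw [this, hone]
  group

end

theorem mainOK_append {w : ℕ} {expos : List ℕ} {b1 b2 : ℕ} {R1 R2 : List ℕ} {es1 es2 : List Entry}
    (h1 : mainOK w expos b1 b2 R1 es1 es2 = true) (h2 : mainOK w expos b1 b2 R2 es1 es2 = true) :
    mainOK w expos b1 b2 (R1 ++ R2) es1 es2 = true := by
  unfold mainOK at h1 h2 ⊢
  rw [List.all_eq_true] at h1 h2 ⊢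
  intro e1 he1
  have k1 := h1 e1 he1
  have k2 := h2 e1 he1
  rw [List.any_append]
  cases ha : (R1.any fun r => Nat.beq r e1.1) with
  | true => rw [ha] at k1; simpa using k1
  | false =>
    cases hb : (R2.any fun r => Nat.beq r e1.1) with
    | true => rw [hb] at k2; simpa using k2
    | false => simp

end Cfsg.Agent.Lib.Helper12.SpecPerm
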