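import Mathlib
import Cfsg.Agent.Lib.Helper12.FrobNorm
import Cfsg.Agent.Lib.Helper12.Generation
import Cfsg.Agent.Lib.Helper1.Coprime
import Cfsg.Agent.Lib.Helper1.Nilpotent
import Cfsg.Agent.Lib.Helper1.ExtraspecialOrder
import Cfsg.Agent.Lib.Helper13.HallHigmanLite
import Cfsg.Agent.H5.PSolvable

/-!
# A Frobenius-type group acting on a special `p`-group of exponent `p`

Setting: `W` a `p`-subgroup of the finite group `G` (`p` odd), `Z = [W,W]` central in `W`, `W` of
exponent `p`; a `p'`-subgroup `Q` and an element `b` with `b ^ p = 1`, both normalizing `W`, `b`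
normalizing `Q` with `C_Q(b) = 1`, `C_W(Q) = Z`, `W/Z` irreducible under `⟨Q, b⟩`.
Then `|C_W(b)| ≤ p` is impossible (`special_false`).
-/

set_option autoImplicit false

namespace Cfsg.Agent.Lib.Helper12.SpecialFrob

open Subgroup
open scoped commutatorElement

universe u
variable {G : Type u} [Group G]

theorem of_surj (H : Type*) [Group H] :
    Function.Surjective (Abelianization.of : H → Abelianization H) :=
  QuotientGroup.mk_surjective

section AbAct

variable (W : Subgroup G)

/-- conjugation by `g ∈ N(W)` on the abelianization of `W` -/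
noncomputable def abEnd (g : ↥(normalizer (W : Set G))) : Monoid.End (Abelianization ↥W) :=
  (Abelianization.map (conjEnd W g.1 g.2) : Abelianization ↥W →* Abelianization ↥W)

theorem abEnd_of (g : ↥(normalizer (W : Set G))) (w : ↥W) :
    abEnd W g (Abelianization.of w) = Abelianization.of (conjEnd W g.1 g.2 w) := rfl

/-- The action of `N(W)` on the abelianization of `W`. -/
noncomputable def abAct : ↥(normalizer (W : Set G)) →* Monoid.End (Abelianization ↥W) where
  toFun g := abEnd W g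
  map_one' := by
    refine Monoid.End.ext _ fun v => ?_
    obtain ⟨w, rfl⟩ := of_surj _ v
    rw [abEnd_of]
    show _ = Abelianization.of w
    congr 1
    ext
    simp [conjEnd]
  map_mul' := by
    intro a b
    refine Monoid.End.ext _ fun v => ?_
    obtain ⟨w, rfl⟩ := of_surj _ v
    rw [Monoid.End.coe_mul, Function.comp_apply, abEnd_of, abEnd_of, abEnd_of]
    congr 1
    ext
    simp [conjEnd, mul_assoc]

theorem abAct_of (g : ↥(normalizer (W : Set G))) (w : ↥W) :
    abAct W g (Abelianization.of w) = Abelianization.of (conjEnd W g.1 g.2 w) := rfl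

theorem of_eq_one_iff (w : ↥W) : (Abelianization.of w : Abelianization ↥W) = 1 ↔ (w : G) ∈ ⁅W, W⁆ := by
  rw [← MonoidHom.mem_ker, Abelianization.ker_of]
  constructor
  · intro h
    have : (w : G) ∈ (_root_.commutator ↥W).map W.subtype := ⟨w, h, rfl⟩
    rwa [Subgroup.map_subtype_commutator] at this
  · intro h
    rw [← Subgroup.map_subtype_commutator] at h
    obtain ⟨w', hw', hww'⟩ := h
    have : w' = w := Subtype.ext hww'
    rwa [← this]

theorem of_eq_of_iff (w v : ↥W) :
    (Abelianization.of w : Abelianization ↥W) = Abelianization.of v ↔ (w : G)⁻¹ * v ∈ ⁅W, W⁆ := by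
  have : (Abelianization.of w : Abelianization ↥W) = Abelianization.of v ↔
      (Abelianization.of (w⁻¹ * v) : Abelianization ↥W) = 1 := by
    rw [map_mul, map_inv, inv_mul_eq_one]
  rw [this, of_eq_one_iff]
  rfl

end AbAct


section Main

variable [Finite G]

/-- The hypotheses of the special case. -/
structure Hyp (p : ℕ) (W Q : Subgroup G) (b z : G) : Prop where
  hW : IsPGroup p W
  hne : ¬ W ≤ ⁅W, W⁆
  hZ1 : ⁅W, W⁆ ≠ ⊥
  hcen : ∀ x ∈ ⁅W, W⁆, ∀ w ∈ W, x * w = w * x
  hexp : ∀ w ∈ W, w ^ p = 1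
  hQ : (Nat.card Q).Coprime p
  hQW : Q ≤ normalizer (W : Set G)
  hbW : b ∈ normalizer (W : Set G)
  hbQ : b ∈ normalizer (Q : Set G)
  hbp : b ^ p = 1
  hfrob : ∀ x ∈ Q, x * b = b * x → x = 1
  hCQ : W ⊓ centralizer (Q : Set G) = ⁅W, W⁆
  hirr : ∀ U : Subgroup G, ⁅W, W⁆ ≤ U → U ≤ W → Q ≤ normalizer (U : Set G) →
    b ∈ normalizer (U : Set G) → U = ⁅W, W⁆ ∨ U = W
  hz : z ^ p = 1
  hfix : ∀ x ∈ W, b * x = x * b → x ∈ zpowers z

variable {p : ℕ} [hp : Fact p.Prime] {W Q : Subgroup G} {b z : G}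

omit [Finite G] in
theorem commutator_self_le (W : Subgroup G) : ⁅W, W⁆ ≤ W := by
  rw [Subgroup.commutator_le]
  intro a ha c hc
  rw [commutatorElement_def]
  exact W.mul_mem (W.mul_mem (W.mul_mem ha hc) (W.inv_mem ha)) (W.inv_mem hc)

theorem Hyp.commutator_le (_h : Hyp p W Q b z) : ⁅W, W⁆ ≤ W := commutator_self_le W

theorem Hyp.coprimeAct (h : Hyp p W Q b z) : Helper1.CoprimeAct Q W where
  norm := h.hQW
  cop := by
    obtain ⟨k, hk⟩ := h.hW.exists_card_eq
    rw [hk]
    exact Nat.Coprime.pow_right k h.hQ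
  solv := Or.inr (by
    have : Group.IsNilpotent ↥W := h.hW.isNilpotent
    infer_instance)

theorem Hyp.pow_eq_one (h : Hyp p W Q b z) (v : Abelianization ↥W) : v ^ p = 1 := by
  obtain ⟨w, rfl⟩ := of_surj _ v
  rw [← map_pow]
  have : w ^ p = 1 := Subtype.ext (by simpa using h.hexp w w.2)
  rw [this, map_one]

/-- `Q` has no nontrivial fixed points on `W/Z`. -/
theorem Hyp.fixed_Q (h : Hyp p W Q b z) (v : Abelianization ↥W)
    (hv : ∀ a (ha : a ∈ Q), abAct W ⟨a, h.hQW ha⟩ v = v) : v = 1 := by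
  obtain ⟨w, rfl⟩ := of_surj _ v
  rw [of_eq_one_iff]
  have hx : ∀ a ∈ Q, (w : G)⁻¹ * (a * w * a⁻¹) ∈ ⁅W, W⁆ := by
    intro a ha
    have h1 := hv a ha
    rw [abAct_of] at h1
    have h2 := (of_eq_of_iff W w (conjEnd W a (h.hQW ha) w)).mp h1.symm
    exact h2
  obtain ⟨u, hu, hwu⟩ := h.coprimeAct.exists_mul_mem_centralizer h.commutator_le
    (commutator_self_le_normalizer' h.hQW) (w : G) w.2 hx
  rw [h.hCQ] at hwu
  have : (w : G) = (w * u) * u⁻¹ := by group
  rw [this]
  exact mul_mem hwu (inv_mem hu)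

/-- The norm of `b` on `W/Z` is not trivial. -/
theorem Hyp.exists_norm_ne_one (h : Hyp p W Q b z) :
    ∃ v : Abelianization ↥W, ∏ i ∈ Finset.range p, abAct W ((⟨b, h.hbW⟩ : ↥(normalizer (W : Set G))) ^ i) v ≠ 1 := by
  by_contra hall
  push Not at hall
  set gb : ↥(normalizer (W : Set G)) := ⟨b, h.hbW⟩ with hgb
  set M : Subgroup ↥(normalizer (W : Set G)) := Q.subgroupOf (normalizer (W : Set G)) with hM
  have hgM : gb ∈ normalizer (M : Set ↥(normalizer (W : Set G))) := by
    rw [mem_normalizer_iff]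
    intro x
    rw [hM, mem_subgroupOf, mem_subgroupOf]
    exact mem_normalizer_iff.mp h.hbQ x.1
  have hgp : gb ^ p = 1 := Subtype.ext (by simpa using h.hbp)
  have hfrob : ∀ m ∈ M, m * gb = gb * m → m = 1 := by
    intro m hm hc
    apply Subtype.ext
    have hm' : (m : G) ∈ Q := by rwa [hM, mem_subgroupOf] at hm
    have hc' : (m : G) * b = b * m := congrArg Subtype.val hc
    simpa using h.hfrob m hm' hc'
  have hMfix : ∀ v : Abelianization ↥W, (∀ m ∈ M, abAct W m v = v) → v = 1 := by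
    intro v hv
    apply h.fixed_Q v
    intro a ha
    apply hv
    rw [hM, mem_subgroupOf]
    exact ha
  have key := FrobNorm.pow_card_eq_one_of_norm_trivial (abAct W) M gb hp.out hgM hgp hfrob hMfix hall
  have hcardM : Nat.card M = Nat.card Q := by
    rw [hM]
    exact Nat.card_congr (Subgroup.subgroupOfEquivOfLe h.hQW).toEquiv
  -- every v is trivial
  have hall1 : ∀ v : Abelianization ↥W, v = 1 := by
    intro v
    have h1 := key v
    have h2 := h.pow_eq_one v
    have h3 : orderOf v ∣ Nat.gcd (Nat.card M) p :=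
      Nat.dvd_gcd (orderOf_dvd_of_pow_eq_one h1) (orderOf_dvd_of_pow_eq_one h2)
    rw [hcardM, h.hQ, Nat.dvd_one] at h3
    exact orderOf_eq_one_iff.mp h3
  apply h.hne
  intro w hw
  have := hall1 (Abelianization.of (⟨w, hw⟩ : ↥W))
  rwa [of_eq_one_iff] at this


/-- the commutator subgroup of `↥W` is central -/
theorem Hyp.commutator_central (h : Hyp p W Q b z) (c : ↥W) (hc : c ∈ _root_.commutator ↥W) (w : ↥W) :
    c * w = w * c := by
  have h1 : (c : G) ∈ ⁅W, W⁆ := by
    rw [← Subgroup.map_subtype_commutator]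
    exact ⟨c, hc, rfl⟩
  exact Subtype.ext (h.hcen c h1 w w.2)

/-- `b` has at most `p` fixed points on `W/Z`. -/
theorem Hyp.card_fixed_le (h : Hyp p W Q b z) :
    Nat.card (MonoidHom.eqLocus (abAct W ⟨b, h.hbW⟩ : Abelianization ↥W →* Abelianization ↥W)
      (MonoidHom.id _)) ≤ p := by
  set σ : Abelianization ↥W →* Abelianization ↥W := abAct W ⟨b, h.hbW⟩ with hσ
  set Fix : Subgroup (Abelianization ↥W) := MonoidHom.eqLocus σ (MonoidHom.id _) with hFix
  set cb : ↥W →* ↥W := conjEnd W b h.hbW with hcb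
  have hσof : ∀ w : ↥W, σ (Abelianization.of w) = Abelianization.of (cb w) := fun w => abAct_of W _ w
  set D : Subgroup ↥W := Fix.comap Abelianization.of with hD
  have hDmem : ∀ d : ↥W, d ∈ D ↔ Abelianization.of (cb d) = (Abelianization.of d : Abelianization ↥W) := by
    intro d
    rw [hD, mem_comap, hFix]
    show σ (Abelianization.of d) = Abelianization.of d ↔ _
    rw [hσof]
  have hθmem : ∀ d : ↥D, (d : ↥W)⁻¹ * cb d ∈ _root_.commutator ↥W := by
    intro d
    rw [← Abelianization.ker_of, MonoidHom.mem_ker, map_mul, map_inv, (hDmem d).mp d.2,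
      inv_mul_cancel]
  let θ : ↥D →* ↥W :=
    { toFun := fun d => (d : ↥W)⁻¹ * cb d
      map_one' := by simp
      map_mul' := by
        intro d e
        have hc := h.commutator_central _ (hθmem d) ((e : ↥W)⁻¹)
        simp only [Subgroup.coe_mul, map_mul, mul_inv_rev]
        calc (e : ↥W)⁻¹ * (d : ↥W)⁻¹ * (cb d * cb e)
            = (e : ↥W)⁻¹ * ((d : ↥W)⁻¹ * cb d) * cb e := by group
          _ = ((d : ↥W)⁻¹ * cb d) * (e : ↥W)⁻¹ * cb e := by rw [← hc]
          _ = (d : ↥W)⁻¹ * cb d * ((e : ↥W)⁻¹ * cb e) := by group }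
  have hθ : ∀ d : ↥D, θ d = (d : ↥W)⁻¹ * cb d := fun d => rfl
  have hrange : Nat.card θ.range ≤ Nat.card (_root_.commutator ↥W) := by
    apply Subgroup.card_le_of_le
    rintro _ ⟨d, rfl⟩
    exact hθmem d
  have hker : Nat.card θ.ker ≤ p := by
    have hinj : Function.Injective (fun x : θ.ker => (⟨((x : ↥D) : ↥W), by
        have hx := x.2
        rw [MonoidHom.mem_ker, hθ, inv_mul_eq_one] at hx
        -- x = cb x
        have h1 : (((x : ↥D) : ↥W) : G) = b * (((x : ↥D) : ↥W) : G) * b⁻¹ := congrArg Subtype.val hx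
        apply h.hfix _ ((x : ↥D) : ↥W).2
        conv_rhs => rw [h1]
        group⟩ : zpowers z)) := by
      intro x y hxy
      have := congrArg Subtype.val hxy
      exact Subtype.ext (Subtype.ext (Subtype.ext this))
    have h1 := Nat.card_le_card_of_injective _ hinj
    have h2 : Nat.card (zpowers z) ≤ p := by
      rw [Nat.card_zpowers]
      exact Nat.le_of_dvd hp.out.pos (orderOf_dvd_of_pow_eq_one h.hz)
    exact h1.trans h2
  have hcardD : Nat.card D = Nat.card θ.ker * Nat.card θ.range := by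
    rw [← Subgroup.index_ker, Subgroup.card_mul_index]
  -- card D = card Fix * card commutator
  have hidx : D.index = Fix.index := by
    rw [hD]
    exact Subgroup.index_comap_of_surjective _ (of_surj _)
  have h1 : Nat.card D * D.index = Nat.card ↥W := Subgroup.card_mul_index D
  have h2 : Nat.card Fix * Fix.index = Nat.card (Abelianization ↥W) := Subgroup.card_mul_index Fix
  have h3 : Nat.card ↥W = Nat.card (Abelianization ↥W) * Nat.card (_root_.commutator ↥W) :=
    Subgroup.card_eq_card_quotient_mul_card_subgroup _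
  have hidx0 : 0 < Fix.index := Nat.pos_of_ne_zero Subgroup.index_ne_zero_of_finite
  have hc0 : 0 < Nat.card (_root_.commutator ↥W) := Nat.card_pos
  have h4 : Nat.card D = Nat.card Fix * Nat.card (_root_.commutator ↥W) := by
    have : Nat.card D * Fix.index = Nat.card Fix * Nat.card (_root_.commutator ↥W) * Fix.index := by
      rw [← hidx, h1, h3, ← h2, hidx]; ring
    exact Nat.eq_of_mul_eq_mul_right hidx0 this
  have h5 : Nat.card Fix * Nat.card (_root_.commutator ↥W) ≤ p * Nat.card (_root_.commutator ↥W) := by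
    rw [← h4, hcardD]
    exact Nat.mul_le_mul hker hrange
  exact Nat.le_of_mul_le_mul_right h5 hc0


/-- `|W/Z| = p ^ p`. -/
theorem Hyp.card_ab (h : Hyp p W Q b z) : Nat.card (Abelianization ↥W) = p ^ p := by
  set gb : ↥(normalizer (W : Set G)) := ⟨b, h.hbW⟩ with hgb
  set σ : Monoid.End (Abelianization ↥W) := abAct W gb with hσ
  set σ' : AddMonoid.End (Additive (Abelianization ↥W)) := MonoidHom.toAdditive σ with hσ'
  have hσ'app : ∀ a : Additive (Abelianization ↥W), σ' a = Additive.ofMul (σ (Additive.toMul a)) :=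
    fun a => rfl
  have hσpow : ∀ (i : ℕ) (a : Additive (Abelianization ↥W)),
      (σ' ^ i) a = Additive.ofMul ((σ ^ i) (Additive.toMul a)) := by
    intro i
    induction i with
    | zero => intro a; simp
    | succ i ih =>
      intro a
      rw [pow_succ, pow_succ]
      show (σ' ^ i) (σ' a) = _
      rw [ih, hσ'app]
      rfl
  have hgbp : gb ^ p = 1 := Subtype.ext (by simpa using h.hbp)
  have hσp : σ' ^ p = 1 := by
    ext a
    rw [hσpow, hσ, ← map_pow, hgbp, map_one]
    rfl
  have hR : ((p : ℕ) : AddMonoid.End (Additive (Abelianization ↥W))) = 0 := by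
    ext a
    rw [AddMonoid.End.natCast_apply]
    show p • a = 0
    have := h.pow_eq_one (Additive.toMul a)
    exact congrArg Additive.ofMul this
  have hgeom := Helper13.geom_sum_eq_sub_one_pow hp.out hR σ'
  have hTp : (σ' - 1) ^ p = 0 := by
    have h1 : (σ' - 1) ^ p = (σ' - 1) ^ (p - 1) * (σ' - 1) := by
      rw [← pow_succ, Nat.sub_add_cancel hp.out.one_le]
    rw [h1, ← hgeom, geom_sum_mul, hσp, sub_self]
  have hTp1 : (σ' - 1) ^ (p - 1) ≠ 0 := by
    rw [← hgeom]
    obtain ⟨v, hv⟩ := h.exists_norm_ne_one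
    intro h0
    apply hv
    have h1 := congrArg (fun f : AddMonoid.End (Additive (Abelianization ↥W)) => f (Additive.ofMul v)) h0
    simp only [AddMonoid.End.zero_apply] at h1
    have h2 : (∑ i ∈ Finset.range p, σ' ^ i) (Additive.ofMul v) =
        Additive.ofMul (∏ i ∈ Finset.range p, abAct W (gb ^ i) v) := by
      rw [ofMul_prod]
      have : (∑ i ∈ Finset.range p, σ' ^ i) (Additive.ofMul v) =
          ∑ i ∈ Finset.range p, (σ' ^ i) (Additive.ofMul v) :=
        AddMonoidHom.finsetSum_apply _ _ _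
      rw [this]
      apply Finset.sum_congr rfl
      intro i _
      rw [hσpow, hσ, ← map_pow]
      rfl
    rw [h2] at h1
    exact h1
  have hker : Nat.card (FrobNorm.kerPow (σ' - 1) 1) ≤ p := by
    refine le_trans ?_ h.card_fixed_le
    apply Nat.card_le_card_of_injective (fun a : FrobNorm.kerPow (σ' - 1) 1 =>
      (⟨Additive.toMul (a : Additive (Abelianization ↥W)), by
        have ha := a.2
        rw [FrobNorm.mem_kerPow, pow_one] at ha
        have h1 : σ' (a : Additive (Abelianization ↥W)) = a := by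
          have : (σ' - 1) (a : Additive (Abelianization ↥W)) = σ' a - a := rfl
          rw [this, sub_eq_zero] at ha
          exact ha
        rw [hσ'app] at h1
        exact congrArg Additive.toMul h1⟩ :
        MonoidHom.eqLocus (abAct W ⟨b, h.hbW⟩ : Abelianization ↥W →* Abelianization ↥W)
          (MonoidHom.id _)))
    intro a a' haa'
    have := congrArg Subtype.val haa'
    exact Subtype.ext this
  have hA : ∃ n, Nat.card (Additive (Abelianization ↥W)) = p ^ n := by
    have hV : IsPGroup p (Abelianization ↥W) := by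
      intro v
      exact ⟨1, by rw [pow_one]; exact h.pow_eq_one v⟩
    obtain ⟨n, hn⟩ := hV.exists_card_eq
    exact ⟨n, hn⟩
  have := FrobNorm.card_eq_pow_of_nilpotent hp.out hA (σ' - 1) hker hTp hTp1
  exact this


/-- A `p`-element normalizing a nontrivial `p`-subgroup centralizes a nontrivial element of it. -/
theorem exists_fixed_ne_one {Z : Subgroup G} (hZ : IsPGroup p Z) (hZ1 : Z ≠ ⊥) {b : G}
    (hb : b ∈ normalizer (Z : Set G)) (hbp : IsPGroup p (zpowers b)) :
    ∃ x ∈ Z, x ≠ 1 ∧ b * x = x * b := by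
  have hP : IsPGroup p ↥(zpowers b ⊔ Z) :=
    IsPGroup.to_sup_of_normal_right' hbp hZ (zpowers_le.mpr hb)
  haveI : Group.IsNilpotent ↥(zpowers b ⊔ Z) := hP.isNilpotent
  have hZle : Z ≤ zpowers b ⊔ Z := le_sup_right
  have hbmem : b ∈ zpowers b ⊔ Z := (le_sup_left : zpowers b ≤ zpowers b ⊔ Z) (mem_zpowers b)
  haveI hN : (Z.subgroupOf (zpowers b ⊔ Z)).Normal := by
    rw [Subgroup.normal_subgroupOf_iff_le_normalizer hZle]
    exact sup_le (zpowers_le.mpr hb) le_normalizer
  have hNbot : Z.subgroupOf (zpowers b ⊔ Z) ≠ ⊥ := by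
    intro h0
    apply hZ1
    rw [Subgroup.subgroupOf_eq_bot] at h0
    exact le_bot_iff.mp (h0 le_rfl hZle)
  have h1 := Helper1.inf_center_ne_bot_of_normal (Z.subgroupOf (zpowers b ⊔ Z)) hNbot
  obtain ⟨y, hy1⟩ := (Subgroup.ne_bot_iff_exists_ne_one).mp h1
  obtain ⟨hyZ, hyC⟩ := Subgroup.mem_inf.mp y.2
  refine ⟨((y : ↥(zpowers b ⊔ Z)) : G), mem_subgroupOf.mp hyZ, ?_, ?_⟩
  · intro h0
    apply hy1
    exact Subtype.ext (Subtype.ext h0)
  · have := Subgroup.mem_center_iff.mp hyC ⟨b, hbmem⟩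
    exact congrArg Subtype.val this

/-- The special case is impossible for odd `p`. -/
theorem Hyp.false (h : Hyp p W Q b z) (hp2 : p ≠ 2) : False := by
  have hpr := hp.out
  set Z : Subgroup G := ⁅W, W⁆ with hZdef
  have hZW : Z ≤ W := commutator_self_le W
  have hbZ : b ∈ normalizer (Z : Set G) :=
    commutator_self_le_normalizer' (zpowers_le.mpr h.hbW) (mem_zpowers b)
  have hZp : IsPGroup p Z := h.hW.to_le hZW
  have hZQ : Z ≤ centralizer (Q : Set G) := by
    rw [hZdef, ← h.hCQ]; exact inf_le_right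
  have hZcomm : ∀ x y : ↥Z, x * y = y * x := by
    intro x y
    exact Subtype.ext (h.hcen x x.2 y (hZW y.2))
  have hbpg : IsPGroup p (zpowers b) := by
    have hd : orderOf b ∣ p := orderOf_dvd_of_pow_eq_one h.hbp
    rcases (Nat.dvd_prime hpr).mp hd with h1 | h1
    · exact IsPGroup.of_card (n := 0) (by rw [Nat.card_zpowers, h1, pow_zero])
    · exact IsPGroup.of_card (n := 1) (by rw [Nat.card_zpowers, h1, pow_one])
  set cb : ↥Z →* ↥Z := conjEnd Z b hbZ with hcb
  let τ : ↥Z →* ↥Z :=
    { toFun := fun x => x⁻¹ * cb x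
      map_one' := by simp
      map_mul' := by
        intro x y
        have h1 := hZcomm (y⁻¹) (x⁻¹ * cb x)
        calc (x * y)⁻¹ * cb (x * y) = y⁻¹ * (x⁻¹ * cb x) * cb y := by rw [map_mul]; group
          _ = (x⁻¹ * cb x) * y⁻¹ * cb y := by rw [h1]
          _ = x⁻¹ * cb x * (y⁻¹ * cb y) := by group }
  have hτ : ∀ x : ↥Z, τ x = x⁻¹ * cb x := fun x => rfl
  set K : Subgroup G := τ.range.map Z.subtype with hK
  have hKZ : K ≤ Z := Subgroup.map_subtype_le _
  have hKmem : ∀ g : G, g ∈ K ↔ ∃ x : ↥Z, (x : G)⁻¹ * (b * x * b⁻¹) = g := by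
    intro g
    rw [hK, Subgroup.mem_map]
    constructor
    · rintro ⟨y, ⟨x, rfl⟩, rfl⟩
      exact ⟨x, rfl⟩
    · rintro ⟨x, rfl⟩
      exact ⟨τ x, ⟨x, rfl⟩, rfl⟩
  have hbK : b ∈ normalizer (K : Set G) := by
    apply Subgroup.mem_normalizer_fintype
    intro k hk
    obtain ⟨x, rfl⟩ := (hKmem k).mp hk
    apply (hKmem _).mpr
    refine ⟨cb x, ?_⟩
    rw [hcb, coe_conjEnd]
    group
  have hQK : Q ≤ normalizer (K : Set G) := by
    intro a ha
    apply Subgroup.mem_normalizer_fintype
    intro k hk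
    have hkc := hZQ (hKZ hk)
    have hak : a * k = k * a := Subgroup.mem_centralizer_iff.mp hkc a ha
    have h2 : a * k * a⁻¹ = k := by rw [hak]; group
    rw [h2]; exact hk
  have hkerle : Nat.card τ.ker ≤ p := by
    have hinj : Function.Injective (fun x : τ.ker => (⟨((x : ↥Z) : G), by
        have hx := x.2
        rw [MonoidHom.mem_ker, hτ, inv_mul_eq_one] at hx
        have h1 : (((x : ↥Z)) : G) = b * ((x : ↥Z) : G) * b⁻¹ := congrArg Subtype.val hx
        apply h.hfix _ (hZW (x : ↥Z).2)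
        conv_rhs => rw [h1]
        group⟩ : zpowers z)) := by
      intro x y hxy
      have := congrArg Subtype.val hxy
      exact Subtype.ext (Subtype.ext this)
    have h1 := Nat.card_le_card_of_injective _ hinj
    have h2 : Nat.card (zpowers z) ≤ p := by
      rw [Nat.card_zpowers]
      exact Nat.le_of_dvd hpr.pos (orderOf_dvd_of_pow_eq_one h.hz)
    exact h1.trans h2
  have hkerne : τ.ker ≠ ⊥ := by
    obtain ⟨x, hxZ, hx1, hbx⟩ := exists_fixed_ne_one hZp h.hZ1 hbZ hbpg
    intro h0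
    apply hx1
    have hmem : (⟨x, hxZ⟩ : ↥Z) ∈ τ.ker := by
      rw [MonoidHom.mem_ker, hτ, inv_mul_eq_one]
      apply Subtype.ext
      rw [hcb, coe_conjEnd]
      show x = b * x * b⁻¹
      rw [hbx]; group
    rw [h0, Subgroup.mem_bot] at hmem
    exact congrArg Subtype.val hmem
  have hkercard : Nat.card τ.ker = p := by
    have hkp : IsPGroup p τ.ker := hZp.to_subgroup τ.ker
    obtain ⟨k, hk⟩ := hkp.exists_card_eq
    have hgt : 1 < Nat.card τ.ker := (Subgroup.one_lt_card_iff_ne_bot _).mpr hkerne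
    rw [hk] at hgt hkerle ⊢
    rcases k with _ | _ | k
    · simp at hgt
    · simp
    · exfalso
      have h3 : p ^ 2 ≤ p ^ (k + 1 + 1) := Nat.pow_le_pow_right hpr.pos (by omega)
      have h2 := hpr.two_le
      nlinarith
  have hcardZ : Nat.card Z = p * Nat.card τ.range := by
    rw [← hkercard, ← Subgroup.index_ker, Subgroup.card_mul_index]
  have hcardK : Nat.card K = Nat.card τ.range := by
    rw [hK]
    exact Subgroup.card_map_of_injective Z.subtype_injective
  have hrelKZ : K.relIndex Z = p := by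
    have h1 := Subgroup.relIndex_mul_relIndex _ _ _ (bot_le : (⊥ : Subgroup G) ≤ K) hKZ
    rw [Subgroup.relIndex_bot_left, Subgroup.relIndex_bot_left, hcardK, hcardZ] at h1
    have hpos : 0 < Nat.card τ.range := Nat.card_pos
    exact Nat.eq_of_mul_eq_mul_left hpos (h1.trans (mul_comm _ _))
  have hcardW : Nat.card W = p ^ p * Nat.card Z := by
    have h3 : Nat.card ↥W = Nat.card (Abelianization ↥W) * Nat.card (_root_.commutator ↥W) :=
      Subgroup.card_eq_card_quotient_mul_card_subgroup _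
    have h4 : Nat.card (_root_.commutator ↥W) = Nat.card Z := by
      rw [hZdef, ← Subgroup.map_subtype_commutator]
      exact (Subgroup.card_map_of_injective W.subtype_injective).symm
    rw [h3, h.card_ab, h4]
  have hrelZW : Z.relIndex W = p ^ p := by
    have h1 := Subgroup.relIndex_mul_relIndex _ _ _ (bot_le : (⊥ : Subgroup G) ≤ Z) hZW
    rw [Subgroup.relIndex_bot_left, Subgroup.relIndex_bot_left, hcardW] at h1
    have hpos : 0 < Nat.card Z := Nat.card_pos
    exact Nat.eq_of_mul_eq_mul_left hpos (h1.trans (mul_comm _ _))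
  have hrelKW : K.relIndex W = p * p ^ p := by
    rw [← Subgroup.relIndex_mul_relIndex _ _ _ hKZ hZW, hrelKZ, hrelZW]
  -- the quotient `W/K`
  set Kw : Subgroup ↥W := K.subgroupOf W with hKw
  haveI hKwn : Kw.Normal := by
    constructor
    intro k hk w
    rw [hKw, mem_subgroupOf] at hk ⊢
    have hc := h.hcen (k : G) (hKZ hk) w w.2
    have e : ((w * k * w⁻¹ : ↥W) : G) = k := by
      push_cast
      rw [← hc]; group
    rw [e]; exact hk
  set π : ↥W →* ↥W ⧸ Kw := QuotientGroup.mk' Kw with hπ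
  have hπs : Function.Surjective π := QuotientGroup.mk'_surjective Kw
  have hcenmk : ∀ x : ↥W, (∀ w : ↥W, x * w = w * x) → π x ∈ center (↥W ⧸ Kw) := by
    intro x hx
    rw [Subgroup.mem_center_iff]
    intro q
    obtain ⟨w, rfl⟩ := hπs q
    rw [← map_mul, ← map_mul, hx w]
  have hcl : ∀ a c : ↥W ⧸ Kw, ⁅a, c⁆ ∈ center (↥W ⧸ Kw) := by
    intro a c
    obtain ⟨w₁, rfl⟩ := hπs a
    obtain ⟨w₂, rfl⟩ := hπs c
    rw [← map_commutatorElement]
    apply hcenmk
    intro w
    have hm : ⁅w₁, w₂⁆ ∈ _root_.commutator ↥W := by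
      rw [commutator_def]
      exact Subgroup.commutator_mem_commutator (Subgroup.mem_top _) (Subgroup.mem_top _)
    exact h.commutator_central _ hm w
  have hcenter_iff : ∀ y : ↥W, π y ∈ center (↥W ⧸ Kw) ↔
      ∀ w ∈ W, (w * (y : G))⁻¹ * ((y : G) * w) ∈ K := by
    intro y
    rw [Subgroup.mem_center_iff]
    constructor
    · intro hy w hw
      have h1 := hy (π ⟨w, hw⟩)
      rw [← map_mul, ← map_mul] at h1
      have h2 : ((⟨w, hw⟩ : ↥W) * y)⁻¹ * (y * ⟨w, hw⟩) ∈ Kw := QuotientGroup.eq.mp h1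
      rw [hKw, mem_subgroupOf] at h2
      first | exact h2 | simpa using h2
    · intro hy q
      obtain ⟨w, rfl⟩ := hπs q
      rw [← map_mul, ← map_mul]
      have h2 : (w * y)⁻¹ * (y * w) ∈ Kw := by
        rw [hKw, mem_subgroupOf]
        have := hy w w.2
        first | exact this | simpa using this
      exact QuotientGroup.eq.mpr h2
  set Y : Subgroup G := ((center (↥W ⧸ Kw)).comap π).map W.subtype with hY
  have hYW : Y ≤ W := Subgroup.map_subtype_le _
  have hYmem : ∀ g : G, g ∈ Y ↔ g ∈ W ∧ ∀ w ∈ W, (w * g)⁻¹ * (g * w) ∈ K := by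
    intro g
    rw [hY, Subgroup.mem_map]
    constructor
    · rintro ⟨y, hy, rfl⟩
      rw [Subgroup.mem_comap] at hy
      exact ⟨y.2, (hcenter_iff y).mp hy⟩
    · rintro ⟨hg, hgw⟩
      refine ⟨⟨g, hg⟩, ?_, rfl⟩
      rw [Subgroup.mem_comap]
      exact (hcenter_iff ⟨g, hg⟩).mpr hgw
  have hYnorm : ∀ g : G, g ∈ normalizer (W : Set G) → g ∈ normalizer (K : Set G) →
      g ∈ normalizer (Y : Set G) := by
    intro g hgW hgK
    apply Subgroup.mem_normalizer_fintype
    intro y hy
    obtain ⟨hyW, hyK⟩ := (hYmem y).mp hy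
    apply (hYmem _).mpr
    refine ⟨(mem_normalizer_iff.mp hgW y).mp hyW, ?_⟩
    intro w hw
    have hw' : g⁻¹ * w * g ∈ W := by
      apply (mem_normalizer_iff.mp hgW (g⁻¹ * w * g)).mpr
      have e : g * (g⁻¹ * w * g) * g⁻¹ = w := by group
      rw [e]; exact hw
    have h1 := hyK (g⁻¹ * w * g) hw'
    have h2 := (mem_normalizer_iff.mp hgK _).mp h1
    have e : g * ((g⁻¹ * w * g * y)⁻¹ * (y * (g⁻¹ * w * g))) * g⁻¹ =
        (w * (g * y * g⁻¹))⁻¹ * (g * y * g⁻¹ * w) := by group
    rw [e] at h2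
    exact h2
  have hZY : Z ≤ Y := by
    intro x hx
    apply (hYmem x).mpr
    refine ⟨hZW hx, ?_⟩
    intro w hw
    have hc := h.hcen x hx w hw
    rw [hc, inv_mul_cancel]
    exact K.one_mem
  have hbY := hYnorm b h.hbW hbK
  have hQY : Q ≤ normalizer (Y : Set G) := fun a ha => hYnorm a (h.hQW ha) (hQK ha)
  rcases h.hirr Y hZY hYW hQY hbY with hYZ | hYW'
  · have hcenter : center (↥W ⧸ Kw) = (Z.subgroupOf W).map π := by
      apply le_antisymm
      · intro q hq
        obtain ⟨y, rfl⟩ := hπs q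
        have hyY : (y : G) ∈ Y := (hYmem y).mpr ⟨y.2, (hcenter_iff y).mp hq⟩
        rw [hYZ] at hyY
        exact ⟨y, mem_subgroupOf.mpr hyY, rfl⟩
      · rintro _ ⟨y, hy, rfl⟩
        have hy' : (y : G) ∈ Z := mem_subgroupOf.mp hy
        have hyY : (y : G) ∈ Y := by rw [hYZ]; exact hy'
        exact (hcenter_iff y).mpr ((hYmem y).mp hyY).2
    have hZcard : Nat.card (center (↥W ⧸ Kw)) = p := by
      rw [hcenter, hπ, _root_.Cfsg.H5.card_map_mk', hKw, Subgroup.relIndex_subgroupOf hZW, hrelKZ]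
    have hPcard : Nat.card (↥W ⧸ Kw) = p * p ^ p := by
      rw [← Subgroup.index_eq_card, ← hrelKW]
      rfl
    obtain ⟨m, hm⟩ := Helper1.card_eq_pow_of_inf_centralizer_le hcl hZcard
      (Nat.card (↥W ⧸ Kw)) ⊤ Subgroup.card_top le_top
      (by rw [Subgroup.coe_top, Subgroup.centralizer_univ]; exact inf_le_right)
    rw [hPcard, ← pow_succ'] at hm
    have hinj := Nat.pow_right_injective hpr.two_le hm
    have hpm : p = 2 * m := by omega
    rcases hpr.eq_one_or_self_of_dvd 2 ⟨m, hpm⟩ with h2 | h2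
    · omega
    · exact hp2 h2.symm
  · have hZK : Z ≤ K := by
      rw [hZdef, Subgroup.commutator_le]
      intro a ha c hc
      have ha' : a⁻¹ ∈ Y := by rw [hYW']; exact W.inv_mem ha
      have h1 := ((hYmem a⁻¹).mp ha').2 c⁻¹ (W.inv_mem hc)
      have e : (c⁻¹ * a⁻¹)⁻¹ * (a⁻¹ * c⁻¹) = ⁅a, c⁆ := by
        rw [commutatorElement_def]; group
      rw [e] at h1; exact h1
    have h1 : K.relIndex Z = 1 := Subgroup.relIndex_eq_one.mpr hZK
    rw [hrelKZ] at h1
    exact hpr.one_lt.ne' h1

end Main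

end Cfsg.Agent.Lib.Helper12.SpecialFrob
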