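import Cfsg.Agent.Lib.Helper28.Srg77.Defs

set_option autoImplicit false

/-!
S0429 farm, piece [E]: a vertex off a line has `0` or `2` neighbours on it, and exactly `32`
vertices off the line have none (double counting on the line).
-/

namespace Cfsg.Agent.Lib.Helper28.Srg77

open Finset Classical

variable {V : Type*} [Fintype V] {G : SimpleGraph V}

namespace Helper12

/-- number of neighbours of `v` on `L` -/
noncomputable def dL (G : SimpleGraph V) (L : Finset V) (v : V) : ℕ :=
  (L.filter (fun x => G.Adj v x)).card

theorem sum_dL (hG : M22Like G) (L : Finset V) : ∑ v, dL G L v = 16 * L.card := by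
  simp only [dL, card_filter]
  rw [sum_comm]
  have : ∀ x ∈ L, (∑ v, if G.Adj v x then 1 else 0) = 16 := by
    intro x _
    rw [← card_filter, ← hG.deg x]
    congr 1
    ext v
    simp [G.adj_comm]
  rw [sum_congr rfl this]
  simp [mul_comm]

omit [Fintype V] in
theorem dL_sq (L : Finset V) (v : V) :
    dL G L v ^ 2 = ∑ a ∈ L, ∑ b ∈ L, if (G.Adj a v ∧ G.Adj b v) then 1 else 0 := by
  have h : dL G L v = ∑ a ∈ L, if G.Adj a v then 1 else 0 := by
    simp only [dL, card_filter, G.adj_comm]
  rw [h, sq, sum_mul_sum]
  refine sum_congr rfl fun a _ => sum_congr rfl fun b _ => ?_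
  by_cases ha : G.Adj a v <;> by_cases hb : G.Adj b v <;> simp [ha, hb]

theorem sum_dL_sq (hG : M22Like G) (L : Finset V)
    (hperp : ∀ a ∈ L, ∀ b ∈ L, a ≠ b → Perp G a b) :
    ∑ v, dL G L v ^ 2 = L.card * (16 + 4 * (L.card - 1)) := by
  simp only [dL_sq]
  rw [sum_comm]
  have h1 : ∀ a ∈ L, (∑ v, ∑ b ∈ L, if (G.Adj a v ∧ G.Adj b v) then 1 else 0)
      = 16 + 4 * (L.card - 1) := by
    intro a ha
    rw [sum_comm]
    have h2 : ∀ b ∈ L, (∑ v, if (G.Adj a v ∧ G.Adj b v) then 1 else 0)
        = if b = a then 16 else 4 := by
      intro b hb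
      rw [← card_filter]
      by_cases hba : b = a
      · subst hba
        simp only [and_self, if_true]
        exact hG.deg b
      · rw [if_neg hba]
        have hp := hperp a ha b hb (Ne.symm hba)
        exact hG.mu a b hp.1 hp.2
    rw [sum_congr rfl h2, sum_ite, sum_const, sum_const]
    have e1 : L.filter (fun b => b = a) = {a} := by
      ext b
      simp only [mem_filter, mem_singleton]
      constructor
      · exact fun h => h.2
      · rintro rfl
        exact ⟨ha, rfl⟩
    have e2 : L.filter (fun b => ¬ b = a) = L.erase a := by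
      ext b
      simp only [mem_filter, mem_erase]
      tauto
    rw [e1, e2, card_singleton, card_erase_of_mem ha]
    simp [mul_comm]
  rw [sum_congr rfl h1, sum_const]
  simp

end Helper12

open Helper12 in
/-- [E] -/
theorem p5 (hG : M22Like G) (h4 : P4 G) : P5 G := by
  have key : ∀ L, IsLine G L →
      (∀ v, dL G L v = 0 ∨ dL G L v = 2) ∧ (Tset G L).card = 32 := by
    intro L hL
    obtain ⟨x, y, hxy, rfl⟩ := hL
    have hcard := h4.card_line x y hxy
    have hperp := h4.perp_of_mem x y hxy
    have hcol := h4.col_of_mem x y hxy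
    generalize line G x y = L at hcard hperp hcol
    have hle : ∀ v, dL G L v ≤ 2 := by
      intro v
      by_contra hlt
      rw [not_le] at hlt
      obtain ⟨a, b, c, ha, hb, hc, hab, hac, hbc⟩ := two_lt_card_iff.1 hlt
      simp only [mem_filter] at ha hb hc
      exact (hcol a ha.1 b hb.1 c hc.1 hab hac hbc).2.2.2 v ha.2.symm hb.2.symm hc.2.symm
    have hs1 : ∑ v, dL G L v = 80 := by
      rw [sum_dL hG, hcard]
    have hs2 : ∑ v, dL G L v ^ 2 = 160 := by
      rw [sum_dL_sq hG L hperp, hcard]
    have heq : ∀ v, dL G L v ^ 2 = 2 * dL G L v := by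
      have hle' : ∀ v ∈ (univ : Finset V), dL G L v ^ 2 ≤ 2 * dL G L v := by
        intro v _
        have := hle v
        nlinarith
      have hsum : ∑ v, dL G L v ^ 2 = ∑ v, 2 * dL G L v := by
        rw [← mul_sum]
        omega
      intro v
      exact (sum_eq_sum_iff_of_le hle').1 hsum v (mem_univ v)
    have h02 : ∀ v, dL G L v = 0 ∨ dL G L v = 2 := by
      intro v
      have h1 := heq v
      have h2 := hle v
      interval_cases (dL G L v) <;> simp_all
    refine ⟨h02, ?_⟩
    -- counting
    have hc2 : 2 * (univ.filter (fun v => dL G L v = 2)).card = 80 := by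
      rw [← hs1, card_filter, mul_sum]
      refine sum_congr rfl fun v _ => ?_
      rcases h02 v with h | h <;> simp [h]
    have hc0 : (univ.filter (fun v => dL G L v = 0)).card
        + (univ.filter (fun v => dL G L v = 2)).card = 77 := by
      rw [← hG.card, ← card_univ, ← card_union_of_disjoint]
      · congr 1
        ext v
        simp only [mem_union, mem_filter, mem_univ, true_and, iff_true]
        exact h02 v
      · rw [disjoint_filter]
        intro v _ h0 h2
        omega
    have hLsub : L ⊆ univ.filter (fun v => dL G L v = 0) := by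
      intro v hv
      simp only [mem_filter, mem_univ, true_and, dL, card_eq_zero, filter_eq_empty_iff]
      intro u hu hadj
      by_cases huv : v = u
      · subst huv
        exact G.irrefl hadj
      · exact (hperp v hv u hu huv).2 hadj
    have hT : Tset G L = (univ.filter (fun v => dL G L v = 0)) \ L := by
      ext v
      simp only [mem_Tset, mem_sdiff, mem_filter, mem_univ, true_and, dL, card_eq_zero,
        filter_eq_empty_iff]
      tauto
    rw [hT, card_sdiff_of_subset hLsub, hcard]
    omega
  refine ⟨?_, fun L hL => (key L hL).2⟩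
  intro L hL v _
  exact (key L hL).1 v

end Cfsg.Agent.Lib.Helper28.Srg77
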