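import Cfsg.Agent.Lib.Helper28.Srg77.Psd

set_option autoImplicit false
set_option linter.unusedVariables false

/-!
S0429 farm, piece [J]: a coclique of size `21` contains the line of any two of its vertices
(equality case of the `Kr`-kernel: every outside vertex has exactly `6` neighbours in the
coclique; then a count on the four common neighbours of the two vertices).
-/

namespace Cfsg.Agent.Lib.Helper28.Srg77

open Finset Classical

variable {V : Type*} [Fintype V] {G : SimpleGraph V}

namespace Helper12J

/-- a vertex outside a `21`-coclique has exactly six neighbours in it -/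
theorem six_nbrs (hG : M22Like G) (D : Finset V) (hD : D.card = 21) (hco : IsCoclique G D)
    (x : V) (hx : x ∉ D) : (D.filter (fun u => G.Adj x u)).card = 6 := by
  have h0 : ∑ u ∈ D, ∑ u' ∈ D, (1 : ℤ) * 1 * Kr G u u' = 0 := by
    have : ∀ u ∈ D, ∑ u' ∈ D, (1 : ℤ) * 1 * Kr G u u' = 0 := by
      intro u hu
      have h : ∀ u' ∈ D, (1 : ℤ) * 1 * Kr G u u' = (if u = u' then 42 else 0) - 2 := by
        intro u' hu'
        unfold Kr
        rw [if_neg (hco u hu u' hu')]
        ring
      rw [sum_congr rfl h, sum_sub_distrib, sum_ite_eq D u, if_pos hu, sum_const, hD]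
      simp
    exact sum_eq_zero this
  have h := psd_r_finset_eq hG D (fun _ => 1) h0 x
  have h' : ∀ u ∈ D, (1 : ℤ) * Kr G x u = (if G.Adj x u then 7 else 0) - 2 := by
    intro u hu
    unfold Kr
    have hne : x ≠ u := fun h => hx (h ▸ hu)
    rw [if_neg hne]
    ring
  rw [sum_congr rfl h', sum_sub_distrib, sum_const, hD, ← sum_filter, sum_const] at h
  simp only [nsmul_eq_mul, Nat.cast_ofNat] at h
  have h3 : ((D.filter (fun u => G.Adj x u)).card : ℤ) = 6 := by linarith
  exact_mod_cast h3

end Helper12J

open Helper12J in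
/-- [J] -/
theorem p10 (hG : M22Like G) (h1 : P1 G) (h2 : P2 G) : P10 G := by
  intro D hD hco v hv w hw hvw
  have hx := six_nbrs hG D hD hco
  have hperp : Perp G v w := ⟨hvw, hco v hv w hw⟩
  have hM : (univ.filter (fun c => G.Adj v c ∧ G.Adj w c)).card = 4 :=
    hG.mu v w hvw (hco v hv w hw)
  generalize hMdef : univ.filter (fun c => G.Adj v c ∧ G.Adj w c) = M at hM
  have hmem : ∀ m, m ∈ M ↔ G.Adj v m ∧ G.Adj w m := by
    intro m
    rw [← hMdef]
    simp
  have hMD : ∀ m ∈ M, m ∉ D := by
    intro m hm hmD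
    exact hco v hv m hmD ((hmem m).1 hm).1
  have hsum : ∑ u ∈ D, (M.filter (fun m => G.Adj u m)).card = 24 := by
    simp only [card_filter]
    rw [sum_comm]
    have : ∀ m ∈ M, (∑ u ∈ D, if G.Adj u m then 1 else 0) = 6 := by
      intro m hm
      rw [← card_filter, ← hx m (hMD m hm)]
      congr 1
      ext u
      simp [G.adj_comm]
    rw [sum_congr rfl this, sum_const, hM]
    rfl
  have hav : (M.filter (fun m => G.Adj v m)).card = 4 := by
    rw [← hM]
    congr 1
    ext m
    simp only [mem_filter, hmem]
    tauto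
  have haw : (M.filter (fun m => G.Adj w m)).card = 4 := by
    rw [← hM]
    congr 1
    ext m
    simp only [mem_filter, hmem]
    tauto
  have hw' : w ∈ D.erase v := mem_erase.2 ⟨hvw.symm, hw⟩
  have hsum' : ∑ u ∈ (D.erase v).erase w, (M.filter (fun m => G.Adj u m)).card = 16 := by
    have e1 := add_sum_erase D (fun u => (M.filter (fun m => G.Adj u m)).card) hv
    have e2 := add_sum_erase (D.erase v) (fun u => (M.filter (fun m => G.Adj u m)).card) hw'
    omega
  have hcard' : ((D.erase v).erase w).card = 19 := by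
    rw [card_erase_of_mem hw', card_erase_of_mem hv, hD]
  generalize hD'def : (D.erase v).erase w = D' at hsum' hcard'
  have hmemD' : ∀ u, u ∈ D' ↔ u ≠ w ∧ u ≠ v ∧ u ∈ D := by
    intro u
    rw [← hD'def]
    simp [mem_erase]
  have hZ : (D'.filter (fun u => (M.filter (fun m => G.Adj u m)).card = 0)).card
      + (D'.filter (fun u => ¬ (M.filter (fun m => G.Adj u m)).card = 0)).card = 19 := by
    rw [card_filter_add_card_filter_not, hcard']
  have hnz : (D'.filter (fun u => ¬ (M.filter (fun m => G.Adj u m)).card = 0)).card ≤ 16 := by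
    rw [← hsum', card_filter]
    apply sum_le_sum
    intro u _
    split_ifs <;> omega
  have hsub : D'.filter (fun u => (M.filter (fun m => G.Adj u m)).card = 0)
      ⊆ univ.filter (fun z => Col G v w z) := by
    intro u hu
    rw [mem_filter, hmemD'] at hu
    obtain ⟨⟨huw, huv, huD⟩, hau⟩ := hu
    rw [mem_filter]
    refine ⟨mem_univ _, hperp, ⟨Ne.symm huv, hco v hv u huD⟩, ⟨Ne.symm huw, hco w hw u huD⟩, ?_⟩
    intro m hvm hwm hum
    have hm : m ∈ M.filter (fun m => G.Adj u m) :=
      mem_filter.2 ⟨(hmem m).2 ⟨hvm, hwm⟩, hum⟩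
    rw [card_eq_zero] at hau
    rw [hau] at hm
    exact absurd hm (notMem_empty _)
  have heq := eq_of_subset_of_card_le hsub (by rw [h2 v w hperp]; omega)
  intro z hz
  rcases mem_line.1 hz with rfl | rfl | hcol
  · exact hv
  · exact hw
  · have hz' : z ∈ univ.filter (fun z => Col G v w z) := by
      simp [hcol]
    rw [← heq, mem_filter, hmemD'] at hz'
    exact hz'.1.2.2

end Cfsg.Agent.Lib.Helper28.Srg77
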