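import Cfsg.Agent.Lib.Helper16.StCCB.Defs

set_option autoImplicit false
set_option linter.unusedSimpArgs false

/-! S2398 / S2100, PART B (sub-architect helper16): the two abstract four-term word identities
`star_shape4` (shape 4) and `star_shape4'` (shape 4', mirror), by helper12.

Both are instances of one collection computation (`core4`, `core4m`): with `C`, `Dd` commuting with
everything among `A, B, C, Dd`, `[B, A] -> Dd` and `[C, S] -> Dd`, and `S` commuting with `A, B, Dd`,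
`S u (A a1 B b1 C c1 D d1) (A a0 B b0 C c0 D d0)⁻¹ (S u)⁻¹` is collected by `simp` with the
commutation rules oriented towards the order `S < A < B < C < Dd`; the coefficient of `Dd` is the
integer identity of the shape.

helper11 claimed these two pieces 4 s before me, so the theorems live in the sub-namespace `Helper12`
(spares; wrap them or use them directly). -/

namespace Cfsg.Agent.Lib.Helper14.StCC.B

open Cfsg.Lie Cfsg.Agent.Lib.Helper8.Chev

namespace Helper12

variable {K : Type*} [Field K] {E : Type*} [Group E]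

theorem add_zero' {A : K → E} (h : ∀ x y, A x * A y = A (x + y)) : A 0 = 1 := by
  have := h 0 0
  rw [add_zero] at this
  exact mul_eq_left.mp this

theorem add_inv' {A : K → E} (h : ∀ x y, A x * A y = A (x + y)) (x : K) : (A x)⁻¹ = A (-x) := by
  apply inv_eq_of_mul_eq_one_right
  rw [h, add_neg_cancel, add_zero' h]

/-- the abstract four-term computation -/
theorem core4 (A B C Dd S : K → E)
    (aA : ∀ x y, A x * A y = A (x + y)) (aB : ∀ x y, B x * B y = B (x + y))
    (aC : ∀ x y, C x * C y = C (x + y)) (aD : ∀ x y, Dd x * Dd y = Dd (x + y))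
    (aS : ∀ x y, S x * S y = S (x + y))
    (cAC : ∀ x y, A x * C y = C y * A x) (cAD : ∀ x y, A x * Dd y = Dd y * A x)
    (cBC : ∀ x y, B x * C y = C y * B x) (cBD : ∀ x y, B x * Dd y = Dd y * B x)
    (cCD : ∀ x y, C x * Dd y = Dd y * C x)
    (cSA : ∀ x y, S x * A y = A y * S x) (cSB : ∀ x y, S x * B y = B y * S x)
    (cSD : ∀ x y, S x * Dd y = Dd y * S x)
    (n n' : K)
    (hBA : ∀ x y : K, B y * A x = A x * B y * Dd (n * (-x) * y))
    (hCS : ∀ x y : K, C y * S x = S x * C y * Dd (n' * (-x) * y))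
    (u a1 b1 c1 d1 a0 b0 c0 d0 : K) :
    S u * (A a1 * B b1 * C c1 * Dd d1) * (A a0 * B b0 * C c0 * Dd d0)⁻¹ * (S u)⁻¹ =
      A (a1 - a0) * B (b1 - b0) * C (c1 - c0) *
        Dd (d1 - d0 + n * a0 * (b1 - b0) + n' * u * (c1 - c0)) := by
  have iA := add_inv' aA
  have iB := add_inv' aB
  have iC := add_inv' aC
  have iD := add_inv' aD
  have iS := add_inv' aS
  have zS := add_zero' aS
  -- right-associated versions of the rules
  have aA' : ∀ x y (g : E), A x * (A y * g) = A (x + y) * g := fun x y g => by rw [← mul_assoc, aA]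
  have aB' : ∀ x y (g : E), B x * (B y * g) = B (x + y) * g := fun x y g => by rw [← mul_assoc, aB]
  have aC' : ∀ x y (g : E), C x * (C y * g) = C (x + y) * g := fun x y g => by rw [← mul_assoc, aC]
  have aD' : ∀ x y (g : E), Dd x * (Dd y * g) = Dd (x + y) * g := fun x y g => by
    rw [← mul_assoc, aD]
  have aS' : ∀ x y (g : E), S x * (S y * g) = S (x + y) * g := fun x y g => by rw [← mul_assoc, aS]
  -- swaps: move later letters to the right, `S` to the left
  have sCA : ∀ x y, C y * A x = A x * C y := fun x y => (cAC x y).symm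
  have sCA' : ∀ x y (g : E), C y * (A x * g) = A x * (C y * g) := fun x y g => by
    rw [← mul_assoc, sCA, mul_assoc]
  have sDA : ∀ x y, Dd y * A x = A x * Dd y := fun x y => (cAD x y).symm
  have sDA' : ∀ x y (g : E), Dd y * (A x * g) = A x * (Dd y * g) := fun x y g => by
    rw [← mul_assoc, sDA, mul_assoc]
  have sCB : ∀ x y, C y * B x = B x * C y := fun x y => (cBC x y).symm
  have sCB' : ∀ x y (g : E), C y * (B x * g) = B x * (C y * g) := fun x y g => by
    rw [← mul_assoc, sCB, mul_assoc]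
  have sDB : ∀ x y, Dd y * B x = B x * Dd y := fun x y => (cBD x y).symm
  have sDB' : ∀ x y (g : E), Dd y * (B x * g) = B x * (Dd y * g) := fun x y g => by
    rw [← mul_assoc, sDB, mul_assoc]
  have sDC : ∀ x y, Dd y * C x = C x * Dd y := fun x y => (cCD x y).symm
  have sDC' : ∀ x y (g : E), Dd y * (C x * g) = C x * (Dd y * g) := fun x y g => by
    rw [← mul_assoc, sDC, mul_assoc]
  have sBA : ∀ x y, B y * A x = A x * (B y * Dd (n * (-x) * y)) := fun x y => by
    rw [hBA, mul_assoc]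
  have sBA' : ∀ x y (g : E), B y * (A x * g) = A x * (B y * (Dd (n * (-x) * y) * g)) :=
    fun x y g => by rw [← mul_assoc, hBA]; simp only [mul_assoc]
  have sAS : ∀ x y, A y * S x = S x * A y := fun x y => (cSA x y).symm
  have sAS' : ∀ x y (g : E), A y * (S x * g) = S x * (A y * g) := fun x y g => by
    rw [← mul_assoc, sAS, mul_assoc]
  have sBS : ∀ x y, B y * S x = S x * B y := fun x y => (cSB x y).symm
  have sBS' : ∀ x y (g : E), B y * (S x * g) = S x * (B y * g) := fun x y g => by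
    rw [← mul_assoc, sBS, mul_assoc]
  have sDS : ∀ x y, Dd y * S x = S x * Dd y := fun x y => (cSD x y).symm
  have sDS' : ∀ x y (g : E), Dd y * (S x * g) = S x * (Dd y * g) := fun x y g => by
    rw [← mul_assoc, sDS, mul_assoc]
  have sCS : ∀ x y, C y * S x = S x * (C y * Dd (n' * (-x) * y)) := fun x y => by
    rw [hCS, mul_assoc]
  have sCS' : ∀ x y (g : E), C y * (S x * g) = S x * (C y * (Dd (n' * (-x) * y) * g)) :=
    fun x y g => by rw [← mul_assoc, hCS]; simp only [mul_assoc]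
  simp only [mul_inv_rev, iA, iB, iC, iD, iS, mul_assoc, aD, aA', aB', aC', aD', aS',
    sCA, sCA', sDA, sDA', sCB, sCB', sDB, sDB', sDC, sDC', sBA, sBA', sAS, sAS', sBS, sBS', sDS, sDS',
    sCS, sCS', add_neg_cancel, zS, one_mul]
  refine congrArg₂ (· * ·) (congrArg A ?_) (congrArg₂ (· * ·) (congrArg B ?_)
    (congrArg₂ (· * ·) (congrArg C ?_) (congrArg Dd ?_))) <;> ring

/-- the abstract four-term computation, mirror version -/
theorem core4m (A B C Dd S : K → E)
    (aA : ∀ x y, A x * A y = A (x + y)) (aB : ∀ x y, B x * B y = B (x + y))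
    (aC : ∀ x y, C x * C y = C (x + y)) (aD : ∀ x y, Dd x * Dd y = Dd (x + y))
    (aS : ∀ x y, S x * S y = S (x + y))
    (cAC : ∀ x y, A x * C y = C y * A x) (cAD : ∀ x y, A x * Dd y = Dd y * A x)
    (cBC : ∀ x y, B x * C y = C y * B x) (cBD : ∀ x y, B x * Dd y = Dd y * B x)
    (cCD : ∀ x y, C x * Dd y = Dd y * C x)
    (cSA : ∀ x y, S x * A y = A y * S x) (cSB : ∀ x y, S x * B y = B y * S x)
    (cSD : ∀ x y, S x * Dd y = Dd y * S x)
    (n n' : K)
    (hBA : ∀ x y : K, B y * A x = A x * B y * Dd (n * (-x) * y))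
    (hCS : ∀ x y : K, C y * S x = S x * C y * Dd (n' * (-x) * y))
    (u a1 b1 c1 d1 a0 b0 c0 d0 : K) :
    S u * (A a0 * B b0 * C c0 * Dd d0)⁻¹ * (A a1 * B b1 * C c1 * Dd d1) * (S u)⁻¹ =
      A (a1 - a0) * B (b1 - b0) * C (c1 - c0) *
        Dd (d1 - d0 + n * (a1 - a0) * b0 + n' * u * (c1 - c0)) := by
  have iA := add_inv' aA
  have iB := add_inv' aB
  have iC := add_inv' aC
  have iD := add_inv' aD
  have iS := add_inv' aS
  have zS := add_zero' aS
  -- right-associated versions of the rules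
  have aA' : ∀ x y (g : E), A x * (A y * g) = A (x + y) * g := fun x y g => by rw [← mul_assoc, aA]
  have aB' : ∀ x y (g : E), B x * (B y * g) = B (x + y) * g := fun x y g => by rw [← mul_assoc, aB]
  have aC' : ∀ x y (g : E), C x * (C y * g) = C (x + y) * g := fun x y g => by rw [← mul_assoc, aC]
  have aD' : ∀ x y (g : E), Dd x * (Dd y * g) = Dd (x + y) * g := fun x y g => by
    rw [← mul_assoc, aD]
  have aS' : ∀ x y (g : E), S x * (S y * g) = S (x + y) * g := fun x y g => by rw [← mul_assoc, aS]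
  -- swaps: move later letters to the right, `S` to the left
  have sCA : ∀ x y, C y * A x = A x * C y := fun x y => (cAC x y).symm
  have sCA' : ∀ x y (g : E), C y * (A x * g) = A x * (C y * g) := fun x y g => by
    rw [← mul_assoc, sCA, mul_assoc]
  have sDA : ∀ x y, Dd y * A x = A x * Dd y := fun x y => (cAD x y).symm
  have sDA' : ∀ x y (g : E), Dd y * (A x * g) = A x * (Dd y * g) := fun x y g => by
    rw [← mul_assoc, sDA, mul_assoc]
  have sCB : ∀ x y, C y * B x = B x * C y := fun x y => (cBC x y).symm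
  have sCB' : ∀ x y (g : E), C y * (B x * g) = B x * (C y * g) := fun x y g => by
    rw [← mul_assoc, sCB, mul_assoc]
  have sDB : ∀ x y, Dd y * B x = B x * Dd y := fun x y => (cBD x y).symm
  have sDB' : ∀ x y (g : E), Dd y * (B x * g) = B x * (Dd y * g) := fun x y g => by
    rw [← mul_assoc, sDB, mul_assoc]
  have sDC : ∀ x y, Dd y * C x = C x * Dd y := fun x y => (cCD x y).symm
  have sDC' : ∀ x y (g : E), Dd y * (C x * g) = C x * (Dd y * g) := fun x y g => by
    rw [← mul_assoc, sDC, mul_assoc]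
  have sBA : ∀ x y, B y * A x = A x * (B y * Dd (n * (-x) * y)) := fun x y => by
    rw [hBA, mul_assoc]
  have sBA' : ∀ x y (g : E), B y * (A x * g) = A x * (B y * (Dd (n * (-x) * y) * g)) :=
    fun x y g => by rw [← mul_assoc, hBA]; simp only [mul_assoc]
  have sAS : ∀ x y, A y * S x = S x * A y := fun x y => (cSA x y).symm
  have sAS' : ∀ x y (g : E), A y * (S x * g) = S x * (A y * g) := fun x y g => by
    rw [← mul_assoc, sAS, mul_assoc]
  have sBS : ∀ x y, B y * S x = S x * B y := fun x y => (cSB x y).symm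
  have sBS' : ∀ x y (g : E), B y * (S x * g) = S x * (B y * g) := fun x y g => by
    rw [← mul_assoc, sBS, mul_assoc]
  have sDS : ∀ x y, Dd y * S x = S x * Dd y := fun x y => (cSD x y).symm
  have sDS' : ∀ x y (g : E), Dd y * (S x * g) = S x * (Dd y * g) := fun x y g => by
    rw [← mul_assoc, sDS, mul_assoc]
  have sCS : ∀ x y, C y * S x = S x * (C y * Dd (n' * (-x) * y)) := fun x y => by
    rw [hCS, mul_assoc]
  have sCS' : ∀ x y (g : E), C y * (S x * g) = S x * (C y * (Dd (n' * (-x) * y) * g)) :=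
    fun x y g => by rw [← mul_assoc, hCS]; simp only [mul_assoc]
  simp only [mul_inv_rev, iA, iB, iC, iD, iS, mul_assoc, aD, aA', aB', aC', aD', aS',
    sCA, sCA', sDA, sDA', sCB, sCB', sDB, sDB', sDC, sDC', sBA, sBA', sAS, sAS', sBS, sBS', sDS, sDS',
    sCS, sCS', add_neg_cancel, zS, one_mul]
  refine congrArg₂ (· * ·) (congrArg A ?_) (congrArg₂ (· * ·) (congrArg B ?_)
    (congrArg₂ (· * ·) (congrArg C ?_) (congrArg Dd ?_))) <;> ring

/-- [BS4] -/
theorem star_shape4 (φ : ℕ → K → E) {s q1 q2 q3 q4 : ℕ} {C11 C21 C31 C32 N N' : ℤ}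
    (as : AddP φ s) (a1 : AddP φ q1) (a2 : AddP φ q2) (a3 : AddP φ q3) (a4 : AddP φ q4)
    (c13 : CommP φ q1 q3) (c14 : CommP φ q1 q4) (c23 : CommP φ q2 q3) (c24 : CommP φ q2 q4)
    (c34 : CommP φ q3 q4) (cs1 : CommP φ s q1) (cs2 : CommP φ s q2) (cs4 : CommP φ s q4)
    (h12 : ∀ x y : K, φ q2 y * φ q1 x = φ q1 x * φ q2 y * φ q4 ((N : K) * (-x) ^ 1 * y ^ 1))
    (hs3 : ∀ x y : K, φ q3 y * φ s x = φ s x * φ q3 y * φ q4 ((N' : K) * (-x) ^ 1 * y ^ 1))
    (hid : N * C11 * C21 + N' * C31 + 2 * C32 = 0) (b t u : K) :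
    φ s u * tW φ [(q1, C11, 1, 1), (q2, C21, 2, 1), (q3, C31, 3, 1), (q4, C32, 3, 2)] t (b * u) *
        (tW φ [(q1, C11, 1, 1), (q2, C21, 2, 1), (q3, C31, 3, 1), (q4, C32, 3, 2)] t u)⁻¹ *
        (φ s u)⁻¹ =
      tW φ [(q1, C11, 1, 1), (q2, C21, 2, 1), (q3, C31, 3, 1), (q4, C32, 3, 2)] t ((b - 1) * u) := by
  have hidK : (N : K) * C11 * C21 + N' * C31 + 2 * C32 = 0 := by exact_mod_cast congrArg (Int.cast : ℤ → K) hid
  have h12' : ∀ x y : K, φ q2 y * φ q1 x = φ q1 x * φ q2 y * φ q4 ((N : K) * (-x) * y) := by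
    intro x y
    have := h12 x y
    rwa [pow_one, pow_one] at this
  have hs3' : ∀ x y : K, φ q3 y * φ s x = φ s x * φ q3 y * φ q4 ((N' : K) * (-x) * y) := by
    intro x y
    have := hs3 x y
    rwa [pow_one, pow_one] at this
  have key := core4 (φ q1) (φ q2) (φ q3) (φ q4) (φ s) a1 a2 a3 a4 as c13 c14 c23 c24 c34 cs1 cs2 cs4
    (N : K) (N' : K) h12' hs3' u
    ((C11 : K) * (-t) ^ 1 * (b * u) ^ 1) ((C21 : K) * (-t) ^ 2 * (b * u) ^ 1)
    ((C31 : K) * (-t) ^ 3 * (b * u) ^ 1) ((C32 : K) * (-t) ^ 3 * (b * u) ^ 2)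
    ((C11 : K) * (-t) ^ 1 * u ^ 1) ((C21 : K) * (-t) ^ 2 * u ^ 1)
    ((C31 : K) * (-t) ^ 3 * u ^ 1) ((C32 : K) * (-t) ^ 3 * u ^ 2)
  simp only [tW, List.map_cons, List.map_nil, wS_cons, wS_nil, mul_one]
  simp only [mul_assoc] at key ⊢
  refine key.trans ?_
  refine congrArg₂ (· * ·) (congrArg (φ q1) ?_) (congrArg₂ (· * ·) (congrArg (φ q2) ?_)
    (congrArg₂ (· * ·) (congrArg (φ q3) ?_) (congrArg (φ q4) ?_)))
  · ring
  · ring
  · ring
  · linear_combination (-(t ^ 3 * u ^ 2 * (b - 1))) * hidK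


/-- [BS4'] (mirror) -/
theorem star_shape4' (φ : ℕ → K → E) {r q1 q2 q3 q4 : ℕ} {C11 C12 C13 C23 N N' : ℤ}
    (ar : AddP φ r) (a1 : AddP φ q1) (a2 : AddP φ q2) (a3 : AddP φ q3) (a4 : AddP φ q4)
    (c13 : CommP φ q1 q3) (c14 : CommP φ q1 q4) (c23 : CommP φ q2 q3) (c24 : CommP φ q2 q4)
    (c34 : CommP φ q3 q4) (cr1 : CommP φ r q1) (cr2 : CommP φ r q2) (cr4 : CommP φ r q4)
    (h12 : ∀ x y : K, φ q2 y * φ q1 x = φ q1 x * φ q2 y * φ q4 ((N : K) * (-x) ^ 1 * y ^ 1))
    (hr3 : ∀ x y : K, φ q3 y * φ r x = φ r x * φ q3 y * φ q4 ((N' : K) * (-x) ^ 1 * y ^ 1))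
    (hid : N * C11 * C12 - N' * C13 + 2 * C23 = 0) (a t u : K) :
    φ r t * (tW φ [(q1, C11, 1, 1), (q2, C12, 1, 2), (q3, C13, 1, 3), (q4, C23, 2, 3)] t u)⁻¹ *
        tW φ [(q1, C11, 1, 1), (q2, C12, 1, 2), (q3, C13, 1, 3), (q4, C23, 2, 3)] (a * t) u *
        (φ r t)⁻¹ =
      tW φ [(q1, C11, 1, 1), (q2, C12, 1, 2), (q3, C13, 1, 3), (q4, C23, 2, 3)] ((a - 1) * t) u := by
  have hidK : (N : K) * C11 * C12 - N' * C13 + 2 * C23 = 0 := by
    exact_mod_cast congrArg (Int.cast : ℤ → K) hid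
  have h12' : ∀ x y : K, φ q2 y * φ q1 x = φ q1 x * φ q2 y * φ q4 ((N : K) * (-x) * y) := by
    intro x y
    have := h12 x y
    rwa [pow_one, pow_one] at this
  have hr3' : ∀ x y : K, φ q3 y * φ r x = φ r x * φ q3 y * φ q4 ((N' : K) * (-x) * y) := by
    intro x y
    have := hr3 x y
    rwa [pow_one, pow_one] at this
  have key := core4m (φ q1) (φ q2) (φ q3) (φ q4) (φ r) a1 a2 a3 a4 ar c13 c14 c23 c24 c34 cr1 cr2 cr4
    (N : K) (N' : K) h12' hr3' t
    ((C11 : K) * (-(a * t)) ^ 1 * u ^ 1) ((C12 : K) * (-(a * t)) ^ 1 * u ^ 2)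
    ((C13 : K) * (-(a * t)) ^ 1 * u ^ 3) ((C23 : K) * (-(a * t)) ^ 2 * u ^ 3)
    ((C11 : K) * (-t) ^ 1 * u ^ 1) ((C12 : K) * (-t) ^ 1 * u ^ 2)
    ((C13 : K) * (-t) ^ 1 * u ^ 3) ((C23 : K) * (-t) ^ 2 * u ^ 3)
  simp only [tW, List.map_cons, List.map_nil, wS_cons, wS_nil, mul_one]
  simp only [mul_assoc] at key ⊢
  refine key.trans ?_
  refine congrArg₂ (· * ·) (congrArg (φ q1) ?_) (congrArg₂ (· * ·) (congrArg (φ q2) ?_)
    (congrArg₂ (· * ·) (congrArg (φ q3) ?_) (congrArg (φ q4) ?_)))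
  · ring
  · ring
  · ring
  · linear_combination (t ^ 2 * u ^ 3 * (a - 1)) * hidK

end Helper12

end Cfsg.Agent.Lib.Helper14.StCC.B
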