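import Cfsg.Agent.Lib.Helper12.SylAltB3Core
import Cfsg.Agent.Lib.Helper24.SylAltB1
import Cfsg.Agent.Lib.Helper24.SylAltB2

set_option autoImplicit false

/-! S2221 (architect helper28), piece [B3] (helper12): `Y T` is isomorphic to every Sylow 2-subgroup of
`A_n`, `n = 2m` or `2m + 1`.  Uses [B1], [B2] of helper24. -/

namespace Cfsg.Agent.Lib.Helper28.SylAlt

open SW Equiv

variable {m : ℕ}

theorem exists_mulEquiv (n : ℕ) (hm : 1 ≤ m) (hn : n = 2 * m ∨ n = 2 * m + 1)
    (T : Sylow 2 (Perm (Fin m))) (P : Sylow 2 (alternatingGroup (Fin n))) :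
    Nonempty (↥(Y (T : Subgroup (Perm (Fin m)))) ≃* ↥(P : Subgroup (alternatingGroup (Fin n)))) :=
  Helper12.exists_mulEquiv_of sign_act actHom_injective (fun T => card_Y T hm) n hm hn T P

end Cfsg.Agent.Lib.Helper28.SylAlt
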