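import Cfsg.Agent.Lib.Helper28.SylAlt.Defs

set_option autoImplicit false

/-! S2221 (architect helper28), piece [B3], core (helper12): `Y T` embeds into `A_n` (`n = 2m, 2m+1`) through
the action on `Fin m × ZMod 2` extended to `Fin n`, with image of order the 2-part of `|A_n|`; so it is
isomorphic to every Sylow 2-subgroup of `A_n`.  The facts of pieces [B1], [B2] are hypotheses here;
`SylAltB3.lean` instantiates them. -/

namespace Cfsg.Agent.Lib.Helper28.SylAlt

open SW Equiv

variable {m : ℕ}

namespace Helper12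

/-- `v₂(n!) = m + v₂(m!)` for `n = 2m` or `2m+1`. -/
theorem padic_fact (n : ℕ) (hn : n = 2 * m ∨ n = 2 * m + 1) :
    padicValNat 2 n.factorial = padicValNat 2 m.factorial + m := by
  rcases hn with rfl | rfl
  · exact padicValNat_factorial_mul m
  · rw [padicValNat_factorial_mul_add m (by norm_num : 1 < 2)]
    exact padicValNat_factorial_mul m

/-- the 2-part of `|A_n|`. -/
theorem fact_alt (n : ℕ) (hm : 1 ≤ m) (hn : n = 2 * m ∨ n = 2 * m + 1) :
    (Nat.card (alternatingGroup (Fin n))).factorization 2 = (m - 1) + padicValNat 2 m.factorial := by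
  have hn2 : 2 ≤ n := by omega
  have : Nontrivial (Fin n) := Fin.nontrivial_iff_two_le.mpr hn2
  have h2 : 2 * Nat.card (alternatingGroup (Fin n)) = n.factorial := by
    rw [two_mul_nat_card_alternatingGroup, Nat.card_eq_fintype_card, Fintype.card_perm,
      Fintype.card_fin]
  have hpos : Nat.card (alternatingGroup (Fin n)) ≠ 0 := Nat.card_pos.ne'
  have h3 : (2 * Nat.card (alternatingGroup (Fin n))).factorization 2 =
      (Nat.card (alternatingGroup (Fin n))).factorization 2 + 1 := by
    rw [Nat.factorization_mul (by norm_num) hpos]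
    simp [Nat.Prime.factorization_self Nat.prime_two, add_comm]
  rw [h2, Nat.factorization_def _ Nat.prime_two, padic_fact n hn] at h3
  omega

theorem exists_mulEquiv_of
    (sign_act : ∀ a : SW m, Perm.sign (SW.act a) = if ∑ i, a.v i = 0 then 1 else -1)
    (actHom_injective : Function.Injective (SW.actHom : SW m →* Perm (Fin m × ZMod 2)))
    (card_Y : ∀ T : Subgroup (Perm (Fin m)), Nat.card ↥(Y T) = 2 ^ (m - 1) * Nat.card ↥T)
    (n : ℕ) (hm : 1 ≤ m) (hn : n = 2 * m ∨ n = 2 * m + 1)
    (T : Sylow 2 (Perm (Fin m))) (P : Sylow 2 (alternatingGroup (Fin n))) :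
    Nonempty (↥(Y (T : Subgroup (Perm (Fin m)))) ≃* ↥(P : Subgroup (alternatingGroup (Fin n)))) := by
  classical
  have hle : 2 * m ≤ n := by omega
  -- the embedding of the `2m` points
  have hcard : Fintype.card (Fin m × ZMod 2) = Fintype.card {x : Fin n // (x : ℕ) < 2 * m} := by
    rw [Fintype.card_prod, Fintype.card_fin, ZMod.card, Fintype.card_subtype, Fin.card_filter_val_lt,
      min_eq_right hle, mul_comm]
  let f : Fin m × ZMod 2 ≃ {x : Fin n // (x : ℕ) < 2 * m} := Fintype.equivOfCardEq hcard
  let Φ : SW m →* Perm (Fin n) := (Perm.extendDomainHom f).comp SW.actHom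
  have hΦinj : Function.Injective Φ :=
    (Perm.extendDomainHom_injective f).comp actHom_injective
  have hΦsign : ∀ a ∈ Y (T : Subgroup (Perm (Fin m))), Φ a ∈ alternatingGroup (Fin n) := by
    intro a ha
    rw [Equiv.Perm.mem_alternatingGroup]
    show Perm.sign ((SW.act a).extendDomain f) = 1
    rw [Perm.sign_extendDomain, sign_act, if_pos (mem_Y.mp ha).2]
  -- the homomorphism `Y T → A_n`
  let Ψ : ↥(Y (T : Subgroup (Perm (Fin m)))) →* ↥(alternatingGroup (Fin n)) :=
    (Φ.comp (Y (T : Subgroup (Perm (Fin m)))).subtype).codRestrict (alternatingGroup (Fin n))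
      (fun a => hΦsign a.1 a.2)
  have hΨinj : Function.Injective Ψ := by
    intro a b hab
    have h1 : Φ a.1 = Φ b.1 := congrArg Subtype.val hab
    exact Subtype.ext (hΦinj h1)
  -- the range has the right order
  have hrange : Nat.card ↥Ψ.range = 2 ^ (Nat.card (alternatingGroup (Fin n))).factorization 2 := by
    rw [Nat.card_congr (MonoidHom.ofInjective hΨinj).symm.toEquiv, card_Y, T.card_eq_multiplicity,
      fact_alt n hm hn, Nat.card_eq_fintype_card, Fintype.card_perm, Fintype.card_fin,
      Nat.factorization_def _ Nat.prime_two, pow_add]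
  let Q : Sylow 2 (alternatingGroup (Fin n)) := Sylow.ofCard Ψ.range hrange
  exact ⟨(MonoidHom.ofInjective hΨinj).trans ((MulEquiv.subgroupCongr (Sylow.coe_ofCard Ψ.range hrange).symm).trans (Sylow.equiv Q P))⟩

end Helper12

end Cfsg.Agent.Lib.Helper28.SylAlt
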