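import Mathlib

/-!
# S2197 (helper12): the local data of the Tits group used to exclude 2-transitive actions

A `LocalData G` is a handful of elements of `G` with relations: a Frobenius group `13:3` (`x`, `z`), a Heisenberg
group of order 27 with centre `⟨z⟩` (`r1`, `r2`), and an elementary abelian group of order 25 (`u1`, `u2`) all of whose
subgroups of order 5 are conjugate in `G` to `⟨u1⟩`.
-/

set_option autoImplicit false

namespace Cfsg.Agent.Lib.Helper12.Tits2T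

/-- the local data -/
structure LocalData (G : Type*) [Group G] where
  x : G
  z : G
  r1 : G
  r2 : G
  u1 : G
  u2 : G
  c0 : G
  c1 : G
  c2 : G
  c3 : G
  c4 : G
  hx : x ^ 13 = 1
  hx1 : x ≠ 1
  hz : z ^ 3 = 1
  hz1 : z ≠ 1
  hzx : z * x * z⁻¹ = x ^ 3
  hr1 : r1 ^ 3 = 1
  hr2 : r2 ^ 3 = 1
  hrz : r1 * r2 * r1⁻¹ * r2⁻¹ = z
  hzr1 : r1 * z = z * r1
  hzr2 : r2 * z = z * r2
  hu1 : u1 ^ 5 = 1
  hu2 : u2 ^ 5 = 1
  huc : u1 * u2 = u2 * u1
  hu1ne : u1 ≠ 1
  hune : ∀ k : ℕ, k < 5 → u2 ≠ u1 ^ k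
  hc0 : c0 * u1 * c0⁻¹ = u2
  hc1 : c1 * u1 ^ 3 * c1⁻¹ = u1 * u2
  hc2 : c2 * u1 ^ 4 * c2⁻¹ = u1 * u2 ^ 2
  hc3 : c3 * u1 * c3⁻¹ = u1 * u2 ^ 3
  hc4 : c4 * u1 ^ 2 * c4⁻¹ = u1 * u2 ^ 4

namespace LocalData

variable {G H : Type*} [Group G] [Group H]

/-- transport of the local data along an injective homomorphism -/
def map (D : LocalData G) (f : G →* H) (hf : Function.Injective f) : LocalData H where
  x := f D.x
  z := f D.z
  r1 := f D.r1
  r2 := f D.r2
  u1 := f D.u1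
  u2 := f D.u2
  c0 := f D.c0
  c1 := f D.c1
  c2 := f D.c2
  c3 := f D.c3
  c4 := f D.c4
  hx := by rw [← map_pow, D.hx, map_one]
  hx1 := fun h => D.hx1 (hf (h.trans (map_one f).symm))
  hz := by rw [← map_pow, D.hz, map_one]
  hz1 := fun h => D.hz1 (hf (h.trans (map_one f).symm))
  hzx := by rw [← map_inv, ← map_mul, ← map_mul, D.hzx, map_pow]
  hr1 := by rw [← map_pow, D.hr1, map_one]
  hr2 := by rw [← map_pow, D.hr2, map_one]
  hrz := by rw [← map_inv, ← map_inv, ← map_mul, ← map_mul, ← map_mul, D.hrz]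
  hzr1 := by rw [← map_mul, ← map_mul, D.hzr1]
  hzr2 := by rw [← map_mul, ← map_mul, D.hzr2]
  hu1 := by rw [← map_pow, D.hu1, map_one]
  hu2 := by rw [← map_pow, D.hu2, map_one]
  huc := by rw [← map_mul, ← map_mul, D.huc]
  hu1ne := fun h => D.hu1ne (hf (h.trans (map_one f).symm))
  hune := fun k hk h => D.hune k hk (hf (h.trans (map_pow f D.u1 k).symm))
  hc0 := by rw [← map_inv, ← map_mul, ← map_mul, D.hc0]
  hc1 := by rw [← map_inv, ← map_pow, ← map_mul, ← map_mul, D.hc1, map_mul]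
  hc2 := by rw [← map_inv, ← map_pow, ← map_mul, ← map_mul, D.hc2, map_mul, map_pow]
  hc3 := by rw [← map_inv, ← map_mul, ← map_mul, D.hc3, map_mul, map_pow]
  hc4 := by rw [← map_inv, ← map_pow, ← map_mul, ← map_mul, D.hc4, map_mul, map_pow]

/-- `u2` is not a power of `u1` -/
theorem hune' (D : LocalData G) (k : ℕ) : D.u2 ≠ D.u1 ^ k := by
  intro h
  apply D.hune (k % 5) (Nat.mod_lt _ (by norm_num))
  rw [h]
  conv_lhs => rw [← Nat.div_add_mod k 5]
  rw [pow_add, pow_mul, D.hu1, one_pow, one_mul]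

end LocalData

end Cfsg.Agent.Lib.Helper12.Tits2T
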