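import Cfsg.Agent.Lib.Helper12.Tits2TPerm
import Cfsg.Agent.Lib.Helper12.Tits2TDefs
import Cfsg.Agent.Lib.Helper4.TC.TitsMain

/-!
# S2197 (helper12): the local data in the Tits group

The action on 1600 points is faithful (the presented group is simple), so the kernel checks of `Tits2TPerm` are
identities in the presented group; the data is then transported to `Cfsg.Lie.TitsGroup`.
-/

set_option autoImplicit false
set_option linter.style.haveILetI false

namespace Cfsg.Agent.Lib.Helper12.Tits2T

open Cfsg.Agent.Helper4.TC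

theorem card_P : Nat.card P = 17971200 := TitsPS.main.2

theorem a16_ne_one : a16 ≠ 1 := by
  intro h
  have h1 : (a16 (0 : Fin 1600)).val = 0 := by rw [h]; rfl
  revert h1
  show lk tA 0 = 0 → False
  decide +kernel

theorem sigma_inj : Function.Injective sigma := by
  haveI : IsSimpleGroup P := TitsPS.main.1
  rcases (MonoidHom.normal_ker sigma).eq_bot_or_eq_top with h | h
  · exact (MonoidHom.ker_eq_bot_iff sigma).mp h
  · exfalso
    have hm : pa ∈ sigma.ker := by rw [h]; exact Subgroup.mem_top _
    rw [MonoidHom.mem_ker, sigma_a] at hm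
    exact a16_ne_one hm

theorem E_eq {l1 l2 : List ℕ} (h : ∀ i < 1600, evN l1 i = evN l2 i) : E l1 = E l2 := by
  apply sigma_inj
  rw [sigma_E, sigma_E]
  exact ev16_eq h

theorem pa_sq : pa * pa = 1 := by
  have h := E_eq chk_a2
  simpa [E, ev, lt] using h

theorem E_append (l1 l2 : List ℕ) : E l1 * E l2 = E (l1 ++ l2) := (ev_append pa pb l1 l2).symm

theorem E_inv (l : List ℕ) : (E l)⁻¹ = E (winv l) := (ev_winv pa pb pa_sq l).symm

theorem E_pow (l : List ℕ) (n : ℕ) : E l ^ n = E (wpow l n) := (ev_wpow pa pb l n).symm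

theorem E_nil : E [] = 1 := rfl

/-- the local data in the presented group -/
noncomputable def localP : LocalData P where
  x := E wx
  z := E wz
  r1 := E wr1
  r2 := E wr2
  u1 := E wu1
  u2 := E wu2
  c0 := E gu
  c1 := E wc1
  c2 := E wc2
  c3 := E wc3
  c4 := E wc4
  hx := by rw [E_pow, ← E_nil]; exact E_eq chk_x13
  hx1 := by rw [← E_nil]; exact E_ne 0 (by norm_num) chk_x1
  hz := by rw [E_pow, ← E_nil]; exact E_eq chk_z3
  hz1 := by rw [← E_nil]; exact E_ne 1 (by norm_num) chk_z1
  hzx := by rw [E_inv, E_append, E_append, E_pow]; exact E_eq chk_zx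
  hr1 := by rw [E_pow, ← E_nil]; exact E_eq chk_r1
  hr2 := by rw [E_pow, ← E_nil]; exact E_eq chk_r2
  hrz := by rw [E_inv, E_inv, E_append, E_append, E_append]; exact E_eq chk_rz
  hzr1 := by rw [E_append, E_append]; exact E_eq chk_zr1
  hzr2 := by rw [E_append, E_append]; exact E_eq chk_zr2
  hu1 := by rw [E_pow, ← E_nil]; exact E_eq chk_u1
  hu2 := by rw [E_pow, ← E_nil]; exact E_eq chk_u2
  huc := by rw [E_append, E_append]; exact E_eq chk_uc
  hu1ne := by rw [← E_nil]; exact E_ne 0 (by norm_num) chk_u1ne
  hune := fun k hk => by rw [E_pow]; exact E_ne 0 (by norm_num) (chk_une k hk)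
  hc0 := by rw [E_inv, E_append, E_append]; rfl
  hc1 := by rw [E_inv, E_pow, E_append, E_append, E_append]; exact E_eq chk_c1
  hc2 := by rw [E_inv, E_pow, E_pow, E_append, E_append, E_append]; exact E_eq chk_c2
  hc3 := by rw [E_inv, E_pow, E_append, E_append, E_append]; exact E_eq chk_c3
  hc4 := by rw [E_inv, E_pow, E_pow, E_append, E_append, E_append]; exact E_eq chk_c4

/-- the Tits group is the presented group (helper4's `TitsSchurMain.exists_iso`, restated with a light import closure) -/
theorem exists_iso_P : Nonempty (Cfsg.Lie.TitsGroup ≃* P) := by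
  haveI : IsSimpleGroup TitsMain.P := TitsPS.main.1
  haveI : Finite TitsMain.P := TitsPS.card_top.1
  obtain ⟨θ, hθ⟩ := TitsMain.exists_theta
  haveI : Finite ↥TitsMain.G := Nat.finite_of_card_ne_zero (by rw [TitsMain.card_G]; norm_num)
  have hna : ∃ a b : TitsMain.P, a * b ≠ b * a :=
    not_comm_of_simple_of_not_prime (by rw [TitsPS.main.2]; norm_num)
  have hperf : commutator TitsMain.P = ⊤ := commutator_eq_top_of_simple hna
  have hcr : Nat.card θ.range = 17971200 := by
    rw [← TitsPS.main.2]
    exact Nat.card_congr (MonoidHom.ofInjective hθ).symm.toEquiv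
  have hidx : θ.range.index = 2 := by
    have h1 := θ.range.card_mul_index
    rw [hcr, TitsMain.card_G] at h1
    omega
  have hc := commutator_eq_range_of_index_two θ hperf hidx
  exact ⟨(MulEquiv.subgroupCongr hc).trans (MonoidHom.ofInjective hθ).symm⟩

theorem card_Tits : Nat.card Cfsg.Lie.TitsGroup = 17971200 := by
  obtain ⟨e⟩ := exists_iso_P
  rw [Nat.card_congr e.toEquiv, card_P]

/-- the local data in the Tits group -/
theorem exists_localTits : Nonempty (LocalData Cfsg.Lie.TitsGroup) := by
  obtain ⟨e⟩ := exists_iso_P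
  exact ⟨localP.map e.symm.toMonoidHom e.symm.injective⟩

end Cfsg.Agent.Lib.Helper12.Tits2T
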