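import Mathlib
import Cfsg.Agent.Lib.Helper12.Tits2TDefs
import Cfsg.Agent.Lib.Helper9.Tits2TP1
import Cfsg.Agent.Lib.Helper25.Tits2TP2
import Cfsg.Agent.Lib.Helper3.Tits2TP3
import Cfsg.Agent.Lib.Helper21.Tits2TP4

/-!
# S2197 (helper12): a group of order 17971200 with the local data of the Tits group is not 2-transitive
-/

set_option autoImplicit false

namespace Cfsg.Agent.Lib.Helper12.Tits2T

open MulAction

set_option maxRecDepth 100000 in
theorem arith_aux : ∀ n < 4241, 3 ≤ n → n * (n - 1) ∣ 17971200 →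
    n ∈ [3, 4, 5, 6, 9, 10, 13, 16, 25, 26, 27, 40, 65] := by
  decide +kernel

theorem arith (n : ℕ) (h3 : 3 ≤ n) (hd : n * (n - 1) ∣ 17971200) :
    n < 25 ∨ n = 25 ∨ n = 26 ∨ n = 27 ∨ n = 40 ∨ n = 65 := by
  have hlt : n < 4241 := by
    by_contra hge
    push Not at hge
    have h1 : 4241 * 4240 ≤ n * (n - 1) := Nat.mul_le_mul hge (by omega)
    have h2 := Nat.le_of_dvd (by norm_num) hd
    omega
  have h := arith_aux n hlt h3 hd
  simp only [List.mem_cons, List.not_mem_nil, or_false] at h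
  omega

/-- the degree times the degree minus one divides the order -/
theorem two_trans_dvd {G Ω : Type*} [Group G] [Finite G] [Fintype Ω] [MulAction G Ω]
    (h2 : IsMultiplyPretransitive G Ω 2) (hΩ : 3 ≤ Fintype.card Ω) :
    Fintype.card Ω * (Fintype.card Ω - 1) ∣ Nat.card G := by
  classical
  obtain ⟨s, hs⟩ : ∃ s : Finset Ω, s.card = 2 :=
    Finset.exists_subset_card_eq (s := Finset.univ) (by rw [Finset.card_univ]; omega) |>.imp
      fun s hs => hs.2
  have hn : (s : Set Ω).ncard = 2 := by rw [Set.ncard_coe_finset, hs]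
  have h := IsMultiplyPretransitive.index_of_fixingSubgroup_eq (G := G) (s : Set Ω) (by rw [hn]; exact h2)
  rw [hn, Nat.card_eq_fintype_card] at h
  have h3 : (Fintype.card Ω).choose 2 * Nat.factorial 2 = Fintype.card Ω * (Fintype.card Ω - 1) := by
    rw [mul_comm, ← Nat.descFactorial_eq_factorial_mul_choose]
    simp [Nat.descFactorial, mul_comm]
  rw [h3] at h
  rw [← h]
  exact Subgroup.index_dvd_card _

/-- the order of a point stabilizer -/
theorem card_stab {G Ω : Type*} [Group G] [Finite G] [Fintype Ω] [MulAction G Ω]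
    [IsPretransitive G Ω] (ω : Ω) :
    Nat.card (stabilizer G ω) * Fintype.card Ω = Nat.card G := by
  rw [← Nat.card_eq_fintype_card, ← index_stabilizer_of_transitive G ω]
  exact Subgroup.card_mul_index _

/-- an element of prime order `p` fixing a point: `p` divides the order of the stabilizer -/
theorem dvd_card_stab {G Ω : Type*} [Group G] [Finite G] [MulAction G Ω] (g : G) (p : ℕ)
    (hp : p.Prime) (hg : g ^ p = 1) (hg1 : g ≠ 1) (ω : Ω) (hω : g • ω = ω) :
    p ∣ Nat.card (stabilizer G ω) := by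
  have : Fact p.Prime := ⟨hp⟩
  have ho : orderOf g = p := orderOf_eq_prime hg hg1
  have hmem : g ∈ stabilizer G ω := hω
  have h1 : orderOf (⟨g, hmem⟩ : stabilizer G ω) = p := by
    rw [← ho]
    exact Subgroup.orderOf_mk g hmem
  rw [← h1]
  exact orderOf_dvd_natCard _

/-- the main theorem: no faithful 2-transitive action -/
theorem no_two_trans {G : Type*} [Group G] (D : LocalData G) (hG : Nat.card G = 17971200)
    {Ω : Type*} [Fintype Ω] [MulAction G Ω] [FaithfulSMul G Ω] (hΩ : 3 ≤ Fintype.card Ω) :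
    ¬ IsMultiplyPretransitive G Ω 2 := by
  classical
  intro h2
  have : Finite G := Nat.finite_of_card_ne_zero (by rw [hG]; norm_num)
  have : IsPretransitive G Ω := @isPretransitive_of_is_two_pretransitive G Ω _ _ h2
  have hdvd := two_trans_dvd h2 hΩ
  rw [hG] at hdvd
  have hstab : ∀ ω : Ω, Nat.card (stabilizer G ω) * Fintype.card Ω = 17971200 := fun ω => by
    rw [card_stab ω, hG]
  -- faithful: nontrivial elements move a point
  have hmove : ∀ g : G, g ≠ 1 → ∃ ω : Ω, g • ω ≠ ω := by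
    intro g hg
    by_contra hcon
    push Not at hcon
    apply hg
    apply FaithfulSMul.eq_of_smul_eq_smul (α := Ω)
    intro ω
    rw [hcon ω, one_smul]
  -- the orbit count of `Q = ⟨u1, u2⟩`
  have hconj0 : ∃ c : G, ∃ k : ℕ, ¬ 5 ∣ k ∧ c * D.u1 ^ k * c⁻¹ = D.u2 :=
    ⟨D.c0, 1, by norm_num, by rw [pow_one]; exact D.hc0⟩
  have hconj : ∀ j : ℕ, ∃ c : G, ∃ k : ℕ, ¬ 5 ∣ k ∧ c * D.u1 ^ k * c⁻¹ = D.u1 * D.u2 ^ j := by
    intro j
    have hj : D.u2 ^ j = D.u2 ^ (j % 5) := by
      conv_lhs => rw [← Nat.div_add_mod j 5]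
      rw [pow_add, pow_mul, D.hu2, one_pow, one_mul]
    rw [hj]
    have hlt : j % 5 < 5 := Nat.mod_lt _ (by norm_num)
    interval_cases (j % 5)
    · exact ⟨1, 1, by norm_num, by simp⟩
    · exact ⟨D.c1, 3, by norm_num, by rw [pow_one]; exact D.hc1⟩
    · exact ⟨D.c2, 4, by norm_num, D.hc2⟩
    · exact ⟨D.c3, 1, by norm_num, by rw [pow_one]; exact D.hc3⟩
    · exact ⟨D.c4, 2, by norm_num, D.hc4⟩
  obtain ⟨m, b, hmb⟩ := Q_count (Ω := Ω) D.u1 D.u2 D.hu1 D.hu2 D.huc D.hu1ne D.hune' hconj0 hconj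
  have hf_le : Nat.card {ω : Ω // D.u1 • ω = ω ∧ D.u2 • ω = ω} ≤ Fintype.card Ω := by
    rw [Nat.card_eq_fintype_card]
    exact Fintype.card_subtype_le _
  have hmb0 : ¬ (m = 0 ∧ b = 0) := by
    rintro ⟨rfl, rfl⟩
    obtain ⟨ω, hω⟩ := hmove D.u1 D.hu1ne
    have hlt : Nat.card {ω : Ω // D.u1 • ω = ω ∧ D.u2 • ω = ω} < Fintype.card Ω := by
      rw [Nat.card_eq_fintype_card]
      exact Fintype.card_subtype_lt (x := ω) (fun h => hω h.1)
    omega
  have hf0 : ¬ 25 ∣ 17971200 / Fintype.card Ω → Fintype.card Ω ∣ 17971200 →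
      Nat.card {ω : Ω // D.u1 • ω = ω ∧ D.u2 • ω = ω} = 0 := by
    intro hnd hdv
    by_contra hne
    have hpos : 0 < Nat.card {ω : Ω // D.u1 • ω = ω ∧ D.u2 • ω = ω} := Nat.pos_of_ne_zero hne
    rw [Nat.card_eq_fintype_card, Fintype.card_pos_iff] at hpos
    obtain ⟨⟨ω, h1, h2'⟩⟩ := hpos
    have h25 := Q_stab_dvd D.u1 D.u2 D.hu1 D.hu2 D.huc D.hu1ne D.hune' ω h1 h2'
    apply hnd
    have hs := hstab ω
    have : Nat.card (stabilizer G ω) = 17971200 / Fintype.card Ω := by
      rw [← hs]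
      exact (Nat.mul_div_cancel _ (by omega)).symm
    rw [← this]
    exact h25
  rcases arith (Fintype.card Ω) hΩ hdvd with h | h | h | h | h | h
  · -- fewer than 25 points
    omega
  · exact not_two_trans_25 hG h h2
  · -- 26 points
    have hfree : ∀ ω : Ω, D.x • ω ≠ ω := by
      intro ω hω
      have h13 := dvd_card_stab D.x 13 (by norm_num) D.hx D.hx1 ω hω
      have hs := hstab ω
      rw [h] at hs
      have : Nat.card (stabilizer G ω) = 691200 := by omega
      rw [this] at h13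
      omega
    have hfix := card_fixed_eq_two h D.x D.z D.hx D.hz D.hzx hfree
    have hmoved := nine_dvd_moved (Ω := Ω) D.r1 D.r2 D.z D.hr1 D.hr2 D.hrz D.hzr1 D.hzr2
    have hsum : Nat.card {ω : Ω // D.z • ω = ω} + Nat.card {ω : Ω // D.z • ω ≠ ω} = Fintype.card Ω := by
      classical
      rw [Nat.card_eq_fintype_card, Nat.card_eq_fintype_card]
      exact Fintype.card_subtype_compl (fun ω : Ω => D.z • ω = ω) ▸ by
        have := Fintype.card_subtype_le (fun ω : Ω => D.z • ω = ω)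
        omega
    omega
  · -- 27 points
    obtain ⟨ω, hω⟩ := exists_fixed_27 h D.x D.z D.hx D.hz D.hzx (hmove D.x D.hx1)
    have h3 := dvd_card_stab D.z 3 (by norm_num) D.hz D.hz1 ω hω
    have hs := hstab ω
    rw [h] at hs
    have : Nat.card (stabilizer G ω) = 665600 := by omega
    rw [this] at h3
    omega
  · -- 40 points
    have hf := hf0 (by rw [h]; norm_num) (by rw [h]; norm_num)
    omega
  · -- 65 points
    have hf := hf0 (by rw [h]; norm_num) (by rw [h]; norm_num)
    omega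

end Cfsg.Agent.Lib.Helper12.Tits2T
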