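import Mathlib
import Cfsg.Agent.Lib.Helper12.Tits2TData
import Cfsg.Agent.Lib.Helper4.TC.PresTits

/-!
# S2197 (helper12): the presented Tits group acting on 1600 points

`sigma : P →* Perm (Fin 1600)` for the presented group `P` (helper4's presentation), words as lists of letters
(`0 = a`, `1 = b`, anything else `= b⁻¹`), and a kernel-checkable criterion for equalities of words in the image.
-/

set_option autoImplicit false
set_option linter.unusedSimpArgs false

namespace Cfsg.Agent.Lib.Helper12.Tits2T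

open Cfsg.Agent.Helper4.Pres.Tits

/-- table lookup: 11 bits per entry -/
def lk (t i : ℕ) : ℕ := (t >>> (11 * i)) % 2 ^ 11

/-- one letter acting on a point: `0 = a`, `1 = b`, anything else `= b⁻¹` -/
def stepN (c i : ℕ) : ℕ :=
  match c with
  | 0 => lk tA i
  | 1 => lk tB i
  | _ => lk tBi i

/-- a word acting on a point (the last letter acts first) -/
def evN : List ℕ → ℕ → ℕ
  | [], i => i
  | c :: l, i => stepN c (evN l i)

theorem lkA_lt : ∀ i < 1600, lk tA i < 1600 := by decide +kernel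
theorem lkB_lt : ∀ i < 1600, lk tB i < 1600 := by decide +kernel
theorem lkBi_lt : ∀ i < 1600, lk tBi i < 1600 := by decide +kernel
theorem lkA_inv : ∀ i < 1600, lk tA (lk tA i) = i := by decide +kernel
theorem lkB_l : ∀ i < 1600, lk tBi (lk tB i) = i := by decide +kernel
theorem lkB_r : ∀ i < 1600, lk tB (lk tBi i) = i := by decide +kernel

def fA (i : Fin 1600) : Fin 1600 := ⟨lk tA i.val, lkA_lt i.val i.isLt⟩
def fB (i : Fin 1600) : Fin 1600 := ⟨lk tB i.val, lkB_lt i.val i.isLt⟩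
def fBi (i : Fin 1600) : Fin 1600 := ⟨lk tBi i.val, lkBi_lt i.val i.isLt⟩

/-- the permutation induced by `a` -/
def a16 : Equiv.Perm (Fin 1600) :=
  ⟨fA, fA, fun i => Fin.ext (lkA_inv i.val i.isLt), fun i => Fin.ext (lkA_inv i.val i.isLt)⟩
/-- the permutation induced by `b` -/
def b16 : Equiv.Perm (Fin 1600) :=
  ⟨fB, fBi, fun i => Fin.ext (lkB_l i.val i.isLt), fun i => Fin.ext (lkB_r i.val i.isLt)⟩

section Words

variable {G : Type*} [Group G]

/-- the value of a letter -/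
def lt (a b : G) (c : ℕ) : G :=
  match c with
  | 0 => a
  | 1 => b
  | _ => b⁻¹

/-- the value of a word -/
def ev (a b : G) : List ℕ → G
  | [] => 1
  | c :: l => lt a b c * ev a b l

/-- the inverse letter -/
def linv (c : ℕ) : ℕ :=
  match c with
  | 0 => 0
  | 1 => 2
  | _ => 1

/-- the inverse word -/
def winv (l : List ℕ) : List ℕ := (l.map linv).reverse

/-- the power of a word -/
def wpow (l : List ℕ) : ℕ → List ℕ
  | 0 => []
  | n + 1 => l ++ wpow l n

theorem ev_nil (a b : G) : ev a b [] = 1 := rfl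

theorem ev_cons (a b : G) (c : ℕ) (l : List ℕ) : ev a b (c :: l) = lt a b c * ev a b l := rfl

theorem ev_append (a b : G) (l1 l2 : List ℕ) : ev a b (l1 ++ l2) = ev a b l1 * ev a b l2 := by
  induction l1 with
  | nil => simp [ev]
  | cons c l ih => simp [ev, ih, mul_assoc]

theorem lt_linv (a b : G) (ha : a * a = 1) (c : ℕ) : lt a b (linv c) = (lt a b c)⁻¹ := by
  match c with
  | 0 => exact (inv_eq_of_mul_eq_one_right ha).symm
  | 1 => rfl
  | (n + 2) => simp [lt, linv]

theorem ev_winv (a b : G) (ha : a * a = 1) (l : List ℕ) : ev a b (winv l) = (ev a b l)⁻¹ := by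
  induction l with
  | nil => simp [winv, ev]
  | cons c l ih =>
    have h : winv (c :: l) = winv l ++ [linv c] := by simp [winv]
    rw [h, ev_append, ih, ev_cons, ev_cons, ev_nil, mul_one, lt_linv a b ha, mul_inv_rev]

theorem ev_wpow (a b : G) (l : List ℕ) (n : ℕ) : ev a b (wpow l n) = ev a b l ^ n := by
  induction n with
  | zero => simp [wpow, ev]
  | succ n ih => rw [wpow, ev_append, ih, pow_succ']

theorem map_lt {H : Type*} [Group H] (f : G →* H) (a b : G) (c : ℕ) :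
    f (lt a b c) = lt (f a) (f b) c := by
  match c with
  | 0 => rfl
  | 1 => rfl
  | (n + 2) => simp [lt]

theorem map_ev {H : Type*} [Group H] (f : G →* H) (a b : G) (l : List ℕ) :
    f (ev a b l) = ev (f a) (f b) l := by
  induction l with
  | nil => simp [ev]
  | cons c l ih => rw [ev_cons, ev_cons, map_mul, ih, map_lt]

end Words

theorem ev16_apply (l : List ℕ) (i : Fin 1600) : ((ev a16 b16 l) i).val = evN l i.val := by
  induction l with
  | nil => rfl
  | cons c l ih =>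
    rw [ev_cons, Equiv.Perm.mul_apply, evN, ← ih]
    match c with
    | 0 => rfl
    | 1 => rfl
    | (n + 2) => rfl

theorem ev16_eq {l1 l2 : List ℕ} (h : ∀ i < 1600, evN l1 i = evN l2 i) :
    ev a16 b16 l1 = ev a16 b16 l2 := by
  apply Equiv.ext
  intro i
  apply Fin.ext
  rw [ev16_apply, ev16_apply]
  exact h i.val i.isLt

theorem ev16_ne {l1 l2 : List ℕ} (i : ℕ) (hi : i < 1600) (h : evN l1 i ≠ evN l2 i) :
    ev a16 b16 l1 ≠ ev a16 b16 l2 := by
  intro he
  apply h
  have := congrArg (fun p : Equiv.Perm (Fin 1600) => (p ⟨i, hi⟩).val) he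
  simpa only [ev16_apply] using this

theorem a16_sq : a16 * a16 = 1 := by
  have h := ev16_eq (l1 := [0, 0]) (l2 := []) (by decide +kernel)
  simpa [ev, lt] using h

/-- the image of `y = a b⁻¹ a b a b a` -/
def y16 : Equiv.Perm (Fin 1600) := ev a16 b16 [0, 2, 0, 1, 0, 1, 0]

/-- the images of the generators -/
def genMap : Gen → Equiv.Perm (Fin 1600)
  | Gen.b => b16
  | Gen.a => a16
  | Gen.y => y16

/-- the relators of the presentation -/
abbrev RS : Set (FreeGroup Gen) := Cfsg.Spor.coxRelators edges ∪ {r | r ∈ extra}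

/-- the presented Tits group -/
abbrev P : Type := PresentedGroup RS

theorem rel_ok : ∀ r ∈ RS, FreeGroup.lift genMap r = 1 := by
  intro r hr
  rcases hr with hr | hr
  · simp [Cfsg.Spor.coxRelators, Cfsg.Spor.coxNodes, edges] at hr
  · simp only [Set.mem_ofPred_eq, extra, List.mem_cons, List.not_mem_nil, or_false] at hr
    rcases hr with rfl | rfl | rfl | rfl | rfl | rfl | rfl | rfl | rfl | rfl | rfl <;>
      (simp only [map_mul, map_inv, FreeGroup.lift_apply_of, a, b, y, genMap]; apply Equiv.ext; decide +kernel)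

/-- the action on the 1600 points -/
def sigma : P →* Equiv.Perm (Fin 1600) := PresentedGroup.toGroup rel_ok

/-- the generator `a` of `P` -/
def pa : P := PresentedGroup.of Gen.a
/-- the generator `b` of `P` -/
def pb : P := PresentedGroup.of Gen.b

theorem sigma_a : sigma pa = a16 := PresentedGroup.toGroup.of rel_ok
theorem sigma_b : sigma pb = b16 := PresentedGroup.toGroup.of rel_ok

/-- the value of a word in `P` -/
def E (l : List ℕ) : P := ev pa pb l

theorem sigma_E (l : List ℕ) : sigma (E l) = ev a16 b16 l := by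
  rw [E, map_ev, sigma_a, sigma_b]

theorem E_ne {l1 l2 : List ℕ} (i : ℕ) (hi : i < 1600) (h : evN l1 i ≠ evN l2 i) : E l1 ≠ E l2 := by
  intro he
  apply ev16_ne i hi h
  rw [← sigma_E, ← sigma_E, he]

/-! ### the words -/

def wz : List ℕ := [1]
def gx : List ℕ := [0, 2, 0, 1, 0, 1, 0, 1, 0, 1, 0, 1, 0, 2, 0, 2, 0, 2, 0, 2, 0, 1, 0, 1, 0, 2, 0, 1, 0, 1, 0, 1, 0, 2,
  0, 1]
def wx : List ℕ := gx ++ [1, 0] ++ winv gx
def g1 : List ℕ := [0, 2, 0, 1, 0, 1, 0, 1, 0, 2, 0, 1, 0, 1, 0, 1, 0, 2, 0]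
def g2 : List ℕ := [0, 1, 0, 2, 0, 2, 0, 2, 0, 1, 0, 2, 0, 2, 0, 2, 0, 1, 0]
def wr1 : List ℕ := g1 ++ [1] ++ winv g1
def wr2 : List ℕ := g2 ++ [1] ++ winv g2
def wu1 : List ℕ := [1, 0, 2, 0]
def gu : List ℕ := [2, 0, 2, 0, 1, 0, 2, 0, 2, 0, 2, 0, 1, 0, 1, 0, 1, 0, 2, 0, 2, 0, 2, 0, 1, 0, 1, 0, 1, 0, 2, 0, 1, 0,
  1]
def wu2 : List ℕ := gu ++ wu1 ++ winv gu
def wc1 : List ℕ := [2, 0, 2, 0, 1, 0, 1, 0, 2, 0, 2, 0, 2, 0, 1, 0, 2, 0, 2, 0, 1, 0, 2, 0, 2, 0, 1, 0, 1, 0, 1, 0, 2,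
  0, 1, 0, 1, 0, 1]
def wc2 : List ℕ := [2, 0, 2, 0, 2, 0, 1, 0, 2, 0, 2, 0, 2, 0, 1, 0, 1, 0, 2, 0, 1, 0, 1, 0, 2, 0, 1, 0, 1, 0, 1, 0, 2,
  0, 2, 0, 1, 0, 1]
def wc3 : List ℕ := 0 :: wc2
def wc4 : List ℕ := 0 :: wc1

/-! ### the kernel checks -/

theorem chk_a2 : ∀ i < 1600, evN [0, 0] i = evN [] i := by decide +kernel
theorem chk_x13 : ∀ i < 1600, evN (wpow wx 13) i = evN [] i := by decide +kernel
theorem chk_x1 : evN wx 0 ≠ evN [] 0 := by decide +kernel
theorem chk_z3 : ∀ i < 1600, evN (wpow wz 3) i = evN [] i := by decide +kernel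
theorem chk_z1 : evN wz 1 ≠ evN [] 1 := by decide +kernel
theorem chk_zx : ∀ i < 1600, evN (wz ++ wx ++ winv wz) i = evN (wpow wx 3) i := by decide +kernel
theorem chk_r1 : ∀ i < 1600, evN (wpow wr1 3) i = evN [] i := by decide +kernel
theorem chk_r2 : ∀ i < 1600, evN (wpow wr2 3) i = evN [] i := by decide +kernel
theorem chk_rz : ∀ i < 1600, evN (wr1 ++ wr2 ++ winv wr1 ++ winv wr2) i = evN wz i := by decide +kernel
theorem chk_zr1 : ∀ i < 1600, evN (wr1 ++ wz) i = evN (wz ++ wr1) i := by decide +kernel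
theorem chk_zr2 : ∀ i < 1600, evN (wr2 ++ wz) i = evN (wz ++ wr2) i := by decide +kernel
theorem chk_u1 : ∀ i < 1600, evN (wpow wu1 5) i = evN [] i := by decide +kernel
theorem chk_u2 : ∀ i < 1600, evN (wpow wu2 5) i = evN [] i := by decide +kernel
theorem chk_uc : ∀ i < 1600, evN (wu1 ++ wu2) i = evN (wu2 ++ wu1) i := by decide +kernel
theorem chk_u1ne : evN wu1 0 ≠ evN [] 0 := by decide +kernel
theorem chk_une : ∀ k < 5, evN wu2 0 ≠ evN (wpow wu1 k) 0 := by decide +kernel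
theorem chk_c1 : ∀ i < 1600, evN (wc1 ++ wpow wu1 3 ++ winv wc1) i = evN (wu1 ++ wu2) i := by decide +kernel
theorem chk_c2 : ∀ i < 1600, evN (wc2 ++ wpow wu1 4 ++ winv wc2) i = evN (wu1 ++ wpow wu2 2) i := by
  decide +kernel
theorem chk_c3 : ∀ i < 1600, evN (wc3 ++ wu1 ++ winv wc3) i = evN (wu1 ++ wpow wu2 3) i := by decide +kernel
theorem chk_c4 : ∀ i < 1600, evN (wc4 ++ wpow wu1 2 ++ winv wc4) i = evN (wu1 ++ wpow wu2 4) i := by
  decide +kernel

end Cfsg.Agent.Lib.Helper12.Tits2T
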