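import Mathlib
import Cfsg.Agent.Lib.Helper22.TwoClassSizes
import Cfsg.Agent.Lib.Helper22.Frobenius
import Cfsg.Agent.Lib.Helper12.FixZB

/-!
# Normal subgroups all of whose elements have `G`-class size `1` or `m`

General lemmas (relative versions of the lemmas on groups with two class sizes).
-/

set_option autoImplicit false
set_option linter.style.haveILetI false

namespace Cfsg.Agent.Lib.Helper12.TwoClassN

open Cfsg.Agent.Lib.Helper22 Cfsg.Agent.Lib.Helper22.TwoClass

variable {G : Type*} [Group G]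

/-- hypothesis: all `G`-class sizes of elements of `N` are `1` or `m` -/
def CS (N : Subgroup G) (m : ℕ) : Prop :=
  ∀ x ∈ N, (Subgroup.centralizer ({x} : Set G)).index = 1 ∨
    (Subgroup.centralizer ({x} : Set G)).index = m

theorem eq_of_le_of_index_eq [Finite G] {H K : Subgroup G} (hle : H ≤ K)
    (hi : H.index = K.index) : H = K := by
  have h1 := Subgroup.relIndex_mul_index hle
  rw [hi] at h1
  have hK : K.index ≠ 0 := Subgroup.index_ne_zero_of_finite
  have h2 : H.relIndex K = 1 := by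
    have h3 : H.relIndex K * K.index = 1 * K.index := by rw [one_mul]; exact h1
    exact Nat.eq_of_mul_eq_mul_right (Nat.pos_of_ne_zero hK) h3
  exact le_antisymm hle (Subgroup.relIndex_eq_one.mp h2)

theorem CS.index_eq {N : Subgroup G} {m : ℕ} (h : CS N m) {x : G} (hx : x ∈ N)
    (hxc : x ∉ Subgroup.center G) : (Subgroup.centralizer ({x} : Set G)).index = m := by
  rcases h x hx with h1 | h1
  · exfalso
    apply hxc
    rw [Subgroup.index_eq_one, Subgroup.centralizer_eq_top_iff_subset] at h1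
    exact h1 (Set.mem_singleton x)
  · exact h1

theorem CS.centralizer_eq_of_le [Finite G] {N : Subgroup G} {m : ℕ} (h : CS N m) {x y : G}
    (hx : x ∈ N) (hy : y ∈ N) (hxc : x ∉ Subgroup.center G) (hyc : y ∉ Subgroup.center G)
    (hle : Subgroup.centralizer ({x} : Set G) ≤ Subgroup.centralizer ({y} : Set G)) :
    Subgroup.centralizer ({x} : Set G) = Subgroup.centralizer ({y} : Set G) :=
  eq_of_le_of_index_eq hle ((h.index_eq hx hxc).trans (h.index_eq hy hyc).symm)

/-- the basic coprime-commuting lemma -/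
theorem CS.centralizer_le_of_coprime [Finite G] {N : Subgroup G} {m : ℕ} (h : CS N m) {x y : G}
    (hx : x ∈ N) (hy : y ∈ N) (hxc : x ∉ Subgroup.center G) (hxy : Commute x y)
    (hcop : (orderOf x).Coprime (orderOf y)) :
    Subgroup.centralizer ({x} : Set G) ≤ Subgroup.centralizer ({y} : Set G) := by
  have h1 : x ∈ Subgroup.zpowers (x * y) := mem_zpowers_mul_of_coprime hxy hcop
  have h2 : y ∈ Subgroup.zpowers (x * y) := by
    rw [hxy.eq]
    exact mem_zpowers_mul_of_coprime hxy.symm hcop.symm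
  have hxyc : x * y ∉ Subgroup.center G := by
    intro hc
    apply hxc
    obtain ⟨i, hi⟩ := Subgroup.mem_zpowers_iff.mp h1
    rw [← hi]
    exact Subgroup.zpow_mem _ hc i
  have e : Subgroup.centralizer ({x * y} : Set G) = Subgroup.centralizer ({x} : Set G) :=
    h.centralizer_eq_of_le (N.mul_mem hx hy) hx hxyc hxc (centralizer_le_of_mem_zpowers h1)
  rw [← e]
  exact centralizer_le_of_mem_zpowers h2

theorem coprime_orderOf_of_pow {p q : ℕ} (hp : p.Prime) (hq : q.Prime) (hpq : p ≠ q) {x y : G}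
    (hx : ∃ k : ℕ, x ^ p ^ k = 1) (hy : ∃ k : ℕ, y ^ q ^ k = 1) :
    (orderOf x).Coprime (orderOf y) := by
  obtain ⟨k, hk⟩ := hx
  obtain ⟨l, hl⟩ := hy
  exact Nat.Coprime.coprime_dvd_left (orderOf_dvd_of_pow_eq_one hk)
    (Nat.Coprime.coprime_dvd_right (orderOf_dvd_of_pow_eq_one hl)
      (Nat.coprime_pow_primes k l hp hq hpq))

theorem isPGroup_zpowers_of_pow {s : ℕ} [hs : Fact s.Prime] {g : G}
    (hg : ∃ k : ℕ, g ^ s ^ k = 1) : IsPGroup s ↥(Subgroup.zpowers g) := by
  obtain ⟨k, hk⟩ := hg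
  obtain ⟨j, -, hj⟩ := (Nat.dvd_prime_pow hs.out).mp (orderOf_dvd_of_pow_eq_one hk)
  exact IsPGroup.of_card (n := j) (by rw [Nat.card_zpowers, hj])

/-- if `s` does not divide `m`, the `s`-elements of `N` are central in `N` -/
theorem CS.commute_of_not_dvd [Finite G] {N : Subgroup G} [hN : N.Normal] {m : ℕ} (h : CS N m)
    {s : ℕ} [hs : Fact s.Prime] (hsm : ¬ s ∣ m) {y : G} (hyN : y ∈ N)
    (hy : ∃ k : ℕ, y ^ s ^ k = 1) : ∀ n ∈ N, Commute n y := by
  have hyp : IsPGroup s ↥(Subgroup.zpowers (⟨y, hyN⟩ : ↥N)) := by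
    apply isPGroup_zpowers_of_pow
    obtain ⟨k, hk⟩ := hy
    exact ⟨k, Subtype.ext (by rw [Subgroup.coe_pow, Subgroup.coe_one]; exact hk)⟩
  obtain ⟨S₁, hS₁⟩ := hyp.exists_le_sylow
  have hH : Subgroup.centralizer ((S₁ : Subgroup ↥N) : Set ↥N) = ⊤ := by
    by_contra hH
    obtain ⟨n₀, hn₀⟩ := exists_forall_conj_not_mem _ hH
    have hnd : ¬ s ∣ (Subgroup.centralizer ({(n₀ : G)} : Set G)).index := by
      rcases h n₀ n₀.2 with h1 | h1
      · rw [h1]; exact hs.out.not_dvd_one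
      · rw [h1]; exact hsm
    obtain ⟨S', hS'le, -⟩ := exists_sylow_le_mem_of_not_dvd_index
      (Subgroup.centralizer ({(n₀ : G)} : Set G)) hnd 1 (Subgroup.one_mem _) 0 (by simp)
    have hS₁G : IsPGroup s ↥((S₁ : Subgroup ↥N).map N.subtype) := S₁.2.map _
    obtain ⟨S'', hS''⟩ := hS₁G.exists_le_sylow
    obtain ⟨g, rfl⟩ := MulAction.exists_smul_eq G S' S''
    have hfr := Sylow.normalizer_sup_eq_top S₁
    rw [sup_comm] at hfr
    obtain ⟨b', hb', a', ha', hg⟩ := exists_mul_of_sup_eq_top N _ hfr g⁻¹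
    have hg' : g = a'⁻¹ * b'⁻¹ := by
      rw [← inv_inv g, hg, mul_inv_rev]
    have ha := Subgroup.inv_mem _ ha'
    apply hn₀ ⟨b', hb'⟩
    rw [Subgroup.mem_centralizer_iff]
    intro w hw
    have hwG : (w : G) ∈ (S₁ : Subgroup ↥N).map N.subtype := ⟨w, hw, rfl⟩
    have h1 : a'⁻¹ * (w : G) * a'⁻¹⁻¹ ∈ (S₁ : Subgroup ↥N).map N.subtype :=
      (Subgroup.mem_normalizer_iff.mp ha (w : G)).mp hwG
    have h2 := hS'' h1
    rw [Sylow.coe_subgroup_smul, mem_conj_smul_iff] at h2
    obtain ⟨v, hv, hvw⟩ := h2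
    have hvn : v * (n₀ : G) = (n₀ : G) * v := Subgroup.mem_centralizer_singleton_iff.mp (hS'le hv)
    have hu : (w : G) = b'⁻¹ * v * b' := by
      calc (w : G) = a' * (a'⁻¹ * (w : G) * a'⁻¹⁻¹) * a'⁻¹ := by group
        _ = a' * (g * v * g⁻¹) * a'⁻¹ := by rw [hvw]
        _ = b'⁻¹ * v * b' := by rw [hg']; group
    apply Subtype.ext
    rw [Subgroup.coe_mul, Subgroup.coe_mul, Subgroup.coe_mul, Subgroup.coe_mul, Subgroup.coe_inv,
      hu]
    calc b'⁻¹ * v * b' * (b'⁻¹ * (n₀ : G) * b') = b'⁻¹ * (v * (n₀ : G)) * b' := by group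
      _ = b'⁻¹ * ((n₀ : G) * v) * b' := by rw [hvn]
      _ = b'⁻¹ * (n₀ : G) * b' * (b'⁻¹ * v * b') := by group
  intro n hn
  have h1 : (⟨n, hn⟩ : ↥N) ∈ Subgroup.centralizer ((S₁ : Subgroup ↥N) : Set ↥N) := by
    rw [hH]; trivial
  have h2 := Subgroup.mem_centralizer_iff.mp h1 ⟨y, hyN⟩ (hS₁ (Subgroup.mem_zpowers _))
  have h3 := congrArg Subtype.val h2
  rw [Subgroup.coe_mul, Subgroup.coe_mul] at h3
  exact h3.symm

/-- a `p`-subgroup of `C` containing (the image of) a Sylow `p`-subgroup of `C` equals it -/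
theorem eq_of_sylow_le {s : ℕ} [Fact s.Prime] (C : Subgroup G) (SC : Sylow s ↥C) {Q : Subgroup G}
    (hQC : Q ≤ C) (hQ : IsPGroup s ↥Q) (hle : (SC : Subgroup ↥C).map C.subtype ≤ Q) :
    Q = (SC : Subgroup ↥C).map C.subtype := by
  have h1 : IsPGroup s ↥(Q.subgroupOf C) := hQ.comap_subtype
  have h2 : (SC : Subgroup ↥C) ≤ Q.subgroupOf C := by
    intro c hc
    rw [Subgroup.mem_subgroupOf]
    exact hle ⟨c, hc, rfl⟩
  have h3 := SC.is_maximal' h1 h2
  rw [← h3, Subgroup.map_subgroupOf_eq_of_le hQC]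

/-- if `s` divides the index of `C` and `w ∈ C` is an `s`-element, there is an `s`-element
`v ∉ C` with `v w v⁻¹ ∈ C` -/
theorem exists_conj_mem_not_mem [Finite G] {s : ℕ} [hs : Fact s.Prime] (C : Subgroup G)
    (hsC : s ∣ C.index) {w : G} (hwC : w ∈ C) (hws : ∃ k : ℕ, w ^ s ^ k = 1) :
    ∃ v : G, (∃ j : ℕ, v ^ s ^ j = 1) ∧ v ∉ C ∧ v * w * v⁻¹ ∈ C := by
  have hwp : IsPGroup s ↥(Subgroup.zpowers (⟨w, hwC⟩ : ↥C)) := by
    apply isPGroup_zpowers_of_pow
    obtain ⟨k, hk⟩ := hws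
    exact ⟨k, Subtype.ext (by rw [Subgroup.coe_pow, Subgroup.coe_one]; exact hk)⟩
  obtain ⟨SC, hSC⟩ := hwp.exists_le_sylow
  obtain ⟨S', hS'⟩ : ∃ S' : Subgroup G, S' = (SC : Subgroup ↥C).map C.subtype := ⟨_, rfl⟩
  have hS'p : IsPGroup s ↥S' := by rw [hS']; exact SC.2.map _
  have hS'C : S' ≤ C := by rw [hS']; exact Subgroup.map_subtype_le _
  have hwS' : w ∈ S' := by
    rw [hS']
    exact ⟨⟨w, hwC⟩, hSC (Subgroup.mem_zpowers _), rfl⟩
  obtain ⟨S'', hS''⟩ := hS'p.exists_le_sylow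
  have hcardS' : Nat.card ↥S' = s ^ (Nat.card ↥C).factorization s := by
    rw [hS', Subgroup.card_map_of_injective C.subtype_injective]
    exact SC.card_eq_multiplicity
  have hcardS'' : Nat.card ↥(S'' : Subgroup G) = s ^ (Nat.card G).factorization s :=
    S''.card_eq_multiplicity
  have hne : S' ≠ (S'' : Subgroup G) := by
    intro heq
    have h1 : (Nat.card ↥C).factorization s = (Nat.card G).factorization s := by
      apply Nat.pow_right_injective hs.out.two_le
      show s ^ (Nat.card ↥C).factorization s = s ^ (Nat.card G).factorization s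
      rw [← hcardS', ← hcardS'', heq]
    have h2 := Subgroup.card_mul_index C
    have h3 : (Nat.card G).factorization s =
        (Nat.card ↥C).factorization s + C.index.factorization s := by
      rw [← h2, Nat.factorization_mul Nat.card_pos.ne' Subgroup.index_ne_zero_of_finite]
      rfl
    have h4 : 0 < C.index.factorization s :=
      hs.out.factorization_pos_of_dvd Subgroup.index_ne_zero_of_finite hsC
    omega
  haveI : Group.IsNilpotent ↥(S'' : Subgroup G) := S''.2.isNilpotent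
  have hlt : S'.subgroupOf (S'' : Subgroup G) < ⊤ := by
    rw [lt_top_iff_ne_top]
    intro htop
    rw [Subgroup.subgroupOf_eq_top] at htop
    exact hne (le_antisymm hS'' htop)
  have hnc := Group.normalizerCondition_of_isNilpotent (G := ↥(S'' : Subgroup G)) _ hlt
  obtain ⟨v', hv'n, hv'⟩ := SetLike.exists_of_lt hnc
  -- conjugation by elements of the normalizer preserves `S'`
  have conjS' : ∀ a : ↥(S'' : Subgroup G),
      a ∈ Subgroup.normalizer ((S'.subgroupOf (S'' : Subgroup G) : Subgroup ↥(S'' : Subgroup G)) :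
        Set ↥(S'' : Subgroup G)) →
      ∀ g ∈ S', (a : G) * g * (a : G)⁻¹ ∈ S' := by
    intro a ha g hg
    have h1 : (⟨g, hS'' hg⟩ : ↥(S'' : Subgroup G)) ∈ S'.subgroupOf (S'' : Subgroup G) :=
      Subgroup.mem_subgroupOf.mpr hg
    have h2 := (Subgroup.mem_normalizer_iff.mp ha _).mp h1
    exact Subgroup.mem_subgroupOf.mp h2
  refine ⟨(v' : G), ?_, ?_, ?_⟩
  · obtain ⟨j, hj⟩ := S''.2 v'
    refine ⟨j, ?_⟩
    have h1 := congrArg Subtype.val hj
    rw [Subgroup.coe_pow, Subgroup.coe_one] at h1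
    exact h1
  · intro hvC
    have hvs : ∃ j : ℕ, (v' : G) ^ s ^ j = 1 := by
      obtain ⟨j, hj⟩ := S''.2 v'
      refine ⟨j, ?_⟩
      have h1 := congrArg Subtype.val hj
      rw [Subgroup.coe_pow, Subgroup.coe_one] at h1
      exact h1
    have hnorm : Subgroup.zpowers (v' : G) ≤ Subgroup.normalizer (S' : Set G) := by
      rw [Subgroup.zpowers_le, Subgroup.mem_normalizer_iff]
      intro g
      constructor
      · intro hg
        exact conjS' v' hv'n g hg
      · intro hg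
        have h1 := conjS' v'⁻¹ (Subgroup.inv_mem _ hv'n) _ hg
        rw [Subgroup.coe_inv] at h1
        have h2 : (v' : G)⁻¹ * ((v' : G) * g * (v' : G)⁻¹) * (v' : G)⁻¹⁻¹ = g := by group
        rw [h2] at h1
        exact h1
    have hQ : IsPGroup s ↥(S' ⊔ Subgroup.zpowers (v' : G)) :=
      IsPGroup.to_sup_of_normal_left' hS'p (isPGroup_zpowers_of_pow hvs) hnorm
    have hQC : S' ⊔ Subgroup.zpowers (v' : G) ≤ C :=
      sup_le hS'C (Subgroup.zpowers_le.mpr hvC)
    have heq := eq_of_sylow_le C SC hQC hQ (by rw [← hS']; exact le_sup_left)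
    rw [← hS'] at heq
    apply hv'
    rw [Subgroup.mem_subgroupOf, ← heq]
    exact (le_sup_right : Subgroup.zpowers (v' : G) ≤ S' ⊔ Subgroup.zpowers (v' : G))
      (Subgroup.mem_zpowers _)
  · exact hS'C (conjS' v' hv'n w hwS')

theorem mem_normalizer_of_centralizer_eq {C : Subgroup G} {w v : G}
    (h1 : Subgroup.centralizer ({w} : Set G) = C)
    (h2 : Subgroup.centralizer ({v * w * v⁻¹} : Set G) = C) :
    v ∈ Subgroup.normalizer (C : Set G) := by
  rw [Subgroup.mem_normalizer_iff]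
  intro g
  constructor
  · intro hg
    rw [← h1, Subgroup.mem_centralizer_singleton_iff] at hg
    rw [← h2, Subgroup.mem_centralizer_singleton_iff]
    calc v * g * v⁻¹ * (v * w * v⁻¹) = v * (g * w) * v⁻¹ := by group
      _ = v * (w * g) * v⁻¹ := by rw [hg]
      _ = v * w * v⁻¹ * (v * g * v⁻¹) := by group
  · intro hg
    rw [← h2, Subgroup.mem_centralizer_singleton_iff] at hg
    rw [← h1, Subgroup.mem_centralizer_singleton_iff]
    calc g * w = v⁻¹ * (v * g * v⁻¹ * (v * w * v⁻¹)) * v := by group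
      _ = v⁻¹ * (v * w * v⁻¹ * (v * g * v⁻¹)) * v := by rw [hg]
      _ = w * g := by group

theorem conj_not_mem_center {g w : G} (hw : w ∉ Subgroup.center G) :
    g * w * g⁻¹ ∉ Subgroup.center G := by
  intro hc
  apply hw
  have h1 := Subgroup.mem_center_iff.mp hc g⁻¹
  have h2 : w = g * w * g⁻¹ := by
    calc w = g⁻¹ * (g * w * g⁻¹) * g := by group
      _ = (g * w * g⁻¹) * g⁻¹ * g := by rw [h1]
      _ = g * w * g⁻¹ := by group
  rw [h2]
  exact hc

theorem conj_pow_eq_one {s : ℕ} (g : G) {w : G} (hw : ∃ k : ℕ, w ^ s ^ k = 1) :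
    ∃ k : ℕ, (g * w * g⁻¹) ^ s ^ k = 1 := by
  obtain ⟨k, hk⟩ := hw
  exact ⟨k, by rw [conj_pow, hk, mul_one, mul_inv_cancel]⟩

/-- conjugation action of a subgroup `M` on a subgroup `E` it leaves invariant -/
def conjHom (M E : Subgroup G) (hinv : ∀ g ∈ M, ∀ e ∈ E, g * e * g⁻¹ ∈ E) :
    ↥M →* MulAut ↥E where
  toFun g :=
    { toFun := fun e => ⟨(g : G) * e * (g : G)⁻¹, hinv g g.2 e e.2⟩
      invFun := fun e => ⟨(g : G)⁻¹ * e * (g : G), by
        have h1 := hinv (g : G)⁻¹ (M.inv_mem g.2) e e.2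
        rw [inv_inv] at h1
        exact h1⟩
      left_inv := fun e => Subtype.ext (by simp [mul_assoc])
      right_inv := fun e => Subtype.ext (by simp [mul_assoc])
      map_mul' := fun a b => Subtype.ext (by simp [mul_assoc]) }
  map_one' := by
    ext e
    simp
  map_mul' := fun a b => by
    ext e
    simp [mul_assoc]

theorem conjHom_apply (M E : Subgroup G) (hinv : ∀ g ∈ M, ∀ e ∈ E, g * e * g⁻¹ ∈ E) (g : ↥M)
    (e : ↥E) : ((conjHom M E hinv g e : ↥E) : G) = (g : G) * e * (g : G)⁻¹ := rfl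

end Cfsg.Agent.Lib.Helper12.TwoClassN
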