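import Mathlib
import Cfsg.Agent.Lib.Helper12.TwoClassN

/-!
# Normal subgroups with two `G`-class sizes containing a non-central Sylow subgroup of `G`
-/

set_option autoImplicit false
set_option linter.style.haveILetI false

namespace Cfsg.Agent.Lib.Helper12.TwoClassN

open Cfsg.Agent.Lib.Helper22 Cfsg.Agent.Lib.Helper22.TwoClass Cfsg.Agent.Lib.Helper12.FixZ
open scoped IsMulCommutative

variable {G : Type*} [Group G]

/-- the context -/
structure Ctx (N : Subgroup G) (r m : ℕ) (R : Sylow r G) : Prop where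
  cs : CS N m
  hRN : (R : Subgroup G) ≤ N
  hR : ¬ (R : Subgroup G) ≤ Subgroup.center G

theorem Ctx.rElt_mem [Finite G] {N : Subgroup G} [hN : N.Normal] {r m : ℕ} [hr : Fact r.Prime]
    {R : Sylow r G} (K : Ctx N r m R) {g : G} (hg : ∃ k : ℕ, g ^ r ^ k = 1) : g ∈ N := by
  have hp : IsPGroup r ↥(Subgroup.zpowers g) := isPGroup_zpowers_of_pow hg
  obtain ⟨R', hR'⟩ := hp.exists_le_sylow
  obtain ⟨c, rfl⟩ := MulAction.exists_smul_eq G R R'
  have h1 : g ∈ ((c • R : Sylow r G) : Subgroup G) := hR' (Subgroup.mem_zpowers g)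
  rw [Sylow.coe_subgroup_smul, mem_conj_smul_iff] at h1
  obtain ⟨v, hv, rfl⟩ := h1
  exact hN.conj_mem v (K.hRN hv) c

theorem Ctx.mem_center_of_sylow_le [Finite G] {N : Subgroup G} {r m : ℕ} [hr : Fact r.Prime]
    {R : Sylow r G} (K : Ctx N r m R) (hrm : r ∣ m) {z : G} (hzN : z ∈ N)
    (hz : (R : Subgroup G) ≤ Subgroup.centralizer ({z} : Set G)) : z ∈ Subgroup.center G := by
  by_contra hzc
  have h1 := K.cs.index_eq hzN hzc
  have h2 : (Subgroup.centralizer ({z} : Set G)).index ∣ (R : Subgroup G).index :=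
    Subgroup.index_dvd_of_le hz
  rw [h1] at h2
  exact R.not_dvd_index (dvd_trans hrm h2)

/-- a noncentral element of `N` is centralized by a noncentral `r`-element -/
theorem Ctx.exists_rElt [Finite G] {N : Subgroup G} {r m : ℕ} [hr : Fact r.Prime]
    {R : Sylow r G} (K : Ctx N r m R) {y : G} (hyN : y ∈ N)
    (hyc : y ∉ Subgroup.center G) :
    ∃ x ∈ Subgroup.centralizer ({y} : Set G), (∃ j : ℕ, x ^ r ^ j = 1) ∧
      x ∉ Subgroup.center G := by
  by_contra hcon
  push Not at hcon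
  obtain ⟨x₀, hx₀R, hx₀c⟩ := SetLike.not_le_iff_exists.mp K.hR
  obtain ⟨C, hC⟩ : ∃ C : Subgroup G, C = Subgroup.centralizer ({y} : Set G) := ⟨_, rfl⟩
  obtain ⟨C₀, hC₀⟩ : ∃ C₀ : Subgroup G, C₀ = Subgroup.centralizer ({x₀} : Set G) := ⟨_, rfl⟩
  have hiC : C.index = m := by rw [hC]; exact K.cs.index_eq hyN hyc
  have hiC₀ : C₀.index = m := by rw [hC₀]; exact K.cs.index_eq (K.hRN hx₀R) hx₀c
  have hcard : Nat.card ↥C₀ = Nat.card ↥C := by
    have h1 := Subgroup.card_mul_index C
    have h2 := Subgroup.card_mul_index C₀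
    rw [hiC] at h1
    rw [hiC₀] at h2
    have hm : 0 < m := by
      rw [← hiC]
      exact Nat.pos_of_ne_zero Subgroup.index_ne_zero_of_finite
    exact Nat.eq_of_mul_eq_mul_right hm (h2.trans h1.symm)
  obtain ⟨P⟩ : Nonempty (Sylow r ↥C) := inferInstance
  obtain ⟨P', hP'⟩ : ∃ P' : Subgroup G, P' = (P : Subgroup ↥C).map C.subtype := ⟨_, rfl⟩
  have hP'c : P' ≤ Subgroup.center G := by
    rw [hP']
    rintro _ ⟨c, hc, rfl⟩
    obtain ⟨j, hj⟩ := P.2 ⟨c, hc⟩
    have h1 : c ^ r ^ j = 1 := by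
      have h2 := congrArg Subtype.val hj
      rw [Subgroup.coe_pow, Subgroup.coe_one] at h2
      exact h2
    have h3 : (c : G) ^ r ^ j = 1 := by
      have h2 := congrArg Subtype.val h1
      rw [Subgroup.coe_pow, Subgroup.coe_one] at h2
      exact h2
    have hcC : (c : G) ∈ Subgroup.centralizer ({y} : Set G) := by
      rw [← hC]
      exact c.2
    exact hcon (c : G) hcC ⟨j, h3⟩
  have hP'p : IsPGroup r ↥P' := by rw [hP']; exact P.2.map _
  have cardP' : Nat.card ↥P' = r ^ (Nat.card ↥C).factorization r := by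
    rw [hP', Subgroup.card_map_of_injective C.subtype_injective]
    exact P.card_eq_multiplicity
  have hx₀P' : x₀ ∉ P' := fun hx => hx₀c (hP'c hx)
  haveI hP'n : P'.Normal := by
    constructor
    intro n hn g
    rw [Subgroup.mem_center_iff.mp (hP'c hn) g, mul_inv_cancel_right]
    exact hn
  have hx₀r : ∃ k : ℕ, x₀ ^ r ^ k = 1 := by
    obtain ⟨j, hj⟩ := R.2 ⟨x₀, hx₀R⟩
    refine ⟨j, ?_⟩
    have h2 := congrArg Subtype.val hj
    rw [Subgroup.coe_pow, Subgroup.coe_one] at h2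
    exact h2
  have hP₀ : IsPGroup r ↥(P' ⊔ Subgroup.zpowers x₀) :=
    IsPGroup.to_sup_of_normal_left hP'p (isPGroup_zpowers_of_pow hx₀r)
  have hP₀C₀ : P' ⊔ Subgroup.zpowers x₀ ≤ C₀ := by
    rw [hC₀]
    refine sup_le (hP'c.trans (Subgroup.center_le_centralizer _)) ?_
    rw [Subgroup.zpowers_le, Subgroup.mem_centralizer_singleton_iff]
  obtain ⟨n, hn⟩ := IsPGroup.iff_card.mp hP₀
  have hdvd : r ^ n ∣ Nat.card ↥C₀ := by
    rw [← hn]
    exact Subgroup.card_dvd_of_le hP₀C₀
  have hle : n ≤ (Nat.card ↥C₀).factorization r :=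
    (Nat.Prime.pow_dvd_iff_le_factorization hr.out Nat.card_pos.ne').mp hdvd
  have hcardle : Nat.card ↥(P' ⊔ Subgroup.zpowers x₀ : Subgroup G) ≤ Nat.card ↥P' := by
    rw [hn, cardP', ← hcard]
    exact Nat.pow_le_pow_right hr.out.pos hle
  have heq : P' = P' ⊔ Subgroup.zpowers x₀ := Subgroup.eq_of_le_of_card_ge le_sup_left hcardle
  apply hx₀P'
  rw [heq]
  exact (le_sup_right : Subgroup.zpowers x₀ ≤ P' ⊔ Subgroup.zpowers x₀) (Subgroup.mem_zpowers x₀)

/-- **Core**: in the case `r ∣ m`, every element of `N` of prime power order for a prime `q ≠ r`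
is central in `G`. -/
theorem Ctx.mem_center_of_prime_pow [Finite G] {N : Subgroup G} [hN : N.Normal] {r m : ℕ}
    [hr : Fact r.Prime] {R : Sylow r G} (K : Ctx N r m R) (hrm : r ∣ m) {q : ℕ}
    [hq : Fact q.Prime] (hqr : q ≠ r) {y : G} (hyN : y ∈ N) (hy : ∃ k : ℕ, y ^ q ^ k = 1) :
    y ∈ Subgroup.center G := by
  by_contra hyc
  obtain ⟨C, hC⟩ : ∃ C : Subgroup G, C = Subgroup.centralizer ({y} : Set G) := ⟨_, rfl⟩
  have hCi : C.index = m := by rw [hC]; exact K.cs.index_eq hyN hyc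
  have hyC : y ∈ C := by
    rw [hC, Subgroup.mem_centralizer_singleton_iff]
  obtain ⟨x, hxC', hxr, hxc⟩ := K.exists_rElt hyN hyc
  have hxC : x ∈ C := by rw [hC]; exact hxC'
  have hxN : x ∈ N := K.rElt_mem hxr
  have hyx : Commute y x := (Subgroup.mem_centralizer_singleton_iff.mp hxC').symm
  have hCx : Subgroup.centralizer ({x} : Set G) = C := by
    rw [hC]
    exact (K.cs.centralizer_eq_of_le hyN hxN hyc hxc
      (K.cs.centralizer_le_of_coprime hyN hxN hyc hyx
        (coprime_orderOf_of_pow hq.out hr.out hqr hy hxr))).symm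
  have hCy : Subgroup.centralizer ({y} : Set G) = C := hC.symm
  -- `r`-elements of `C` are central in `C`
  have hrC : ∀ b ∈ C, (∃ k : ℕ, b ^ r ^ k = 1) → C ≤ Subgroup.centralizer ({b} : Set G) := by
    intro b hb hbr
    have hbN := K.rElt_mem hbr
    rw [hC] at hb ⊢
    have hyb : Commute y b := (Subgroup.mem_centralizer_singleton_iff.mp hb).symm
    exact K.cs.centralizer_le_of_coprime hyN hbN hyc hyb
      (coprime_orderOf_of_pow hq.out hr.out hqr hy hbr)
  -- `q`-elements of `C ∩ N` are central in `C`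
  have hqC : ∀ b ∈ C, b ∈ N → (∃ k : ℕ, b ^ q ^ k = 1) →
      C ≤ Subgroup.centralizer ({b} : Set G) := by
    intro b hb hbN hbq
    rw [← hCx] at hb ⊢
    have hxb : Commute x b := (Subgroup.mem_centralizer_singleton_iff.mp hb).symm
    exact K.cs.centralizer_le_of_coprime hxN hbN hxc hxb
      (coprime_orderOf_of_pow hr.out hq.out hqr.symm hxr hbq)
  obtain ⟨E, hE⟩ : ∃ E : Subgroup G, E = C ⊓ Subgroup.centralizer (C : Set G) ⊓ N := ⟨_, rfl⟩
  have hEmem : ∀ g : G, g ∈ E ↔ g ∈ C ∧ (∀ c ∈ C, c * g = g * c) ∧ g ∈ N := by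
    intro g
    rw [hE, Subgroup.mem_inf, Subgroup.mem_inf, Subgroup.mem_centralizer_iff]
    constructor
    · rintro ⟨⟨h1, h2⟩, h3⟩
      exact ⟨h1, fun c hc => h2 c hc, h3⟩
    · rintro ⟨h1, h2, h3⟩
      exact ⟨⟨h1, fun c hc => h2 c hc⟩, h3⟩
  have hE_of : ∀ b ∈ C, b ∈ N → C ≤ Subgroup.centralizer ({b} : Set G) → b ∈ E := by
    intro b hb hbN hle
    rw [hEmem]
    exact ⟨hb, fun c hc => Subgroup.mem_centralizer_singleton_iff.mp (hle hc), hbN⟩
  have hxE : x ∈ E := hE_of x hxC hxN (hrC x hxC hxr)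
  have hyE : y ∈ E := hE_of y hyC hyN (le_of_eq hC)
  have hEcent : ∀ g ∈ E, g ∉ Subgroup.center G → Subgroup.centralizer ({g} : Set G) = C := by
    intro g hg hgc
    obtain ⟨hgC, hgcomm, hgN⟩ := (hEmem g).mp hg
    have hle : Subgroup.centralizer ({y} : Set G) ≤ Subgroup.centralizer ({g} : Set G) := by
      rw [hCy]
      intro c hc
      exact Subgroup.mem_centralizer_singleton_iff.mpr (hgcomm c hc)
    rw [← hCy]
    exact (K.cs.centralizer_eq_of_le hyN hgN hyc hgc hle).symm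
  have hEcomm : ∀ a ∈ E, ∀ b ∈ E, a * b = b * a := by
    intro a ha b hb
    exact ((hEmem b).mp hb).2.1 a ((hEmem a).mp ha).1
  by_cases hqm : q ∣ m
  swap
  · -- `q ∤ m`: then `y ∈ Z(N)` and `N ≤ C`
    have hcomm := K.cs.commute_of_not_dvd hqm hyN hy
    apply hxc
    apply K.mem_center_of_sylow_le hrm hxN
    intro u hu
    rw [hCx, hC]
    exact Subgroup.mem_centralizer_singleton_iff.mpr (hcomm u (K.hRN hu)).eq
  · obtain ⟨u, hur, huC, huw⟩ := exists_conj_mem_not_mem C (by rw [hCi]; exact hrm) hxC hxr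
    obtain ⟨v, hvq, hvC, hvw⟩ := exists_conj_mem_not_mem C (by rw [hCi]; exact hqm) hyC hy
    have huxE : u * x * u⁻¹ ∈ E :=
      hE_of _ huw (hN.conj_mem x hxN u) (hrC _ huw (conj_pow_eq_one u hxr))
    have hux : Subgroup.centralizer ({u * x * u⁻¹} : Set G) = C :=
      hEcent _ huxE (conj_not_mem_center hxc)
    have hvyE : v * y * v⁻¹ ∈ E :=
      hE_of _ hvw (hN.conj_mem y hyN v) (hqC _ hvw (hN.conj_mem y hyN v) (conj_pow_eq_one v hy))
    have hvy : Subgroup.centralizer ({v * y * v⁻¹} : Set G) = C :=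
      hEcent _ hvyE (conj_not_mem_center hyc)
    obtain ⟨M, hM⟩ : ∃ M : Subgroup G, M = Subgroup.normalizer (C : Set G) := ⟨_, rfl⟩
    have huM : u ∈ M := by rw [hM]; exact mem_normalizer_of_centralizer_eq hCx hux
    have hvM : v ∈ M := by rw [hM]; exact mem_normalizer_of_centralizer_eq hCy hvy
    have hinv : ∀ g ∈ M, ∀ e ∈ E, g * e * g⁻¹ ∈ E := by
      intro g hg e he
      obtain ⟨heC, hecomm, heN⟩ := (hEmem e).mp he
      rw [hEmem]
      rw [hM] at hg
      have hgn := Subgroup.mem_normalizer_iff.mp hg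
      refine ⟨(hgn e).mp heC, ?_, hN.conj_mem e heN g⟩
      intro c hc
      have hc' : g⁻¹ * c * g ∈ C := by
        rw [hgn]
        have h1 : g * (g⁻¹ * c * g) * g⁻¹ = c := by group
        rw [h1]
        exact hc
      have h1 := hecomm _ hc'
      calc c * (g * e * g⁻¹) = g * (g⁻¹ * c * g * e) * g⁻¹ := by group
        _ = g * (e * (g⁻¹ * c * g)) * g⁻¹ := by rw [h1]
        _ = g * e * g⁻¹ * c := by group
    haveI : IsMulCommutative ↥E := ⟨⟨fun a b => Subtype.ext (hEcomm a a.2 b b.2)⟩⟩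
    let ψ : ↥M →* MulAut ↥E := conjHom M E hinv
    haveI : Finite ↥(ψ.range) := Finite.of_surjective ψ.rangeRestrict ψ.rangeRestrict_surjective
    have hfix : FixHyp (ψ.range).subtype ((Subgroup.center G).subgroupOf E) := by
      intro f hf e
      obtain ⟨g, hg⟩ := MonoidHom.mem_range.mp f.2
      have key : ∀ e' : ↥E, ((((ψ.range).subtype f) e' : ↥E) : G) =
          (g : G) * e' * (g : G)⁻¹ := by
        intro e'
        show (((f : MulAut ↥E) e' : ↥E) : G) = _
        rw [← hg]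
        rfl
      constructor
      · intro hfe
        by_contra heZ
        have hec : (e : G) ∉ Subgroup.center G := fun hc => heZ (Subgroup.mem_subgroupOf.mpr hc)
        have hge : (g : G) * e * (g : G)⁻¹ = e := by
          rw [← key e, hfe]
        have hgC : (g : G) ∈ C := by
          rw [← hEcent e e.2 hec, Subgroup.mem_centralizer_singleton_iff]
          calc (g : G) * e = ((g : G) * e * (g : G)⁻¹) * g := by group
            _ = e * g := by rw [hge]
        apply hf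
        apply Subtype.ext
        rw [← hg, Subgroup.coe_one]
        ext e'
        show (g : G) * e' * (g : G)⁻¹ = e'
        rw [((hEmem e').mp e'.2).2.1 g hgC, mul_inv_cancel_right]
      · intro heZ
        have hc : (e : G) ∈ Subgroup.center G := Subgroup.mem_subgroupOf.mp heZ
        apply Subtype.ext
        rw [key e, Subgroup.mem_center_iff.mp hc g, mul_inv_cancel_right]
    have coe_pow_one : ∀ (s : ℕ) (w : G) (hw : w ∈ E), (∃ k : ℕ, w ^ s ^ k = 1) →
        ∃ k : ℕ, (⟨w, hw⟩ : ↥E) ^ s ^ k = 1 := by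
      rintro s w hw ⟨k, hk⟩
      exact ⟨k, Subtype.ext (by rw [Subgroup.coe_pow, Subgroup.coe_one]; exact hk)⟩
    have coe_pow_one' : ∀ (s : ℕ) (w : G) (hw : w ∈ M), (∃ k : ℕ, w ^ s ^ k = 1) →
        ∃ k : ℕ, (ψ.rangeRestrict ⟨w, hw⟩) ^ s ^ k = 1 := by
      rintro s w hw ⟨k, hk⟩
      refine ⟨k, ?_⟩
      rw [← map_pow]
      have h1 : (⟨w, hw⟩ : ↥M) ^ s ^ k = 1 :=
        Subtype.ext (by rw [Subgroup.coe_pow, Subgroup.coe_one]; exact hk)
      rw [h1, map_one]
    have ne_one : ∀ (t w : G) (ht : t ∈ M) (hw : w ∈ E), t ∉ C →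
        Subgroup.centralizer ({w} : Set G) = C → ψ.rangeRestrict ⟨t, ht⟩ ≠ 1 := by
      intro t w ht hw htC hwC h1
      have h2 : ψ ⟨t, ht⟩ = 1 := by
        have h3 := congrArg Subtype.val h1
        rw [MonoidHom.coe_rangeRestrict, Subgroup.coe_one] at h3
        exact h3
      have h3 : t * w * t⁻¹ = w :=
        congrArg (fun a : MulAut ↥E => ((a ⟨w, hw⟩ : ↥E) : G)) h2
      apply htC
      rw [← hwC, Subgroup.mem_centralizer_singleton_iff]
      calc t * w = (t * w * t⁻¹) * t := by group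
        _ = w * t := by rw [h3]
    have S : Setup (ψ.range).subtype ((Subgroup.center G).subgroupOf E) r q :=
      { fix := hfix
        hp := hr.out
        hq := hq.out
        hpq := hqr.symm
        ex_ap := ⟨⟨x, hxE⟩, fun hz => hxc (Subgroup.mem_subgroupOf.mp hz), coe_pow_one r x hxE hxr⟩
        ex_aq := ⟨⟨y, hyE⟩, fun hz => hyc (Subgroup.mem_subgroupOf.mp hz), coe_pow_one q y hyE hy⟩
        ex_tp := ⟨ψ.rangeRestrict ⟨u, huM⟩, ne_one u x huM hxE huC hCx, coe_pow_one' r u huM hur⟩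
        ex_tq := ⟨ψ.rangeRestrict ⟨v, hvM⟩, ne_one v y hvM hyE hvC hCy, coe_pow_one' q v hvM hvq⟩ }
    exact S.false

/-- nilpotency from centrality of the `q`-elements, `q ≠ r` -/
theorem isNilpotent_of_commute [Finite G] (N : Subgroup G) (r : ℕ)
    (hcomm : ∀ q : ℕ, q.Prime → q ≠ r → ∀ y ∈ N, (∃ k : ℕ, y ^ q ^ k = 1) →
      ∀ n ∈ N, Commute n y) : Group.IsNilpotent ↥N := by
  have tfae := Group.isNilpotent_of_finite_tfae (G := ↥N)
  apply (tfae.out 0 3).mpr
  intro p hp P
  have central : ∀ s : ℕ, s.Prime → s ≠ r → ∀ g : ↥N, (∃ k : ℕ, g ^ s ^ k = 1) →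
      ∀ n : ↥N, g * n * g⁻¹ = n := by
    rintro s hs hsr g ⟨k, hk⟩ n
    have h1 : ∃ k : ℕ, (g : G) ^ s ^ k = 1 := by
      refine ⟨k, ?_⟩
      have h2 := congrArg Subtype.val hk
      rw [Subgroup.coe_pow, Subgroup.coe_one] at h2
      exact h2
    have h2 : Commute (n : G) (g : G) := hcomm s hs hsr g g.2 h1 n n.2
    apply Subtype.ext
    rw [Subgroup.coe_mul, Subgroup.coe_mul, Subgroup.coe_inv, ← h2.eq, mul_inv_cancel_right]
  by_cases hpr : p = r
  swap
  · constructor
    intro n hn g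
    have h1 : g * n * g⁻¹ = n := by
      have h2 := central p hp.out hpr n (P.2 ⟨n, hn⟩ |>.imp fun k hk => by
        have h3 := congrArg Subtype.val hk
        rw [Subgroup.coe_pow, Subgroup.coe_one] at h3
        exact h3) g⁻¹
      calc g * n * g⁻¹ = g * (n * g⁻¹ * n⁻¹) * n := by group
        _ = g * g⁻¹ * n := by rw [h2]
        _ = n := by group
    rw [h1]
    exact hn
  · have hidx : (Subgroup.normalizer ((P : Subgroup ↥N) : Set ↥N)).index = 1 := by
      rw [Nat.eq_one_iff_not_exists_prime_dvd]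
      intro s hs hdvd
      haveI : Fact s.Prime := ⟨hs⟩
      by_cases hsp : s = p
      · subst hsp
        exact P.not_dvd_index (dvd_trans hdvd (Subgroup.index_dvd_of_le Subgroup.le_normalizer))
      · obtain ⟨Q⟩ : Nonempty (Sylow s ↥N) := inferInstance
        have hQle : (Q : Subgroup ↥N) ≤ Subgroup.normalizer ((P : Subgroup ↥N) : Set ↥N) := by
          intro g hg
          rw [Subgroup.mem_normalizer_iff]
          intro n
          have hgs : ∃ k : ℕ, g ^ s ^ k = 1 := by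
            obtain ⟨k, hk⟩ := Q.2 ⟨g, hg⟩
            refine ⟨k, ?_⟩
            have h3 := congrArg Subtype.val hk
            rw [Subgroup.coe_pow, Subgroup.coe_one] at h3
            exact h3
          rw [central s hs (fun h1 => hsp (h1.trans hpr.symm)) g hgs n]
        exact Q.not_dvd_index (dvd_trans hdvd (Subgroup.index_dvd_of_le hQle))
    have htop := Subgroup.index_eq_one.mp hidx
    exact Subgroup.normalizer_eq_top_iff.mp htop

end Cfsg.Agent.Lib.Helper12.TwoClassN
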