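import Cfsg.Agent.Lib.Helper12.U33Rank4Data

/-!
# S3670, piece (B2) (helper12): the commutant of the rank 4 action on 63 points

`sigma : P →* Perm (Fin 63)` for the presented group `P` of order 6048; the orbital function `clsF` is invariant; every
function on pairs invariant under the two generators is constant on the four orbitals (breadth-first certificate).
-/

set_option autoImplicit false
set_option linter.unusedSimpArgs false

namespace Cfsg.Agent.Lib.Helper12.U33Rank4

open Cfsg.Agent.Helper4.Pres.U33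

/-- table lookup: `w` bits per entry -/
def lk (w t a : ℕ) : ℕ := (t >>> (w * a)) % 2 ^ w

def fA (i : Fin 63) : Fin 63 := ⟨lk 6 tA i.val % 63, Nat.mod_lt _ (by norm_num)⟩
def fB (i : Fin 63) : Fin 63 := ⟨lk 6 tB i.val % 63, Nat.mod_lt _ (by norm_num)⟩
def fBi (i : Fin 63) : Fin 63 := ⟨lk 6 tBi i.val % 63, Nat.mod_lt _ (by norm_num)⟩

theorem fA_inv : ∀ i, fA (fA i) = i := by decide +kernel
theorem fB_l : ∀ i, fBi (fB i) = i := by decide +kernel
theorem fB_r : ∀ i, fB (fBi i) = i := by decide +kernel

/-- the permutation induced by `a` -/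
def a63 : Equiv.Perm (Fin 63) := ⟨fA, fA, fA_inv, fA_inv⟩
/-- the permutation induced by `b` -/
def b63 : Equiv.Perm (Fin 63) := ⟨fB, fBi, fB_l, fB_r⟩

/-- the orbital of a pair of points -/
def clsF (i j : Fin 63) : Fin 4 := ⟨lk 2 CLS (63 * i.val + j.val) % 4, Nat.mod_lt _ (by norm_num)⟩

/-- the images of the generators -/
def genMap : Gen → Equiv.Perm (Fin 63)
  | Gen.a => a63
  | Gen.b => b63

/-- the relators of the presentation -/
abbrev RS : Set (FreeGroup Gen) := Cfsg.Spor.coxRelators edges ∪ {r | r ∈ extra}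

/-- the presented group of order 6048 -/
abbrev P : Type := PresentedGroup RS

theorem rel1 : a63 * a63 = 1 := by apply Equiv.ext; decide +kernel
theorem rel2 : b63 * b63 * b63 * b63 * b63 * b63 = 1 := by apply Equiv.ext; decide +kernel
theorem rel3 : a63 * b63 * a63 * b63 * a63 * b63 * a63 * b63 * a63 * b63 * a63 * b63 * a63 * b63 = 1 := by
  apply Equiv.ext; decide +kernel
theorem rel4 : a63 * b63⁻¹ * b63⁻¹ * a63 * b63⁻¹ * b63⁻¹ * a63 * b63⁻¹ * b63⁻¹ * a63 * b63 * b63 * a63 * b63 * b63 *
    a63 * b63 * b63 = 1 := by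
  apply Equiv.ext; decide +kernel
theorem rel5 : a63 * b63⁻¹ * a63 * b63 * a63 * b63 * a63 * b63⁻¹ * a63 * b63 * b63 * a63 * b63⁻¹ * a63 * b63 * b63 *
    a63 * b63⁻¹ * a63 * b63 * b63 = 1 := by
  apply Equiv.ext; decide +kernel

theorem rel_ok : ∀ r ∈ RS, FreeGroup.lift genMap r = 1 := by
  intro r hr
  rcases hr with hr | hr
  · simp [Cfsg.Spor.coxRelators, Cfsg.Spor.coxNodes, edges] at hr
  · simp only [Set.mem_ofPred_eq, extra, List.mem_cons, List.not_mem_nil, or_false] at hr
    rcases hr with rfl | rfl | rfl | rfl | rfl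
    · simp only [map_mul, map_inv, FreeGroup.lift_apply_of, a, b, genMap]; exact rel1
    · simp only [map_mul, map_inv, FreeGroup.lift_apply_of, a, b, genMap]; exact rel2
    · simp only [map_mul, map_inv, FreeGroup.lift_apply_of, a, b, genMap]; exact rel3
    · simp only [map_mul, map_inv, FreeGroup.lift_apply_of, a, b, genMap]; exact rel4
    · simp only [map_mul, map_inv, FreeGroup.lift_apply_of, a, b, genMap]; exact rel5

/-- the action on the 63 points -/
def sigma : P →* Equiv.Perm (Fin 63) := PresentedGroup.toGroup rel_ok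

theorem sigma_a : sigma (PresentedGroup.of Gen.a) = a63 := PresentedGroup.toGroup.of rel_ok
theorem sigma_b : sigma (PresentedGroup.of Gen.b) = b63 := PresentedGroup.toGroup.of rel_ok

theorem cls_a : ∀ i j, clsF (a63 i) (a63 j) = clsF i j := by decide +kernel
theorem cls_b : ∀ i j, clsF (b63 i) (b63 j) = clsF i j := by decide +kernel

/-- the permutations preserving the orbitals -/
def clsStab : Subgroup (Equiv.Perm (Fin 63)) where
  carrier := {π | ∀ i j, clsF (π i) (π j) = clsF i j}
  mul_mem' := fun {π ρ} ha hb i j => by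
    rw [Equiv.Perm.mul_apply, Equiv.Perm.mul_apply, ha, hb]
  one_mem' := fun _ _ => rfl
  inv_mem' := fun {π} h i j => by
    have h0 := h (π⁻¹ i) (π⁻¹ j)
    have hi : π (π⁻¹ i) = i := Equiv.apply_symm_apply π i
    have hj : π (π⁻¹ j) = j := Equiv.apply_symm_apply π j
    rw [hi, hj] at h0
    exact h0.symm

theorem sigma_mem (g : P) : sigma g ∈ clsStab := by
  have h : (⊤ : Subgroup P) ≤ clsStab.comap sigma := by
    rw [← PresentedGroup.closure_range_of, Subgroup.closure_le]
    rintro _ ⟨x, rfl⟩
    show sigma (PresentedGroup.of x) ∈ clsStab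
    cases x with
    | a => rw [sigma_a]; exact cls_a
    | b => rw [sigma_b]; exact cls_b
  exact h (Subgroup.mem_top g)

theorem cls_sigma (g : P) (i j : Fin 63) : clsF (sigma g i) (sigma g j) = clsF i j :=
  sigma_mem g i j

/-- base points of the orbitals of the point `0` -/
def base (c : Fin 4) : Fin 63 := ![0, 6, 3, 1] c

def depF (i j : Fin 63) : ℕ := lk 5 DEP (63 * i.val + j.val)
def parI (i j : Fin 63) : Fin 63 :=
  ⟨(lk 12 PAR (63 * i.val + j.val) / 63) % 63, Nat.mod_lt _ (by norm_num)⟩
def parJ (i j : Fin 63) : Fin 63 :=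
  ⟨lk 12 PAR (63 * i.val + j.val) % 63, Nat.mod_lt _ (by norm_num)⟩
def gbF (i j : Fin 63) : Bool := lk 1 GB (63 * i.val + j.val) == 1

theorem cert : ∀ i j : Fin 63, (i = 0 ∧ j = base (clsF i j)) ∨
    (depF (parI i j) (parJ i j) < depF i j ∧
      ((gbF i j = false ∧ a63 (parI i j) = i ∧ a63 (parJ i j) = j) ∨
       (gbF i j = true ∧ b63 (parI i j) = i ∧ b63 (parJ i j) = j))) := by decide +kernel

/-- a function on pairs of points invariant under the two generators is constant on the orbitals -/
theorem const_on_cls {α : Type*} (T : Fin 63 → Fin 63 → α)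
    (hA : ∀ i j, T (a63 i) (a63 j) = T i j) (hB : ∀ i j, T (b63 i) (b63 j) = T i j) :
    ∀ i j, T i j = T 0 (base (clsF i j)) := by
  have key : ∀ d i j, depF i j ≤ d → T i j = T 0 (base (clsF i j)) := by
    intro d
    induction d with
    | zero =>
      intro i j h
      rcases cert i j with ⟨hi, hj⟩ | ⟨hlt, _⟩
      · rw [← hj, hi]
      · omega
    | succ d ih =>
      intro i j h
      rcases cert i j with ⟨hi, hj⟩ | ⟨hlt, hg⟩
      · rw [← hj, hi]
      · have h1 := ih (parI i j) (parJ i j) (by omega)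
        rcases hg with ⟨_, h2, h3⟩ | ⟨_, h2, h3⟩
        · have e1 := hA (parI i j) (parJ i j)
          have e2 := cls_a (parI i j) (parJ i j)
          rw [h2, h3] at e1 e2
          rw [e1, e2, h1]
        · have e1 := hB (parI i j) (parJ i j)
          have e2 := cls_b (parI i j) (parJ i j)
          rw [h2, h3] at e1 e2
          rw [e1, e2, h1]
  intro i j
  exact key _ i j le_rfl

theorem cls_diag : ∀ i : Fin 63, clsF i i = 0 := by decide +kernel

end Cfsg.Agent.Lib.Helper12.U33Rank4
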