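import Cfsg.Agent.Lib.Helper12.U33Rank4Irr
import Cfsg.Agent.Lib.Helper18.PermIdem
import Cfsg.Agent.Lib.Helper4.TC.U33PSMain

/-!
# S3670, pieces (L14) and (L21) (helper12): irreducible characters of degree 14 and 21 of the presented group of order 6048
-/

set_option autoImplicit false

namespace Cfsg.Agent.Lib.Helper12.U33Rank4

instance finiteP : Finite P := Cfsg.Agent.Helper4.TC.U33PS.card_top.1

theorem b1P : B1Statement P := fun σ E hE2 d htr hd hEc hmin =>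
  Cfsg.Agent.Lib.Helper18.PermIdem.exists_irr_of_idempotent σ E hE2 d htr hd hEc hmin

/-- (L21) of S3670 -/
theorem l21 : ∃ χ : Cfsg.IrrCharacter (PresentedGroup Cfsg.Agent.Helper4.TC.U33PS.Rset),
    21 ∣ Cfsg.charDegree (χ : PresentedGroup Cfsg.Agent.Helper4.TC.U33PS.Rset → ℂ) := by
  obtain ⟨χ, h⟩ := irr21 b1P
  exact ⟨χ, by rw [h]⟩

/-- (L14) of S3670 -/
theorem l14 : ∃ χ : Cfsg.IrrCharacter (PresentedGroup Cfsg.Agent.Helper4.TC.U33PS.Rset),
    14 ∣ Cfsg.charDegree (χ : PresentedGroup Cfsg.Agent.Helper4.TC.U33PS.Rset → ℂ) := by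
  obtain ⟨χ, h⟩ := irr14 b1P
  exact ⟨χ, by rw [h]⟩

end Cfsg.Agent.Lib.Helper12.U33Rank4
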