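import Cfsg.Agent.Lib.Helper12.U33Rank4
import Cfsg.Prelude.Def_Characters
import Cfsg.Prelude.Def_Blocks

/-!
# S3670, piece (B2) (helper12): irreducible characters of degree 21 and 14 of the presented group of order 6048

From the generic lemma (B1) (an invariant idempotent `E` of the permutation module which is minimal in the commutant gives an
irreducible character of degree `trace E`) applied to `E = F / κ`, `F i j = φ (orbital of (i, j))`.
-/

set_option autoImplicit false

namespace Cfsg.Agent.Lib.Helper12.U33Rank4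

open Cfsg.Agent.Helper4.Pres.U33

/-- the statement of the generic lemma (B1) for a group `G` -/
def B1Statement (G : Type) [Group G] : Prop :=
  ∀ {n : ℕ} (σ : G →* Equiv.Perm (Fin n)) (E : Matrix (Fin n) (Fin n) ℂ) (_ : E * E = E) (d : ℕ)
    (_ : E.trace = d) (_ : 0 < d) (_ : ∀ g i j, E (σ g i) (σ g j) = E i j)
    (_ : ∀ T : Matrix (Fin n) (Fin n) ℂ, (∀ g i j, T (σ g i) (σ g j) = T i j) → ∃ c : ℂ, T * E = c • E),
    ∃ χ : Cfsg.IrrCharacter G, Cfsg.charDegree (χ : G → ℂ) = d

/-- the matrix `F / κ` -/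
noncomputable def Emat (φ : Fin 4 → ℤ) (κ : ℤ) : Matrix (Fin 63) (Fin 63) ℂ :=
  fun i j => ((φ (clsF i j) : ℤ) : ℂ) / (κ : ℂ)

theorem main_irr (hB1 : B1Statement P) (φ θ : Fin 4 → ℤ) (κ : ℤ) (d : ℕ) (hκ : κ ≠ 0) (hd : 0 < d)
    (hMF : ∀ c : Fin 4, ∀ i j : Fin 63,
      ∑ k : Fin 63, (if clsF i k = c then φ (clsF k j) else 0) = θ c * φ (clsF i j))
    (hFF : ∀ i j : Fin 63, ∑ k : Fin 63, φ (clsF i k) * φ (clsF k j) = κ * φ (clsF i j))
    (htr : 63 * φ 0 = κ * d) :
    ∃ χ : Cfsg.IrrCharacter P, Cfsg.charDegree (χ : P → ℂ) = d := by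
  have hκ' : (κ : ℂ) ≠ 0 := by exact_mod_cast hκ
  refine hB1 sigma (Emat φ κ) ?_ d ?_ hd ?_ ?_
  · -- idempotent
    ext i j
    simp only [Matrix.mul_apply, Emat]
    have h := hFF i j
    have h2 : ∑ k : Fin 63, ((φ (clsF i k) : ℤ) : ℂ) / κ * (((φ (clsF k j) : ℤ) : ℂ) / κ) =
        (((∑ k : Fin 63, φ (clsF i k) * φ (clsF k j) : ℤ)) : ℂ) / (κ * κ) := by
      push_cast
      rw [Finset.sum_div]
      refine Finset.sum_congr rfl fun k _ => ?_
      field_simp
    rw [h2, h]
    push_cast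
    field_simp
  · -- trace
    simp only [Matrix.trace, Matrix.diag, Emat, cls_diag]
    rw [Finset.sum_const, Finset.card_univ, Fintype.card_fin, nsmul_eq_mul]
    have h : ((63 * φ 0 : ℤ) : ℂ) = ((κ * d : ℤ) : ℂ) := by rw [htr]
    push_cast at h
    field_simp
    linear_combination h
  · intro g i j
    simp only [Emat, cls_sigma]
  · intro T hT
    have hA : ∀ i j, T (a63 i) (a63 j) = T i j := by
      intro i j
      have := hT (PresentedGroup.of Gen.a) i j
      rwa [sigma_a] at this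
    have hB : ∀ i j, T (b63 i) (b63 j) = T i j := by
      intro i j
      have := hT (PresentedGroup.of Gen.b) i j
      rwa [sigma_b] at this
    have hc := const_on_cls (fun i j => T i j) hA hB
    refine ⟨∑ c : Fin 4, T 0 (base c) * (θ c : ℂ), ?_⟩
    ext i j
    simp only [Matrix.mul_apply, Matrix.smul_apply, smul_eq_mul, Emat]
    calc ∑ k : Fin 63, T i k * (((φ (clsF k j) : ℤ) : ℂ) / κ)
        = ∑ k : Fin 63, ∑ c : Fin 4,
            (if clsF i k = c then T 0 (base c) * (((φ (clsF k j) : ℤ) : ℂ) / κ) else 0) := by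
          refine Finset.sum_congr rfl fun k _ => ?_
          rw [Finset.sum_ite_eq, if_pos (Finset.mem_univ _)]
          rw [hc i k]
      _ = ∑ c : Fin 4, ∑ k : Fin 63,
            (if clsF i k = c then T 0 (base c) * (((φ (clsF k j) : ℤ) : ℂ) / κ) else 0) :=
          Finset.sum_comm
      _ = ∑ c : Fin 4, T 0 (base c) *
            ((((∑ k : Fin 63, if clsF i k = c then φ (clsF k j) else 0 : ℤ)) : ℂ) / κ) := by
          refine Finset.sum_congr rfl fun c _ => ?_
          push_cast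
          rw [Finset.sum_div, Finset.mul_sum]
          refine Finset.sum_congr rfl fun k _ => ?_
          split_ifs <;> simp
      _ = ∑ c : Fin 4, T 0 (base c) * (((θ c * φ (clsF i j) : ℤ) : ℂ) / κ) := by
          refine Finset.sum_congr rfl fun c _ => ?_
          rw [hMF c i j]
      _ = (∑ c : Fin 4, T 0 (base c) * (θ c : ℂ)) * (((φ (clsF i j) : ℤ) : ℂ) / κ) := by
          rw [Finset.sum_mul]
          refine Finset.sum_congr rfl fun c _ => ?_
          push_cast
          ring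

/-! ### reduction of the matrix identities to the base pairs -/

/-- a product of two orbital-constant matrices is orbital-constant -/
theorem prod_const (x y : Fin 4 → ℤ) (i j : Fin 63) :
    ∑ k : Fin 63, x (clsF i k) * y (clsF k j) =
      ∑ k : Fin 63, x (clsF 0 k) * y (clsF k (base (clsF i j))) := by
  refine const_on_cls (fun i j => ∑ k : Fin 63, x (clsF i k) * y (clsF k j)) ?_ ?_ i j
  · intro i j
    show ∑ k : Fin 63, x (clsF (a63 i) k) * y (clsF k (a63 j)) = ∑ k : Fin 63, x (clsF i k) * y (clsF k j)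
    rw [← Equiv.sum_comp a63]
    refine Finset.sum_congr rfl fun k _ => ?_
    rw [cls_a, cls_a]
  · intro i j
    show ∑ k : Fin 63, x (clsF (b63 i) k) * y (clsF k (b63 j)) = ∑ k : Fin 63, x (clsF i k) * y (clsF k j)
    rw [← Equiv.sum_comp b63]
    refine Finset.sum_congr rfl fun k _ => ?_
    rw [cls_b, cls_b]

theorem cls_base : ∀ e : Fin 4, clsF 0 (base e) = e := by decide +kernel

theorem base_cls (i j : Fin 63) : clsF 0 (base (clsF i j)) = clsF i j := cls_base _

theorem hMF_of_base (φ θ : Fin 4 → ℤ)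
    (h0 : ∀ c e : Fin 4, ∑ k : Fin 63, (if clsF 0 k = c then φ (clsF k (base e)) else 0) = θ c * φ e) :
    ∀ c : Fin 4, ∀ i j : Fin 63,
      ∑ k : Fin 63, (if clsF i k = c then φ (clsF k j) else 0) = θ c * φ (clsF i j) := by
  intro c i j
  have h1 := prod_const (fun e => if e = c then 1 else 0) φ i j
  simp only [ite_mul, one_mul, zero_mul] at h1
  rw [h1, h0]

theorem hFF_of_base (φ : Fin 4 → ℤ) (κ : ℤ)
    (h0 : ∀ e : Fin 4, ∑ k : Fin 63, φ (clsF 0 k) * φ (clsF k (base e)) = κ * φ e) :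
    ∀ i j : Fin 63, ∑ k : Fin 63, φ (clsF i k) * φ (clsF k j) = κ * φ (clsF i j) := by
  intro i j
  rw [prod_const φ φ i j, h0]

/-! ### the two idempotents -/

def phi21 : Fin 4 → ℤ := ![-24, -12, 0, 3]
def theta21 : Fin 4 → ℤ := ![1, 3, 0, -4]
def phi14 : Fin 4 → ℤ := ![-24, 12, -6, 3]
def theta14 : Fin 4 → ℤ := ![1, -3, 6, -4]

theorem hMF21 : ∀ c e : Fin 4,
    ∑ k : Fin 63, (if clsF 0 k = c then phi21 (clsF k (base e)) else 0) = theta21 c * phi21 e := by
  decide +kernel

theorem hFF21 : ∀ e : Fin 4,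
    ∑ k : Fin 63, phi21 (clsF 0 k) * phi21 (clsF k (base e)) = (-72) * phi21 e := by
  decide +kernel

theorem hMF14 : ∀ c e : Fin 4,
    ∑ k : Fin 63, (if clsF 0 k = c then phi14 (clsF k (base e)) else 0) = theta14 c * phi14 e := by
  decide +kernel

theorem hFF14 : ∀ e : Fin 4,
    ∑ k : Fin 63, phi14 (clsF 0 k) * phi14 (clsF k (base e)) = (-108) * phi14 e := by
  decide +kernel

theorem irr21 (hB1 : B1Statement P) : ∃ χ : Cfsg.IrrCharacter P, Cfsg.charDegree (χ : P → ℂ) = 21 :=
  main_irr hB1 phi21 theta21 (-72) 21 (by norm_num) (by norm_num) (hMF_of_base _ _ hMF21)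
    (hFF_of_base _ _ hFF21) (by decide)

theorem irr14 (hB1 : B1Statement P) : ∃ χ : Cfsg.IrrCharacter P, Cfsg.charDegree (χ : P → ℂ) = 14 :=
  main_irr hB1 phi14 theta14 (-108) 14 (by norm_num) (by norm_num) (hMF_of_base _ _ hMF14)
    (hFF_of_base _ _ hFF14) (by decide)

end Cfsg.Agent.Lib.Helper12.U33Rank4
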