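import Cfsg.Agent.Lib.Helper12.SpecPerm
import Cfsg.Agent.Lib.Helper7.U34Defs
import Cfsg.Agent.Lib.Helper7.U34Levels
import Cfsg.Agent.Lib.Helper7.U34Cert

/-!
# S3663, piece PS (helper12): the spectrum of the permutation group `genGroup 832 10 gens ≅ U₃(4)` — certificates AUTO-GENERATED

Every element is conjugate under the stabiliser of the point `0` (the 75 elements of the second transversal) to
`u_r * s` with `r` one of 20 orbit representatives and `s` in the second transversal; for these 1500 products a power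
with exponent `4`, `10`, `13` or `15` fixes the two base points `0` and `5`, hence is the identity.
-/

set_option autoImplicit false
set_option maxRecDepth 1000000

namespace Cfsg.Agent.Lib.Helper12.U34PS

open Cfsg.Agent.Lib.Helper28.BSGS Cfsg.Agent.Lib.Helper7.U34 Cfsg.Agent.Lib.Helper12.SpecPerm

/-- representatives of the orbits of the stabiliser of `0` on the 832 points -/
def reps : List ℕ := [0, 1, 5, 10, 19, 41, 49, 53, 56, 63, 73, 88, 91, 107, 113, 338, 341, 348, 406, 467]

/-- the 75 elements of the stabiliser of the point `0` -/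
def ss : List (ℕ × ℕ) := level2.2.map fun e => (e.2.1, e.2.2)

/-- for the `i`-th point: (representative, index of a stabiliser element mapping it to the point) -/
def hints : List (ℕ × ℕ) := [(0,0),(1,0),(1,1),(1,2),(1,3),(5,0),(1,4),(1,5),(1,26),(1,6),(10,0),(1,7),(5,1),(5,2),(5,65),(1,9),(1,10),(5,53),(1,11),(19,0),(1,13),(10,1),(10,2),(10,69),(1,15),(5,3),(10,3),(5,4),(5,5),(5,50),(5,6),(5,73),(5,51),(5,48),(10,48),(1,20),(5,22),(5,49),(5,69),(19,1),(19,2),(41,0),(10,4),(10,5),(10,46),(10,6),(10,44),(10,54),(10,53),(49,0),(5,7),(10,7),(5,8),(53,0),(5,9),(5,10),(56,0),(5,11),(5,24),(5,12),(41,61),(5,13),(5,61),(63,0),(5,66),(5,26),(5,14),(5,67),(5,55),(10,67),(10,55),(10,65),(5,38),(73,0),(5,39),(5,42),(5,29),(5,68),(5,44),(5,54),(19,3),(49,39),(19,4),(19,5),(19,6),(41,1),(41,2),(10,8),(88,0),(10,9),(10,10),(91,0),(10,11),(10,59),(10,12),(49,44),(10,13),(10,62),(91,41),(10,63),(10,64),(10,26),(10,16),(10,22),(10,49),(49,1),(49,2),(107,0),(5,15),(10,14),(73,15),(10,15)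,(5,16),(113,0),(5,17),(53,1),(53,2),(5,18),(56,69),(5,19),(113,17),(5,20),(56,1),(56,2),(5,21),(63,69),(5,41),(10,34),(5,23),(73,58),(41,65),(41,58),(5,25),(41,62),(113,20),(5,58),(63,1),(63,2),(5,32),(10,40),(5,45),(5,27),(41,56),(5,28),(5,37),(53,25),(5,46),(5,71),(10,37),(88,69),(10,27),(10,19),(10,33),(10,71),(10,73),(10,51),(107,65),(73,1),(73,2),(10,52),(5,59),(5,30),(53,3),(5,60),(5,47),(5,63),(41,15),(5,72),(5,62),(56,48),(5,64),(5,33),(41,57),(19,7),(49,58),(49,59),(49,24),(19,9),(19,10),(49,74),(19,11),(19,26),(19,13),(41,3),(49,3),(41,4),(41,5),(107,63),(41,6),(63,44),(10,17),(88,1),(88,2),(10,18),(91,27),(63,5),(10,20),(91,1),(91,2),(10,21),(113,11),(88,65),(10,23),(107,36),(10,24),(49,62),(49,63),(10,25),(49,73),(56,36),(91,50),(91,10),(10,57),(113,7),(10,47),(107,12),(10,74),(10,45),(49,60),(10,31),(10,38),(107,64),(10,39),(10,42),(10,50),(10,68),(49,4),(49,5),(88,58),(49,6),(107,1),(107,2),(113,1),(49,27),(10,28),(73,24),(73,30),(10,29),(63,60),(10,30),(41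,8),(5,31),(113,2),(53,4),(53,5),(53,6),(88,37),(5,34),(56,44),(56,54),(5,35),(63,53),(5,36),(113,22),(113,32),(91,21),(56,3),(63,4),(56,4),(56,5),(56,6),(88,18),(63,54),(107,69),(10,43),(88,21),(5,40),(73,40),(73,5),(41,73),(41,51),(41,71),(41,18),(5,43),(53,42),(41,69),(41,23),(113,28),(113,37),(91,23),(63,3),(41,63),(56,46),(63,6),(88,23),(5,52),(10,35),(63,48),(56,53),(41,72),(41,20),(88,32),(5,57),(53,43),(41,10),(5,70),(88,44),(88,54),(91,7),(113,19),(10,36),(49,9),(10,70),(10,61),(10,66),(107,73),(107,51),(73,3),(63,50),(73,6),(91,31),(56,65),(73,42),(63,65),(41,29),(41,30),(5,74),(41,17),(91,24),(56,67),(56,55),(73,20),(41,68),(41,41),(41,40),(19,15),(49,71),(56,28),(49,18),(49,40),(49,36),(49,41),(49,42),(49,66),(41,52),(19,20),(49,56),(49,67),(338,0),(41,7),(49,7),(341,0),(41,9),(56,25),(41,11),(107,57),(107,47),(41,12),(348,0),(41,13),(63,62),(63,63),(56,47),(10,32),(88,3),(88,4),(88,5),(41,26),(88,6),(91,8),(63,10),(63,11),(56,22),(91,3),(91,4),(91,5),(88,46),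(91,6),(113,21),(88,73),(88,51),(53,38),(107,20),(10,41),(41,48),(49,69),(56,70),(49,23),(49,57),(49,47),(88,53),(49,61),(49,12),(56,20),(113,36),(88,33),(91,12),(113,14),(113,15),(107,22),(107,23),(107,24),(10,56),(113,38),(49,52),(49,11),(107,34),(107,74),(10,58),(88,48),(10,60),(10,72),(49,8),(49,64),(49,10),(88,71),(406,0),(49,13),(107,3),(107,4),(107,5),(49,26),(107,6),(113,3),(113,4),(49,45),(73,41),(73,37),(73,21),(63,52),(63,73),(56,12),(41,16),(113,5),(107,46),(53,8),(53,9),(53,10),(53,11),(53,12),(56,73),(53,13),(88,57),(49,48),(56,62),(341,34),(56,63),(56,64),(53,23),(56,16),(107,53),(5,56),(63,22),(63,49),(107,50),(113,27),(88,45),(56,7),(63,8),(63,9),(56,8),(41,44),(56,9),(56,10),(341,3),(56,11),(341,14),(56,13),(88,34),(63,64),(56,26),(63,16),(107,44),(107,54),(73,39),(88,31),(49,53),(467,0),(73,12),(73,10),(63,26),(73,11),(63,74),(41,66),(107,45),(41,14),(41,39),(348,30),(41,70),(41,33),(41,38),(41,34),(107,48),(53,22),(41,54),(41,43),(113,10),(113,30),(107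,29),(91,40),(63,7),(41,47),(56,59),(63,12),(63,13),(88,40),(49,65),(63,67),(63,55),(56,49),(41,74),(406,4),(41,28),(41,37),(88,52),(53,16),(88,62),(107,61),(88,63),(88,64),(41,50),(88,16),(91,14),(91,15),(49,19),(63,27),(41,53),(107,66),(49,46),(107,14),(467,7),(73,7),(63,24),(467,22),(73,13),(91,11),(56,51),(73,23),(63,51),(88,55),(41,49),(41,21),(41,32),(91,29),(56,37),(41,60),(56,27),(56,19),(53,24),(56,71),(73,22),(348,17),(41,46),(41,35),(406,45),(49,70),(49,33),(341,55),(49,34),(49,35),(49,20),(49,50),(467,14),(49,30),(49,22),(49,32),(49,25),(49,72),(63,14),(49,37),(49,14),(467,4),(49,15),(341,1),(341,2),(56,42),(41,19),(56,43),(63,66),(41,22),(107,68),(107,41),(107,15),(467,18),(41,24),(348,1),(348,2),(41,25),(406,13),(88,59),(63,23),(63,57),(63,47),(56,15),(56,66),(88,7),(88,8),(63,58),(88,9),(88,10),(88,11),(41,45),(88,12),(406,6),(88,13),(91,16),(88,26),(107,17),(63,20),(63,21),(56,38),(56,39),(113,8),(107,33),(88,61),(56,40),(88,66),(88,14),(107,28),(63,61),(1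07,37),(41,67),(41,55),(49,54),(56,60),(56,29),(341,4),(49,68),(88,22),(88,49),(107,38),(107,39),(63,32),(107,40),(107,42),(49,38),(49,21),(107,43),(107,56),(107,67),(88,67),(49,16),(49,17),(63,71),(88,39),(406,8),(88,70),(406,1),(406,2),(348,11),(107,7),(107,8),(107,70),(107,9),(107,10),(348,32),(107,11),(348,5),(107,13),(107,26),(113,9),(63,29),(73,57),(63,33),(63,70),(63,38),(56,23),(56,24),(41,31),(107,59),(53,18),(53,20),(53,21),(56,45),(341,19),(56,61),(341,13),(88,68),(88,41),(49,55),(341,15),(341,43),(56,57),(56,34),(56,74),(341,6),(56,31),(107,49),(467,45),(63,39),(63,42),(56,50),(63,68),(88,17),(56,14),(107,35),(107,62),(63,17),(63,18),(63,19),(88,36),(56,17),(56,18),(341,33),(88,47),(341,7),(56,21),(341,27),(341,18),(88,43),(63,34),(467,34),(63,31),(107,16),(88,38),(88,50),(49,49),(467,1),(467,2),(63,45),(467,12),(63,56),(41,27),(348,20),(41,59),(348,21),(406,17),(107,55),(341,23),(41,64),(63,15),(467,13),(467,3),(63,25),(467,24),(88,35),(49,51),(63,37),(56,33)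,(56,68),(406,9),(41,36),(406,25),(91,30),(53,31),(107,58),(88,74),(406,16),(107,32),(107,25),(107,27),(348,14),(63,41),(467,8),(88,29),(63,46),(88,19),(41,42),(341,29),(56,35),(341,9),(348,22),(406,38),(348,7),(49,29),(49,43),(467,6),(49,28),(56,72),(467,27),(341,25),(348,38),(63,28),(406,3),(467,9),(341,5),(56,30),(467,5),(348,27),(107,72),(107,30),(467,11),(348,3),(348,4),(406,26),(107,21),(63,40),(56,32),(88,72),(88,15),(406,22),(88,20),(56,56),(88,24),(88,25),(88,42),(107,18),(56,58),(63,59),(88,27),(406,14),(88,28),(107,19),(56,52),(341,12),(406,19),(107,31),(107,60),(467,17),(49,31),(56,41),(406,11),(88,60),(406,5),(348,37),(348,10),(467,41),(467,10),(406,31),(341,35),(63,30),(63,72),(63,35),(63,36),(63,43),(348,9),(88,30),(348,28),(348,19),(406,27),(107,71),(467,26),(467,16),(88,56),(348,8),(406,36),(406,21),(341,11),(107,52),(348,15),(406,7),(348,36)]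

/-- the exponents -/
def expos : List ℕ := [4, 10, 13, 15]

theorem ss_ok : ssOK 832 10 [(0, level1.2), (5, level2.2)] 0 ss = true := by decide +kernel

theorem hints_ok : hintsOK 832 10 reps ss level1.2 hints = true := by decide +kernel
theorem main_ok0 : mainOK 10 expos 0 5 [0, 1, 5, 10, 19] level1.2 level2.2 = true := by decide +kernel
theorem main_ok1 : mainOK 10 expos 0 5 [41, 49, 53, 56, 63] level1.2 level2.2 = true := by decide +kernel
theorem main_ok2 : mainOK 10 expos 0 5 [73, 88, 91, 107, 113] level1.2 level2.2 = true := by decide +kernel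
theorem main_ok3 : mainOK 10 expos 0 5 [338, 341, 348, 406, 467] level1.2 level2.2 = true := by decide +kernel

theorem main_ok : mainOK 10 expos 0 5 reps level1.2 level2.2 = true :=
  (mainOK_append (mainOK_append (mainOK_append main_ok0 main_ok1) main_ok2) main_ok3)

/-- piece PS of S3663 -/
theorem perm_spec (hc : checkChain 832 10 gens levels = true) (g : Equiv.Perm (Fin 832))
    (hg : g ∈ genGroup 832 10 gens) : g ^ 4 = 1 ∨ g ^ 10 = 1 ∨ g ^ 13 = 1 ∨ g ^ 15 = 1 := by
  have hc' : checkChain 832 10 gens [(0, level1.2), (5, level2.2)] = true := hc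
  obtain ⟨k, hk, hgk⟩ := pow_eq_one_of_certs 832 10 expos gens 0 level1.2 5 level2.2 gens_ok hc'
    reps ss hints ss_ok hints_ok main_ok g hg
  have hk' : k = 4 ∨ k = 10 ∨ k = 13 ∨ k = 15 := by
    simpa [expos] using hk
  rcases hk' with rfl | rfl | rfl | rfl
  · exact Or.inl hgk
  · exact Or.inr (Or.inl hgk)
  · exact Or.inr (Or.inr (Or.inl hgk))
  · exact Or.inr (Or.inr (Or.inr hgk))

end Cfsg.Agent.Lib.Helper12.U34PS
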