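import Mathlib
import Cfsg.Agent.Lib.Helper20.A10Core

/-!
# S3663, piece PY (helper12): the norm sum of an element of prime order `p` vanishes as soon as it does for ONE element of
order `p`, when `p ^ 2` does not divide the group order (Sylow conjugacy of the subgroups of order `p`).
-/

set_option autoImplicit false
set_option linter.style.haveILetI false

namespace Cfsg.Agent.Lib.Helper12.U34PY

open Cfsg.Agent.Lib.Helper20.A10Core

section
variable {H : Type*} [Group H] [Finite H] {V : Type*} [AddCommGroup V] [DistribMulAction H V]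

/-- the sum of `k • v` over a subgroup -/
noncomputable def subSum (K : Subgroup H) (v : V) : V :=
  letI : Fintype K := Fintype.ofFinite K
  ∑ k : K, (k : H) • v

theorem Sj_orderOf_eq_subSum (x : H) (v : V) :
    Sj x v (orderOf x) = subSum (Subgroup.zpowers x) v := by
  unfold Sj subSum
  rw [Finset.sum_range]
  letI : Fintype (Subgroup.zpowers x) := Fintype.ofFinite _
  refine Fintype.sum_equiv (finEquivZPowers (isOfFinOrder_of_finite x)) _ _ (fun i => ?_)
  rw [finEquivZPowers_apply]

theorem subSum_conj (K L : Subgroup H) (g : H)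
    (hKL : ∀ k : H, k ∈ L ↔ g⁻¹ * k * g ∈ K) (v : V) :
    subSum L v = g • subSum K (g⁻¹ • v) := by
  unfold subSum
  letI : Fintype K := Fintype.ofFinite _
  letI : Fintype L := Fintype.ofFinite _
  rw [Finset.smul_sum]
  let e : L ≃ K :=
    { toFun := fun k => ⟨g⁻¹ * k * g, (hKL k).mp k.2⟩
      invFun := fun k => ⟨g * k * g⁻¹, (hKL _).mpr (by
        have : g⁻¹ * (g * (k : H) * g⁻¹) * g = k := by group
        rw [this]; exact k.2)⟩
      left_inv := fun k => by
        apply Subtype.ext
        show g * (g⁻¹ * (k : H) * g) * g⁻¹ = k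
        group
      right_inv := fun k => by
        apply Subtype.ext
        show g⁻¹ * (g * (k : H) * g⁻¹) * g = k
        group }
  refine Fintype.sum_equiv e _ _ (fun k => ?_)
  show (k : H) • v = g • ((g⁻¹ * (k : H) * g) • (g⁻¹ • v))
  rw [smul_smul, smul_smul]
  congr 1
  group

theorem zpowers_eq_sylow (p : ℕ) [Fact p.Prime] (hcard : ¬ p ^ 2 ∣ Nat.card H)
    (y : H) (hy : orderOf y = p) (Q : Sylow p H) (hle : Subgroup.zpowers y ≤ Q) :
    Subgroup.zpowers y = Q := by
  have hp : p.Prime := Fact.out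
  have hQ : Nat.card Q = p ^ (Nat.card H).factorization p := Sylow.card_eq_multiplicity Q
  have hy' : Nat.card (Subgroup.zpowers y) = p := by rw [Nat.card_zpowers, hy]
  have hfac : (Nat.card H).factorization p ≤ 1 := by
    by_contra hc
    push Not at hc
    apply hcard
    exact (pow_dvd_pow p hc).trans (Nat.ordProj_dvd _ _)
  have hdvd : p ∣ Nat.card Q := by
    have h0 := Subgroup.card_dvd_of_le hle
    rwa [hy'] at h0
  have hQp : Nat.card Q = p := by
    rw [hQ] at hdvd ⊢
    interval_cases hk : (Nat.card H).factorization p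
    · rw [pow_zero] at hdvd
      exact absurd (Nat.le_of_dvd one_pos hdvd) (not_le.mpr hp.one_lt)
    · rw [pow_one]
  exact Subgroup.eq_of_le_of_card_ge hle (by rw [hQp, hy'])

/-- piece PY of S3663 -/
theorem Sj_eq_zero_of_sylow (p : ℕ) (hp : p.Prime) (hcard : ¬ p ^ 2 ∣ Nat.card H)
    (x : H) (hx : orderOf x = p) (hn : ∀ v : V, Sj x v p = 0)
    (h : H) (hh : orderOf h = p) (v : V) : Sj h v p = 0 := by
  haveI : Fact p.Prime := ⟨hp⟩
  obtain ⟨g, hg⟩ : ∃ g : H, ∀ k : H,
      k ∈ Subgroup.zpowers h ↔ g⁻¹ * k * g ∈ Subgroup.zpowers x := by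
    have hpx : IsPGroup p (Subgroup.zpowers x) :=
      IsPGroup.of_card (n := 1) (by rw [Nat.card_zpowers, hx, pow_one])
    have hph : IsPGroup p (Subgroup.zpowers h) :=
      IsPGroup.of_card (n := 1) (by rw [Nat.card_zpowers, hh, pow_one])
    obtain ⟨P, hP⟩ := hpx.exists_le_sylow
    obtain ⟨Q, hQ⟩ := hph.exists_le_sylow
    have eP := zpowers_eq_sylow p hcard x hx P hP
    have eQ := zpowers_eq_sylow p hcard h hh Q hQ
    obtain ⟨g, hg⟩ := MulAction.exists_smul_eq H P Q
    refine ⟨g, fun k => ?_⟩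
    rw [eP, eQ, ← hg, Sylow.coe_subgroup_smul, Subgroup.mem_pointwise_smul_iff_inv_smul_mem]
    rfl
  have h1 : Sj h v p = subSum (Subgroup.zpowers h) v := by
    rw [← hh]
    exact Sj_orderOf_eq_subSum h v
  rw [h1, subSum_conj _ _ g hg, ← Sj_orderOf_eq_subSum, hx, hn, smul_zero]

end

end Cfsg.Agent.Lib.Helper12.U34PY
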