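import Mathlib

/-!
# S2149, pieces [G1], [G3], [G4], [G5] (helper12): the small generic lemmas of the front "min index of PSU₃(5) is 50"
-/

set_option autoImplicit false
set_option linter.style.haveILetI false

namespace Cfsg.Agent.Lib.Helper9.U35Min

/-- G1: a transitive subgroup containing a non-trivial subgroup that is normal in a point stabiliser is everything -/
theorem eq_top_of_normal_le {G : Type*} [Group G] [IsSimpleGroup G] {Ω : Type*} [MulAction G Ω] (v : Ω)
    (H : Subgroup G) (htr : MulAction.IsPretransitive H Ω) (Z : Subgroup G)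
    (hZn : ∀ s ∈ MulAction.stabilizer G v, ∀ z ∈ Z, s * z * s⁻¹ ∈ Z) (hZ1 : Z ≠ ⊥) (hZH : Z ≤ H) :
    H = ⊤ := by
  have hle : Subgroup.normalClosure (Z : Set G) ≤ H := by
    unfold Subgroup.normalClosure
    rw [Subgroup.closure_le]
    intro a ha
    rw [Group.mem_conjugatesOfSet_iff] at ha
    obtain ⟨z, hz, hconj⟩ := ha
    rw [isConj_iff] at hconj
    obtain ⟨g, rfl⟩ := hconj
    obtain ⟨h, hh⟩ := MulAction.exists_smul_eq H v (g • v)
    have hs : (h : G)⁻¹ * g ∈ MulAction.stabilizer G v := by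
      rw [MulAction.mem_stabilizer_iff, mul_smul, inv_smul_eq_iff]
      exact hh.symm
    have h1 := hZn _ hs z hz
    have h2 : g * z * g⁻¹ = (h : G) * (((h : G)⁻¹ * g) * z * ((h : G)⁻¹ * g)⁻¹) * (h : G)⁻¹ := by group
    rw [SetLike.mem_coe, h2]
    exact H.mul_mem (H.mul_mem h.2 (hZH h1)) (H.inv_mem h.2)
  have hn : Subgroup.normalClosure (Z : Set G) = ⊤ := by
    rcases (Subgroup.normalClosure_normal (s := (Z : Set G))).eq_bot_or_eq_top with h | h
    · exfalso
      apply hZ1
      rw [eq_bot_iff, ← h]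
      exact Subgroup.le_normalClosure
    · exact h
  rw [hn] at hle
  exact top_le_iff.mp hle

/-- G3: existence from a transitive action on 50 points -/
theorem exists_index_fifty {G : Type*} [Group G] (σ : G →* Equiv.Perm (Fin 50))
    (htr : ∀ x : Fin 50, ∃ g : G, σ g 0 = x) : ∃ H : Subgroup G, H.index = 50 := by
  letI : MulAction G (Fin 50) := MulAction.compHom (Fin 50) σ
  have hsm : ∀ (g : G) (x : Fin 50), g • x = σ g x := fun _ _ => rfl
  haveI : MulAction.IsPretransitive G (Fin 50) := by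
    constructor
    intro x y
    obtain ⟨g1, h1⟩ := htr x
    obtain ⟨g2, h2⟩ := htr y
    refine ⟨g2 * g1⁻¹, ?_⟩
    rw [hsm, map_mul, map_inv, Equiv.Perm.mul_apply, ← h1]
    have h3 : (σ g1)⁻¹ ((σ g1) 0) = 0 := Equiv.symm_apply_apply (σ g1) 0
    rw [h3, h2]
  refine ⟨MulAction.stabilizer G (0 : Fin 50), ?_⟩
  rw [MulAction.index_stabilizer_of_transitive, Nat.card_eq_fintype_card, Fintype.card_fin]

/-- G4: transport of both halves along an isomorphism -/
theorem transport {G G' : Type*} [Group G] [Group G'] (e : G ≃* G')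
    (h1 : ∀ H : Subgroup G, H ≠ ⊤ → 50 ≤ H.index) (h2 : ∃ H : Subgroup G, H.index = 50) :
    (∀ H : Subgroup G', H ≠ ⊤ → 50 ≤ H.index) ∧ (∃ H : Subgroup G', H.index = 50) := by
  constructor
  · intro H' hH'
    have hidx : (H'.comap e.toMonoidHom).index = H'.index :=
      Subgroup.index_comap_of_surjective H' e.surjective
    rw [← hidx]
    apply h1
    intro htop
    apply hH'
    rw [eq_top_iff]
    intro x _
    obtain ⟨y, rfl⟩ := e.surjective x
    have : y ∈ H'.comap e.toMonoidHom := by rw [htop]; trivial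
    exact this
  · obtain ⟨H, hH⟩ := h2
    refine ⟨H.comap e.symm.toMonoidHom, ?_⟩
    rw [Subgroup.index_comap_of_surjective H e.symm.surjective, hH]

/-- G5: 2-transitivity from a transitive action whose point stabiliser is transitive on the other points -/
theorem two_pretransitive_of {G : Type*} [Group G] {Ω : Type*} [MulAction G Ω] (b : Ω)
    (htr : ∀ x : Ω, ∃ g : G, g • b = x)
    (hst : ∀ y y' : Ω, y ≠ b → y' ≠ b → ∃ g : G, g • b = b ∧ g • y = y') :
    MulAction.IsMultiplyPretransitive G Ω 2 := by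
  rw [MulAction.is_two_pretransitive_iff]
  intro a c a' c' hac hac'
  obtain ⟨g1, h1⟩ := htr a
  obtain ⟨g2, h2⟩ := htr a'
  have hy : g1⁻¹ • c ≠ b := by
    intro h
    apply hac
    rw [← h1, ← h, smul_inv_smul]
  have hy' : g2⁻¹ • c' ≠ b := by
    intro h
    apply hac'
    rw [← h2, ← h, smul_inv_smul]
  obtain ⟨k, hk1, hk2⟩ := hst _ _ hy hy'
  refine ⟨g2 * k * g1⁻¹, ?_, ?_⟩
  · rw [mul_smul, mul_smul, ← h1, inv_smul_smul, hk1, h2]
  · rw [mul_smul, mul_smul, hk2, smul_inv_smul]

end Cfsg.Agent.Lib.Helper9.U35Min
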