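import Mathlib
import Cfsg.Agent.Lib.Helper9.MinDegFisher
import Cfsg.Agent.Lib.Helper9.U35MinDefs
import Cfsg.Agent.Lib.Helper18.U35MinZ
import Cfsg.Agent.Lib.Helper20.U35MinSylow
import Cfsg.Agent.Lib.Helper18.U35MinB2
import Cfsg.Agent.Lib.Helper12.U35MinG

/-!
# S2149, piece G2 (helper12 for architect helper9): the abstract lower bound `min_index`

A simple group `G` of order 126000 acting 2-transitively on 126 points whose point stabiliser carries
`Borel` data has no proper subgroup of index `< 50`.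
-/

set_option autoImplicit false

namespace Cfsg.Agent.Lib.Helper9.U35Min

open scoped commutatorElement

namespace H12

/-- orbit-stabiliser for a transitive action of a finite group, in `Nat.card` form -/
theorem card_stab_mul {G : Type*} [Group G] {Ω : Type*} [MulAction G Ω]
    [MulAction.IsPretransitive G Ω] (v : Ω) :
    Nat.card Ω * Nat.card (MulAction.stabilizer G v) = Nat.card G := by
  rw [← MulAction.index_stabilizer_of_transitive G v, mul_comm]
  exact (MulAction.stabilizer G v).card_mul_index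

end H12

/-- G2: the abstract lower bound -/
theorem min_index {G : Type*} [Group G] [Finite G] [IsSimpleGroup G] (hcard : Nat.card G = 126000)
    {Ω : Type*} [Finite Ω] [MulAction G Ω] [MulAction.IsMultiplyPretransitive G Ω 2]
    (hΩ : Nat.card Ω = 126) (v : Ω) (u1 u2 t : G)
    (hu1 : u1 • v = v) (hu2 : u2 • v = v) (ht : t • v = v)
    (h1 : u1 ^ 5 = 1) (h2 : u2 ^ 5 = 1) (hnc : u1 * u2 ≠ u2 * u1)
    (ht1 : ∃ k : ℕ, t ^ 2 * u1 * (t ^ 2)⁻¹ = ⁅u1, u2⁆ ^ k * u1 ^ 2)
    (ht2 : ∃ k : ℕ, t ^ 2 * u2 * (t ^ 2)⁻¹ = ⁅u1, u2⁆ ^ k * u2 ^ 2)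
    (H : Subgroup G) (hH : H ≠ ⊤) : 50 ≤ H.index := by
  by_contra hlt
  push Not at hlt
  -- `H` is transitive on `Ω`
  have htr : MulAction.IsPretransitive H Ω := by
    by_contra hntr
    have := Cfsg.Agent.Lib.Helper11.MinDeg.fisher (G := G) (X := Ω) H hntr
    omega
  have hGtr : MulAction.IsPretransitive G Ω := MulAction.isPretransitive_of_is_two_pretransitive
  -- orders
  have hS : Nat.card (MulAction.stabilizer G v) = 1000 := by
    have h := H12.card_stab_mul (G := G) v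
    rw [hΩ, hcard] at h
    omega
  have hHv : 126 * Nat.card (MulAction.stabilizer H v) = Nat.card H := by
    have h := H12.card_stab_mul (G := H) v
    rw [hΩ] at h
    exact h
  have hHidx : Nat.card H * H.index = 126000 := by
    rw [← hcard]
    exact H.card_mul_index
  -- the subgroup `K` of the stabiliser
  let S := MulAction.stabilizer G v
  let K : Subgroup S := H.subgroupOf S
  have hKcard : Nat.card K = Nat.card (MulAction.stabilizer H v) := by
    apply Nat.card_congr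
    refine ⟨fun x => ⟨⟨x.1.1, x.2⟩, ?_⟩, fun y => ⟨⟨y.1.1, ?_⟩, ?_⟩, ?_, ?_⟩
    · have := x.1.2
      rw [MulAction.mem_stabilizer_iff] at this ⊢
      exact this
    · have := y.2
      rw [MulAction.mem_stabilizer_iff] at this ⊢
      exact this
    · exact Subgroup.mem_subgroupOf.2 y.1.2
    · intro x
      rfl
    · intro y
      rfl
  have hK20 : 20 < Nat.card K := by
    rw [hKcard]
    have hpos : 0 < H.index := Nat.pos_of_ne_zero H.index_ne_zero_of_finite
    by_contra hle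
    push Not at hle
    have h3 : Nat.card H * H.index ≤ (126 * 20) * 49 := by
      rw [← hHv]
      apply Nat.mul_le_mul
      · exact Nat.mul_le_mul_left _ hle
      · omega
    omega
  -- the Borel data
  let u1' : S := ⟨u1, hu1⟩
  let u2' : S := ⟨u2, hu2⟩
  let t' : S := ⟨t, ht⟩
  have hcomm : ((⁅u1', u2'⁆ : S) : G) = ⁅u1, u2⁆ := rfl
  have hB : Borel S u1' u2' t' := by
    refine ⟨hS, ?_, ?_, ?_, ?_, ?_⟩
    · apply Subtype.ext
      simpa using h1
    · apply Subtype.ext
      simpa using h2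
    · intro h
      apply hnc
      have := congrArg Subtype.val h
      simpa using this
    · obtain ⟨k, hk⟩ := ht1
      refine ⟨k, ?_⟩
      apply Subtype.ext
      show t ^ 2 * u1 * (t ^ 2)⁻¹ = ⁅u1, u2⁆ ^ k * u1 ^ 2
      exact hk
    · obtain ⟨k, hk⟩ := ht2
      refine ⟨k, ?_⟩
      apply Subtype.ext
      show t ^ 2 * u2 * (t ^ 2)⁻¹ = ⁅u1, u2⁆ ^ k * u2 ^ 2
      exact hk
  have hz : ⁅u1', u2'⁆ ∈ K := hB.z_mem K hK20
  have hzH : ⁅u1, u2⁆ ∈ H := by
    have := Subgroup.mem_subgroupOf.1 hz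
    rwa [hcomm] at this
  -- normality of `⟨z⟩` in the stabiliser
  obtain ⟨U, hUn, hUc, _, hU1, hU2⟩ := hB.exists_U
  obtain ⟨_, _, _, _, _, hzn, _, _⟩ := hB.U_struct U hUn hUc hU1 hU2
  have hZn : ∀ s ∈ MulAction.stabilizer G v, ∀ z ∈ Subgroup.zpowers ⁅u1, u2⁆,
      s * z * s⁻¹ ∈ Subgroup.zpowers ⁅u1, u2⁆ := by
    intro s hs z hzz
    obtain ⟨k, rfl⟩ := Subgroup.mem_zpowers_iff.1 hzz
    have h := hzn ⟨s, hs⟩
    obtain ⟨j, hj⟩ := Subgroup.mem_zpowers_iff.1 h
    have hj' : ⁅u1, u2⁆ ^ j = s * ⁅u1, u2⁆ * s⁻¹ := by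
      have := congrArg Subtype.val hj
      rw [Subgroup.coe_zpow] at this
      exact this
    have : s * ⁅u1, u2⁆ ^ k * s⁻¹ = (s * ⁅u1, u2⁆ * s⁻¹) ^ k := by
      rw [conj_zpow]
    rw [this, ← hj']
    exact Subgroup.zpow_mem _ (Subgroup.zpow_mem _ (Subgroup.mem_zpowers _) _) _
  have hZ1 : Subgroup.zpowers ⁅u1, u2⁆ ≠ ⊥ := by
    intro h
    rw [Subgroup.zpowers_eq_bot] at h
    apply hnc
    rw [commutatorElement_eq_one_iff_mul_comm] at h
    exact h
  have hZH : Subgroup.zpowers ⁅u1, u2⁆ ≤ H := by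
    rw [Subgroup.zpowers_le]
    exact hzH
  exact hH (eq_top_of_normal_le v H htr _ hZn hZ1 hZH)

end Cfsg.Agent.Lib.Helper9.U35Min
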